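import Mathlib

/-!
Joint eigenvectors for a finite abelian group acting on a complex vector space.
-/

set_option autoImplicit false

open Module

namespace Cfsg.Agent.MinDegree

variable {A : Type*} [AddCommGroup A] [Fintype A] {W : Type*} [AddCommGroup W] [Module ℂ W]

/-- An additive family of operators. -/
structure IsOp (op : A → W →ₗ[ℂ] W) : Prop where
  zero : op 0 = 1
  add : ∀ a b, op (a + b) = op a * op b

/-- The vectors on which `op` acts by `χ`. -/
def eigen (op : A → W →ₗ[ℂ] W) (χ : AddChar A ℂ) : Submodule ℂ W :=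
  ⨅ a, LinearMap.ker (op a - χ a • LinearMap.id)

omit [Fintype A] in
theorem mem_eigen {op : A → W →ₗ[ℂ] W} {χ : AddChar A ℂ} {x : W} :
    x ∈ eigen op χ ↔ ∀ a, op a x = χ a • x := by
  simp [eigen, sub_eq_zero]

/-- The unnormalised projection to the `χ`-eigenspace. -/
def proj (op : A → W →ₗ[ℂ] W) (χ : AddChar A ℂ) : W →ₗ[ℂ] W := ∑ a, χ (-a) • op a

theorem proj_apply (op : A → W →ₗ[ℂ] W) (χ : AddChar A ℂ) (x : W) :
    proj op χ x = ∑ a, χ (-a) • op a x := by
  simp [proj, LinearMap.sum_apply]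

theorem proj_mem_eigen {op : A → W →ₗ[ℂ] W} (h : IsOp op) (χ : AddChar A ℂ) (x : W) :
    proj op χ x ∈ eigen op χ := by
  rw [mem_eigen]
  intro b
  rw [proj_apply, map_sum, Finset.smul_sum]
  refine Fintype.sum_equiv (Equiv.addLeft b) _ _ fun a => ?_
  rw [Equiv.coe_addLeft, map_smul, smul_smul, ← AddChar.map_add_eq_mul, neg_add, add_neg_cancel_left,
    h.add, Module.End.mul_apply]

theorem proj_mem {op : A → W →ₗ[ℂ] W} {M : Submodule ℂ W} (hM : ∀ a, ∀ x ∈ M, op a x ∈ M)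
    (χ : AddChar A ℂ) {x : W} (hx : x ∈ M) : proj op χ x ∈ M := by
  rw [proj_apply]
  exact Submodule.sum_mem _ fun a _ => Submodule.smul_mem _ _ (hM a x hx)

theorem sum_proj {op : A → W →ₗ[ℂ] W} (h : IsOp op) (x : W) :
    ∑ χ : AddChar A ℂ, proj op χ x = (Fintype.card A : ℂ) • x := by
  classical
  simp only [proj_apply]
  rw [Finset.sum_comm]
  simp only [← Finset.sum_smul, AddChar.sum_apply_eq_ite, neg_eq_zero, ite_smul, zero_smul,
    Finset.sum_ite_eq', Finset.mem_univ, if_true, h.zero, Module.End.one_apply]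

theorem exists_eigen {op : A → W →ₗ[ℂ] W} (h : IsOp op) {M : Submodule ℂ W}
    (hM : ∀ a, ∀ x ∈ M, op a x ∈ M) {x : W} (hx : x ∈ M) (hx0 : x ≠ 0) :
    ∃ χ, ∃ y ∈ M, y ≠ 0 ∧ y ∈ eigen op χ := by
  by_contra hc
  push Not at hc
  have hz : ∀ χ, proj op χ x = 0 := fun χ => by
    by_contra hne
    exact hc χ _ (proj_mem hM χ hx) hne (proj_mem_eigen h χ x)
  have := sum_proj h x
  simp only [hz, Finset.sum_const_zero] at this
  exact hx0 ((smul_eq_zero.1 this.symm).resolve_left (Nat.cast_ne_zero.2 Fintype.card_ne_zero))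

theorem exists_eigen_ne_one {op : A → W →ₗ[ℂ] W} (h : IsOp op) {M : Submodule ℂ W}
    (hM : ∀ a, ∀ x ∈ M, op a x ∈ M) {x : W} (hx : x ∈ M) {a : A} (ha : op a x ≠ x) :
    ∃ χ, χ ≠ 1 ∧ ∃ y ∈ M, y ≠ 0 ∧ y ∈ eigen op χ := by
  by_contra hc
  push Not at hc
  have hz : ∀ χ, χ ≠ 1 → proj op χ x = 0 := fun χ hne => by
    by_contra h0
    exact hc χ hne _ (proj_mem hM χ hx) h0 (proj_mem_eigen h χ x)
  have hs := sum_proj h x
  rw [Finset.sum_eq_single 1 (fun χ _ hne => hz χ hne) (by simp)] at hs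
  have h1 := mem_eigen.1 (proj_mem_eigen h 1 x) a
  rw [AddChar.one_apply, one_smul, hs, map_smul] at h1
  exact ha (smul_right_injective _ (Nat.cast_ne_zero.2 Fintype.card_ne_zero) h1)

/-- The eigenspaces inside an invariant subspace are independent. -/
theorem sum_finrank_le [FiniteDimensional ℂ W] {op : A → W →ₗ[ℂ] W} (M : Submodule ℂ W) :
    ∑ χ : AddChar A ℂ, finrank ℂ (M ⊓ eigen op χ : Submodule ℂ W) ≤ finrank ℂ M := by
  classical
  let Φ : ((χ : AddChar A ℂ) → (M ⊓ eigen op χ : Submodule ℂ W)) →ₗ[ℂ] M :=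
    ∑ χ, (Submodule.inclusion inf_le_left).comp (LinearMap.proj χ)
  have hΦ : ∀ f, (Φ f : W) = ∑ χ, (f χ : W) := fun f => by
    simp [Φ, LinearMap.sum_apply]
  rw [← Module.finrank_pi_fintype]
  refine LinearMap.finrank_le_finrank_of_injective (f := Φ) ?_
  rw [injective_iff_map_eq_zero]
  intro f hf
  funext ψ
  have h0 : ∑ χ, (f χ : W) = 0 := by rw [← hΦ, hf, ZeroMemClass.coe_zero]
  have h1 := congrArg (proj op ψ) h0
  rw [map_zero, map_sum, Finset.sum_eq_single ψ (fun χ _ hne => ?_) (by simp)] at h1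
  · rw [proj_apply] at h1
    simp only [mem_eigen.1 (f ψ).2.2, smul_smul, ← AddChar.map_add_eq_mul, neg_add_cancel,
      AddChar.map_zero_eq_one, one_smul, Finset.sum_const, Finset.card_univ] at h1
    rw [← Nat.cast_smul_eq_nsmul ℂ] at h1
    exact Subtype.ext ((smul_eq_zero.1 h1).resolve_left (Nat.cast_ne_zero.2 Fintype.card_ne_zero))
  · rw [proj_apply]
    simp only [mem_eigen.1 (f χ).2.2, smul_smul, ← Finset.sum_smul]
    have hd : χ * ψ⁻¹ ≠ 1 := fun e => hne (mul_inv_eq_one.1 e)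
    rw [Finset.sum_congr rfl fun a _ => show ψ (-a) * χ a = (χ * ψ⁻¹) a by
      rw [AddChar.mul_apply, AddChar.inv_apply]; ring, AddChar.sum_eq_zero_of_ne_one hd, zero_smul]

end Cfsg.Agent.MinDegree
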