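import Cfsg.Agent.Lib.MinDegree.PolyCert

/-!
Certificates that the value of a polynomial does not divide the order formula of a group of Lie type.
-/

set_option autoImplicit false

namespace Cfsg.Agent.MinDegree.PolyCert

open Cfsg.Agent.Chev

/-- The order formula. -/
def ordN (degs : List ℕ) (N q : ℕ) : ℕ := q ^ N * (degs.map fun d => q ^ d - 1).prod

/-- The polynomial of the product of the `q ^ d - 1`. -/
def ordPoly (degs : List ℕ) : List ℤ := degs.foldr (fun d acc => pmul (padd (pX d) [-1]) acc) [1]

theorem ordN_cast (degs : List ℕ) (N q : ℕ) (hq : 1 ≤ q) :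
    (ordN degs N q : ℤ) = (q : ℤ) ^ N * pev (ordPoly degs) q := by
  rw [ordN, Nat.cast_mul, Nat.cast_pow]
  congr 1
  induction degs with
  | nil => simp [ordPoly, pev]
  | cons d l ih =>
    rw [List.map_cons, List.prod_cons, Nat.cast_mul, ih,
      show ordPoly (d :: l) = pmul (padd (pX d) [-1]) (ordPoly l) from rfl, pev_pmul, pev_padd, pev_pX,
      Nat.cast_sub (Nat.one_le_pow _ _ hq)]
    simp [pev, sub_eq_add_neg]

/-- The value of a polynomial with natural coefficients (by the recursor, which the kernel evaluates fast). -/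
noncomputable def evalN (l : List ℕ) (q : ℕ) : ℕ := List.rec 0 (fun a _ ih => a + q * ih) l

theorem evalN_cons (a : ℕ) (l : List ℕ) (q : ℕ) : evalN (a :: l) q = a + q * evalN l q := rfl

/-- The positive parts of the coefficients. -/
def posPart' (c : List ℤ) : List ℕ := c.map Int.toNat

/-- The negative parts of the coefficients. -/
def negPart' (c : List ℤ) : List ℕ := c.map fun a => (-a).toNat

theorem pev_eq_evalN (c : List ℤ) (q : ℕ) :
    pev c q = (evalN (posPart' c) q : ℤ) - (evalN (negPart' c) q : ℤ) := by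
  induction c with
  | nil => simp [pev, posPart', negPart', evalN]
  | cons a l ih =>
    simp only [posPart', negPart', List.map_cons, evalN_cons] at ih ⊢
    rw [pev, ih]
    push_cast
    linear_combination (a.toNat_sub_toNat_neg).symm

/-- The non-divisibility is checked below `Q` outside the list `ex`; `P` and `M` are the positive and
negative parts of the coefficients of the divisor. -/
noncomputable def smallOK (degs : List ℕ) (N : ℕ) (P M : List ℕ) (Q : ℕ) (ex : List ℕ) : Bool :=
  allLt (Q / 128 + 1) fun a => allLt 128 fun b =>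
    Nat.blt (a * 128 + b) 2 || Nat.ble Q (a * 128 + b) || ex.contains (a * 128 + b) ||
      !(Nat.beq (ordN degs N (a * 128 + b) % (evalN P (a * 128 + b) - evalN M (a * 128 + b))) 0)

/-- The certificate that the value of `c` does not divide the order formula. -/
noncomputable def candOK (degs : List ℕ) (N : ℕ) (c : List ℤ) (P M : List ℕ) (k Q : ℕ) (ex : List ℕ)
    (u r : List ℤ) : Bool :=
  Nat.blt 0 k && Nat.blt k Q && decide (c.headD 0 = -(k : ℤ)) &&
    (P == posPart' c) && (M == negPart' c) &&
    ndvdFrom (Q : ℤ) k c (ordPoly degs) u r && smallOK degs N P M Q ex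

theorem not_dvd_of_candOK {degs : List ℕ} {N : ℕ} {c : List ℤ} {P M : List ℕ} {k Q : ℕ} {ex : List ℕ}
    {u r : List ℤ} (h : candOK degs N c P M k Q ex u r = true) {q : ℕ} (hq : IsPrimePow q) (hex : q ∉ ex) {D : ℕ}
    (hD : (D : ℤ) = pev c q) : ¬ D ∣ ordN degs N q := by
  simp only [candOK, smallOK, Bool.and_eq_true, Nat.blt_eq, decide_eq_true_eq, allLt_iff, Bool.or_eq_true,
    Nat.ble_eq, Bool.not_eq_true', List.contains_iff_mem, beq_iff_eq] at h
  obtain ⟨⟨⟨⟨⟨⟨hk, hkQ⟩, hhead⟩, hP⟩, hM⟩, hbig⟩, hsmall⟩ := h
  intro hdvd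
  by_cases hqQ : q < Q
  · have h' := hsmall (q / 128) (by have := Nat.div_le_div_right (c := 128) hqQ.le; omega) (q % 128) (Nat.mod_lt _ (by omega))
    rw [show q / 128 * 128 + q % 128 = q by rw [mul_comm]; exact Nat.div_add_mod q 128] at h'
    have := hq.two_le
    rcases h' with ((h' | h') | h') | h'
    · omega
    · omega
    · exact hex h'
    · rw [pev_eq_evalN, ← hP, ← hM] at hD
      rw [show evalN P q - evalN M q = D by omega, ← Bool.not_eq_true, Nat.beq_eq] at h'
      exact h' (Nat.mod_eq_zero_of_dvd hdvd)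
  · have hd : (D : ℤ) ∣ (k : ℤ) * pev (ordPoly degs) q := by
      refine dvd_const_mul (c := pev c.tail q) hq hk (hkQ.trans_le (not_lt.1 hqQ)) ?_ (N := N) ?_
      · rw [hD]
        rcases c with _ | ⟨a, l⟩
        · simp only [List.headD_nil] at hhead
          omega
        · simp only [List.headD_cons] at hhead
          simp [pev, hhead]
      · rw [← ordN_cast degs N q hq.one_lt.le]
        exact Int.natCast_dvd_natCast.2 hdvd
    rw [hD] at hd
    exact not_dvd_of_ndvdFrom hbig hk (by exact_mod_cast not_lt.1 hqQ) hd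

end Cfsg.Agent.MinDegree.PolyCert
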