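import Cfsg.Agent.Lib.MinDegree.ExcModule

/-!
A vector fixed by the root subgroups of a maximal parabolic subgroup and no vector fixed by the whole
Levi component force a further fixed vector in the nontrivial part of the fixed space of the radical.
-/

set_option autoImplicit false
set_option linter.unusedSectionVars false

open Module

namespace Cfsg.Agent.MinDegree.Exc

open Cfsg.Lie Cfsg.Agent.Chev

variable {F : Type*} [Field F] [Fintype F] {D : ChevalleyDatum} (hG : Good D)
variable {W : Type*} [AddCommGroup W] [Module ℂ W] [FiniteDimensional ℂ W]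
variable (ρ : Representation ℂ ↥(D.group F) W)

/-- The fundamental roots of a set of nodes and their negatives. -/
def gensOf (D : ChevalleyDatum) (J : List ℕ) : List ℕ :=
  J.map D.simple ++ J.map fun i => D.neg (D.simple i)

/-- The roots fixing the vectors met in the induction: the positive ones and all negative fundamental
ones but one. -/
def parGens (D : ChevalleyDatum) (pos J : List ℕ) (i : ℕ) : List ℕ :=
  pos ++ (J.filter fun l => decide (l ≠ i)).map fun l => D.neg (D.simple l)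

/-- The group generated by the root subgroups of a list. -/
noncomputable def genBy (U : List ℕ) : Subgroup ↥(D.group F) :=
  Subgroup.closure {g | ∃ r ∈ U, ∃ t : F, g = xG hG r t}

theorem xG_mem_genBy {U : List ℕ} {r : ℕ} (hr : r ∈ U) (t : F) : xG hG r t ∈ genBy hG U :=
  Subgroup.subset_closure ⟨r, hr, t, rfl⟩

theorem genBy_gensOf_le (J : List ℕ) : genBy hG (F := F) (gensOf D J) ≤ lv hG J := by
  rw [genBy, Subgroup.closure_le]
  rintro _ ⟨r, hr, t, rfl⟩
  rcases List.mem_append.1 hr with h | h <;> obtain ⟨i, hi, rfl⟩ := List.mem_map.1 h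
  exacts [(xG_simple_mem_lv hG hi t).1, (xG_simple_mem_lv hG hi t).2]

theorem lv_le_genBy (J : List ℕ) : lv hG (F := F) J ≤ genBy hG (gensOf D J) := by
  rw [lv, Subgroup.closure_le]
  rintro _ ⟨i, hi, t, rfl | rfl⟩
  · exact xG_mem_genBy hG (List.mem_append_left _ (List.mem_map.2 ⟨i, hi, rfl⟩)) t
  · exact xG_mem_genBy hG (List.mem_append_right _ (List.mem_map.2 ⟨i, hi, rfl⟩)) t

theorem fixed_of_genBy {U : List ℕ} {v : W} (hv : v ∈ fixedBy hG ρ U) {g : ↥(D.group F)}
    (hg : g ∈ genBy hG U) : ρ g v = v := by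
  induction hg using Subgroup.closure_induction with
  | mem x hx =>
    obtain ⟨r, hr, t, rfl⟩ := hx
    exact (mem_fixedBy hG ρ).1 hv r hr t
  | one => simp
  | mul a b _ _ ha hb => rw [rho_mul_apply, hb, ha]
  | inv a _ ha => conv_lhs => rw [← ha, rho_inv_apply]

theorem fixed_of_lv {J : List ℕ} {v : W} (hv : v ∈ fixedBy hG ρ (gensOf D J)) {g : ↥(D.group F)}
    (hg : g ∈ lv hG J) : ρ g v = v :=
  fixed_of_genBy hG ρ hv (lv_le_genBy hG J hg)

theorem hR_fixed {U : List ℕ} (hU : ∀ r ∈ U, r < D.nroots) {k : ℕ} (hk : k < D.rank) {c : F} (hc : c ≠ 0)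
    {v : W} (hv : v ∈ fixedBy hG ρ U) : ρ (hR hG (D.simple k) c) v ∈ fixedBy hG ρ U := by
  rw [mem_fixedBy]
  intro r hr u
  have e1 := hR_conj hG hk (hU r hr) hc ((c ^ D.cartan k r)⁻¹ * u)
  rw [mul_inv_cancel_left₀ (zpow_ne_zero _ hc)] at e1
  rw [← rho_mul_apply, ← e1, rho_mul_apply, (mem_fixedBy hG ρ).1 hv r hr]

theorem fixed_mem_of_conj {U : List ℕ} {g : ↥(D.group F)}
    (h : ∀ r ∈ U, ∀ t : F, g⁻¹ * xG hG r t * g ∈ genBy hG U) {v : W} (hv : v ∈ fixedBy hG ρ U) :
    ρ g v ∈ fixedBy hG ρ U := by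
  rw [mem_fixedBy]
  intro r hr t
  rw [← rho_mul_apply, show xG hG r t * g = g * (g⁻¹ * xG hG r t * g) by group, rho_mul_apply,
    fixed_of_genBy hG ρ hv (h r hr t)]

/-- The average over a subgroup. -/
noncomputable def avg (K : Subgroup ↥(D.group F)) : W →ₗ[ℂ] W :=
  letI := Fintype.ofFinite K
  (Fintype.card K : ℂ)⁻¹ • ∑ g : K, (ρ (g : ↥(D.group F)) : W →ₗ[ℂ] W)

theorem avg_apply (K : Subgroup ↥(D.group F)) [Fintype K] (v : W) :
    avg ρ K v = (Fintype.card K : ℂ)⁻¹ • ∑ g : K, ρ (g : ↥(D.group F)) v := by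
  simp only [avg, LinearMap.smul_apply, LinearMap.sum_apply]
  congr!

theorem avg_mul (K : Subgroup ↥(D.group F)) {h : ↥(D.group F)} (hh : h ∈ K) (v : W) :
    avg ρ K (ρ h v) = avg ρ K v := by
  let _ := Fintype.ofFinite K
  rw [avg_apply, avg_apply]
  congr 1
  refine Fintype.sum_equiv (Equiv.mulRight (⟨h, hh⟩ : K)) _ _ fun g => ?_
  rw [Equiv.coe_mulRight, Subgroup.coe_mul, rho_mul_apply]

theorem avg_fixed (K : Subgroup ↥(D.group F)) {h : ↥(D.group F)} (hh : h ∈ K) (v : W) :
    ρ h (avg ρ K v) = avg ρ K v := by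
  let _ := Fintype.ofFinite K
  rw [avg_apply, map_smul, map_sum]
  congr 1
  refine Fintype.sum_equiv (Equiv.mulLeft (⟨h, hh⟩ : K)) _ _ fun g => ?_
  rw [Equiv.coe_mulLeft, Subgroup.coe_mul, rho_mul_apply]

theorem avg_of_fixed (K : Subgroup ↥(D.group F)) {v : W} (hv : ∀ g ∈ K, ρ g v = v) : avg ρ K v = v := by
  let _ := Fintype.ofFinite K
  rw [avg_apply, Finset.sum_congr rfl fun (g : K) _ => hv g.1 g.2, Finset.sum_const, Finset.card_univ,
    ← Nat.cast_smul_eq_nsmul ℂ, smul_smul, inv_mul_cancel₀ (Nat.cast_ne_zero.2 Fintype.card_ne_zero), one_smul]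

theorem avg_mem {K : Subgroup ↥(D.group F)} {M : Submodule ℂ W} (hK : K ≤ Stab ρ M) {v : W} (hv : v ∈ M) :
    avg ρ K v ∈ M := by
  let _ := Fintype.ofFinite K
  rw [avg_apply]
  exact Submodule.smul_mem _ _ (Submodule.sum_mem _ fun g _ => hK g.2 v hv)

/-- An average of translates of a vector equal to it makes all the translates equal to it. -/
theorem eq_of_mean_eq {ι : Type*} [Fintype ι] (g : ι → ↥(D.group F)) {a : W}
    (h : ∑ c, ρ (g c) a = (Fintype.card ι : ℂ) • a) (c : ι) : ρ (g c) a = a := by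
  classical
  let _ := Fintype.ofFinite ↥(D.group F)
  let e := (Module.finBasis ℂ W).equivFun
  let N : W → ℝ := fun x => ∑ x' : ↥(D.group F), ∑ k, Complex.normSq (e (ρ x' x) k)
  have hN : ∀ h' x, N (ρ h' x) = N x := fun h' x =>
    Fintype.sum_equiv (Equiv.mulRight h') _ _ fun x' => by rw [Equiv.coe_mulRight, rho_mul_apply]
  have key : ∀ z : ι → ℂ, ∀ b : ℂ, ∑ c, z c = (Fintype.card ι : ℂ) * b →
      ∑ c, Complex.normSq (z c - b) = ∑ c, Complex.normSq (z c) - Fintype.card ι * Complex.normSq b := by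
    intro z b hz
    simp only [Complex.normSq_sub, Finset.sum_sub_distrib, Finset.sum_add_distrib, Finset.sum_const,
      Finset.card_univ, nsmul_eq_mul, ← Finset.mul_sum, ← Complex.re_sum, ← Finset.sum_mul, hz]
    rw [mul_assoc, Complex.mul_conj]
    simp only [Complex.mul_re, Complex.natCast_re, Complex.natCast_im, Complex.ofReal_re, Complex.ofReal_im]
    ring
  have h0 : ∑ c, N (ρ (g c) a - a) = 0 := by
    have e1 : ∀ x' k, ∑ c, Complex.normSq (e (ρ x' (ρ (g c) a - a)) k) =
        ∑ c, Complex.normSq (e (ρ x' (ρ (g c) a)) k) - Fintype.card ι * Complex.normSq (e (ρ x' a) k) := by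
      intro x' k
      simp only [map_sub, Pi.sub_apply]
      refine key _ _ ?_
      have h' := congrArg (fun w => e (ρ x' w) k) h
      simpa [map_sum, map_smul, Finset.sum_apply] using h'
    simp only [N]
    rw [Finset.sum_comm, Finset.sum_congr rfl fun x' _ => Finset.sum_comm]
    simp only [e1, Finset.sum_sub_distrib]
    rw [Finset.sum_congr rfl fun x' _ => Finset.sum_comm, Finset.sum_comm, sub_eq_zero]
    simp only [← Finset.mul_sum]
    rw [Finset.sum_congr rfl fun c _ => hN (g c) a]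
    simp [N]
  have hnn : ∀ x, 0 ≤ N x := fun x =>
    Finset.sum_nonneg fun _ _ => Finset.sum_nonneg fun _ _ => Complex.normSq_nonneg _
  have h1 := (Finset.sum_eq_zero_iff_of_nonneg fun c _ => hnn _).1 h0 c (Finset.mem_univ c)
  have h2 := (Finset.sum_eq_zero_iff_of_nonneg fun _ _ =>
    Finset.sum_nonneg fun _ _ => Complex.normSq_nonneg _).1 h1 1 (Finset.mem_univ _)
  refine sub_eq_zero.1 (e.injective (funext fun k => ?_))
  have h3 := (Finset.sum_eq_zero_iff_of_nonneg fun _ _ => Complex.normSq_nonneg _).1 h2 k (Finset.mem_univ k)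
  rw [map_one, Module.End.one_apply, Complex.normSq_eq_zero] at h3
  rw [h3, map_zero, Pi.zero_apply]

/-- The checks used with the fixed vectors. -/
def braidOK (D : ChevalleyDatum) (J J' rts U : List ℕ) (j nb : ℕ) : Bool :=
  let al := D.simple j
  let na := fun p => decide (p ≠ al) && U.contains p
  decide (j < D.rank) && decide (nb < D.rank) && J.contains j && J'.contains nb && U.contains al &&
    decide (D.reflectRoot j al = D.neg al) &&
    decide (D.reflectRoot j (D.reflectRoot nb al) = D.simple nb) &&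
    (J.all fun i => decide (i = j) || J'.contains i) && (J'.all fun i => J.contains i && rts.contains (D.simple i)) &&
    ((U ++ rts).all fun r => decide (r = al) || stepOK D al r && through (step D al r) na &&
      (U.contains (D.reflectRoot j r) || rts.contains (D.reflectRoot j r))) &&
    genOK D J' rts &&
    J'.all fun l => decide (l = nb) || stepOK D al (D.neg (D.simple l)) &&
      (step D al (D.neg (D.simple l))).isNone && decide (D.reflectRoot j (D.neg (D.simple l)) = D.neg (D.simple l))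

variable {M : Submodule ℂ W} {J J' rts U : List ℕ} {j nb : ℕ}

theorem braid (hb : braidOK D J J' rts U j nb = true) (hU : ∀ r ∈ U, r < D.nroots) (hM : InvM hG ρ M J)
    (hUM : ∀ r ∈ U, ∀ t : F, xG hG r t ∈ Stab ρ M)
    (hnofix : ∀ v ∈ M, v ∈ fixedBy hG ρ (gensOf D J) → v = 0)
    (H : ∀ a ∈ M ⊓ fixedBy hG ρ U, a ∈ fixedBy hG ρ (parGens D rts J' nb) → a ∈ fixedBy hG ρ (gensOf D J')) :
    ∀ v ∈ M, v ∈ fixedBy hG ρ (U ++ gensOf D J') → v = 0 := by
  classical
  simp only [braidOK, Bool.and_eq_true, Bool.or_eq_true, List.all_eq_true, decide_eq_true_eq,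
    List.contains_iff_mem, Option.isNone_iff_eq_none] at hb
  obtain ⟨⟨⟨⟨⟨⟨⟨⟨⟨⟨⟨hj, hnb⟩, hjJ⟩, hnbJ⟩, halU⟩, hrefj⟩, hbraid⟩, hJ⟩, hJ'⟩, hroots⟩, hgen⟩, hneg⟩ := hb
  set al := D.simple j with hal
  have halt : al < D.nroots := hG.simple_lt hj
  set n := nR hG al (1 : F) with hn
  have hnJ : n ∈ lv hG J := nR_simple_mem_lv hG hjJ 1
  have hnM : n ∈ Stab ρ M := hM.1 hnJ
  have hlv' : lv hG (F := F) J' ≤ lv hG J := by
    rw [lv, Subgroup.closure_le]
    rintro _ ⟨i, hi, t, rfl | rfl⟩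
    exacts [(xG_simple_mem_lv hG (hJ' i hi).1 t).1, (xG_simple_mem_lv hG (hJ' i hi).1 t).2]
  have hrtsN : ∀ r ∈ rts, r < D.nroots := fun r hr => by
    simp only [genOK, List.all_eq_true, Bool.and_eq_true, decide_eq_true_eq] at hgen
    exact (hgen r hr).1
  have hlistlt : ∀ r ∈ U ++ gensOf D J', r < D.nroots := by
    intro r hr
    rcases List.mem_append.1 hr with h | h
    · exact hU r h
    rcases List.mem_append.1 h with h | h <;> obtain ⟨i, hi, rfl⟩ := List.mem_map.1 h
    · exact hrtsN _ (hJ' i hi).2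
    · exact hG.neg_lt (hrtsN _ (hJ' i hi).2)
  set K := genBy hG (F := F) (U ++ gensOf D J') with hK
  have hKM : K ≤ Stab ρ M := by
    rw [hK, genBy, Subgroup.closure_le]
    rintro _ ⟨r, hr, t, rfl⟩
    rcases List.mem_append.1 hr with h | h
    · exact hUM r h t
    · exact hM.1 (hlv' (genBy_gensOf_le hG J' (xG_mem_genBy hG h t)))
  have hKlv : lv hG (F := F) J' ≤ K := by
    refine (lv_le_genBy hG J').trans ?_
    rw [genBy, Subgroup.closure_le]
    rintro _ ⟨r, hr, t, rfl⟩
    exact xG_mem_genBy hG (List.mem_append_right _ hr) t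
  have hrtsK : ∀ r ∈ rts, ∀ t : F, xG hG r t ∈ K := fun r hr t => hKlv (xG_mem_lv hG hgen r hr t)
  have hUK : ∀ r ∈ U, ∀ t : F, xG hG r t ∈ K := fun r hr t => xG_mem_genBy hG (List.mem_append_left _ hr) t
  set q : ℂ := (Fintype.card F : ℂ) with hq
  have hq0 : q ≠ 0 := Nat.cast_ne_zero.2 Fintype.card_ne_zero
  -- the vectors in question and the summation over the root subgroup
  set Fx := M ⊓ fixedBy hG ρ (U ++ gensOf D J') with hFx
  have fixK : ∀ v ∈ Fx, ∀ g ∈ K, ρ g v = v := fun v hv g hg => fixed_of_genBy hG ρ hv.2 hg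
  let A : W →ₗ[ℂ] W := ∑ c : F, (ρ (xG hG al c) : W →ₗ[ℂ] W)
  have hA : ∀ x, A x = ∑ c : F, ρ (xG hG al c) x := fun x => LinearMap.sum_apply _ _ _
  have hy : ∀ v ∈ Fx, ∀ r ∈ U ++ rts, r ≠ al → ∀ u : F, ρ (xG hG r u) (ρ n v) = ρ n v := by
    intro v hv r hr hne u
    have hrn : r < D.nroots := (List.mem_append.1 hr).elim (hU r) (hrtsN r)
    have hwn := hG.reflectRoot_lt hj hrn
    obtain ⟨e, he, hc, -⟩ := exists_nconj hG (F := F) hj hwn
    rw [hG.reflectRoot_reflectRoot hj hrn] at hc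
    have e1 := hc (e * u)
    rw [← mul_assoc, he, one_mul] at e1
    rw [← rho_mul_apply, ← e1, rho_mul_apply]
    refine congrArg _ (fixK v hv _ ?_)
    obtain ⟨-, hcase⟩ := (hroots r hr).resolve_left hne
    exact hcase.elim (fun h => hUK _ h _) (fun h => hrtsK _ h _)
  have hAfix : ∀ v ∈ Fx, A (ρ n v) ∈ Fx := by
    intro v hv
    have hAM : A (ρ n v) ∈ M := by
      rw [hA]; exact Submodule.sum_mem _ fun c _ => hUM al halU c _ (hnM v hv.1)
    have hfixed : ∀ r ∈ U ++ rts, ∀ u : F, ρ (xG hG r u) (A (ρ n v)) = A (ρ n v) := by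
      intro r hr u
      rw [hA, map_sum]
      by_cases hral : r = al
      · refine Fintype.sum_equiv (Equiv.addLeft u) _ _ fun c => ?_
        rw [Equiv.coe_addLeft, hral, ← rho_mul_apply, xG_add]
      refine Finset.sum_congr rfl fun c _ => ?_
      obtain ⟨⟨hok, hthr⟩, -⟩ := (hroots r hr).resolve_left hral
      rw [← rho_mul_apply, xG_swap hG hok, rho_mul_apply, rho_mul_apply]
      refine congrArg _ ?_
      simp only [stepEl]
      rcases hst : step D al r with _ | ⟨p, σ⟩
      · rw [map_one, Module.End.one_apply, hy v hv r hr hral]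
      · simp only [through, hst, Bool.and_eq_true, decide_eq_true_eq, List.contains_iff_mem] at hthr
        rw [hy v hv p (List.mem_append_left _ hthr.2) hthr.1, hy v hv r hr hral]
    have h0 : A (ρ n v) ∈ fixedBy hG ρ U :=
      (mem_fixedBy hG ρ).2 fun r hr u => hfixed r (List.mem_append_left _ hr) u
    have hpar : A (ρ n v) ∈ fixedBy hG ρ (parGens D rts J' nb) := by
      rw [mem_fixedBy]
      intro r hr u
      rcases List.mem_append.1 hr with h | h
      · exact hfixed r (List.mem_append_right _ h) u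
      obtain ⟨l, hl, rfl⟩ := List.mem_map.1 h
      rw [List.mem_filter, decide_eq_true_eq] at hl
      obtain ⟨⟨hok, hnone⟩, href⟩ := (hneg l hl.1).resolve_left hl.2
      rw [hA, map_sum]
      refine Finset.sum_congr rfl fun c _ => ?_
      rw [← rho_mul_apply, (xG_commute hG hok hnone c u).eq, rho_mul_apply]
      refine congrArg _ ?_
      have hln : D.neg (D.simple l) < D.nroots := (stepOK_bounds hok).2.1
      obtain ⟨e, he, hc, -⟩ := exists_nconj hG (F := F) hj hln
      rw [href] at hc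
      have e1 := hc (e * u)
      rw [← mul_assoc, he, one_mul] at e1
      rw [← rho_mul_apply, ← e1, rho_mul_apply]
      exact congrArg _ (fixK v hv _ (hKlv (xG_simple_mem_lv hG hl.1 _).2))
    refine ⟨hAM, (mem_fixedBy hG ρ).2 fun r hr u => ?_⟩
    rcases List.mem_append.1 hr with h | h
    · exact (mem_fixedBy hG ρ).1 h0 r h u
    · exact (mem_fixedBy hG ρ).1 (H _ ⟨hAM, h0⟩ hpar) r h u
  have hPA : ∀ x, avg ρ K (A x) = q • avg ρ K x := by
    intro x
    rw [hA, map_sum, Finset.sum_congr rfl fun c _ => avg_mul ρ K (hUK al halU c) x, Finset.sum_const,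
      Finset.card_univ, ← Nat.cast_smul_eq_nsmul ℂ]
  have hPn : ∀ v ∈ Fx, A (ρ n v) = q • avg ρ K (ρ n v) := fun v hv => by
    rw [← hPA, avg_of_fixed ρ K fun g hg => fixK _ (hAfix v hv) g hg]
  -- the image of the map is fixed by the whole group
  have hzero : ∀ v ∈ Fx, A (ρ n v) = 0 := by
    intro v hv
    set a := A (ρ n v) with ha
    have hav := hAfix v hv
    set ni := nR hG (D.simple nb) (1 : F) with hni
    have hniK : ∀ t : F, nR hG (D.simple nb) t ∈ K := fun t => hKlv (nR_simple_mem_lv hG hnbJ t)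
    obtain ⟨e1, -, hc1, hN1⟩ := exists_nconj hG (F := F) hnb halt
    have hγ := hG.reflectRoot_lt hnb halt
    obtain ⟨e2, -, hc2, hN2⟩ := exists_nconj hG (F := F) hj hγ
    rw [hbraid] at hc2 hN2
    have hbr : n * ni * n = nR hG (D.simple nb) (e2 * (e1 * 1)) * (n * ni) := by
      rw [mul_assoc n, hN1 1, ← mul_assoc, hN2, mul_assoc]
    have hxm : ∀ c : F, n * ni * xG hG al c = xG hG (D.simple nb) (e2 * (e1 * c)) * (n * ni) := fun c => by
      rw [mul_assoc n, hc1 c, ← mul_assoc, hc2, mul_assoc]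
    have hSa : avg ρ K (ρ n a) = a := by
      conv_lhs => rw [← fixK a hav ni (hniK 1), ← rho_mul_apply, ha, hA, map_sum, map_sum]
      rw [Finset.sum_congr rfl fun c _ => show avg ρ K (ρ (n * ni) (ρ (xG hG al c) (ρ n v))) =
          avg ρ K (ρ n v) by
        rw [← rho_mul_apply, hxm, rho_mul_apply, avg_mul ρ K (hKlv (xG_simple_mem_lv hG hnbJ _).1),
          ← rho_mul_apply, hbr, rho_mul_apply, avg_mul ρ K (hniK _), rho_mul_apply, fixK v hv ni (hniK 1)],
        Finset.sum_const, Finset.card_univ, ← Nat.cast_smul_eq_nsmul ℂ, ← hq, ← hPn v hv]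
    have hmean : A (ρ n a) = q • a := by rw [hPn a hav, hSa]
    have hfix : ρ n a = a := by
      have h1 := eq_of_mean_eq ρ (fun c : F => xG hG al c * n) (a := a)
        (by simp only [rho_mul_apply, ← hA]; exact hmean) 0
      simpa [xG_zero] using h1
    refine hnofix a hav.1 ((mem_fixedBy hG ρ).2 fun r hr u => ?_)
    have hpos : ∀ i ∈ J', ∀ t : F, ρ (xG hG (D.simple i) t) a = a ∧ ρ (xG hG (D.neg (D.simple i)) t) a = a :=
      fun i hi t => ⟨fixK a hav _ (hKlv (xG_simple_mem_lv hG hi t).1),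
        fixK a hav _ (hKlv (xG_simple_mem_lv hG hi t).2)⟩
    rcases List.mem_append.1 hr with h | h <;> obtain ⟨i, hi, rfl⟩ := List.mem_map.1 h
    · rcases hJ i hi with rfl | hi'
      · exact fixK a hav _ (hUK _ halU u)
      · exact (hpos i hi' u).1
    · rcases hJ i hi with rfl | hi'
      · obtain ⟨e, he, hc, -⟩ := exists_nconj hG (F := F) hj halt
        rw [hrefj] at hc
        have e1 := hc (e * u)
        rw [← mul_assoc, he, one_mul] at e1
        conv_lhs => rw [← hfix, ← rho_mul_apply, ← e1, rho_mul_apply, fixK a hav _ (hUK _ halU _), hfix]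
      · exact (hpos i hi' u).2
  -- the quadratic relation
  intro v hvM hv
  have hnn : n * n = (hR hG al (-1 : F))⁻¹ := by
    rw [hR, mul_inv_rev, nR_neg hG halt, inv_inv]
  set w := ρ (n * n) v with hw
  have hwF : w ∈ Fx := by
    have hpres : ∀ c : F, c ≠ 0 → hR hG al c ∈ Stab ρ Fx := fun c hc x hx =>
      ⟨hM.2 j hj c hc x hx.1, hR_fixed hG ρ hlistlt hj hc hx.2⟩
    rw [hw, hnn]
    exact (Stab ρ Fx).inv_mem (hpres _ (neg_ne_zero.2 one_ne_zero)) v ⟨hvM, hv⟩
  obtain ⟨e, he, hc, -⟩ := exists_nconj hG (F := F) hj halt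
  rw [hrefj] at hc
  have hsum : ∑ s : F, ρ (xG hG (D.neg al) s) w = 0 := by
    have h1 := congrArg (ρ n) (hzero v ⟨hvM, hv⟩)
    rw [hA, map_sum, map_zero] at h1
    rw [← h1]
    refine Fintype.sum_bijective (fun s => e * s) ?_ _ _ fun s => ?_
    · exact mulLeft_bijective₀ e (left_ne_zero_of_mul_eq_one he)
    · rw [← rho_mul_apply ρ n, hc (e * s), ← mul_assoc, he, one_mul, rho_mul_apply, hw, rho_mul_apply]
  have h2 := congrArg A hsum
  rw [map_sum, map_zero, Finset.sum_eq_single (0 : F) (fun s _ hs => ?_) (by simp), xG_zero, map_one,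
    Module.End.one_apply, hA, Finset.sum_congr rfl fun c _ => fixK w hwF _ (hUK al halU c),
    Finset.sum_const, Finset.card_univ, ← Nat.cast_smul_eq_nsmul ℂ] at h2
  · have hw0 := (smul_eq_zero.1 h2).resolve_left hq0
    exact rho_injective ρ (n * n) (hw0.trans (map_zero _).symm)
  · have ht : -s⁻¹ ≠ 0 := neg_ne_zero.2 (inv_ne_zero hs)
    have e3 : xG hG (D.neg al) s = xG hG al (s⁻¹) * nR hG al (-s⁻¹) * xG hG al (s⁻¹) := by
      rw [nR, show -(-s⁻¹)⁻¹ = s by rw [inv_neg, inv_inv, neg_neg], ← xG_inv hG al s⁻¹]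
      group
    rw [e3, rho_mul_apply, fixK w hwF _ (hUK al halU _), rho_mul_apply, nR_eq hG halt, rho_mul_apply, hA]
    calc ∑ c : F, ρ (xG hG al c) (ρ (xG hG al s⁻¹) (ρ (hR hG al (-s⁻¹)) (ρ n w)))
        = ∑ c : F, ρ (xG hG al c) (ρ (hR hG al (-s⁻¹)) (ρ n w)) :=
          Fintype.sum_equiv (Equiv.addRight s⁻¹) _ _ fun c => by
            rw [Equiv.coe_addRight, ← rho_mul_apply, xG_add]
      _ = ρ (hR hG al (-s⁻¹)) (A (ρ n w)) := by
          rw [hA, map_sum]
          refine (Fintype.sum_bijective (fun c => (-s⁻¹) ^ D.cartan j al * c)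
            (mulLeft_bijective₀ _ (zpow_ne_zero _ ht)) _ _ fun c => ?_).symm
          rw [← rho_mul_apply ρ (hR hG al (-s⁻¹)), hR_conj hG hj halt ht, rho_mul_apply]
      _ = 0 := by rw [hzero w hwF, map_zero]

end Cfsg.Agent.MinDegree.Exc
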