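import Cfsg.Agent.Lib.MinDegree.ExcModule
import Cfsg.Agent.Lib.CharInt.Central

/-!
A lower bound for the order of the centraliser of a root element from the orbit of a subgroup on weights.
-/

set_option autoImplicit false
set_option linter.unusedSectionVars false

open Module

namespace Cfsg.Agent.MinDegree.Exc

open Cfsg.Lie Cfsg.Agent.Chev

variable {F : Type*} [Field F] [Fintype F] {D : ChevalleyDatum} (hG : Good D)
variable {W : Type*} [AddCommGroup W] [Module ℂ W] [FiniteDimensional ℂ W]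
variable (ρ : Representation ℂ ↥(D.group F) W)

/-- The elements commuting with `z` which permute the weight spaces and preserve the fixed one. -/
def permWsp (z : ↥(D.group F)) (S : List ℕ) : Subgroup ↥(D.group F) where
  carrier := {g | Commute g z ∧ (∀ v ∈ wsp hG ρ ⊤ (1 : Wt F S), ρ g v ∈ wsp hG ρ ⊤ (1 : Wt F S)) ∧
    ∀ φ : Wt F S, ∃ φ', ∀ v ∈ wsp hG ρ ⊤ φ, ρ g v ∈ wsp hG ρ ⊤ φ'}
  one_mem' := ⟨Commute.one_left z, fun v hv => by simpa using hv, fun φ => ⟨φ, fun v hv => by simpa using hv⟩⟩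
  mul_mem' := fun {a b} ha hb => ⟨ha.1.mul_left hb.1,
    fun v hv => by rw [rho_mul_apply]; exact ha.2.1 _ (hb.2.1 v hv),
    fun φ => by
      obtain ⟨φ1, h1⟩ := hb.2.2 φ
      obtain ⟨φ2, h2⟩ := ha.2.2 φ1
      exact ⟨φ2, fun v hv => by rw [rho_mul_apply]; exact h2 _ (h1 v hv)⟩⟩
  inv_mem' := fun {a} ha => by
    rw [inv_eq_of_mul_eq_one_left (a := a ^ (orderOf a - 1)) (b := a) (by
      rw [← pow_succ, Nat.sub_add_cancel (orderOf_pos a), pow_orderOf_eq_one])]
    refine ⟨ha.1.pow_left _, ?_⟩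
    generalize orderOf a - 1 = n
    induction n with
    | zero => exact ⟨fun v hv => by simpa using hv, fun φ => ⟨φ, fun v hv => by simpa using hv⟩⟩
    | succ n ih =>
      refine ⟨fun v hv => by rw [pow_succ', rho_mul_apply]; exact ha.2.1 _ (ih.1 v hv), fun φ => ?_⟩
      obtain ⟨φ1, h1⟩ := ih.2 φ
      obtain ⟨φ2, h2⟩ := ha.2.2 φ1
      exact ⟨φ2, fun v hv => by rw [pow_succ', rho_mul_apply]; exact h2 _ (h1 v hv)⟩

theorem wsp_unique {S : List ℕ} {φ φ' : Wt F S} {v : W} (hv : v ∈ wsp hG ρ ⊤ φ) (hv' : v ∈ wsp hG ρ ⊤ φ')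
    (h0 : v ≠ 0) : φ = φ' :=
  wt_ext fun s hs => DFunLike.ext _ _ fun t => by
    have e := (((mem_wsp hG ρ).1 hv).2 s hs t).symm.trans (((mem_wsp hG ρ).1 hv').2 s hs t)
    exact smul_left_injective ℂ h0 e

open Classical in
/-- The number of weights in the orbit divides the order of the centraliser of `z`. -/
theorem orbitSize_dvd_centralizer {L : Lev} (hW : L.weightsOK D = true) (hL2 : L.L2 = [])
    (hsk : L.scale < D.rank) (hsc : D.cartan L.scale L.top = 1 ∨ D.cartan L.scale L.top = -1)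
    {th : ℕ} (hth : th < D.nroots) (hth0 : D.cartan L.scale th = 0)
    (hcen : ∀ r ∈ L.mv D, stepOK D r th = true ∧ step D r th = none)
    (hS : ∀ s ∈ L.S, ∀ s' ∈ L.S, s = s' ∨ stepOK D s s' = true ∧ step D s s' = none)
    (hJ : ∀ i ∈ L.J', D.simple i ∈ L.rts)
    (hfaith : ∀ g, ρ g = 1 → g = 1) (htop : xG hG L.top (1 : F) ≠ 1) :
    orbitSize (Fintype.card F) L ∣ Nat.card (Subgroup.centralizer {xG hG th (1 : F)}) := by
  set z := xG hG th (1 : F) with hz
  set H := permWsp hG ρ z L.S with hH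
  have hstab : H ≤ Stab ρ (⊤ : Submodule ℂ W) := fun g _ v _ => Submodule.mem_top
  have hall : ∀ g : ↥(D.group F), g ∈ Stab ρ (⊤ : Submodule ℂ W) := fun g v _ => Submodule.mem_top
  have hone : ∀ r : ℕ, ∀ t : F, E D r t (1 : Wt F L.S) = 1 := fun r t => wt_ext fun s hs => by
    rw [ext_one]; exact ext_E_eq_one (ext_one s) fun p _ _ => ext_one p
  have hmv : ∀ r ∈ L.mv D, ∀ t : F, xG hG r t ∈ H := fun r hr t => by
    refine ⟨(xG_commute hG (hcen r hr).1 (hcen r hr).2 t 1).symm, fun v hv => ?_,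
      fun φ => ⟨_, wsp_move_root hG ρ hW hr t (hall _) φ⟩⟩
    have := wsp_move_root hG ρ hW hr t (hall _) 1 v hv
    rwa [hone] at this
  have hn : ∀ i ∈ L.J', nR hG (D.simple i) (1 : F) ∈ H := fun i hi => by
    have h1 : D.simple i ∈ L.mv D := List.mem_append_left _ (hJ i hi)
    have h2 : D.neg (D.simple i) ∈ L.mv D := List.mem_append_right _ (List.mem_map.2 ⟨i, hi, rfl⟩)
    exact H.mul_mem (H.mul_mem (hmv _ h1 _) (hmv _ h2 _)) (hmv _ h1 _)
  have hh : ∀ c : F, c ≠ 0 → hR hG (D.simple L.scale) c ∈ H := fun c hc => by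
    refine ⟨?_, fun v hv => ?_, fun φ => ⟨_, wsp_move_torus hG ρ hW hsk hc (hall _) φ⟩⟩
    · have e := hR_conj hG hsk hth hc (1 : F)
      rw [hth0, zpow_zero, one_mul] at e
      exact e
    · have h1 := wsp_move_torus hG ρ hW hsk hc (hall _) 1 v hv
      have e : (fun s : {s // s ∈ L.S} => AddChar.mulShift ((1 : Wt F L.S) s) (c ^ D.cartan L.scale s.1)⁻¹) =
          (1 : Wt F L.S) := by
        funext s
        ext x
        simp [AddChar.mulShift_apply]
      rwa [e] at h1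
  have hA : AbelOn hG ρ (⊤ : Submodule ℂ W) L.S := by
    refine ⟨fun s _ t => hall _, fun s hs s' hs' t u v _ => ?_⟩
    rcases hS s hs s' hs' with rfl | ⟨hok, hnone⟩
    · rw [← rho_mul_apply, ← rho_mul_apply, xG_add, xG_add, add_comm]
    · rw [← rho_mul_apply, ← rho_mul_apply, (xG_commute hG hok hnone t u).eq]
  -- a non-trivial weight
  obtain ⟨φ0, hφ0, v0, hv0, hv00⟩ : ∃ φ0 : Wt F L.S, φ0 ≠ 1 ∧ ∃ v0 ∈ wsp hG ρ ⊤ φ0, v0 ≠ 0 := by
    by_contra hcon
    push Not at hcon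
    have htot := sum_finrank_wsp hG ρ (S_nodup hW) hA
    rw [← Finset.add_sum_erase _ _ (Finset.mem_univ (1 : Wt F L.S)),
      Finset.sum_eq_zero fun φ hφ => Submodule.finrank_eq_zero.2 ((Submodule.eq_bot_iff _).2
        (hcon φ (Finset.ne_of_mem_erase hφ))), add_zero] at htot
    have heq := Submodule.eq_of_le_of_finrank_eq le_top htot
    refine htop (hfaith _ (LinearMap.ext fun v => ?_))
    have hv : v ∈ wsp hG ρ ⊤ (1 : Wt F L.S) := by rw [heq]; exact Submodule.mem_top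
    rw [((mem_wsp hG ρ).1 hv).2 _ (top_mem hW) 1, ext_one, AddChar.one_apply, one_smul, Module.End.one_apply]
  let d : Wt F L.S → ℕ := fun φ => (Finset.univ.filter fun g : H => ρ g.1 v0 ∈ wsp hG ρ ⊤ φ).card
  have hinv : Inv D L d := inv_of_mono hG ρ hW hstab hmv hn ⟨hsk, hsc⟩ hh fun g hg φ φ' hmap => by
    refine Finset.card_le_card_of_injOn (fun x => ⟨g, hg⟩ * x) (fun x hx => ?_)
      (fun x _ y _ e => mul_left_cancel e)
    simp only [Finset.coe_filter, Finset.mem_univ, true_and, Set.mem_ofPred_eq] at hx ⊢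
    rw [Subgroup.coe_mul, rho_mul_apply]
    exact hmap _ hx
  have hdisj : (↑(Finset.univ : Finset (Wt F L.S)) : Set (Wt F L.S)).PairwiseDisjoint
      fun φ => Finset.univ.filter fun g : H => ρ g.1 v0 ∈ wsp hG ρ ⊤ φ := by
    intro φ _ φ' _ hne
    refine Finset.disjoint_left.2 fun g hg hg' => hne ?_
    rw [Finset.mem_filter] at hg hg'
    exact wsp_unique hG ρ hg.2 hg'.2 fun e => hv00 (rho_injective ρ g.1 (e.trans (map_zero _).symm))
  have hsum : ∑ φ, d φ = Nat.card H := by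
    rw [Nat.card_eq_fintype_card, ← Finset.card_biUnion hdisj, ← Finset.card_univ]
    congr 1
    refine Finset.eq_univ_of_forall fun g => Finset.mem_biUnion.2 ?_
    obtain ⟨φ', h⟩ := g.2.2.2 φ0
    exact ⟨φ', Finset.mem_univ _, Finset.mem_filter.2 ⟨Finset.mem_univ _, h v0 hv0⟩⟩
  have hd1 : d 1 = 0 := by
    refine Finset.card_eq_zero.2 (Finset.filter_eq_empty_iff.2 fun g _ hg => ?_)
    have h1 := (H.inv_mem g.2).2.1 _ hg
    rw [rho_inv_apply] at h1
    exact hφ0 (wsp_unique hG ρ hv0 h1 hv00)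
  rw [← Finset.add_sum_erase _ _ (Finset.mem_univ (1 : Wt F L.S)), hd1, zero_add] at hsum
  have hle : H ≤ Subgroup.centralizer {z} := fun g hg =>
    Subgroup.mem_centralizer_singleton_iff.2 hg.1.eq
  refine dvd_trans ?_ (Subgroup.card_dvd_of_le hle)
  rcases weights_dichotomy hG hW hinv with ⟨h, -⟩ | ⟨d0, hd0⟩
  · exact absurd hL2 h
  · exact ⟨d0, by rw [← hsum, hd0]⟩

/-- Divisibility given by the integrality of the central characters. -/
theorem finrank_mul_dvd [ρ.IsIrreducible] {z : ↥(D.group F)} {n X : ℕ}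
    (hn : n ∣ Nat.card (Subgroup.centralizer {z})) (hX : LinearMap.trace ℂ W (ρ z) = (X : ℂ)) :
    finrank ℂ W * n ∣ Nat.card ↥(D.group F) * X := by
  have hint := CharInt.isIntegral_omega (ρ := ρ) z
  rw [show ρ.character z = LinearMap.trace ℂ W (ρ z) from rfl, hX] at hint
  have hcl : Nat.card {h : ↥(D.group F) // IsConj z h} * Nat.card (Subgroup.centralizer {z}) =
      Nat.card ↥(D.group F) := by
    rw [CharInt.natCard_isConj, ← Subgroup.index_mul_card (Subgroup.centralizer {z})]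
  have hdvd : finrank ℂ W ∣ Nat.card {h : ↥(D.group F) // IsConj z h} * X := by
    have hne : finrank ℂ W ≠ 0 := by
      have := CharInt.nontrivial_of_irreducible ρ
      exact (finrank_pos (R := ℂ) (M := W)).ne'
    have hq : IsIntegral ℤ (((Nat.card {h : ↥(D.group F) // IsConj z h} * X : ℕ) : ℚ) / (finrank ℂ W : ℚ)) := by
      rw [← isIntegral_algebraMap_iff (B := ℂ) (algebraMap ℚ ℂ).injective]
      simpa using hint
    obtain ⟨k, hk⟩ := IsIntegrallyClosed.isIntegral_iff.1 hq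
    have hk' : (k : ℚ) = ((Nat.card {h : ↥(D.group F) // IsConj z h} * X : ℕ) : ℚ) / (finrank ℂ W : ℚ) := by
      simpa using hk
    rw [eq_div_iff (by exact_mod_cast hne)] at hk'
    have : ((finrank ℂ W : ℕ) : ℤ) ∣ ((Nat.card {h : ↥(D.group F) // IsConj z h} * X : ℕ) : ℤ) :=
      ⟨k, by rw [mul_comm _ k]; exact_mod_cast hk'.symm⟩
    exact Int.natCast_dvd_natCast.1 this
  obtain ⟨m, hm⟩ := hn
  refine (mul_dvd_mul hdvd (dvd_refl n)).trans ⟨m, ?_⟩
  rw [← hcl, hm]
  ring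

end Cfsg.Agent.MinDegree.Exc
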