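import Cfsg.Agent.Lib.MinDegree.DegreeCert

/-!
Degrees below the bound for `E6` do not divide the order formula: the certificates.
-/

set_option autoImplicit false

namespace Cfsg.Agent.MinDegree.Exc.E6

open Cfsg.Agent.MinDegree.PolyCert

/-- The degrees of the Weyl group. -/
def degs : List ℕ := [2, 5, 6, 8, 9, 12]

/-- Candidate 0. -/
def cand0 : List ℤ :=
  [-1, 0, -1, -1, 0, 0, 0, 1, 1, 0, 0, 1]

/-- The quotient for candidate 0. -/
def quo0 : List ℤ :=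
  [117, 261, 210, 56, -76, -123, -82, -9, 42, 56, 31, -3, -24, -23, -11, 4, 11, 11, 3, -4, -4, -4,
      -1, 2, 3, 1, 0, -1, -1, -1, 0, 1]

/-- The remainder for candidate 0. -/
def rem0 : List ℤ :=
  [118, 261, 326, 434, 395, 142, -103, -324, -541, -507, -201]

theorem cand0_ok : candOK degs 36 cand0
    [0, 0, 0, 0, 0, 0, 0, 1, 1, 0, 0, 1]
    [1, 0, 1, 1, 0, 0, 0, 0, 0, 0, 0, 0] 1 204 [] quo0 rem0 = true := by
  decide +kernel

/-- Candidate 1. -/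
def cand1 : List ℤ :=
  [-2, 0, -1, -1, 0, 1, 0, 1, 1, 0, 0, 1]

/-- The quotient for candidate 1. -/
def quo1 : List ℤ :=
  [234, -82, -244, -240, -114, 12, 96, 97, 57, 1, -33, -42, -27, -2, 10, 18, 11, 4, -5, -7, -4, -2,
      1, 3, 3, 0, 0, -1, -1, -1, 0, 1]

/-- The remainder for candidate 1. -/
def rem1 : List ℤ :=
  [469, -164, -255, -328, -554, -695, -81, 103, 310, 634, 561]

theorem cand1_ok : candOK degs 36 cand1
    [0, 0, 0, 0, 0, 1, 0, 1, 1, 0, 0, 1]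
    [2, 0, 1, 1, 0, 0, 0, 0, 0, 0, 0, 0] 2 1124 [2] quo1 rem1 = true := by
  decide +kernel

/-- Candidate 2. -/
def cand2 : List ℤ :=
  [-3, 0, -1, -1, 1, 1, 0, 1, 1, 0, 0, 1]

/-- The quotient for candidate 2. -/
def quo2 : List ℤ :=
  [-464, -420, -206, -10, 149, 165, 112, 38, -37, -56, -51, -28, 1, 19, 19, 17, 3, -4, -8, -8, -1, 0,
      2, 3, 2, 0, 0, -1, -1, -1, 0, 1]

/-- The remainder for candidate 2. -/
def rem2 : List ℤ :=
  [-1391, -1260, -1083, -914, 285, 1162, 1100, 1109, 911, 293, -212]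

theorem cand2_ok : candOK degs 36 cand2
    [0, 0, 0, 0, 1, 1, 0, 1, 1, 0, 0, 1]
    [3, 0, 1, 1, 0, 0, 0, 0, 0, 0, 0, 0] 3 635 [] quo2 rem2 = true := by
  decide +kernel

/-- Candidate 3. -/
def cand3 : List ℤ :=
  [-4, 0, -1, 0, 1, 1, 0, 1, 1, 0, 0, 1]

/-- The quotient for candidate 3. -/
def quo3 : List ℤ :=
  [-481, -216, 86, 197, 242, 118, 27, -51, -75, -52, -33, -4, 13, 27, 18, 13, -4, -8, -10, -6, 2, 1,
      2, 2, 2, 0, 0, -1, -1, -1, 0, 1]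

/-- The remainder for candidate 3. -/
def rem3 : List ℤ :=
  [-1923, -864, -138, 572, 1535, 1365, 479, 113, -15, -490, -634]

theorem cand3_ok : candOK degs 36 cand3
    [0, 0, 0, 0, 1, 1, 0, 1, 1, 0, 0, 1]
    [4, 0, 1, 0, 0, 0, 0, 0, 0, 0, 0, 0] 4 2537 [] quo3 rem3 = true := by
  decide +kernel

/-- Candidate 4. -/
def cand4 : List ℤ :=
  [-5, 0, 0, 0, 1, 1, 0, 1, 1, 0, 0, 1]

/-- The quotient for candidate 4. -/
def quo4 : List ℤ :=
  [-338, -9, 262, 255, 201, 37, -52, -69, -66, -31, -20, -1, 19, 30, 16, 9, -8, -11, -9, -4, 4, 1, 1,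
      2, 2, 0, 0, -1, -1, -1, 0, 1]

/-- The remainder for candidate 4. -/
def rem4 : List ℤ :=
  [-1689, -45, 1309, 1275, 1343, 531, -514, -523, -439, -647, -601]

theorem cand4_ok : candOK degs 36 cand4
    [0, 0, 0, 0, 1, 1, 0, 1, 1, 0, 0, 1]
    [5, 0, 0, 0, 0, 0, 0, 0, 0, 0, 0, 0] 5 3007 [] quo4 rem4 = true := by
  decide +kernel

/-- Candidate 5. -/
def cand5 : List ℤ :=
  [-6, 1, 0, 0, 1, 1, 0, 1, 1, 0, 0, 1]

/-- The quotient for candidate 5. -/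
def quo5 : List ℤ :=
  [-222, 95, 329, 215, 174, -24, -64, -58, -59, -18, -25, 3, 22, 31, 13, 8, -11, -11, -8, -3, 5, 0,
      1, 2, 2, 0, 0, -1, -1, -1, 0, 1]

/-- The remainder for candidate 5. -/
def rem5 : List ℤ :=
  [-1331, 792, 1878, 961, 1051, -192, -785, -605, -558, -624, -587]

theorem cand5_ok : candOK degs 36 cand5
    [0, 1, 0, 0, 1, 1, 0, 1, 1, 0, 0, 1]
    [6, 0, 0, 0, 0, 0, 0, 0, 0, 0, 0, 0] 6 3524 [] quo5 rem5 = true := by
  decide +kernel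

/-- Candidate 6. -/
def cand6 : List ℤ :=
  [-5, 1, 0, 0, 1, 1, 0, 1, 1, 0, 0, 1]

/-- The quotient for candidate 6. -/
def quo6 : List ℤ :=
  [-175, 49, 224, 154, 135, -5, -38, -43, -49, -20, -21, 2, 18, 26, 11, 7, -9, -9, -7, -3, 4, 0, 1,
      2, 2, 0, 0, -1, -1, -1, 0, 1]

/-- The remainder for candidate 6. -/
def rem6 : List ℤ :=
  [-874, 420, 1070, 546, 696, -35, -459, -379, -365, -455, -419]

theorem cand6_ok : candOK degs 36 cand6
    [0, 1, 0, 0, 1, 1, 0, 1, 1, 0, 0, 1]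
    [5, 0, 0, 0, 0, 0, 0, 0, 0, 0, 0, 0] 5 2097 [] quo6 rem6 = true := by
  decide +kernel

/-- Candidate 7. -/
def cand7 : List ℤ :=
  [-4, 1, 0, 0, 1, 1, 0, 1, 1, 0, 0, 1]

/-- The quotient for candidate 7. -/
def quo7 : List ℤ :=
  [-132, 15, 139, 103, 100, 8, -18, -30, -39, -20, -17, 1, 14, 21, 9, 6, -7, -7, -6, -3, 3, 0, 1, 2,
      2, 0, 0, -1, -1, -1, 0, 1]

/-- The remainder for candidate 7. -/
def rem7 : List ℤ :=
  [-527, 192, 540, 273, 429, 48, -235, -211, -212, -304, -279]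

theorem cand7_ok : candOK degs 36 cand7
    [0, 1, 0, 0, 1, 1, 0, 1, 1, 0, 0, 1]
    [4, 0, 0, 0, 0, 0, 0, 0, 0, 0, 0, 0] 4 1118 [4] quo7 rem7 = true := by
  decide +kernel

/-- Candidate 8. -/
def cand8 : List ℤ :=
  [-3, 1, 0, 0, 1, 1, 0, 1, 1, 0, 0, 1]

/-- The quotient for candidate 8. -/
def quo8 : List ℤ :=
  [-93, -7, 74, 62, 69, 15, -4, -19, -29, -18, -13, 0, 10, 16, 7, 5, -5, -5, -5, -3, 2, 0, 1, 2, 2,
      0, 0, -1, -1, -1, 0, 1]

/-- The remainder for candidate 8. -/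
def rem8 : List ℤ :=
  [-278, 72, 228, 112, 238, 75, -95, -95, -99, -177, -167]

theorem cand8_ok : candOK degs 36 cand8
    [0, 1, 0, 0, 1, 1, 0, 1, 1, 0, 0, 1]
    [3, 0, 0, 0, 0, 0, 0, 0, 0, 0, 0, 0] 3 503 [] quo8 rem8 = true := by
  decide +kernel

/-- Candidate 9. -/
def cand9 : List ℤ :=
  [-2, 1, 0, 0, 1, 1, 0, 1, 1, 0, 0, 1]

/-- The quotient for candidate 9. -/
def quo9 : List ℤ :=
  [-58, -17, 29, 31, 42, 16, 4, -10, -19, -14, -9, -1, 6, 11, 5, 4, -3, -3, -4, -3, 1, 0, 1, 2, 2, 0,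
      0, -1, -1, -1, 0, 1]

/-- The remainder for candidate 9. -/
def rem9 : List ℤ :=
  [-115, 24, 74, 33, 111, 64, -21, -25, -26, -80, -83]

theorem cand9_ok : candOK degs 36 cand9
    [0, 1, 0, 0, 1, 1, 0, 1, 1, 0, 0, 1]
    [2, 0, 0, 0, 0, 0, 0, 0, 0, 0, 0, 0] 2 167 [2] quo9 rem9 = true := by
  decide +kernel

/-- Candidate 10. -/
def cand10 : List ℤ :=
  [-1, 1, 0, 0, 1, 1, 0, 1, 1, 0, 0, 1]

/-- The quotient for candidate 10. -/
def quo10 : List ℤ :=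
  [-27, -15, 4, 10, 19, 11, 6, -3, -9, -8, -5, -2, 2, 6, 3, 3, -1, -1, -3, -3, 0, 0, 1, 2, 2, 0, 0,
      -1, -1, -1, 0, 1]

/-- The remainder for candidate 10. -/
def rem10 : List ℤ :=
  [-26, 12, 18, 6, 36, 33, 5, 5, 7, -19, -27]

theorem cand10_ok : candOK degs 36 cand10
    [0, 1, 0, 0, 1, 1, 0, 1, 1, 0, 0, 1]
    [1, 0, 0, 0, 0, 0, 0, 0, 0, 0, 0, 0] 1 28 [] quo10 rem10 = true := by
  decide +kernel

/-- The candidates. -/
def cands : List (List ℤ) :=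
  [cand0, cand1, cand2, cand3, cand4, cand5, cand6, cand7, cand8, cand9, cand10]

end Cfsg.Agent.MinDegree.Exc.E6
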