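import Cfsg.Agent.Lib.MinDegree.ExcFast
import Cfsg.Agent.Lib.Chev.CheckE6

/-!
The data of the levels used for the minimal degree of `E6`.
-/

set_option autoImplicit false

namespace Cfsg.Agent.MinDegree.Exc.E6

open Cfsg.Lie Cfsg.Agent.Chev

/-- The roots of level 0. -/
def pos0 : List ℕ :=
  [36, 37, 38, 39, 40, 41, 42, 43, 44, 45, 46, 47, 48, 49, 50, 51, 52, 53, 54, 55, 56, 57, 58, 59,
      60, 61, 62, 63, 64, 65, 66, 67, 68, 69, 70, 71]

/-- The roots of level 1. -/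
def pos1 : List ℕ :=
  [36, 37, 38, 39, 40, 41, 42, 43, 44, 45, 56, 57, 58, 59, 60]

/-- The roots of level 2. -/
def pos2 : List ℕ :=
  [37, 39, 40, 42, 43, 44, 56, 57, 58, 59]

/-- The roots of level 3. -/
def pos3 : List ℕ :=
  [39, 42, 43, 56, 57, 58]

/-- The roots of level 4. -/
def pos4 : List ℕ :=
  [42, 56, 57]

/-- The roots of level 5. -/
def pos5 : List ℕ :=
  [56]

/-- Level 0. -/
def lev0 : Lev where
  J := [1, 3, 2, 4, 0, 5]
  J' := [5, 4, 3, 2, 0]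
  j := 1
  nb := 3
  top := 70
  rts := pos1
  cells := [
    ⟨46, 3, [], [47, 48, 49, 50, 51, 52, 61, 62, 63]⟩,
    ⟨47, 2, [(39, 46)], [46, 48, 49, 50, 53, 54, 61, 64, 65]⟩,
    ⟨48, 2, [(37, 47), (40, 46)], [46, 47, 49, 51, 53, 55, 62, 64, 66]⟩,
    ⟨49, 2, [(36, 48), (38, 47), (41, 46)], [46, 47, 48, 52, 54, 55, 63, 65, 66]⟩,
    ⟨50, 0, [(42, 47), (43, 46)], [46, 47, 51, 52, 53, 54, 61, 67, 68]⟩,
    ⟨51, 0, [(37, 50), (42, 48), (44, 46)], [46, 48, 50, 52, 53, 55, 62, 67, 69]⟩,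
    ⟨52, 0, [(36, 51), (38, 50), (42, 49), (45, 46)], [46, 49, 50, 51, 54, 55, 63, 68, 69]⟩,
    ⟨53, 0, [(39, 51), (40, 50), (43, 48), (44, 47)], [47, 48, 50, 51, 54, 55, 64, 67, 70]⟩,
    ⟨54, 0, [(36, 53), (39, 52), (41, 50), (43, 49), (45, 47)], [47, 49, 50, 52, 53, 55, 65, 68, 70]⟩,
    ⟨55, 0, [(37, 54), (38, 53), (40, 52), (41, 51), (44, 49), (45, 48)], [48, 49, 51, 52, 53, 54, 66, 69, 70]⟩,
    ⟨61, 4, [(56, 50), (57, 47), (58, 46)], [46, 47, 50, 62, 63, 64, 65, 67, 68]⟩,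
    ⟨62, 3, [(37, 61), (56, 51), (57, 48), (59, 46)], [46, 48, 51, 61, 63, 64, 66, 67, 69]⟩,
    ⟨63, 3, [(36, 62), (38, 61), (56, 52), (57, 49), (60, 46)], [46, 49, 52, 61, 62, 65, 66, 68, 69]⟩,
    ⟨64, 2, [(39, 62), (40, 61), (56, 53), (58, 48), (59, 47)], [47, 48, 53, 61, 62, 65, 66, 67, 70]⟩,
    ⟨65, 2, [(36, 64), (39, 63), (41, 61), (56, 54), (58, 49), (60, 47)], [47, 49, 54, 61, 63, 64, 66, 68, 70]⟩,
    ⟨66, 2, [(37, 65), (38, 64), (40, 63), (41, 62), (56, 55), (59, 49), (60, 48)], [48, 49, 55, 62, 63, 64, 65, 69, 70]⟩,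
    ⟨67, 5, [(42, 64), (43, 62), (44, 61), (57, 53), (58, 51), (59, 50)], [50, 51, 53, 61, 62, 64, 68, 69, 70]⟩,
    ⟨68, 4, [(36, 67), (42, 65), (43, 63), (45, 61), (57, 54), (58, 52), (60, 50)], [50, 52, 54, 61, 63, 65, 67, 69, 70]⟩,
    ⟨69, 3, [(37, 68), (38, 67), (42, 66), (44, 63), (45, 62), (57, 55), (59, 52), (60, 51)], [51, 52, 55, 62, 63, 66, 67, 68, 70]⟩,
    ⟨70, 0, [(39, 69), (40, 68), (41, 67), (43, 66), (44, 65), (45, 64), (58, 55), (59, 54), (60, 53)], [53, 54, 55, 64, 65, 66, 67, 68, 69]⟩]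
  A1 := [(39, 69), (40, 68), (41, 67), (43, 66), (44, 65), (45, 64), (58, 55), (59, 54), (60, 53)]
  stab := [0, 2, 4, 5]
  L2 := [47, 48, 49, 50, 51, 52, 61, 62, 63]
  nu0 := 63
  A2 := [(36, 62), (38, 61), (56, 52), (57, 49)]
  bot := [(46, 3, 69, 47)]
  scale := 1

/-- Level 1. -/
def lev1 : Lev where
  J := [5, 4, 3, 2, 0]
  J' := [4, 3, 2, 0]
  j := 5
  nb := 4
  top := 60
  rts := pos2
  cells := [
    ⟨36, 4, [], [38, 41, 45, 60]⟩,
    ⟨38, 3, [(37, 36)], [36, 41, 45, 60]⟩,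
    ⟨41, 2, [(39, 38), (40, 36)], [36, 38, 45, 60]⟩,
    ⟨45, 0, [(42, 41), (43, 38), (44, 36)], [36, 38, 41, 60]⟩,
    ⟨60, 0, [(56, 45), (57, 41), (58, 38), (59, 36)], [36, 38, 41, 45]⟩]
  A1 := [(56, 45), (57, 41), (58, 38), (59, 36)]
  stab := [2, 3, 4]
  L2 := []
  nu0 := 0
  A2 := []
  bot := []
  scale := 0

/-- Level 2. -/
def lev2 : Lev where
  J := [4, 3, 2, 0]
  J' := [3, 2, 0]
  j := 4
  nb := 3
  top := 59
  rts := pos3
  cells := [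
    ⟨37, 3, [], [40, 44, 59]⟩,
    ⟨40, 2, [(39, 37)], [37, 44, 59]⟩,
    ⟨44, 0, [(42, 40), (43, 37)], [37, 40, 59]⟩,
    ⟨59, 0, [(56, 44), (57, 40), (58, 37)], [37, 40, 44]⟩]
  A1 := [(56, 44), (57, 40), (58, 37)]
  stab := [2, 3]
  L2 := []
  nu0 := 0
  A2 := []
  bot := []
  scale := 0

/-- Level 3. -/
def lev3 : Lev where
  J := [3, 2, 0]
  J' := [2, 0]
  j := 3
  nb := 2
  top := 58
  rts := pos4
  cells := [
    ⟨39, 2, [], [43, 58]⟩,
    ⟨43, 0, [(42, 39)], [39, 58]⟩,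
    ⟨58, 0, [(56, 43), (57, 39)], [39, 43]⟩]
  A1 := [(56, 43), (57, 39)]
  stab := [2]
  L2 := []
  nu0 := 0
  A2 := []
  bot := []
  scale := 0

/-- Level 4. -/
def lev4 : Lev where
  J := [2, 0]
  J' := [0]
  j := 2
  nb := 0
  top := 57
  rts := pos5
  cells := [
    ⟨42, 0, [], [57]⟩,
    ⟨57, 0, [(56, 42)], [42]⟩]
  A1 := [(56, 42)]
  stab := []
  L2 := []
  nu0 := 0
  A2 := []
  bot := []
  scale := 0

/-- Level 5. -/
def lev5 : Lev where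
  J := [0]
  J' := []
  j := 0
  nb := 0
  top := 56
  rts := []
  cells := [
    ⟨56, 0, [], []⟩]
  A1 := []
  stab := []
  L2 := []
  nu0 := 0
  A2 := []
  bot := []
  scale := 2

/-- The pairing of the radical. -/
def pairs : List (ℕ × ℕ) :=
  [(46, 70), (47, 69), (48, 68), (49, 67), (50, 66), (51, 65), (52, 64), (53, 63), (54, 62), (55,
      61)]

theorem top_ok : topOK chevE6 lev0 pos0 71 pairs = true := by
  simp only [topOK, Lev.weightsOK, cellOK, pairsOK, layerOK, braidOK, genOK,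
    step_fast Cfsg.Agent.Chev.E6.valid, stepOK_fast Cfsg.Agent.Chev.E6.valid, refl_fast Cfsg.Agent.Chev.E6.valid]
  decide +kernel

theorem lev1_ok : levelOK chevE6 lev1 pos1 = true := by
  simp only [levelOK, Lev.weightsOK, cellOK, pairsOK, layerOK, braidOK, genOK,
    step_fast Cfsg.Agent.Chev.E6.valid, stepOK_fast Cfsg.Agent.Chev.E6.valid, refl_fast Cfsg.Agent.Chev.E6.valid]
  decide +kernel

theorem lev2_ok : levelOK chevE6 lev2 pos2 = true := by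
  simp only [levelOK, Lev.weightsOK, cellOK, pairsOK, layerOK, braidOK, genOK,
    step_fast Cfsg.Agent.Chev.E6.valid, stepOK_fast Cfsg.Agent.Chev.E6.valid, refl_fast Cfsg.Agent.Chev.E6.valid]
  decide +kernel

theorem lev3_ok : levelOK chevE6 lev3 pos3 = true := by
  simp only [levelOK, Lev.weightsOK, cellOK, pairsOK, layerOK, braidOK, genOK,
    step_fast Cfsg.Agent.Chev.E6.valid, stepOK_fast Cfsg.Agent.Chev.E6.valid, refl_fast Cfsg.Agent.Chev.E6.valid]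
  decide +kernel

theorem lev4_ok : levelOK chevE6 lev4 pos4 = true := by
  simp only [levelOK, Lev.weightsOK, cellOK, pairsOK, layerOK, braidOK, genOK,
    step_fast Cfsg.Agent.Chev.E6.valid, stepOK_fast Cfsg.Agent.Chev.E6.valid, refl_fast Cfsg.Agent.Chev.E6.valid]
  decide +kernel

theorem last_ok : lev5.weightsOK chevE6 = true := by
  simp only [Lev.weightsOK, cellOK, pairsOK, layerOK,
    step_fast Cfsg.Agent.Chev.E6.valid, stepOK_fast Cfsg.Agent.Chev.E6.valid, refl_fast Cfsg.Agent.Chev.E6.valid]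
  decide +kernel

end Cfsg.Agent.MinDegree.Exc.E6
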