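import Mathlib
import Cfsg.Agent.Lib.Chev.Tab

/-!
Certificates for inequalities and non-divisibility between values of integer polynomials given by
coefficient lists.
-/

set_option autoImplicit false

namespace Cfsg.Agent.MinDegree.PolyCert

/-- The value of a polynomial given by its coefficients from the constant one upwards. -/
def pev : List ℤ → ℤ → ℤ
  | [], _ => 0
  | a :: l, x => a + x * pev l x

/-- The sum. -/
def padd : List ℤ → List ℤ → List ℤ
  | [], m => m
  | a :: l, [] => a :: l
  | a :: l, b :: m => (a + b) :: padd l m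

/-- The scalar multiple. -/
def psmul (a : ℤ) : List ℤ → List ℤ
  | [] => []
  | b :: m => (a * b) :: psmul a m

/-- The difference. -/
def psub (l m : List ℤ) : List ℤ := padd l (psmul (-1) m)

/-- The product. -/
def pmul : List ℤ → List ℤ → List ℤ
  | [], _ => []
  | a :: l, m => padd (psmul a m) (0 :: pmul l m)

/-- The composition with translation by `a`. -/
def pshift (a : ℤ) : List ℤ → List ℤ
  | [] => []
  | c :: l => padd [c] (pmul [a, 1] (pshift a l))

/-- The monomial. -/
def pX : ℕ → List ℤ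
  | 0 => [1]
  | n + 1 => 0 :: pX n

theorem pev_padd (l m : List ℤ) (x : ℤ) : pev (padd l m) x = pev l x + pev m x := by
  induction l generalizing m with
  | nil => simp [padd, pev]
  | cons a l ih => cases m with
    | nil => simp [padd, pev]
    | cons b m => simp only [padd, pev, ih]; ring

theorem pev_psmul (a : ℤ) (l : List ℤ) (x : ℤ) : pev (psmul a l) x = a * pev l x := by
  induction l with
  | nil => simp [psmul, pev]
  | cons b l ih => simp only [psmul, pev, ih]; ring

theorem pev_psub (l m : List ℤ) (x : ℤ) : pev (psub l m) x = pev l x - pev m x := by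
  rw [psub, pev_padd, pev_psmul]; ring

theorem pev_pmul (l m : List ℤ) (x : ℤ) : pev (pmul l m) x = pev l x * pev m x := by
  induction l with
  | nil => simp [pmul, pev]
  | cons a l ih => simp only [pmul, pev_padd, pev_psmul, pev, ih]; ring

theorem pev_pshift (a : ℤ) (l : List ℤ) (x : ℤ) : pev (pshift a l) x = pev l (a + x) := by
  induction l with
  | nil => simp [pshift, pev]
  | cons c l ih => simp only [pshift, pev_padd, pev_pmul, pev, ih]; ring

theorem pev_pX (n : ℕ) (x : ℤ) : pev (pX n) x = x ^ n := by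
  induction n with
  | zero => simp [pX, pev]
  | succ n ih => simp only [pX, pev, ih]; ring

/-- All coefficients vanish. -/
def isZero : List ℤ → Bool
  | [] => true
  | a :: l => decide (a = 0) && isZero l

theorem pev_of_isZero {l : List ℤ} (h : isZero l = true) (x : ℤ) : pev l x = 0 := by
  induction l with
  | nil => rfl
  | cons a l ih =>
    simp only [isZero, Bool.and_eq_true, decide_eq_true_eq] at h
    simp [pev, h.1, ih h.2]

/-- All coefficients are non-negative. -/
def nonnegAll : List ℤ → Bool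
  | [] => true
  | a :: l => decide (0 ≤ a) && nonnegAll l

theorem pev_nonneg {l : List ℤ} (h : nonnegAll l = true) {x : ℤ} (hx : 0 ≤ x) : 0 ≤ pev l x := by
  induction l with
  | nil => simp [pev]
  | cons a l ih =>
    simp only [nonnegAll, Bool.and_eq_true, decide_eq_true_eq] at h
    exact add_nonneg h.1 (mul_nonneg hx (ih h.2))

/-- The certificate that `l` is at most `m` from `a` on. -/
def leFrom (a : ℤ) (l m : List ℤ) : Bool := nonnegAll (pshift a (psub m l))

theorem le_of_leFrom {a : ℤ} {l m : List ℤ} (h : leFrom a l m = true) {x : ℤ} (hx : a ≤ x) :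
    pev l x ≤ pev m x := by
  have h1 := pev_nonneg h (sub_nonneg.2 hx)
  rw [pev_pshift, add_sub_cancel, pev_psub] at h1
  linarith

/-- The certificate that `l` is less than `m` from `a` on. -/
def ltFrom (a : ℤ) (l m : List ℤ) : Bool := leFrom a (padd l [1]) m

theorem lt_of_ltFrom {a : ℤ} {l m : List ℤ} (h : ltFrom a l m = true) {x : ℤ} (hx : a ≤ x) :
    pev l x < pev m x := by
  have h1 := le_of_leFrom h hx
  rw [pev_padd] at h1
  simp only [pev, mul_zero, add_zero] at h1
  linarith

/-- A polynomial with a negative constant term `-k` dividing `q ^ N * P` divides `k * P`. -/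
theorem dvd_const_mul {q N k : ℕ} {D P c : ℤ} (hq : IsPrimePow q) (hk : 0 < k) (hkq : k < q)
    (hD : D = -(k : ℤ) + q * c) (hdvd : D ∣ (q : ℤ) ^ N * P) : D ∣ (k : ℤ) * P := by
  obtain ⟨p, e, hp, he, rfl⟩ := hq
  have hp' : Nat.Prime p := Nat.prime_iff.2 hp
  have hgp : Int.gcd D (((p ^ e : ℕ) : ℤ) ^ N) ∣ p ^ (e * N) := by
    have h1 := Int.gcd_dvd_right D (((p ^ e : ℕ) : ℤ) ^ N)
    rw [← Nat.cast_pow, Int.natCast_dvd_natCast, ← pow_mul] at h1
    rw [← Nat.cast_pow, ← pow_mul]
    exact h1
  obtain ⟨v, -, hv⟩ := (Nat.dvd_prime_pow hp').1 hgp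
  have hvD : ((p ^ v : ℕ) : ℤ) ∣ D := hv ▸ Int.gcd_dvd_left D (((p ^ e : ℕ) : ℤ) ^ N)
  have hvk : p ^ v ∣ k := by
    by_cases hev : e ≤ v
    · exfalso
      have h1 : ((p ^ e : ℕ) : ℤ) ∣ D :=
        (Int.natCast_dvd_natCast.2 (pow_dvd_pow p hev)).trans hvD
      rw [hD] at h1
      have h2 := (dvd_add_left (dvd_mul_right ((p ^ e : ℕ) : ℤ) c)).1 h1
      rw [dvd_neg, Int.natCast_dvd_natCast] at h2
      exact absurd (Nat.le_of_dvd hk h2) (not_le.2 hkq)
    · have h1 : ((p ^ v : ℕ) : ℤ) ∣ ((p ^ e : ℕ) : ℤ) :=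
        Int.natCast_dvd_natCast.2 (pow_dvd_pow p (le_of_not_ge hev))
      rw [hD] at hvD
      have h2 := (dvd_add_left (h1.mul_right c)).1 hvD
      rwa [dvd_neg, Int.natCast_dvd_natCast] at h2
  refine (Int.dvd_gcd_mul_iff_dvd_mul.2 hdvd).trans (mul_dvd_mul_right ?_ P)
  rw [hv, Int.natCast_dvd_natCast]
  exact hvk

/-- The certificate of non-divisibility from `a` on: `p = c * u + r` with `r` small and of constant sign. -/
def ndvdFrom (a : ℤ) (k : ℕ) (c p u r : List ℤ) : Bool :=
  isZero (psub p (padd (pmul c u) r)) && ltFrom a (psmul k r) c && ltFrom a (psmul (-(k : ℤ)) r) c &&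
    (ltFrom a [] r || ltFrom a r [])

theorem not_dvd_of_ndvdFrom {a : ℤ} {k : ℕ} {c p u r : List ℤ} (h : ndvdFrom a k c p u r = true)
    (hk : 0 < k) {q : ℤ} (hq : a ≤ q) : ¬ pev c q ∣ (k : ℤ) * pev p q := by
  simp only [ndvdFrom, Bool.and_eq_true, Bool.or_eq_true] at h
  obtain ⟨⟨⟨h1, h2⟩, h3⟩, h4⟩ := h
  have e := pev_of_isZero h1 q
  rw [pev_psub, pev_padd, pev_pmul, sub_eq_zero] at e
  have l2 := lt_of_ltFrom h2 hq
  have l3 := lt_of_ltFrom h3 hq
  rw [pev_psmul] at l2 l3
  have hr : pev r q ≠ 0 := by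
    rcases h4 with h | h
    · exact (lt_of_ltFrom h hq).ne'
    · exact (lt_of_ltFrom h hq).ne
  intro hd
  rw [e, mul_add, mul_left_comm] at hd
  have h5 := (dvd_add_right (dvd_mul_right (pev c q) _)).1 hd
  refine absurd (Int.eq_zero_of_dvd_of_natAbs_lt_natAbs h5 ?_) (mul_ne_zero (by exact_mod_cast hk.ne') hr)
  rw [← Int.ofNat_lt, Int.natCast_natAbs, Int.natCast_natAbs]
  have hc : 0 < pev c q := by nlinarith
  rw [abs_of_pos hc, abs_lt]
  constructor <;> linarith

end Cfsg.Agent.MinDegree.PolyCert
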