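import Cfsg.Agent.Lib.MinDegree.ExcTop
import Cfsg.Agent.Lib.MinDegree.PolyCert

/-!
The bounds of the levels as values of polynomials in the order of the field, with Boolean checks for the
inequalities between them.
-/

set_option autoImplicit false
set_option linter.unusedSectionVars false

open Module

namespace Cfsg.Agent.MinDegree.Exc

open Cfsg.Lie Cfsg.Agent.Chev Cfsg.Agent.MinDegree.PolyCert

/-- The number of the non-trivial weights of a level, as a polynomial. -/
def orbitPoly (L : Lev) : List ℤ := pmul [-1, 1] ((L.cells.map fun c => pX c.A.length).foldr padd [])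

theorem pev_orbitPoly (L : Lev) (q : ℕ) (hq : 1 ≤ q) : pev (orbitPoly L) q = (orbitSize q L : ℤ) := by
  have key : ∀ l : List Cell, pev ((l.map fun c => pX c.A.length).foldr padd []) (q : ℤ) =
      (((l.map fun c => q ^ c.A.length).sum : ℕ) : ℤ) := by
    intro l
    induction l with
    | nil => simp [pev]
    | cons c l ih =>
      simp only [List.map_cons, List.foldr_cons, List.sum_cons, pev_padd, pev_pX, ih]
      push_cast
      ring
  rw [orbitPoly, orbitSize, pev_pmul, key, Nat.cast_mul, Nat.cast_sub hq]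
  simp only [pev]
  push_cast
  ring

/-- The values of a list of polynomials. -/
def pevs (C : List (List ℤ)) (x : ℤ) : List ℤ := C.map fun p => pev p x

theorem mem_pevs {C : List (List ℤ)} {x v : ℤ} : v ∈ pevs C x ↔ ∃ p ∈ C, pev p x = v := List.mem_map

/-- The bound of a level from the next. -/
def nextT (L : Lev) (T' : List ℤ) : List ℤ := padd (orbitPoly L) (padd T' [1])

/-- The exceptional degrees of a level from the next. -/
def nextC (L : Lev) (T' : List ℤ) (C' : List (List ℤ)) : List (List ℤ) :=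
  orbitPoly L :: psub (nextT L T') [1] :: C'.map (padd (orbitPoly L))

/-- The numeric conditions at a level. -/
def levelNum (L : Lev) (T' : List ℤ) (low' low : List (ℕ × ℤ)) (dnb : ℤ) : Bool :=
  leFrom 2 (nextT L T') (psmul 2 (orbitPoly L)) && (L.L2.isEmpty || leFrom 2 (nextT L T') (pX (L.A1.length + L.A2.length))) &&
    low'.contains (L.nb, dnb) && decide (dnb ≤ 1) && decide (0 ≤ dnb) &&
    low.all fun kd => decide (kd.1 = L.j) && decide (dnb ≤ kd.2) ||
      L.J'.contains kd.1 && decide (dnb ≤ kd.2) && low'.any fun e => decide (e.1 = kd.1) && decide (e.2 + 1 ≤ kd.2)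

/-- The bound at the top. -/
def topT (L : Lev) (m : ℕ) (T' : List ℤ) : List ℤ := padd (pmul [-1, 1] (pX m)) (nextT L T')

/-- The exceptional degrees at the top. -/
def topC (L : Lev) (m : ℕ) (T' : List ℤ) (C' : List (List ℤ)) : List (List ℤ) :=
  padd (pmul [-1, 1] (pX m)) (orbitPoly L) :: psub (topT L m T') [1] :: psub (topT L m T') [2] ::
    C'.map (padd (padd (pmul [-1, 1] (pX m)) (orbitPoly L)))

/-- The numeric conditions at the top. -/
def topNum (L : Lev) (m : ℕ) (T' : List ℤ) (low' : List (ℕ × ℤ)) (dnb : ℤ) : Bool :=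
  let Q := pmul [-1, 1] (pX m)
  leFrom 2 (topT L m T') (padd Q (psmul 2 (orbitPoly L))) && leFrom 2 (topT L m T') (padd (psmul 2 Q) (orbitPoly L)) &&
    leFrom 2 (topT L m T') (padd Q (pX (L.A1.length + L.A2.length))) &&
    low'.contains (L.nb, dnb) && decide (dnb ≤ 2)

variable {F : Type*} [Field F] [Fintype F] {D : ChevalleyDatum} (hG : Good D)
variable {W : Type*} [AddCommGroup W] [Module ℂ W] [FiniteDimensional ℂ W]
variable (ρ : Representation ℂ ↥(D.group F) W)

/-- The bounds at one level given by polynomials. -/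
def PBd (J pos : List ℕ) (T : List ℤ) (C : List (List ℤ)) (low : List (ℕ × ℤ)) : Prop :=
  Bd hG ρ J pos (pev T (Fintype.card F)) (pevs C (Fintype.card F)) low

theorem two_le_card : (2 : ℤ) ≤ Fintype.card F := by exact_mod_cast Fintype.one_lt_card (α := F)

theorem level_num {L : Lev} {pos : List ℕ} (hL : levelOK D L pos = true) {T' : List ℤ} {C' : List (List ℤ)}
    {low' low : List (ℕ × ℤ)} {dnb : ℤ} (hN : levelNum L T' low' low dnb = true)
    (hBd : PBd hG ρ L.J' L.rts T' C' low') : PBd hG ρ L.J pos (nextT L T') (nextC L T' C') low := by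
  simp only [levelNum, Bool.and_eq_true, Bool.or_eq_true, List.all_eq_true, List.any_eq_true, decide_eq_true_eq,
    List.contains_iff_mem, List.isEmpty_iff] at hN
  obtain ⟨⟨⟨⟨⟨h1, h2⟩, h3⟩, h4⟩, h5⟩, h6⟩ := hN
  set q : ℤ := (Fintype.card F : ℤ) with hq
  have hq2 : (2 : ℤ) ≤ q := two_le_card
  have e1 := le_of_leFrom h1 hq2
  have e2 : L.L2 ≠ [] → pev (nextT L T') q ≤ q ^ (L.A1.length + L.A2.length) := fun hne => by
    have := le_of_leFrom (h2.resolve_left hne) hq2
    rwa [pev_pX] at this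
  rw [pev_psmul] at e1
  refine level_bd hG ρ hL hBd h3 (N := pev (orbitPoly L) q) (pev_orbitPoly L _ Fintype.card_pos)
    (by simp only [nextT, pev_padd, pev]; ring) e1 e2
    (mem_pevs.2 ⟨_, List.mem_cons_self, rfl⟩)
    (mem_pevs.2 ⟨_, List.mem_cons_of_mem _ List.mem_cons_self, by simp [pev_psub, pev]⟩)
    (fun x hx => ?_) h4 h5 fun kd hkd => ?_
  · obtain ⟨p, hp, rfl⟩ := mem_pevs.1 hx
    exact mem_pevs.2 ⟨_, List.mem_cons_of_mem _ (List.mem_cons_of_mem _ (List.mem_map_of_mem hp)), pev_padd _ _ _⟩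
  · rcases h6 kd hkd with h | ⟨⟨hk, hd⟩, e, he, he1, he2⟩
    · exact Or.inl h
    · exact Or.inr ⟨hk, hd, e.2, he1 ▸ he, he2⟩

theorem base_num {L : Lev} {i : ℕ} {pos : List ℕ} (hi : i < D.rank) (hL : L.weightsOK D = true)
    (hc : (L.cells.map Cell.mu == [D.simple i] && decide (L.top = D.simple i) && L.J'.isEmpty && L.rts.isEmpty &&
      decide (L.scale < D.rank) && (decide (D.cartan L.scale L.top = 1) || decide (D.cartan L.scale L.top = -1)) &&
      pos == [D.simple i]) = true) :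
    PBd hG ρ [i] pos [0, 1] [[-1, 1]] [(i, 0)] := by
  simp only [Bool.and_eq_true, Bool.or_eq_true, beq_iff_eq, decide_eq_true_eq, List.isEmpty_iff] at hc
  obtain ⟨⟨⟨⟨⟨⟨h1, h2⟩, h3⟩, h4⟩, h5⟩, h6⟩, rfl⟩ := hc
  exact base_bd hG ρ hi hL h1 h2 h3 h4 h5 h6 (by simp [pev])
    (mem_pevs.2 ⟨_, List.mem_cons_self, by simp [pev]; ring⟩)

theorem top_num [ρ.IsIrreducible] (hsimple : IsSimpleGroup ↥(D.group F)) (hne : ∃ g, ρ g ≠ 1)
    {L : Lev} {pos : List ℕ} {th : ℕ} {P : List (ℕ × ℕ)} (hL : topOK D L pos th P = true)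
    (hz : xG hG th (1 : F) ≠ 1) {T' : List ℤ} {C' : List (List ℤ)} {low' : List (ℕ × ℤ)} {dnb : ℤ}
    (hN : topNum L P.length T' low' dnb = true) (hBd : PBd hG ρ L.J' L.rts T' C' low') :
    pev (topT L P.length T') (Fintype.card F) ≤ (finrank ℂ W : ℤ) ∨
      (∃ p ∈ topC L P.length T' C', pev p (Fintype.card F) = (finrank ℂ W : ℤ)) ∧
        ∀ t : F, t ≠ 0 → LinearMap.trace ℂ W (ρ (xG hG th t)) =
          (finrank ℂ W : ℂ) - (Fintype.card F : ℂ) ^ (P.length + 1) := by
  simp only [topNum, Bool.and_eq_true, decide_eq_true_eq, List.contains_iff_mem] at hN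
  obtain ⟨⟨⟨⟨h1, h2⟩, h3⟩, h4⟩, h5⟩ := hN
  set q : ℤ := (Fintype.card F : ℤ) with hq
  have hq2 : (2 : ℤ) ≤ q := two_le_card
  have e1 := le_of_leFrom h1 hq2
  have e2 := le_of_leFrom h2 hq2
  have e3 := le_of_leFrom h3 hq2
  simp only [pev_padd, pev_psmul, pev_pX] at e1 e2 e3
  have hmem : ∀ v, v ∈ pevs (topC L P.length T' C') q ↔ ∃ p ∈ topC L P.length T' C', pev p q = v := fun v => mem_pevs
  have := top_bound hG ρ hsimple hne hL hz hBd h4 h5 (Q := pev (pmul [-1, 1] (pX P.length)) q)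
    (N := pev (orbitPoly L) q) (T := pev (topT L P.length T') q) (poss := pevs (topC L P.length T' C') q)
    (by rw [pev_pmul, pev_pX]; simp only [pev]; ring) (pev_orbitPoly L _ Fintype.card_pos)
    (by simp only [topT, nextT, pev_padd, pev]; ring) e1 e2 e3
    ((hmem _).2 ⟨_, List.mem_cons_self, pev_padd _ _ _⟩)
    ((hmem _).2 ⟨_, List.mem_cons_of_mem _ List.mem_cons_self, by simp [pev_psub, pev]⟩)
    ((hmem _).2 ⟨_, List.mem_cons_of_mem _ (List.mem_cons_of_mem _ List.mem_cons_self), by simp [pev_psub, pev]⟩)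
    (fun x hx => by
      obtain ⟨p, hp, rfl⟩ := mem_pevs.1 hx
      exact (hmem _).2 ⟨_, List.mem_cons_of_mem _ (List.mem_cons_of_mem _ (List.mem_cons_of_mem _
        (List.mem_map_of_mem hp))), by rw [pev_padd, pev_padd]⟩)
  exact this.imp id fun h => ⟨(hmem _).1 h.1, h.2⟩

end Cfsg.Agent.MinDegree.Exc
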