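import Cfsg.Agent.Lib.MinDegree.ExcE6Data
import Cfsg.Agent.Lib.MinDegree.ExcE6Cand
import Cfsg.Agent.Lib.MinDegree.ExcNum
import Cfsg.Agent.Lib.MinDegree.ExcCentral
import Cfsg.Agent.Lib.Chev.Order
import Cfsg.Agent.Lib.Chev.Poincare
import Cfsg.Agent.Lib.Chev.FieldAutFixed
import Cfsg.Agent.S1054

/-!
The minimal degree of `E6`.
-/

set_option autoImplicit false
set_option maxRecDepth 100000

open Module

namespace Cfsg.Agent.MinDegree.Exc.E6

open Cfsg.Lie Cfsg.Agent.Chev Cfsg.Agent.Chev.BNSetup Cfsg.Agent.MinDegree.PolyCert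

variable {F : Type*} [Field F] [Fintype F]

theorem simple_group : IsSimpleGroup ↥(chevE6.group F) :=
  (Cfsg.Agent.S1054.result chevE6 (by simp)).1

theorem xG_ne_one {r : ℕ} (hr : r < chevE6.nroots) :
    xG Cfsg.Agent.Chev.E6.good r (1 : F) ≠ 1 := fun h => by
  refine xe_ne_one Cfsg.Agent.Chev.E6.good facts_chevE6 hr (one_ne_zero (α := F)) ?_
  have h1 := congrArg Subtype.val h
  rwa [coe_xG _ hr] at h1

theorem card_dvd : Nat.card ↥(chevE6.group F) ∣ ordN degs 36 (Fintype.card F) := by
  have h := card_group (F := F) Cfsg.Agent.Chev.E6.good facts_chevE6 kerCertE6 kerCertE6_valid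
    Cfsg.Agent.Chev.WeylTab.levelsE6 rfl Cfsg.Agent.Chev.WeylTab.levelsOK_E6
  simp only [show chevE6.rank = 6 from rfl, show chevE6.nroots / 2 = 36 from rfl,
    mul_assoc (Fintype.card F ^ 36), Cfsg.Agent.Chev.WeylTab.poincare_E6 (Fintype.card F) Fintype.card_pos] at h
  refine Dvd.intro_left _ (h.trans ?_)
  simp only [ordN, degs, List.map_cons, List.map_nil, List.prod_cons, List.prod_nil]
  ring

/-- The bound of level 1. -/
def tT1 : List ℤ := nextT lev1 (nextT lev2 (nextT lev3 (nextT lev4 [0, 1])))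

/-- The exceptional degrees of level 1. -/
def tC1 : List (List ℤ) :=
  nextC lev1 (nextT lev2 (nextT lev3 (nextT lev4 [0, 1])))
    (nextC lev2 (nextT lev3 (nextT lev4 [0, 1]))
      (nextC lev3 (nextT lev4 [0, 1]) (nextC lev4 [0, 1] [[-1, 1]])))

/-- The bound as a polynomial. -/
def target : List ℤ := pmul (pX 1) (pmul (padd (pX 6) (padd (pX 3) [1])) (padd (pX 4) [1]))

theorem target_ok : isZero (psub (topT lev0 pairs.length tT1) target) = true := by decide +kernel

theorem cover_ok : ((topC lev0 pairs.length tT1 tC1).all fun p => cands.any fun c => isZero (psub p c)) = true := by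
  decide +kernel

theorem dichotomy {W : Type*} [AddCommGroup W] [Module ℂ W] [FiniteDimensional ℂ W]
    (ρ : Representation ℂ ↥(chevE6.group F) W) [ρ.IsIrreducible] (hne : ∃ g, ρ g ≠ 1) :
    pev target (Fintype.card F) ≤ (finrank ℂ W : ℤ) ∨
      (∃ c ∈ cands, pev c (Fintype.card F) = (finrank ℂ W : ℤ)) ∧
        LinearMap.trace ℂ W (ρ (xG Cfsg.Agent.Chev.E6.good 71 (1 : F))) =
          (finrank ℂ W : ℂ) - (Fintype.card F : ℂ) ^ 11 := by
  have hG := Cfsg.Agent.Chev.E6.good
  have b5 : PBd hG ρ lev5.J pos5 [0, 1] [[-1, 1]] [(0, 0)] :=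
    base_num hG ρ (show (0 : ℕ) < chevE6.rank by decide) last_ok (by decide +kernel)
  have b4 := level_num hG ρ lev4_ok (low := [(2, 0)]) (dnb := 0) (by decide +kernel) b5
  have b3 := level_num hG ρ lev3_ok (low := [(3, 0)]) (dnb := 0) (by decide +kernel) b4
  have b2 := level_num hG ρ lev2_ok (low := [(4, 0), (3, 1)]) (dnb := 0) (by decide +kernel) b3
  have b1 := level_num hG ρ lev1_ok (low := [(3, 2)]) (dnb := 0) (by decide +kernel) b2
  rcases top_num hG ρ simple_group hne top_ok (xG_ne_one (by decide)) (dnb := 2)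
    (low' := [(3, 2)]) (T' := tT1) (C' := tC1) (by decide +kernel) b1 with h | ⟨⟨p, hp, hpD⟩, htr⟩
  · refine Or.inl (le_trans (le_of_eq ?_) h)
    have := pev_of_isZero target_ok (Fintype.card F : ℤ)
    rw [pev_psub, sub_eq_zero] at this
    exact this.symm
  · refine Or.inr ⟨?_, ?_⟩
    · obtain ⟨c, hc, hpc⟩ := List.any_eq_true.1 (List.all_eq_true.1 cover_ok p hp)
      have := pev_of_isZero hpc (Fintype.card F : ℤ)
      rw [pev_psub, sub_eq_zero] at this
      exact ⟨c, hc, this.symm.trans hpD⟩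
    · rw [htr 1 one_ne_zero, show pairs.length = 10 by decide +kernel]

/-- The checks making a level count the centraliser of the highest root element. -/
def centOK (L : Lev) : Bool :=
  L.L2.isEmpty && decide (L.scale < chevE6.rank) &&
    (decide (chevE6.cartan L.scale L.top = 1) || decide (chevE6.cartan L.scale L.top = -1)) &&
    decide (chevE6.cartan L.scale 71 = 0) &&
    ((L.mv chevE6).all fun r => stepOK chevE6 r 71 && (step chevE6 r 71).isNone) &&
    (L.S.all fun s => L.S.all fun s' => decide (s = s') || stepOK chevE6 s s' && (step chevE6 s s').isNone) &&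
    (L.J'.all fun i => L.rts.contains (chevE6.simple i))

theorem lev1_cent : centOK lev1 = true := by decide +kernel

theorem lev2_cent : centOK lev2 = true := by decide +kernel

theorem lev1_weights : lev1.weightsOK chevE6 = true := by
  have h := lev1_ok
  simp only [levelOK, Bool.and_eq_true] at h
  exact h.1.1.1.1.1.1.1.1

theorem lev2_weights : lev2.weightsOK chevE6 = true := by
  have h := lev2_ok
  simp only [levelOK, Bool.and_eq_true] at h
  exact h.1.1.1.1.1.1.1.1

theorem exceptional {W : Type*} [AddCommGroup W] [Module ℂ W] [FiniteDimensional ℂ W]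
    (ρ : Representation ℂ ↥(chevE6.group F) W) [ρ.IsIrreducible] (hne : ∃ g, ρ g ≠ 1)
    {L : Lev} (hW : L.weightsOK chevE6 = true) (hL : centOK L = true) {X : ℕ}
    (hX : LinearMap.trace ℂ W (ρ (xG Cfsg.Agent.Chev.E6.good 71 (1 : F))) = (X : ℂ)) :
    finrank ℂ W * orbitSize (Fintype.card F) L ∣ ordN degs 36 (Fintype.card F) * X := by
  simp only [centOK, Bool.and_eq_true, Bool.or_eq_true, List.all_eq_true, decide_eq_true_eq,
    List.isEmpty_iff, List.contains_iff_mem, Option.isNone_iff_eq_none] at hL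
  obtain ⟨⟨⟨⟨⟨⟨h1, h2⟩, h3⟩, h4⟩, h5⟩, h6⟩, h7⟩ := hL
  have hfaith : ∀ g, ρ g = 1 → g = 1 := by
    intro g hg
    have := simple_group (F := F)
    rcases (inferInstance : (MonoidHom.ker ρ).Normal).eq_bot_or_eq_top with hb | hb
    · rw [← Subgroup.mem_bot, ← hb]
      exact hg
    · obtain ⟨g', hg'⟩ := hne
      exact absurd (MonoidHom.mem_ker.1 (hb ▸ Subgroup.mem_top g')) hg'
  have hdvd := orbitSize_dvd_centralizer Cfsg.Agent.Chev.E6.good ρ hW h1 h2 h3 (th := 71) (by decide) h4 h5
    h6 h7 hfaith (xG_ne_one (S_lt hW (top_mem hW)))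
  exact (finrank_mul_dvd ρ hdvd hX).trans (Nat.mul_dvd_mul_right card_dvd X)

/-- Every non-trivial irreducible representation has degree at least `q(q^6+q^3+1)(q^4+1)`. -/
theorem degree_bound {W : Type*} [AddCommGroup W] [Module ℂ W] [FiniteDimensional ℂ W]
    (ρ : Representation ℂ ↥(chevE6.group F) W) [ρ.IsIrreducible] (hne : ∃ g, ρ g ≠ 1) :
    Fintype.card F * (Fintype.card F ^ 6 + Fintype.card F ^ 3 + 1) * (Fintype.card F ^ 4 + 1) ≤ finrank ℂ W := by
  rcases dichotomy ρ hne with h | ⟨⟨c, hc, hcD⟩, htr⟩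
  · simp only [target, pev_pmul, pev_padd, pev_pX, pev, mul_zero, add_zero] at h
    zify
    linarith [h]
  exfalso
  have hq := FiniteField.isPrimePow_card F
  have hdvd : finrank ℂ W ∣ ordN degs 36 (Fintype.card F) :=
    (CharInt.finrank_dvd_natCard (ρ := ρ)).trans card_dvd
  have key : ∀ {q D X : ℕ} {L : Lev}, Fintype.card F = q → finrank ℂ W = D → X + q ^ 11 = D →
      L.weightsOK chevE6 = true → centOK L = true → ¬ D * orbitSize q L ∣ ordN degs 36 q * X → False := by
    intro q D X L hq' hD hX hW hL hn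
    subst hq'
    subst hD
    refine hn (exceptional ρ hne hW hL ?_)
    rw [htr, ← hX]
    push_cast
    ring
  simp only [cands, List.mem_cons, List.not_mem_nil, or_false] at hc
  rcases hc with rfl | rfl | rfl | rfl | rfl | rfl | rfl | rfl | rfl | rfl | rfl
  · exact not_dvd_of_candOK cand0_ok hq (by simp) hcD.symm hdvd
  · by_cases h2 : Fintype.card F = 2
    · rw [h2, show pev cand1 ((2 : ℕ) : ℤ) = 2450 by decide +kernel] at hcD
      exact key (D := 2450) (X := 402) h2 (by omega) (by norm_num) lev2_weights lev2_cent (by decide +kernel)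
    · exact not_dvd_of_candOK cand1_ok hq (by simpa using h2) hcD.symm hdvd
  · exact not_dvd_of_candOK cand2_ok hq (by simp) hcD.symm hdvd
  · exact not_dvd_of_candOK cand3_ok hq (by simp) hcD.symm hdvd
  · exact not_dvd_of_candOK cand4_ok hq (by simp) hcD.symm hdvd
  · exact not_dvd_of_candOK cand5_ok hq (by simp) hcD.symm hdvd
  · exact not_dvd_of_candOK cand6_ok hq (by simp) hcD.symm hdvd
  · by_cases h2 : Fintype.card F = 4
    · rw [h2, show pev cand7 ((4 : ℕ) : ℤ) = 4277504 by decide +kernel] at hcD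
      exact key (D := 4277504) (X := 83200) h2 (by omega) (by norm_num) lev1_weights lev1_cent (by decide +kernel)
    · exact not_dvd_of_candOK cand7_ok hq (by simpa using h2) hcD.symm hdvd
  · exact not_dvd_of_candOK cand8_ok hq (by simp) hcD.symm hdvd
  · by_cases h2 : Fintype.card F = 2
    · rw [h2, show pev cand9 ((2 : ℕ) : ℤ) = 2480 by decide +kernel] at hcD
      exact key (D := 2480) (X := 432) h2 (by omega) (by norm_num) lev1_weights lev1_cent (by decide +kernel)
    · exact not_dvd_of_candOK cand9_ok hq (by simpa using h2) hcD.symm hdvd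
  · exact not_dvd_of_candOK cand10_ok hq (by simp) hcD.symm hdvd

end Cfsg.Agent.MinDegree.Exc.E6
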