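import Cfsg.Agent.Lib.MinDegree.DegreeCert

/-!
Degrees below the bound for `E8` do not divide the order formula: the certificates.
-/

set_option autoImplicit false

namespace Cfsg.Agent.MinDegree.Exc.E8

open Cfsg.Agent.MinDegree.PolyCert

/-- The degrees of the Weyl group. -/
def degs : List ℕ := [2, 8, 12, 14, 18, 20, 24, 30]

/-- Candidate 0. -/
def cand0 : List ℤ :=
  [-1, 0, 0, 0, 0, -1, 0, 0, 0, -1, 0, 0, 0, 0, 0, 0, 0, 0, 0, 1, 0, 0, 0, 1, 0, 0, 0, 0, 0, 1]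

/-- The quotient for candidate 0. -/
def quo0 : List ℤ :=
  [-4670, -12027, 3766, 9443, -2772, -7714, 2286, 6063, -1736, -4849, 1316, 3941, -1103, -3051, 776,
      2517, -651, -1980, 504, 1562, -357, -1297, 323, 983, -214, -816, 177, 649, -148, -497, 91, 427,
      -92, -318, 60, 264, -45, -216, 44, 157, -23, -139, 25, 101, -16, -83, 10, 73, -13, -50, 5, 48, -7,
      -34, 5, 25, -1, -24, 4, 13, -1, -15, 1, 12, -2, -8, 0, 10, -1, -5, 1, 4, 0, -3, 0, 1, 0, -3, 0, 2,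
      0, -2, 0, 2, 0, 0, 0, 1, 0, 0, 0, 0, 0, -1, 0, 0, 0, -1, 0, 1]

/-- The remainder for candidate 0. -/
def rem0 : List ℤ :=
  [-4669, -12027, 3765, 9443, -2772, -12384, -9741, 9829, 7706, -12291, -18424, 9993, 14402, -7559,
      -11787, 6119, 9354, -4819, -7397, 8324, 18129, -6817, -14150, 9705, 23604, -7876, -18603, 5984,
      14959]

theorem cand0_ok : candOK degs 120 cand0
    [0, 0, 0, 0, 0, 0, 0, 0, 0, 0, 0, 0, 0, 0, 0, 0, 0, 0, 0, 1, 0, 0, 0, 1, 0, 0, 0, 0, 0, 1]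
    [1, 0, 0, 0, 0, 1, 0, 0, 0, 1, 0, 0, 0, 0, 0, 0, 0, 0, 0, 0, 0, 0, 0, 0, 0, 0, 0, 0, 0, 0] 1 14960 [] quo0 rem0 = true := by
  decide +kernel

/-- Candidate 1. -/
def cand1 : List ℤ :=
  [-2, 0, 0, 0, -1, -1, 0, 0, -1, 0, 0, 0, 0, 1, 0, 0, 0, 1, 0, 1, 0, 0, 0, 1, 0, 0, 0, 0, 0, 1]

/-- The quotient for candidate 1. -/
def quo1 : List ℤ :=
  [1185, 394, -197, 22, 189, -336, -963, -304, -150, -451, -718, -103, 144, -188, -147, 177, 350, 39,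
      112, 218, 232, 57, 38, 78, -2, -1, -72, -60, -89, -28, -63, -92, -37, 12, 0, -52, 30, 49, 25, -13,
      37, 56, 1, -6, 14, 24, -19, -12, -2, -2, -18, -13, -2, -9, -2, -5, 2, 0, 6, 3, 0, 4, 7, 5, -4, 2,
      3, 1, -5, -1, 3, -4, -3, 0, 1, -3, -1, 1, 1, 0, 0, 1, 0, 1, 0, 1, 0, 0, 0, 0, 0, 0, 0, -1, 0, 0, 0,
      -1, 0, 1]

/-- The remainder for candidate 1. -/
def rem1 : List ℤ :=
  [2371, 788, -395, 44, 1563, 907, -1729, -783, 1095, -655, -2931, -1451, 22, -2498, -2820, -574,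
      570, -1791, -888, 338, 1024, 473, 846, 970, 1143, 1492, 987, 1040, 842]

theorem cand1_ok : candOK degs 120 cand1
    [0, 0, 0, 0, 0, 0, 0, 0, 0, 0, 0, 0, 0, 1, 0, 0, 0, 1, 0, 1, 0, 0, 0, 1, 0, 0, 0, 0, 0, 1]
    [2, 0, 0, 0, 1, 1, 0, 0, 1, 0, 0, 0, 0, 0, 0, 0, 0, 0, 0, 0, 0, 0, 0, 0, 0, 0, 0, 0, 0, 0] 2 1686 [] quo1 rem1 = true := by
  decide +kernel

/-- Candidate 2. -/
def cand2 : List ℤ :=
  [-3, 0, 0, -1, -1, -1, 0, 0, 0, 0, 0, 1, 0, 1, 0, 0, 0, 1, 0, 1, 0, 0, 0, 1, 0, 0, 0, 0, 0, 1]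

/-- The quotient for candidate 2. -/
def quo2 : List ℤ :=
  [-1012, -713, -1600, -514, -218, 28, -223, 51, 643, 349, 454, 164, 601, 309, 241, 59, 116, 161,
      -98, -94, -152, 5, -182, -178, -145, -16, -94, -125, -17, 31, 38, -43, 74, 69, 72, 0, 44, 60, 12,
      3, -14, 27, -23, -13, -22, -7, -10, -16, -8, -13, 2, -7, -4, -3, 10, 0, 2, 6, 9, 5, -2, 6, 5, 4,
      -7, 0, 1, -2, -5, -3, 3, -4, -1, 0, 1, -1, 0, 1, 0, 1, 0, 0, 0, 1, 0, 1, 0, 0, 0, 0, 0, 0, 0, -1,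
      0, 0, 0, -1, 0, 1]

/-- The remainder for candidate 2. -/
def rem2 : List ℤ :=
  [-3035, -2139, -4801, -2554, -2379, -3241, -3496, -2179, 1224, 634, 1219, 1975, 3558, 4985, 2917,
      3214, 1909, 3087, 948, 2326, 708, 915, -603, -480, -517, -39, -888, -2116, -1152]

theorem cand2_ok : candOK degs 120 cand2
    [0, 0, 0, 0, 0, 0, 0, 0, 0, 0, 0, 1, 0, 1, 0, 0, 0, 1, 0, 1, 0, 0, 0, 1, 0, 0, 0, 0, 0, 1]
    [3, 0, 0, 1, 1, 1, 0, 0, 0, 0, 0, 0, 0, 0, 0, 0, 0, 0, 0, 0, 0, 0, 0, 0, 0, 0, 0, 0, 0, 0] 3 3458 [] quo2 rem2 = true := by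
  decide +kernel

/-- Candidate 3. -/
def cand3 : List ℤ :=
  [-4, 0, -1, -1, -1, 0, 0, 1, 0, 0, 0, 1, 0, 1, 0, 0, 0, 1, 0, 1, 0, 0, 0, 1, 0, 0, 0, 0, 0, 1]

/-- The quotient for candidate 3. -/
def quo3 : List ℤ :=
  [331, 89, -5, 239, 769, 813, 188, 400, 397, 523, 42, 41, 162, 198, 33, -161, 26, -12, -82, -276,
      -126, -90, -139, -204, -109, 43, -42, -13, 28, 135, 66, 30, 61, 83, 55, -25, 21, 6, 1, -38, -21, 3,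
      -11, -10, -18, 2, -8, -4, -16, -5, 0, -2, -6, 0, 12, 1, 6, 6, 12, 3, -1, 2, 5, 1, -8, -1, -1, -2,
      -6, -2, 3, -2, 0, 1, 1, -1, 0, 0, 0, 1, 0, 0, 0, 1, 0, 1, 0, 0, 0, 0, 0, 0, 0, -1, 0, 0, 0, -1, 0,
      1]

/-- The remainder for candidate 3. -/
def rem3 : List ℤ :=
  [1325, 356, 310, 1376, 3491, 3575, 1755, 3090, 3268, 3498, 915, 384, 707, 884, -351, -1404, -1077,
      -1308, -1774, -2324, -2020, -1966, -2494, -2826, -2322, -954, -1540, -1463, -1111]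

theorem cand3_ok : candOK degs 120 cand3
    [0, 0, 0, 0, 0, 0, 0, 1, 0, 0, 0, 1, 0, 1, 0, 0, 0, 1, 0, 1, 0, 0, 0, 1, 0, 0, 0, 0, 0, 1]
    [4, 0, 1, 1, 1, 0, 0, 0, 0, 0, 0, 0, 0, 0, 0, 0, 0, 0, 0, 0, 0, 0, 0, 0, 0, 0, 0, 0, 0, 0] 4 4446 [] quo3 rem3 = true := by
  decide +kernel

/-- Candidate 4. -/
def cand4 : List ℤ :=
  [-5, 0, -1, -1, 0, 0, 0, 1, 0, 0, 0, 1, 0, 1, 0, 0, 0, 1, 0, 1, 0, 0, 0, 1, 0, 0, 0, 0, 0, 1]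

/-- The quotient for candidate 4. -/
def quo4 : List ℤ :=
  [650, 663, 181, 511, 462, 846, 11, 306, 109, 326, 95, -89, 209, 134, 124, -185, -18, -71, -117,
      -289, -157, -87, -142, -148, -98, 101, -20, 48, 54, 132, 81, 13, 59, 50, 49, -42, 13, -17, -9, -25,
      -27, 14, -10, 3, -16, -4, -8, -5, -16, -6, 2, -2, -4, 0, 14, 1, 8, 6, 11, 3, -3, 2, 4, 1, -9, -1,
      -2, -2, -5, -2, 4, -2, 1, 1, 0, -1, 0, 0, 0, 1, 0, 0, 0, 1, 0, 1, 0, 0, 0, 0, 0, 0, 0, -1, 0, 0, 0,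
      -1, 0, 1]

/-- The remainder for candidate 4. -/
def rem4 : List ℤ :=
  [3251, 3315, 1554, 3868, 3154, 4922, 1028, 2188, 738, 1766, 380, -1122, -44, -166, -740, -1334,
      -1514, -1634, -2515, -2694, -2912, -1812, -2564, -2393, -2510, -302, -1146, -372, -390]

theorem cand4_ok : candOK degs 120 cand4
    [0, 0, 0, 0, 0, 0, 0, 1, 0, 0, 0, 1, 0, 1, 0, 0, 0, 1, 0, 1, 0, 0, 0, 1, 0, 0, 0, 0, 0, 1]
    [5, 0, 1, 1, 0, 0, 0, 0, 0, 0, 0, 0, 0, 0, 0, 0, 0, 0, 0, 0, 0, 0, 0, 0, 0, 0, 0, 0, 0, 0] 5 1951 [] quo4 rem4 = true := by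
  decide +kernel

/-- Candidate 5. -/
def cand5 : List ℤ :=
  [-6, 0, -1, 0, 0, 0, 0, 1, 0, 0, 0, 1, 0, 1, 0, 0, 0, 1, 0, 1, 0, 0, 0, 1, 0, 0, 0, 0, 0, 1]

/-- The quotient for candidate 5. -/
def quo5 : List ℤ :=
  [1415, 877, 444, -177, 313, 1181, -236, 108, -347, 711, 34, -74, 110, 264, 250, -374, -105, -133,
      -6, -395, -171, -77, -35, -171, -115, 180, 35, 79, -9, 183, 81, -3, 8, 54, 71, -75, -6, -33, 21,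
      -35, -26, 22, 1, 10, -29, -4, -11, -1, -19, -5, 3, 1, -5, -1, 17, 2, 9, 3, 13, 2, -4, 0, 5, 2, -11,
      -2, -2, 0, -6, -2, 5, -1, 1, 0, 0, -1, 0, 0, 0, 1, 0, 0, 0, 1, 0, 1, 0, 0, 0, 0, 0, 0, 0, -1, 0, 0,
      0, -1, 0, 1]

/-- The remainder for candidate 5. -/
def rem5 : List ℤ :=
  [8491, 5262, 4078, -185, 2322, 6909, -1103, 414, -3196, 3930, 35, -1461, -1365, -113, 802, -2390,
      -2094, -2698, -2234, -3889, -2814, -1551, -1647, -2634, -2950, 694, -39, 680, -1254]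

theorem cand5_ok : candOK degs 120 cand5
    [0, 0, 0, 0, 0, 0, 0, 1, 0, 0, 0, 1, 0, 1, 0, 0, 0, 1, 0, 1, 0, 0, 0, 1, 0, 0, 0, 0, 0, 1]
    [6, 0, 1, 0, 0, 0, 0, 0, 0, 0, 0, 0, 0, 0, 0, 0, 0, 0, 0, 0, 0, 0, 0, 0, 0, 0, 0, 0, 0, 0] 6 7524 [] quo5 rem5 = true := by
  decide +kernel

/-- Candidate 6. -/
def cand6 : List ℤ :=
  [-7, 0, 0, 0, 0, 0, 0, 1, 0, 0, 0, 1, 0, 1, 0, 0, 0, 1, 0, 1, 0, 0, 0, 1, 0, 0, 0, 0, 0, 1]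

/-- The quotient for candidate 6. -/
def quo6 : List ℤ :=
  [2450, 1859, -756, -824, 784, 1840, -924, -461, -35, 1079, 35, -458, 287, 492, 196, -666, -175, 38,
      21, -536, -203, 80, -7, -249, -133, 329, 63, 0, -21, 241, 98, -89, -7, 99, 84, -136, -21, 1, 28,
      -45, -35, 47, 7, -1, -35, -5, -7, -1, -21, -5, 7, 1, -7, -1, 21, 2, 7, 3, 14, 2, -7, 0, 7, 2, -14,
      -2, 0, 0, -7, -2, 7, -1, 0, 0, 0, -1, 0, 0, 0, 1, 0, 0, 0, 1, 0, 1, 0, 0, 0, 0, 0, 0, 0, -1, 0, 0,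
      0, -1, 0, 1]

/-- The remainder for candidate 6. -/
def rem6 : List ℤ :=
  [17151, 13013, -5293, -5768, 5488, 12880, -6468, -5677, -2105, 8309, 1070, -6440, -1691, 2674, 798,
      -4655, -3319, -2079, -2634, -4774, -3565, 336, -1019, -4200, -4243, 3514, 1360, -602, -2061]

theorem cand6_ok : candOK degs 120 cand6
    [0, 0, 0, 0, 0, 0, 0, 1, 0, 0, 0, 1, 0, 1, 0, 0, 0, 1, 0, 1, 0, 0, 0, 1, 0, 0, 0, 0, 0, 1]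
    [7, 0, 0, 0, 0, 0, 0, 0, 0, 0, 0, 0, 0, 0, 0, 0, 0, 0, 0, 0, 0, 0, 0, 0, 0, 0, 0, 0, 0, 0] 7 14428 [] quo6 rem6 = true := by
  decide +kernel

/-- Candidate 7. -/
def cand7 : List ℤ :=
  [-8, 1, 0, 0, 0, 0, 0, 1, 0, 0, 0, 1, 0, 1, 0, 0, 0, 1, 0, 1, 0, 0, 0, 1, 0, 0, 0, 0, 0, 1]

/-- The quotient for candidate 7. -/
def quo7 : List ℤ :=
  [4504, 767, -1632, -512, 1456, 1855, -2072, 128, 24, 1408, -432, -448, 584, 449, 88, -895, 24, 64,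
      8, -703, -56, 128, -40, -321, -72, 448, -40, -2, -24, 319, 32, -128, 24, 128, 64, -191, 24, 1, 32,
      -64, -24, 66, -8, -1, -40, 0, -8, 0, -24, -2, 8, 0, -8, 0, 24, -1, 8, 2, 16, 0, -8, 1, 8, 1, -16,
      0, 0, 0, -8, -1, 8, -2, 0, 0, 0, -1, 0, 0, 0, 1, 0, 0, 0, 1, 0, 1, 0, 0, 0, 0, 0, 0, 0, -1, 0, 0,
      0, -1, 0, 1]

/-- The remainder for candidate 7. -/
def rem7 : List ℤ :=
  [36033, 1632, -13824, -2464, 12160, 13384, -18431, -1408, -704, 12872, -4351, -9112, 2497, 2208,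
      -128, -7096, -1663, -2968, -2303, -7040, -1984, 1576, -1855, -6592, -3072, 6656, -640, -1080,
      -2303]

theorem cand7_ok : candOK degs 120 cand7
    [0, 1, 0, 0, 0, 0, 0, 1, 0, 0, 0, 1, 0, 1, 0, 0, 0, 1, 0, 1, 0, 0, 0, 1, 0, 0, 0, 0, 0, 1]
    [8, 0, 0, 0, 0, 0, 0, 0, 0, 0, 0, 0, 0, 0, 0, 0, 0, 0, 0, 0, 0, 0, 0, 0, 0, 0, 0, 0, 0, 0] 8 18425 [] quo7 rem7 = true := by
  decide +kernel

/-- Candidate 8. -/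
def cand8 : List ℤ :=
  [-7, 1, 0, 0, 0, 0, 0, 1, 0, 0, 0, 1, 0, 1, 0, 0, 0, 1, 0, 1, 0, 0, 0, 1, 0, 0, 0, 0, 0, 1]

/-- The quotient for candidate 8. -/
def quo8 : List ℤ :=
  [2996, 587, -1113, -392, 959, 1420, -1393, 98, 21, 1078, -273, -343, 406, 344, 77, -685, 21, 49, 7,
      -538, -49, 98, -35, -246, -63, 343, -35, -2, -21, 244, 28, -98, 21, 98, 56, -146, 21, 1, 28, -49,
      -21, 51, -7, -1, -35, 0, -7, 0, -21, -2, 7, 0, -7, 0, 21, -1, 7, 2, 14, 0, -7, 1, 7, 1, -14, 0, 0,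
      0, -7, -1, 7, -2, 0, 0, 0, -1, 0, 0, 0, 1, 0, 0, 0, 1, 0, 1, 0, 0, 0, 0, 0, 0, 0, -1, 0, 0, 0, -1,
      0, 1]

/-- The remainder for candidate 8. -/
def rem8 : List ℤ :=
  [20973, 1113, -8379, -1631, 7105, 8981, -11171, -917, -539, 8638, -2596, -6083, 1177, 1512, -98,
      -4739, -1273, -1967, -1763, -4690, -1519, 1064, -1420, -4403, -2352, 4459, -490, -735, -1763]

theorem cand8_ok : candOK degs 120 cand8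
    [0, 1, 0, 0, 0, 0, 0, 1, 0, 0, 0, 1, 0, 1, 0, 0, 0, 1, 0, 1, 0, 0, 0, 1, 0, 0, 0, 0, 0, 1]
    [7, 0, 0, 0, 0, 0, 0, 0, 0, 0, 0, 0, 0, 0, 0, 0, 0, 0, 0, 0, 0, 0, 0, 0, 0, 0, 0, 0, 0, 0] 7 12342 [] quo8 rem8 = true := by
  decide +kernel

/-- Candidate 9. -/
def cand9 : List ℤ :=
  [-6, 1, 0, 0, 0, 0, 0, 1, 0, 0, 0, 1, 0, 1, 0, 0, 0, 1, 0, 1, 0, 0, 0, 1, 0, 0, 0, 0, 0, 1]

/-- The quotient for candidate 9. -/
def quo9 : List ℤ :=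
  [1866, 431, -720, -288, 588, 1043, -882, 72, 18, 792, -156, -252, 270, 253, 66, -503, 18, 36, 6,
      -395, -42, 72, -30, -181, -54, 252, -30, -2, -18, 179, 24, -72, 18, 72, 48, -107, 18, 1, 24, -36,
      -18, 38, -6, -1, -30, 0, -6, 0, -18, -2, 6, 0, -6, 0, 18, -1, 6, 2, 12, 0, -6, 1, 6, 1, -12, 0, 0,
      0, -6, -1, 6, -2, 0, 0, 0, -1, 0, 0, 0, 1, 0, 0, 0, 1, 0, 1, 0, 0, 0, 0, 0, 0, 0, -1, 0, 0, 0, -1,
      0, 1]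

/-- The remainder for candidate 9. -/
def rem9 : List ℤ :=
  [11197, 720, -4752, -1008, 3816, 5670, -6335, -552, -396, 5454, -1439, -3810, 397, 984, -72, -2970,
      -935, -1218, -1295, -2928, -1116, 678, -1043, -2760, -1728, 2808, -360, -474, -1295]

theorem cand9_ok : candOK degs 120 cand9
    [0, 1, 0, 0, 0, 0, 0, 1, 0, 0, 0, 1, 0, 1, 0, 0, 0, 1, 0, 1, 0, 0, 0, 1, 0, 0, 0, 0, 0, 1]
    [6, 0, 0, 0, 0, 0, 0, 0, 0, 0, 0, 0, 0, 0, 0, 0, 0, 0, 0, 0, 0, 0, 0, 0, 0, 0, 0, 0, 0, 0] 6 7771 [] quo9 rem9 = true := by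
  decide +kernel

/-- Candidate 10. -/
def cand10 : List ℤ :=
  [-5, 1, 0, 0, 0, 0, 0, 1, 0, 0, 0, 1, 0, 1, 0, 0, 0, 1, 0, 1, 0, 0, 0, 1, 0, 0, 0, 0, 0, 1]

/-- The quotient for candidate 10. -/
def quo10 : List ℤ :=
  [1060, 299, -435, -200, 325, 724, -515, 50, 15, 550, -75, -175, 170, 176, 55, -349, 15, 25, 5,
      -274, -35, 50, -25, -126, -45, 175, -25, -2, -15, 124, 20, -50, 15, 50, 40, -74, 15, 1, 20, -25,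
      -15, 27, -5, -1, -25, 0, -5, 0, -15, -2, 5, 0, -5, 0, 15, -1, 5, 2, 10, 0, -5, 1, 5, 1, -10, 0, 0,
      0, -5, -1, 5, -2, 0, 0, 0, -1, 0, 0, 0, 1, 0, 0, 0, 1, 0, 1, 0, 0, 0, 0, 0, 0, 0, -1, 0, 0, 0, -1,
      0, 1]

/-- The remainder for candidate 10. -/
def rem10 : List ℤ :=
  [5301, 435, -2475, -565, 1825, 3295, -3299, -295, -275, 3170, -724, -2185, 1, 600, -50, -1705,
      -649, -685, -899, -1670, -775, 400, -724, -1585, -1200, 1625, -250, -285, -899]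

theorem cand10_ok : candOK degs 120 cand10
    [0, 1, 0, 0, 0, 0, 0, 1, 0, 0, 0, 1, 0, 1, 0, 0, 0, 1, 0, 1, 0, 0, 0, 1, 0, 0, 0, 0, 0, 1]
    [5, 0, 0, 0, 0, 0, 0, 0, 0, 0, 0, 0, 0, 0, 0, 0, 0, 0, 0, 0, 0, 0, 0, 0, 0, 0, 0, 0, 0, 0] 5 4496 [] quo10 rem10 = true := by
  decide +kernel

/-- Candidate 11. -/
def cand11 : List ℤ :=
  [-4, 1, 0, 0, 0, 0, 0, 1, 0, 0, 0, 1, 0, 1, 0, 0, 0, 1, 0, 1, 0, 0, 0, 1, 0, 0, 0, 0, 0, 1]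

/-- The quotient for candidate 11. -/
def quo11 : List ℤ :=
  [524, 191, -240, -128, 152, 463, -268, 32, 12, 352, -24, -112, 100, 113, 44, -223, 12, 16, 4, -175,
      -28, 32, -20, -81, -36, 112, -20, -2, -12, 79, 16, -32, 12, 32, 32, -47, 12, 1, 16, -16, -12, 18,
      -4, -1, -20, 0, -4, 0, -12, -2, 4, 0, -4, 0, 12, -1, 4, 2, 8, 0, -4, 1, 4, 1, -8, 0, 0, 0, -4, -1,
      4, -2, 0, 0, 0, -1, 0, 0, 0, 1, 0, 0, 0, 1, 0, 1, 0, 0, 0, 0, 0, 0, 0, -1, 0, 0, 0, -1, 0, 1]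

/-- The remainder for candidate 11. -/
def rem11 : List ℤ :=
  [2097, 240, -1152, -272, 736, 1700, -1535, -128, -176, 1636, -319, -1100, -143, 336, -32, -860,
      -415, -332, -575, -832, -496, 212, -463, -800, -768, 832, -160, -156, -575]

theorem cand11_ok : candOK degs 120 cand11
    [0, 1, 0, 0, 0, 0, 0, 1, 0, 0, 0, 1, 0, 1, 0, 0, 0, 1, 0, 1, 0, 0, 0, 1, 0, 0, 0, 0, 0, 1]
    [4, 0, 0, 0, 0, 0, 0, 0, 0, 0, 0, 0, 0, 0, 0, 0, 0, 0, 0, 0, 0, 0, 0, 0, 0, 0, 0, 0, 0, 0] 4 2301 [] quo11 rem11 = true := by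
  decide +kernel

/-- Candidate 12. -/
def cand12 : List ℤ :=
  [-3, 1, 0, 0, 0, 0, 0, 1, 0, 0, 0, 1, 0, 1, 0, 0, 0, 1, 0, 1, 0, 0, 0, 1, 0, 0, 0, 0, 0, 1]

/-- The quotient for candidate 12. -/
def quo12 : List ℤ :=
  [204, 107, -117, -72, 51, 260, -117, 18, 9, 198, 3, -63, 54, 64, 33, -125, 9, 9, 3, -98, -21, 18,
      -15, -46, -27, 63, -15, -2, -9, 44, 12, -18, 9, 18, 24, -26, 9, 1, 12, -9, -9, 11, -3, -1, -15, 0,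
      -3, 0, -9, -2, 3, 0, -3, 0, 9, -1, 3, 2, 6, 0, -3, 1, 3, 1, -6, 0, 0, 0, -3, -1, 3, -2, 0, 0, 0,
      -1, 0, 0, 0, 1, 0, 0, 0, 1, 0, 1, 0, 0, 0, 0, 0, 0, 0, -1, 0, 0, 0, -1, 0, 1]

/-- The remainder for candidate 12. -/
def rem12 : List ℤ :=
  [613, 117, -459, -99, 225, 729, -611, -33, -99, 702, -116, -447, -143, 168, -18, -351, -233, -123,
      -323, -330, -279, 96, -260, -327, -432, 351, -90, -75, -323]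

theorem cand12_ok : candOK degs 120 cand12
    [0, 1, 0, 0, 0, 0, 0, 1, 0, 0, 0, 1, 0, 1, 0, 0, 0, 1, 0, 1, 0, 0, 0, 1, 0, 0, 0, 0, 0, 1]
    [3, 0, 0, 0, 0, 0, 0, 0, 0, 0, 0, 0, 0, 0, 0, 0, 0, 0, 0, 0, 0, 0, 0, 0, 0, 0, 0, 0, 0, 0] 3 970 [] quo12 rem12 = true := by
  decide +kernel

/-- Candidate 13. -/
def cand13 : List ℤ :=
  [-2, 1, 0, 0, 0, 0, 0, 1, 0, 0, 0, 1, 0, 1, 0, 0, 0, 1, 0, 1, 0, 0, 0, 1, 0, 0, 0, 0, 0, 1]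

/-- The quotient for candidate 13. -/
def quo13 : List ℤ :=
  [46, 47, -48, -32, 4, 115, -38, 8, 6, 88, 12, -28, 26, 29, 22, -55, 6, 4, 2, -43, -14, 8, -10, -21,
      -18, 28, -10, -2, -6, 19, 8, -8, 6, 8, 16, -11, 6, 1, 8, -4, -6, 6, -2, -1, -10, 0, -2, 0, -6, -2,
      2, 0, -2, 0, 6, -1, 2, 2, 4, 0, -2, 1, 2, 1, -4, 0, 0, 0, -2, -1, 2, -2, 0, 0, 0, -1, 0, 0, 0, 1,
      0, 0, 0, 1, 0, 1, 0, 0, 0, 0, 0, 0, 0, -1, 0, 0, 0, -1, 0, 1]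

/-- The remainder for candidate 13. -/
def rem13 : List ℤ :=
  [93, 48, -144, -16, 40, 226, -191, 8, -44, 218, -31, -118, -83, 72, -8, -94, -103, -22, -143, -80,
      -124, 34, -115, -88, -192, 104, -40, -30, -143]

theorem cand13_ok : candOK degs 120 cand13
    [0, 1, 0, 0, 0, 0, 0, 1, 0, 0, 0, 1, 0, 1, 0, 0, 0, 1, 0, 1, 0, 0, 0, 1, 0, 0, 0, 0, 0, 1]
    [2, 0, 0, 0, 0, 0, 0, 0, 0, 0, 0, 0, 0, 0, 0, 0, 0, 0, 0, 0, 0, 0, 0, 0, 0, 0, 0, 0, 0, 0] 2 287 [] quo13 rem13 = true := by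
  decide +kernel

/-- Candidate 14. -/
def cand14 : List ℤ :=
  [-1, 1, 0, 0, 0, 0, 0, 1, 0, 0, 0, 1, 0, 1, 0, 0, 0, 1, 0, 1, 0, 0, 0, 1, 0, 0, 0, 0, 0, 1]

/-- The quotient for candidate 14. -/
def quo14 : List ℤ :=
  [-4, 11, -15, -8, -7, 28, -7, 2, 3, 22, 9, -7, 10, 8, 11, -13, 3, 1, 1, -10, -7, 2, -5, -6, -9, 7,
      -5, -2, -3, 4, 4, -2, 3, 2, 8, -2, 3, 1, 4, -1, -3, 3, -1, -1, -5, 0, -1, 0, -3, -2, 1, 0, -1, 0,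
      3, -1, 1, 2, 2, 0, -1, 1, 1, 1, -2, 0, 0, 0, -1, -1, 1, -2, 0, 0, 0, -1, 0, 0, 0, 1, 0, 0, 0, 1, 0,
      1, 0, 0, 0, 0, 0, 0, 0, -1, 0, 0, 0, -1, 0, 1]

/-- The remainder for candidate 14. -/
def rem14 : List ℤ :=
  [-3, 15, -27, 7, 1, 35, -35, 13, -11, 34, -4, -5, -23, 24, -2, -5, -25, 7, -35, 2, -31, 8, -28, -5,
      -48, 13, -10, -9, -35]

theorem cand14_ok : candOK degs 120 cand14
    [0, 1, 0, 0, 0, 0, 0, 1, 0, 0, 0, 1, 0, 1, 0, 0, 0, 1, 0, 1, 0, 0, 0, 1, 0, 0, 0, 0, 0, 1]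
    [1, 0, 0, 0, 0, 0, 0, 0, 0, 0, 0, 0, 0, 0, 0, 0, 0, 0, 0, 0, 0, 0, 0, 0, 0, 0, 0, 0, 0, 0] 1 36 [] quo14 rem14 = true := by
  decide +kernel

/-- The candidates. -/
def cands : List (List ℤ) :=
  [cand0, cand1, cand2, cand3, cand4, cand5, cand6, cand7, cand8, cand9, cand10, cand11, cand12,
      cand13, cand14]

end Cfsg.Agent.MinDegree.Exc.E8
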