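import Cfsg.Agent.Lib.MinDegree.ExcE8Data
import Cfsg.Agent.Lib.MinDegree.ExcE8Cand
import Cfsg.Agent.Lib.MinDegree.ExcNum
import Cfsg.Agent.Lib.CharInt.Central
import Cfsg.Agent.Lib.Chev.Order
import Cfsg.Agent.Lib.Chev.Poincare
import Cfsg.Agent.Lib.Chev.WeylCheckE8
import Cfsg.Agent.Lib.Chev.FieldAutFixed
import Cfsg.Agent.S1054

/-!
The minimal degree of `E8`.
-/

set_option autoImplicit false
set_option maxRecDepth 100000

open Module

namespace Cfsg.Agent.MinDegree.Exc.E8

open Cfsg.Lie Cfsg.Agent.Chev Cfsg.Agent.Chev.BNSetup Cfsg.Agent.MinDegree.PolyCert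

variable {F : Type*} [Field F] [Fintype F]

theorem simple_group : IsSimpleGroup ↥(chevE8.group F) :=
  (Cfsg.Agent.S1054.result chevE8 (by simp)).1

theorem xG_ne_one {r : ℕ} (hr : r < chevE8.nroots) :
    xG Cfsg.Agent.Chev.E8.good r (1 : F) ≠ 1 := fun h => by
  refine xe_ne_one Cfsg.Agent.Chev.E8.good facts_chevE8 hr (one_ne_zero (α := F)) ?_
  have h1 := congrArg Subtype.val h
  rwa [coe_xG _ hr] at h1

theorem card_dvd : Nat.card ↥(chevE8.group F) ∣ ordN degs 120 (Fintype.card F) := by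
  have h := card_group (F := F) Cfsg.Agent.Chev.E8.good facts_chevE8 kerCertE8 kerCertE8_valid
    Cfsg.Agent.Chev.WeylTab.levelsE8 rfl Cfsg.Agent.Chev.WeylTab.levelsOK_E8
  simp only [show chevE8.rank = 8 from rfl, show chevE8.nroots / 2 = 120 from rfl,
    mul_assoc (Fintype.card F ^ 120), Cfsg.Agent.Chev.WeylTab.poincare_E8 (Fintype.card F) Fintype.card_pos] at h
  refine Dvd.intro_left _ (h.trans ?_)
  simp only [ordN, degs, List.map_cons, List.map_nil, List.prod_cons, List.prod_nil]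
  ring

/-- The bound of level 6. -/
def tT6 : List ℤ := nextT lev6 [0, 1]
/-- The bound of level 5. -/
def tT5 : List ℤ := nextT lev5 tT6
/-- The bound of level 4. -/
def tT4 : List ℤ := nextT lev4 tT5
/-- The bound of level 3. -/
def tT3 : List ℤ := nextT lev3 tT4
/-- The bound of level 2. -/
def tT2 : List ℤ := nextT lev2 tT3
/-- The bound of level 1. -/
def tT1 : List ℤ := nextT lev1 tT2

/-- The exceptional degrees of level 1. -/
def tC1 : List (List ℤ) :=
  nextC lev1 tT2 (nextC lev2 tT3 (nextC lev3 tT4 (nextC lev4 tT5 (nextC lev5 tT6 (nextC lev6 [0, 1] [[-1, 1]])))))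

/-- The bound as a polynomial. -/
def target : List ℤ :=
  pmul (pX 1) (pmul (padd (pX 12) [1]) (pmul (padd (pX 10) [1]) (padd (pX 6) [1])))

theorem target_ok : isZero (psub (topT lev0 pairs.length tT1) target) = true := by decide +kernel

theorem cover_ok : ((topC lev0 pairs.length tT1 tC1).all fun p => cands.any fun c => isZero (psub p c)) = true := by
  decide +kernel

theorem dichotomy {W : Type*} [AddCommGroup W] [Module ℂ W] [FiniteDimensional ℂ W]
    (ρ : Representation ℂ ↥(chevE8.group F) W) [ρ.IsIrreducible] (hne : ∃ g, ρ g ≠ 1) :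
    pev target (Fintype.card F) ≤ (finrank ℂ W : ℤ) ∨
      ∃ c ∈ cands, pev c (Fintype.card F) = (finrank ℂ W : ℤ) := by
  have hG := Cfsg.Agent.Chev.E8.good
  have b7 : PBd hG ρ lev7.J pos7 [0, 1] [[-1, 1]] [(0, 0)] :=
    base_num hG ρ (show (0 : ℕ) < chevE8.rank by decide) last_ok (by decide +kernel)
  have b6 := level_num hG ρ lev6_ok (low := [(2, 0)]) (dnb := 0) (by decide +kernel) b7
  have b5 := level_num hG ρ lev5_ok (low := [(3, 0)]) (dnb := 0) (by decide +kernel) b6
  have b4 := level_num hG ρ lev4_ok (low := [(3, 1)]) (dnb := 0) (by decide +kernel) b5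
  have b3 := level_num hG ρ lev3_ok (low := [(4, 1)]) (dnb := 1) (by decide +kernel) b4
  have b2 := level_num hG ρ lev2_ok (low := [(5, 1)]) (dnb := 1) (by decide +kernel) b3
  have b1 := level_num hG ρ lev1_ok (low := [(6, 1)]) (dnb := 1) (by decide +kernel) b2
  rcases top_num hG ρ simple_group hne top_ok (xG_ne_one (by decide)) (dnb := 1)
    (low' := [(6, 1)]) (T' := tT1) (C' := tC1) (by decide +kernel) b1 with h | ⟨⟨p, hp, hpD⟩, -⟩
  · refine Or.inl (le_trans (le_of_eq ?_) h)
    have := pev_of_isZero target_ok (Fintype.card F : ℤ)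
    rw [pev_psub, sub_eq_zero] at this
    exact this.symm
  · obtain ⟨c, hc, hpc⟩ := List.any_eq_true.1 (List.all_eq_true.1 cover_ok p hp)
    have := pev_of_isZero hpc (Fintype.card F : ℤ)
    rw [pev_psub, sub_eq_zero] at this
    exact Or.inr ⟨c, hc, this.symm.trans hpD⟩

/-- Every non-trivial irreducible representation has degree at least `q(q^12+1)(q^10+1)(q^6+1)`. -/
theorem degree_bound {W : Type*} [AddCommGroup W] [Module ℂ W] [FiniteDimensional ℂ W]
    (ρ : Representation ℂ ↥(chevE8.group F) W) [ρ.IsIrreducible] (hne : ∃ g, ρ g ≠ 1) :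
    Fintype.card F * (Fintype.card F ^ 12 + 1) * (Fintype.card F ^ 10 + 1) * (Fintype.card F ^ 6 + 1) ≤
      finrank ℂ W := by
  rcases dichotomy ρ hne with h | ⟨c, hc, hcD⟩
  · simp only [target, pev_pmul, pev_padd, pev_pX, pev, mul_zero, add_zero] at h
    zify
    linarith [h]
  exfalso
  have hq := FiniteField.isPrimePow_card F
  have hdvd : finrank ℂ W ∣ ordN degs 120 (Fintype.card F) :=
    (CharInt.finrank_dvd_natCard (ρ := ρ)).trans card_dvd
  simp only [cands, List.mem_cons, List.not_mem_nil, or_false] at hc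
  have hnil : Fintype.card F ∉ ([] : List ℕ) := List.not_mem_nil
  rcases hc with rfl | rfl | rfl | rfl | rfl | rfl | rfl | rfl | rfl | rfl | rfl | rfl | rfl | rfl | rfl
  exacts [not_dvd_of_candOK cand0_ok hq hnil hcD.symm hdvd, not_dvd_of_candOK cand1_ok hq hnil hcD.symm hdvd,
    not_dvd_of_candOK cand2_ok hq hnil hcD.symm hdvd, not_dvd_of_candOK cand3_ok hq hnil hcD.symm hdvd,
    not_dvd_of_candOK cand4_ok hq hnil hcD.symm hdvd, not_dvd_of_candOK cand5_ok hq hnil hcD.symm hdvd,
    not_dvd_of_candOK cand6_ok hq hnil hcD.symm hdvd, not_dvd_of_candOK cand7_ok hq hnil hcD.symm hdvd,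
    not_dvd_of_candOK cand8_ok hq hnil hcD.symm hdvd, not_dvd_of_candOK cand9_ok hq hnil hcD.symm hdvd,
    not_dvd_of_candOK cand10_ok hq hnil hcD.symm hdvd, not_dvd_of_candOK cand11_ok hq hnil hcD.symm hdvd,
    not_dvd_of_candOK cand12_ok hq hnil hcD.symm hdvd, not_dvd_of_candOK cand13_ok hq hnil hcD.symm hdvd,
    not_dvd_of_candOK cand14_ok hq hnil hcD.symm hdvd]

end Cfsg.Agent.MinDegree.Exc.E8
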