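import Cfsg.Agent.Lib.Chev.BN
import Cfsg.Agent.Lib.Chev.TwistPerfect

/-!
Root elements of a Chevalley group as elements of the group itself, with the relations used for the
bounds on degrees of representations.
-/

set_option autoImplicit false

namespace Cfsg.Agent.MinDegree.Exc

open Cfsg.Lie Cfsg.Agent.Chev Cfsg.Agent.Chev.BNSetup

/-- The single term of the commutator formula, if there is one. -/
def step (D : ChevalleyDatum) (r s : ℕ) : Option (ℕ × ℤ) :=
  match D.chainEntry r s with
  | [] => none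
  | e :: _ => some e

/-- The commutator formula for the pair has at most one term, which is linear in both arguments. -/
def stepOK (D : ChevalleyDatum) (r s : ℕ) : Bool :=
  decide (r < D.nroots) && decide (s < D.nroots) && decide (s ≠ r) && decide (s ≠ D.neg r) &&
    decide ((D.chainEntry s r).length ≤ 1) &&
    match D.chainEntry r s with
    | [] => true
    | [c] => decide (c.1 < D.nroots) && (decide (c.2 = 1) || decide (c.2 = -1))
    | _ => false

variable {F : Type*} [Field F] {D : ChevalleyDatum} (hG : Good D)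

theorem chain_short {r s i : ℕ} (h : (D.chainEntry r s).length ≤ 1) (hi : 2 ≤ i) :
    D.chainRoot r s i = none := by
  rw [ChevalleyDatum.chainRoot, List.getElem?_eq_none (by omega)]; rfl

theorem step_some {r s p : ℕ} {σ : ℤ} (h : stepOK D r s = true) (hs : step D r s = some (p, σ)) :
    D.commTerms r s = [(p, σ, 1, 1)] ∧ p < D.nroots ∧ (σ = 1 ∨ σ = -1) := by
  simp only [stepOK, step, Bool.and_eq_true, decide_eq_true_eq] at h hs
  rcases hc : D.chainEntry r s with _ | ⟨⟨p', σ'⟩, _ | ⟨c, l⟩⟩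
  · simp [hc] at hs
  · simp only [hc, Option.some.injEq, Prod.mk.injEq, Bool.and_eq_true, Bool.or_eq_true,
      decide_eq_true_eq] at h hs
    obtain ⟨rfl, rfl⟩ := hs
    refine ⟨?_, h.2.1, h.2.2⟩
    have hrs : (D.chainEntry r s).length ≤ 1 := by simp [hc]
    simp [ChevalleyDatum.commTerms, chain_short hrs le_rfl, chain_short h.1.2 le_rfl,
      chain_short hrs (show 2 ≤ 3 by omega), chain_short h.1.2 (show 2 ≤ 3 by omega)]
    simp [ChevalleyDatum.chainRoot, ChevalleyDatum.chainM, hc]
  · simp [hc] at h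

theorem step_none {r s : ℕ} (h : stepOK D r s = true) (hs : step D r s = none) :
    D.commTerms r s = [] := by
  simp only [stepOK, step, Bool.and_eq_true, decide_eq_true_eq] at h hs
  rcases hc : D.chainEntry r s with _ | ⟨c, l⟩
  · have hrs : (D.chainEntry r s).length ≤ 1 := by simp [hc]
    simp [ChevalleyDatum.commTerms, chain_short hrs le_rfl, chain_short h.1.2 le_rfl,
      chain_short hrs (show 2 ≤ 3 by omega), chain_short h.1.2 (show 2 ≤ 3 by omega)]
    simp [ChevalleyDatum.chainRoot, hc]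
  · simp [hc] at hs

theorem stepOK_bounds {r s : ℕ} (h : stepOK D r s = true) :
    r < D.nroots ∧ s < D.nroots ∧ s ≠ r ∧ s ≠ D.neg r := by
  simp only [stepOK, Bool.and_eq_true, decide_eq_true_eq] at h
  exact ⟨h.1.1.1.1.1, h.1.1.1.1.2, h.1.1.1.2, h.1.1.2⟩

/-- The root element in the group. -/
noncomputable def xG (r : ℕ) (t : F) : ↥(D.group F) :=
  if h : r < D.nroots then ⟨xe hG r t, xe_mem_group hG h t⟩ else 1

theorem coe_xG {r : ℕ} (hr : r < D.nroots) (t : F) : (xG hG r t : GL D.Idx F) = xe hG r t := by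
  rw [xG, dif_pos hr]

theorem xG_zero (r : ℕ) : xG hG r (0 : F) = 1 := by
  rw [xG]
  split_ifs with hr
  · exact Subtype.ext (xe_zero hG hr)
  · rfl

theorem xG_add (r : ℕ) (t u : F) : xG hG r t * xG hG r u = xG hG r (t + u) := by
  by_cases hr : r < D.nroots
  · exact Subtype.ext (by rw [Subgroup.coe_mul, coe_xG hG hr, coe_xG hG hr, coe_xG hG hr, xe_add hG hr])
  · simp [xG, hr]

theorem xG_inv (r : ℕ) (t : F) : (xG hG r t)⁻¹ = xG hG r (-t) :=
  inv_eq_of_mul_eq_one_right (by rw [xG_add, add_neg_cancel, xG_zero])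

/-- The element of the commutator formula. -/
noncomputable def stepEl (r s : ℕ) (t u : F) : ↥(D.group F) :=
  match step D r s with
  | none => 1
  | some (p, σ) => xG hG p ((σ : F) * (-t) * u)

theorem xG_swap {r s : ℕ} (h : stepOK D r s = true) (t u : F) :
    xG hG s u * xG hG r t = xG hG r t * (xG hG s u * stepEl hG r s t u) := by
  obtain ⟨hr, hs, h1, h2⟩ := stepOK_bounds h
  have e := hG.xg_comm (F := F) hr hs h1 h2 t u
  refine Subtype.ext ?_
  simp only [Subgroup.coe_mul, coe_xG hG hr, coe_xG hG hs, stepEl]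
  rcases hst : step D r s with _ | ⟨p, σ⟩
  · rw [show D.commWord F r s t u = [] by rw [ChevalleyDatum.commWord, step_none h hst, List.map_nil],
      show wordG D F [] = 1 by simp [wordG], mul_one, xg_eq_xe hG, xg_eq_xe hG] at e
    simpa using e
  · obtain ⟨hc, hp, -⟩ := step_some h hst
    rw [show D.commWord F r s t u = [(p, (σ : F) * (-t) * u)] by rw [ChevalleyDatum.commWord, hc]; simp,
      show wordG D F [(p, (σ : F) * (-t) * u)] = xg D F p ((σ : F) * (-t) * u) by simp [wordG]] at e
    simp only [xg_eq_xe hG] at e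
    rw [coe_xG hG hp, ← mul_assoc]
    exact e

theorem xG_commute {r s : ℕ} (h : stepOK D r s = true) (hs : step D r s = none) (t u : F) :
    Commute (xG hG s u) (xG hG r t) := by
  have e := xG_swap hG h t u
  rwa [stepEl, hs, mul_one] at e

/-- `n_r(t)` in the group. -/
noncomputable def nR (r : ℕ) (t : F) : ↥(D.group F) :=
  xG hG r t * xG hG (D.neg r) (-t⁻¹) * xG hG r t

theorem coe_nR {r : ℕ} (hr : r < D.nroots) (t : F) : (nR hG r t : GL D.Idx F) = ne' hG r t := by
  simp [nR, ne', coe_xG hG hr, coe_xG hG (hG.neg_lt hr)]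

/-- `h_r(t)` in the group. -/
noncomputable def hR (r : ℕ) (t : F) : ↥(D.group F) := nR hG r t * nR hG r (-1)

theorem coe_hR {r : ℕ} (hr : r < D.nroots) (t : F) : (hR hG r t : GL D.Idx F) = he hG r t := by
  simp [hR, he, coe_nR hG hr]

theorem nR_neg {r : ℕ} (hr : r < D.nroots) (t : F) : nR hG r (-t) = (nR hG r t)⁻¹ :=
  Subtype.ext (by rw [Subgroup.coe_inv, coe_nR hG hr, coe_nR hG hr, ne'_neg hG hr])

theorem nR_eq {r : ℕ} (hr : r < D.nroots) (t : F) : nR hG r t = hR hG r t * nR hG r 1 := by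
  rw [hR, nR_neg hG hr 1, inv_mul_cancel_right]

theorem exists_nconj {i s : ℕ} (hi : i < D.rank) (hs : s < D.nroots) :
    ∃ e : F, e * e = 1 ∧
      (∀ t : F, nR hG (D.simple i) 1 * xG hG s t = xG hG (D.reflectRoot i s) (e * t) * nR hG (D.simple i) 1) ∧
      ∀ t : F, nR hG (D.simple i) 1 * nR hG s t = nR hG (D.reflectRoot i s) (e * t) * nR hG (D.simple i) 1 := by
  obtain ⟨e, he', h1, h2⟩ := exists_conj hG (F := F) hi hs
  have hp := hG.simple_lt hi
  have hw := hG.reflectRoot_lt hi hs
  refine ⟨e, he', fun t => Subtype.ext ?_, fun t => Subtype.ext ?_⟩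
  · simp only [Subgroup.coe_mul, coe_nR hG hp, coe_xG hG hs, coe_xG hG hw]
    exact mul_inv_eq_iff_eq_mul.1 (h1 t)
  · simp only [Subgroup.coe_mul, coe_nR hG hp, coe_nR hG hs, coe_nR hG hw]
    exact mul_inv_eq_iff_eq_mul.1 (h2 t)

theorem hR_conj {i s : ℕ} (hi : i < D.rank) (hs : s < D.nroots) {a : F} (ha : a ≠ 0) (t : F) :
    hR hG (D.simple i) a * xG hG s t = xG hG s (a ^ D.cartan i s * t) * hR hG (D.simple i) a := by
  refine Subtype.ext ?_
  simp only [Subgroup.coe_mul, coe_hR hG (hG.simple_lt hi), coe_xG hG hs]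
  exact he_conj_xe hG hi hs ha t

theorem closure_xG : Subgroup.closure {g : ↥(D.group F) | ∃ r < D.nroots, ∃ t, g = xG hG r t} = ⊤ := by
  rw [eq_top_iff]
  rintro ⟨g, hg⟩ -
  have key : D.group F ≤
      (Subgroup.closure {g : ↥(D.group F) | ∃ r < D.nroots, ∃ t, g = xG hG r t}).map (D.group F).subtype := by
    conv_lhs => rw [ChevalleyDatum.group]
    rw [Subgroup.closure_le]
    rintro y ⟨r, t, hy⟩
    refine ⟨xG hG r.val t, Subgroup.subset_closure ⟨r.val, r.2, t, rfl⟩, ?_⟩
    rw [Subgroup.coe_subtype, coe_xG hG r.2]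
    exact Units.ext (by rw [coe_xe, ChevalleyDatum.x, dif_pos r.2, hy])
  obtain ⟨x, hx, e⟩ := key hg
  rwa [show (⟨g, hg⟩ : ↥(D.group F)) = x from Subtype.ext e.symm]

/-- The subgroup generated by the root elements of the given nodes and of their negatives. -/
noncomputable def lv (J : List ℕ) : Subgroup ↥(D.group F) :=
  Subgroup.closure {g | ∃ i ∈ J, ∃ t : F, g = xG hG (D.simple i) t ∨ g = xG hG (D.neg (D.simple i)) t}

theorem xG_simple_mem_lv {J : List ℕ} {i : ℕ} (hi : i ∈ J) (t : F) :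
    xG hG (D.simple i) t ∈ lv hG J ∧ xG hG (D.neg (D.simple i)) t ∈ lv hG J :=
  ⟨Subgroup.subset_closure ⟨i, hi, t, Or.inl rfl⟩, Subgroup.subset_closure ⟨i, hi, t, Or.inr rfl⟩⟩

theorem nR_simple_mem_lv {J : List ℕ} {i : ℕ} (hi : i ∈ J) (t : F) : nR hG (D.simple i) t ∈ lv hG J :=
  (lv hG J).mul_mem ((lv hG J).mul_mem (xG_simple_mem_lv hG hi t).1 (xG_simple_mem_lv hG hi _).2)
    (xG_simple_mem_lv hG hi t).1

/-- A list of roots each of which is fundamental or the reflection of an earlier one. -/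
def genOK (D : ChevalleyDatum) (J L : List ℕ) : Bool :=
  L.all fun r => decide (r < D.nroots) && (J.any fun i => decide (i < D.rank) &&
    (decide (r = D.simple i) || decide (D.reflectRoot i r < r) && L.contains (D.reflectRoot i r) &&
      decide (r = D.reflectRoot i (D.reflectRoot i r))))

theorem xG_mem_lv {J L : List ℕ} (h : genOK D J L = true) :
    ∀ r ∈ L, ∀ t : F, xG hG r t ∈ lv hG J := by
  intro r
  induction r using Nat.strong_induction_on with
  | _ r ih =>
    intro hr t
    simp only [genOK, List.all_eq_true, List.any_eq_true, Bool.and_eq_true, Bool.or_eq_true,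
      decide_eq_true_eq, List.contains_iff_mem] at h
    obtain ⟨-, i, hi, hir, hcase⟩ := h r hr
    rcases hcase with rfl | ⟨⟨hsr, hs⟩, hw⟩
    · exact (xG_simple_mem_lv hG hi t).1
    · obtain ⟨s, hs', rfl, hsr⟩ : ∃ s, s ∈ L ∧ r = D.reflectRoot i s ∧ s < r := ⟨_, hs, hw, hsr⟩
      clear hs hw
      have hs : s ∈ L := hs'
      have hsn : s < D.nroots := (h s hs).1
      obtain ⟨e, he', hc, -⟩ := exists_nconj hG (F := F) hir hsn
      have e1 := hc (e * t)
      rw [← mul_assoc, he', one_mul, ← mul_inv_eq_iff_eq_mul] at e1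
      rw [← e1]
      exact (lv hG J).mul_mem ((lv hG J).mul_mem (nR_simple_mem_lv hG hi 1) (ih s hsr hs _))
        ((lv hG J).inv_mem (nR_simple_mem_lv hG hi 1))

end Cfsg.Agent.MinDegree.Exc
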