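import Cfsg.Agent.Lib.MinDegree.ExcTop
import Cfsg.Agent.Lib.Chev.Monomial

/-!
The single terms of the commutator formula read off the packed tables of a certificate, so that the checks on the
levels can be evaluated by the kernel.
-/

set_option autoImplicit false

namespace Cfsg.Agent.MinDegree.Exc

open Cfsg.Lie Cfsg.Agent.Chev

/-- `step`, read off the packed tables. -/
noncomputable def stepC (c : Cert) (r s : ℕ) : Option (ℕ × ℤ) :=
  if r < c.nroots then
    match c.ent r s with
    | [] => none
    | e :: _ => some e
  else none

/-- `stepOK`, read off the packed tables. -/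
noncomputable def stepOKC (c : Cert) (r s : ℕ) : Bool :=
  if r < c.nroots ∧ s < c.nroots then
    decide (s ≠ r) && decide (s ≠ c.ng r) && decide ((c.ent s r).length ≤ 1) &&
      match c.ent r s with
      | [] => true
      | [e] => decide (e.1 < c.nroots) && (decide (e.2 = 1) || decide (e.2 = -1))
      | _ => false
  else false

/-- The reflected root, read off the packed tables. -/
noncomputable def reflC (D : ChevalleyDatum) (c : Cert) (i s : ℕ) : ℕ :=
  if i < c.rank ∧ s < c.nroots then c.w i s else D.reflectRoot i s

variable {D : ChevalleyDatum} {c : Cert} (hV : Valid D c)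
include hV

theorem refl_fast : D.reflectRoot = reflC D c := by
  funext i s
  rw [reflC]
  split_ifs with h
  · exact hV.w_eq_reflectRoot (hV.rank_eq ▸ h.1) (hV.nroots_eq ▸ h.2)
  · rfl

theorem step_fast : step D = stepC c := by
  funext r s
  rw [step, stepC, hV.nroots_eq]
  split_ifs with hr
  · rw [hV.ent_eq hr]
    rcases c.ent r s with _ | ⟨e, l⟩ <;> rfl
  · have hlen : D.chain.toList.length = D.nroots := by
      have := congrArg List.length hV.tie'.2.2.2.2.2.2.2.1
      simpa [hV.nroots_eq] using this.symm
    have e : D.chainEntry r s = [] := by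
      rw [ChevalleyDatum.chainEntry, array_getD_toList, List.getD_eq_default _ _ (by omega)]
      simp
    rw [e]

theorem stepOK_fast : stepOK D = stepOKC c := by
  funext r s
  rw [stepOK, stepOKC, hV.nroots_eq]
  split_ifs with h
  · rw [hV.ng_eq h.1, hV.ent_eq h.1, hV.ent_eq h.2]
    simp only [h.1, h.2, decide_true, Bool.true_and]
    rcases c.ent r s with _ | ⟨e, _ | ⟨e', l⟩⟩ <;> rfl
  · rcases not_and_or.1 h with h' | h' <;> simp [h']

end Cfsg.Agent.MinDegree.Exc
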