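import Cfsg.Agent.Lib.MinDegree.ExcBraid

/-!
The bounds on the dimension of an invariant subspace without fixed vectors, one level from the next.
-/

set_option autoImplicit false
set_option linter.unusedSectionVars false

open Module

namespace Cfsg.Agent.MinDegree.Exc

open Cfsg.Lie Cfsg.Agent.Chev

variable {F : Type*} [Field F] [Fintype F] {D : ChevalleyDatum} (hG : Good D)
variable {W : Type*} [AddCommGroup W] [Module ℂ W] [FiniteDimensional ℂ W]
variable (ρ : Representation ℂ ↥(D.group F) W)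

/-- No vector of the subspace is fixed by the root subgroups of the nodes. -/
def NoFix (M : Submodule ℂ W) (J : List ℕ) : Prop :=
  ∀ v ∈ M, v ∈ fixedBy hG ρ (gensOf D J) → v = 0

/-- The bounds at one level: the dimension is at least `T` or one of `poss`; with a vector fixed by a
parabolic subgroup it is at least `T` less the allowance. -/
def Bd (J pos : List ℕ) (T : ℤ) (poss : List ℤ) (low : List (ℕ × ℤ)) : Prop :=
  (∀ M, InvM hG ρ M J → NoFix hG ρ M J → M ≠ ⊥ → T ≤ (finrank ℂ M : ℤ) ∨ (finrank ℂ M : ℤ) ∈ poss) ∧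
    ∀ kd ∈ low, ∀ M, InvM hG ρ M J → NoFix hG ρ M J → ∀ v ∈ M, v ≠ 0 →
      v ∈ fixedBy hG ρ (parGens D pos J kd.1) → T ≤ (finrank ℂ M : ℤ) + kd.2

theorem InvM.stab_root {M : Submodule ℂ W} {J pos : List ℕ} (hM : InvM hG ρ M J)
    (hgen : genOK D J pos = true) {r : ℕ} (hr : r ∈ pos) (t : F) : xG hG r t ∈ Stab ρ M :=
  hM.1 (xG_mem_lv hG hgen r hr t)

theorem hR_normalises {J : List ℕ} (hJ : ∀ i ∈ J, i < D.rank) {k : ℕ} (hk : k < D.rank) {c : F} (hc : c ≠ 0)
    {g : ↥(D.group F)} (hg : g ∈ lv hG J) :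
    (hR hG (D.simple k) c)⁻¹ * g * hR hG (D.simple k) c ∈ lv hG J := by
  set h := hR hG (D.simple k) c with hh
  have hx : ∀ r, r < D.nroots → (∀ t : F, xG hG r t ∈ lv hG J) → ∀ t : F, h⁻¹ * xG hG r t * h ∈ lv hG J := by
    intro r hr hmem t
    have e1 := hR_conj hG hk hr hc ((c ^ D.cartan k r)⁻¹ * t)
    rw [mul_inv_cancel_left₀ (zpow_ne_zero _ hc)] at e1
    rw [mul_assoc, ← e1, inv_mul_cancel_left]
    exact hmem _
  induction hg using Subgroup.closure_induction with
  | mem x hx' =>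
    obtain ⟨i, hi, t, rfl | rfl⟩ := hx'
    · exact hx _ (hG.simple_lt (hJ i hi)) (fun t => (xG_simple_mem_lv hG hi t).1) t
    · exact hx _ (hG.neg_lt (hG.simple_lt (hJ i hi))) (fun t => (xG_simple_mem_lv hG hi t).2) t
  | one => simp
  | mul a b _ _ ha hb =>
    rw [show h⁻¹ * (a * b) * h = (h⁻¹ * a * h) * (h⁻¹ * b * h) by group]
    exact (lv hG J).mul_mem ha hb
  | inv a _ ha =>
    rw [show h⁻¹ * a⁻¹ * h = (h⁻¹ * a * h)⁻¹ by group]
    exact (lv hG J).inv_mem ha

theorem avg_comm {K : Subgroup ↥(D.group F)} {h : ↥(D.group F)} (hh : ∀ g ∈ K, h⁻¹ * g * h ∈ K) (v : W) :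
    avg ρ K (ρ h v) = ρ h (avg ρ K v) := by
  let _ := Fintype.ofFinite K
  rw [avg_apply, avg_apply, map_smul, map_sum]
  congr 1
  let σ : K → K := fun g => ⟨h⁻¹ * g.1 * h, hh g.1 g.2⟩
  have hσ : Function.Bijective σ := Finite.injective_iff_bijective.1 fun a b e => Subtype.ext (by
    have e' : h⁻¹ * a.1 * h = h⁻¹ * b.1 * h := congrArg Subtype.val e
    exact mul_left_cancel (mul_right_cancel e'))
  refine Fintype.sum_bijective σ hσ _ _ fun g => ?_
  rw [← rho_mul_apply, ← rho_mul_apply]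
  congr 2
  show g.1 * h = h * (h⁻¹ * g.1 * h)
  group

/-- The part without fixed vectors. -/
noncomputable def ntPart (M0 : Submodule ℂ W) (J : List ℕ) : Submodule ℂ W :=
  M0 ⊓ LinearMap.ker (avg ρ (lv hG (F := F) J))

variable {M0 : Submodule ℂ W} {J : List ℕ}

theorem avg_lv_mem (h0 : InvM hG ρ M0 J) {v : W} (hv : v ∈ M0) :
    avg ρ (lv hG J) v ∈ M0 ⊓ fixedBy hG ρ (gensOf D J) :=
  ⟨avg_mem ρ h0.1 hv, (mem_fixedBy hG ρ).2 fun r hr t =>
    avg_fixed ρ _ (genBy_gensOf_le hG J (xG_mem_genBy hG hr t)) v⟩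

theorem ntPart_inv (hJ : ∀ i ∈ J, i < D.rank) (h0 : InvM hG ρ M0 J) : InvM hG ρ (ntPart hG ρ M0 J) J := by
  refine ⟨fun g hg v hv => ⟨h0.1 hg v hv.1, LinearMap.mem_ker.2 ?_⟩,
    fun k hk c hc v hv => ⟨h0.2 k hk c hc v hv.1, LinearMap.mem_ker.2 ?_⟩⟩
  · rw [avg_mul ρ _ hg]
    exact LinearMap.mem_ker.1 hv.2
  · rw [avg_comm ρ (fun g hg => hR_normalises hG hJ hk hc hg), LinearMap.mem_ker.1 hv.2, map_zero]

theorem ntPart_noFix : NoFix hG ρ (ntPart hG ρ M0 J) J := by
  intro v hv hfix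
  rw [← avg_of_fixed ρ (lv hG J) fun g hg => fixed_of_lv hG ρ hfix hg]
  exact LinearMap.mem_ker.1 hv.2

theorem sub_avg_mem (h0 : InvM hG ρ M0 J) {v : W} (hv : v ∈ M0) : v - avg ρ (lv hG J) v ∈ ntPart hG ρ M0 J := by
  refine ⟨M0.sub_mem hv (avg_mem ρ h0.1 hv), LinearMap.mem_ker.2 ?_⟩
  rw [map_sub, avg_of_fixed ρ (lv hG J) fun g hg => avg_fixed ρ _ hg v, sub_self]

theorem finrank_split (h0 : InvM hG ρ M0 J) :
    finrank ℂ M0 = finrank ℂ (M0 ⊓ fixedBy hG ρ (gensOf D J) : Submodule ℂ W) +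
      finrank ℂ (ntPart hG ρ M0 J) := by
  have hsup : (M0 ⊓ fixedBy hG ρ (gensOf D J)) ⊔ ntPart hG ρ M0 J = M0 := by
    refine le_antisymm (sup_le inf_le_left inf_le_left) fun v hv => ?_
    exact Submodule.mem_sup.2 ⟨_, avg_lv_mem hG ρ h0 hv, _, sub_avg_mem hG ρ h0 hv, add_sub_cancel _ _⟩
  have hinf : (M0 ⊓ fixedBy hG ρ (gensOf D J)) ⊓ ntPart hG ρ M0 J = ⊥ := by
    rw [Submodule.eq_bot_iff]
    intro v hv
    exact ntPart_noFix hG ρ v hv.2 hv.1.2
  have := Submodule.finrank_sup_add_finrank_inf_eq (M0 ⊓ fixedBy hG ρ (gensOf D J)) (ntPart hG ρ M0 J)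
  rw [hsup, hinf, finrank_bot, add_zero] at this
  exact this

/-- Each node after the first is joined to an earlier one. -/
def connAux (D : ChevalleyDatum) : List ℕ → List ℕ → Bool
  | _, [] => true
  | seen, i :: rest =>
    decide (i < D.rank) && (seen.any fun p => decide (p < D.rank) &&
      decide (D.reflectRoot i (D.reflectRoot p (D.simple i)) = D.simple p)) && connAux D (i :: seen) rest

/-- The checks on an abelian level. -/
def levelOK (D : ChevalleyDatum) (L : Lev) (pos : List ℕ) : Bool :=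
  L.weightsOK D && braidOK D L.J L.J' L.rts L.S L.j L.nb && genOK D L.J pos &&
    decide (L.scale < D.rank) && (decide (D.cartan L.scale L.top = 1) || decide (D.cartan L.scale L.top = -1)) &&
    (L.S.all fun s => pos.contains s && L.S.all fun s' => decide (s = s') || stepOK D s s' && (step D s s').isNone) &&
    (L.rts.all fun r => pos.contains r) && !L.J'.contains L.j &&
    match L.J with
    | [] => false
    | i :: rest => decide (i = L.j) && connAux D [i] rest

/-- A subspace fixed by one root subgroup is fixed by all of them in a connected diagram. -/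
theorem trivial_of_conn {M : Submodule ℂ W} {J : List ℕ} (hM : InvM hG ρ M J) :
    ∀ (rest seen : List ℕ), connAux D seen rest = true → (∀ i ∈ seen ++ rest, i ∈ J) →
      (∀ p ∈ seen, ∀ t : F, xG hG (D.simple p) t ∈ Fix ρ M) →
      ∀ i ∈ rest, ∀ t : F, xG hG (D.simple i) t ∈ Fix ρ M := by
  intro rest
  induction rest with
  | nil => intro _ _ _ _ i hi; simp at hi
  | cons i rest ih =>
    intro seen hc hJ hseen
    simp only [connAux, Bool.and_eq_true, decide_eq_true_eq, List.any_eq_true] at hc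
    obtain ⟨⟨hir, p, hp, hpr, href⟩, hc'⟩ := hc
    have hi : ∀ t : F, xG hG (D.simple i) t ∈ Fix ρ M := by
      intro t v hv
      have hsi := hG.simple_lt hir
      obtain ⟨e1, he1, hc1, -⟩ := exists_nconj hG (F := F) hpr hsi
      obtain ⟨e2, he2, hc2, -⟩ := exists_nconj hG (F := F) hir (hG.reflectRoot_lt hpr hsi)
      rw [href] at hc2
      set g := nR hG (D.simple i) (1 : F) * nR hG (D.simple p) 1 with hg
      have hgM : g ∈ Stab ρ M := hM.1 ((lv hG J).mul_mem
        (nR_simple_mem_lv hG (hJ i (List.mem_append_right _ List.mem_cons_self)) 1)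
        (nR_simple_mem_lv hG (hJ p (List.mem_append_left _ hp)) 1))
      refine rho_injective ρ g ?_
      rw [← rho_mul_apply, hg, mul_assoc, hc1, ← mul_assoc, hc2, mul_assoc, ← hg, rho_mul_apply]
      exact hseen p hp _ _ (hgM v hv)
    intro k hk
    rcases List.mem_cons.1 hk with rfl | hk
    · exact hi
    · refine ih (i :: seen) hc' (fun x hx => hJ x ?_) ?_ k hk
      · simp only [List.mem_append, List.mem_cons] at hx ⊢
        tauto
      · intro x hx
        rcases List.mem_cons.1 hx with rfl | hx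
        exacts [hi, hseen x hx]

theorem eq_bot_of_fixed_simple {M : Submodule ℂ W} {j : ℕ} {J rest : List ℕ} (hJ : J = j :: rest)
    (hconn : connAux D [j] rest = true) (hjr : j < D.rank) (hM : InvM hG ρ M J) (hN : NoFix hG ρ M J)
    (hfix : ∀ t : F, xG hG (D.simple j) t ∈ Fix ρ M) : M = ⊥ := by
  have hrk : ∀ i ∈ J, i < D.rank := by
    have : ∀ (l seen : List ℕ), connAux D seen l = true → ∀ i ∈ l, i < D.rank := by
      intro l
      induction l with
      | nil => intro _ _ i hi; simp at hi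
      | cons a l ih =>
        intro seen hc i hi
        simp only [connAux, Bool.and_eq_true, decide_eq_true_eq] at hc
        rcases List.mem_cons.1 hi with rfl | hi
        exacts [hc.1.1, ih _ hc.2 i hi]
    intro i hi
    rw [hJ] at hi
    rcases List.mem_cons.1 hi with rfl | hi
    exacts [hjr, this rest _ hconn i hi]
  have hall : ∀ i ∈ J, ∀ t : F, xG hG (D.simple i) t ∈ Fix ρ M := by
    intro i hi
    rw [hJ] at hi
    rcases List.mem_cons.1 hi with rfl | hi
    · exact hfix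
    · refine trivial_of_conn hG ρ hM rest [j] hconn (fun x hx => by rw [hJ]; simpa using hx) ?_ i hi
      intro p hp
      rw [List.mem_singleton.1 hp]
      exact hfix
  rw [Submodule.eq_bot_iff]
  intro v hv
  refine hN v hv ((mem_fixedBy hG ρ).2 fun r hr t => ?_)
  rcases List.mem_append.1 hr with h | h <;> obtain ⟨i, hi, rfl⟩ := List.mem_map.1 h
  · exact hall i hi t v hv
  · have hsi := hG.simple_lt (hrk i hi)
    obtain ⟨e, he, hc, -⟩ := exists_nconj hG (F := F) (hrk i hi) hsi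
    rw [show D.reflectRoot i (D.simple i) = D.neg (D.simple i) by simp [ChevalleyDatum.reflectRoot]] at hc
    have e1 := hc (e * t)
    rw [← mul_assoc, he, one_mul] at e1
    set n := nR hG (D.simple i) (1 : F) with hn
    have hnM : n⁻¹ ∈ Stab ρ M := (Stab ρ M).inv_mem (hM.1 (nR_simple_mem_lv hG hi 1))
    calc ρ (xG hG (D.neg (D.simple i)) t) v
        = ρ (xG hG (D.neg (D.simple i)) t * n) (ρ n⁻¹ v) := by
          rw [← rho_mul_apply, mul_assoc, mul_inv_cancel, mul_one]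
      _ = ρ n (ρ (xG hG (D.simple i) (e * t)) (ρ n⁻¹ v)) := by rw [← e1, rho_mul_apply]
      _ = v := by rw [hall i hi _ _ (hnM v hv), ← rho_mul_apply, mul_inv_cancel, map_one, Module.End.one_apply]

variable {L : Lev} {pos : List ℕ}

theorem level_mv_stab (hW : L.weightsOK D = true) (hgen' : genOK D L.J' L.rts = true) {M : Submodule ℂ W}
    (hM : InvM hG ρ M L.J') {r : ℕ} (hr : r ∈ L.mv D) (t : F) : xG hG r t ∈ Stab ρ M := by
  rcases List.mem_append.1 hr with h | h
  · exact hM.stab_root hG ρ hgen' h t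
  · obtain ⟨i, hi, rfl⟩ := List.mem_map.1 h
    exact hM.1 (xG_simple_mem_lv hG hi t).2

theorem fixed_part_inv (hW : L.weightsOK D = true) (hgen' : genOK D L.J' L.rts = true)
    (hJ' : ∀ i ∈ L.J', D.simple i ∈ L.rts) {M : Submodule ℂ W} (hM : InvM hG ρ M L.J') :
    InvM hG ρ (M ⊓ fixedBy hG ρ L.S) L.J' := by
  refine ⟨?_, fun k hk c hc v hv =>
    ⟨hM.2 k hk c hc v hv.1, hR_fixed hG ρ (fun r hr => S_lt hW hr) hk hc hv.2⟩⟩
  rw [lv, Subgroup.closure_le]
  intro g hg v hv
  obtain ⟨r, hr, t, rfl⟩ : ∃ r ∈ L.mv D, ∃ t : F, g = xG hG r t := by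
    obtain ⟨i, hi, t, rfl | rfl⟩ := hg
    · exact ⟨_, List.mem_append_left _ (hJ' i hi), t, rfl⟩
    · exact ⟨_, List.mem_append_right _ (List.mem_map.2 ⟨i, hi, rfl⟩), t, rfl⟩
  rw [← wsp_one hG ρ M L.S] at hv ⊢
  have h1 := wsp_move_root hG ρ hW hr t (level_mv_stab hG ρ hW hgen' hM hr t) 1 v hv
  rwa [show E D r t (1 : Wt F L.S) = 1 from wt_ext fun s hs => by
    rw [ext_one]; exact ext_E_eq_one (ext_one s) fun p _ _ => ext_one p] at h1

/-- The bounds at a level follow from those at the next one. -/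
theorem level_bd (hL : levelOK D L pos = true) {T' : ℤ} {poss' : List ℤ} {low' : List (ℕ × ℤ)} {dnb : ℤ}
    (hBd : Bd hG ρ L.J' L.rts T' poss' low') (hnb : (L.nb, dnb) ∈ low')
    {N T : ℤ} {poss : List ℤ} {low : List (ℕ × ℤ)}
    (hN : N = (orbitSize (Fintype.card F) L : ℤ)) (hT : T = N + T' + 1) (h2 : T ≤ 2 * N)
    (hB : L.L2 ≠ [] → T ≤ (Fintype.card F : ℤ) ^ (L.A1.length + L.A2.length))
    (hp0 : N ∈ poss) (hp1 : T - 1 ∈ poss) (hp2 : ∀ x ∈ poss', N + x ∈ poss) (hdnb : dnb ≤ 1) (hdnb0 : 0 ≤ dnb)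
    (hlow : ∀ kd ∈ low, (kd.1 = L.j ∧ dnb ≤ kd.2) ∨
      (kd.1 ∈ L.J' ∧ dnb ≤ kd.2 ∧ ∃ d'', (kd.1, d'') ∈ low' ∧ d'' + 1 ≤ kd.2)) :
    Bd hG ρ L.J pos T poss low := by
  classical
  simp only [levelOK, Bool.and_eq_true, Bool.or_eq_true, decide_eq_true_eq, List.all_eq_true,
    List.contains_iff_mem, Option.isNone_iff_eq_none] at hL
  obtain ⟨⟨⟨⟨⟨⟨⟨⟨hW, hbr⟩, hgen⟩, hsk⟩, hsc⟩, hS⟩, hR⟩, hjJ'⟩, hconn⟩ := hL
  have hbr' := hbr
  simp only [braidOK, Bool.and_eq_true, Bool.or_eq_true, List.all_eq_true, decide_eq_true_eq,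
    List.contains_iff_mem] at hbr'
  obtain ⟨⟨⟨⟨⟨⟨⟨⟨⟨⟨⟨hjr, -⟩, hjJ⟩, -⟩, halU⟩, -⟩, -⟩, hJ⟩, hJ'⟩, -⟩, hgen'⟩, -⟩ := hbr'
  rcases hJe : L.J with _ | ⟨i0, rest⟩
  · rw [hJe] at hjJ; simp at hjJ
  rw [hJe] at hconn
  simp only [Bool.and_eq_true, decide_eq_true_eq] at hconn
  obtain ⟨rfl, hconn⟩ := hconn
  rw [← hJe]
  rw [Bool.not_eq_true', ← Bool.not_eq_true, List.contains_iff_mem] at hjJ'
  have hJr : ∀ i ∈ L.J', i < D.rank := fun i hi => by
    simp only [Lev.weightsOK, Bool.and_eq_true, List.all_eq_true, decide_eq_true_eq] at hW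
    exact (hW.1.1.1.2 i hi).1
  have hlvle : lv hG (F := F) L.J' ≤ lv hG L.J := by
    rw [lv, Subgroup.closure_le]
    rintro _ ⟨i, hi, t, rfl | rfl⟩
    exacts [(xG_simple_mem_lv hG (hJ' i hi).1 t).1, (xG_simple_mem_lv hG (hJ' i hi).1 t).2]
  -- the decomposition
  have decomp : ∀ M, InvM hG ρ M L.J → NoFix hG ρ M L.J → M ≠ ⊥ → T ≤ (finrank ℂ M : ℤ) ∨
      (InvM hG ρ (M ⊓ fixedBy hG ρ L.S) L.J' ∧ (finrank ℂ M : ℤ) = N +
        finrank ℂ (M ⊓ fixedBy hG ρ L.S ⊓ fixedBy hG ρ (gensOf D L.J') : Submodule ℂ W) +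
        finrank ℂ (ntPart hG ρ (M ⊓ fixedBy hG ρ L.S) L.J')) := by
    intro M hM hN' hne
    have hM' : InvM hG ρ M L.J' := ⟨hlvle.trans hM.1, hM.2⟩
    have hA : AbelOn hG ρ M L.S := by
      refine ⟨fun s hs t => hM.stab_root hG ρ hgen (hS s hs).1 t, fun s hs s' hs' t u v _ => ?_⟩
      rcases eq_or_ne s s' with rfl | hne'
      · rw [← rho_mul_apply, ← rho_mul_apply, xG_add, xG_add, add_comm]
      · obtain ⟨hok, hnone⟩ := ((hS s hs).2 s' hs').resolve_left hne'
        rw [← rho_mul_apply, ← rho_mul_apply, (xG_commute hG hok hnone t u).eq]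
    have hinv := inv_wsp hG ρ hW (fun r hr t => level_mv_stab hG ρ hW hgen' hM' hr t)
      (fun i hi => hM'.1 (nR_simple_mem_lv hG hi 1)) ⟨hsk, hsc⟩ (fun c hc => hM.2 _ hsk c hc)
    have htot := sum_finrank_wsp hG ρ (S_nodup hW) hA
    rw [← Finset.add_sum_erase _ _ (Finset.mem_univ (1 : Wt F L.S))] at htot
    rcases weights_dichotomy hG hW hinv with ⟨hne2, hbig⟩ | ⟨d0, hd0⟩
    · refine Or.inl ((hB hne2).trans ?_)
      rw [← htot]
      push_cast
      have : (Fintype.card F : ℤ) ^ (L.A1.length + L.A2.length) ≤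
          ((∑ χ ∈ Finset.univ.erase (1 : Wt F L.S), finrank ℂ (wsp hG ρ M χ) : ℕ) : ℤ) := by
        exact_mod_cast hbig
      push_cast at this
      linarith
    rw [hd0] at htot
    have hd1 : d0 ≠ 0 := by
      rintro rfl
      rw [mul_zero, add_zero, wsp_one] at htot
      have heq := Submodule.eq_of_le_of_finrank_eq inf_le_left htot
      refine hne (eq_bot_of_fixed_simple hG ρ hJe hconn hjr hM hN' fun t v hv => ?_)
      rw [← heq] at hv
      exact (mem_fixedBy hG ρ).1 hv.2 _ halU t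
    have hM0 := fixed_part_inv hG ρ hW hgen' (fun i hi => (hJ' i hi).2) hM'
    have hsplit := finrank_split hG ρ hM0
    rw [wsp_one, hsplit] at htot
    rcases Nat.lt_or_ge d0 2 with h1 | h1
    · obtain rfl : d0 = 1 := by omega
      refine Or.inr ⟨hM0, ?_⟩
      rw [← htot, hN]
      push_cast
      ring
    · refine Or.inl (h2.trans ?_)
      rw [← htot, hN]
      push_cast
      have : (orbitSize (Fintype.card F) L : ℤ) * 2 ≤ orbitSize (Fintype.card F) L * d0 := by
        exact mul_le_mul_of_nonneg_left (by exact_mod_cast h1) (Int.natCast_nonneg _)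
      linarith
  -- a fixed vector gives a further one
  have further : ∀ M, InvM hG ρ M L.J → NoFix hG ρ M L.J → InvM hG ρ (M ⊓ fixedBy hG ρ L.S) L.J' →
      1 ≤ finrank ℂ (M ⊓ fixedBy hG ρ L.S ⊓ fixedBy hG ρ (gensOf D L.J') : Submodule ℂ W) →
      T' ≤ (finrank ℂ (ntPart hG ρ (M ⊓ fixedBy hG ρ L.S) L.J') : ℤ) + dnb := by
    intro M hM hN' hM0 hf
    obtain ⟨v, hv, hv0⟩ := Submodule.exists_mem_ne_zero_of_ne_bot (fun e : (M ⊓ fixedBy hG ρ L.S ⊓
      fixedBy hG ρ (gensOf D L.J') : Submodule ℂ W) = ⊥ => by rw [e, finrank_bot] at hf; omega)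
    obtain ⟨a, haM, ha1, ha2⟩ : ∃ a ∈ M ⊓ fixedBy hG ρ L.S,
        a ∈ fixedBy hG ρ (parGens D L.rts L.J' L.nb) ∧ a ∉ fixedBy hG ρ (gensOf D L.J') := by
      by_contra hcon
      push Not at hcon
      refine hv0 (braid hG ρ hbr (fun r hr => S_lt hW hr) hM
        (fun r hr t => hM.stab_root hG ρ hgen (hS r hr).1 t) hN' (fun a ha hpar => hcon a ha hpar) v hv.1.1 ?_)
      rw [mem_fixedBy]
      intro r hr t
      rcases List.mem_append.1 hr with h | h
      exacts [(mem_fixedBy hG ρ).1 hv.1.2 r h t, (mem_fixedBy hG ρ).1 hv.2 r h t]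
    refine hBd.2 _ hnb _ (ntPart_inv hG ρ hJr hM0) (ntPart_noFix hG ρ) _ (sub_avg_mem hG ρ hM0 haM) ?_ ?_
    · intro e
      rw [sub_eq_zero] at e
      exact ha2 (e ▸ (avg_lv_mem hG ρ hM0 haM).2)
    · rw [mem_fixedBy]
      intro r hr t
      have hrlv : xG hG r t ∈ lv hG L.J' := by
        rcases List.mem_append.1 hr with h | h
        · exact xG_mem_lv hG hgen' r h t
        · obtain ⟨l, hl, rfl⟩ := List.mem_map.1 h
          exact (xG_simple_mem_lv hG (List.mem_filter.1 hl).1 t).2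
      rw [map_sub, (mem_fixedBy hG ρ).1 ha1 r hr t, avg_fixed ρ _ hrlv]
  refine ⟨fun M hM hN' hne => ?_, fun kd hkd M hM hN' v hv hv0 hfix => ?_⟩
  · rcases decomp M hM hN' hne with h | ⟨hM0, hdim⟩
    · exact Or.inl h
    rcases Nat.eq_zero_or_pos
      (finrank ℂ (M ⊓ fixedBy hG ρ L.S ⊓ fixedBy hG ρ (gensOf D L.J') : Submodule ℂ W)) with hf | hf
    · rw [hf, Nat.cast_zero, add_zero] at hdim
      by_cases hnt : ntPart hG ρ (M ⊓ fixedBy hG ρ L.S) L.J' = ⊥
      · rw [hnt, finrank_bot, Nat.cast_zero, add_zero] at hdim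
        exact Or.inr (hdim ▸ hp0)
      rcases hBd.1 _ (ntPart_inv hG ρ hJr hM0) (ntPart_noFix hG ρ) hnt with h | h
      · rcases eq_or_lt_of_le h with e | e
        · exact Or.inr (by rwa [hdim, ← e, show N + T' = T - 1 by omega])
        · exact Or.inl (by omega)
      · exact Or.inr (hdim ▸ hp2 _ h)
    · have h := further M hM hN' hM0 hf
      by_cases hge : T ≤ (finrank ℂ M : ℤ)
      · exact Or.inl hge
      · exact Or.inr (by rwa [show (finrank ℂ M : ℤ) = T - 1 by omega])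
  · have hne : M ≠ ⊥ := fun e => hv0 (by rw [e] at hv; simpa using hv)
    have hd := hlow kd hkd
    have hdge : dnb ≤ kd.2 := hd.elim (fun h => h.2) (fun h => h.2.1)
    rcases decomp M hM hN' hne with h | ⟨hM0, hdim⟩
    · omega
    rcases Nat.eq_zero_or_pos
      (finrank ℂ (M ⊓ fixedBy hG ρ L.S ⊓ fixedBy hG ρ (gensOf D L.J') : Submodule ℂ W)) with hf | hf
    · have hbot := Submodule.finrank_eq_zero.1 hf
      have hvS : v ∈ M ⊓ fixedBy hG ρ L.S := ⟨hv, (mem_fixedBy hG ρ).2 fun r hr t =>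
        (mem_fixedBy hG ρ).1 hfix r (List.mem_append_left _ (hS r hr).1) t⟩
      have hmem : ∀ r, r ∈ L.rts ∨ (∃ l ∈ L.J', l ≠ kd.1 ∧ r = D.neg (D.simple l)) →
          ∀ t, ρ (xG hG r t) v = v := by
        intro r hr
        refine (mem_fixedBy hG ρ).1 hfix r ?_
        rcases hr with h | ⟨l, hl, hlk, rfl⟩
        · exact List.mem_append_left _ (hR r h)
        · exact List.mem_append_right _ (List.mem_map.2 ⟨l, List.mem_filter.2
            ⟨(hJ' l hl).1, by simpa using hlk⟩, rfl⟩)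
      rcases hd with ⟨hkj, hle⟩ | ⟨hk, -, d'', hd'', hle⟩
      · exfalso
        refine hv0 ((Submodule.eq_bot_iff _).1 hbot v ⟨hvS, (mem_fixedBy hG ρ).2 fun r hr t => hmem r ?_ t⟩)
        rcases List.mem_append.1 hr with h | h <;> obtain ⟨l, hl, rfl⟩ := List.mem_map.1 h
        · exact Or.inl (hJ' l hl).2
        · exact Or.inr ⟨l, hl, fun e => hjJ' (by rwa [← hkj, ← e]), rfl⟩
      · have hnt : v ∈ ntPart hG ρ (M ⊓ fixedBy hG ρ L.S) L.J' := by
          refine ⟨hvS, LinearMap.mem_ker.2 ?_⟩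
          exact (Submodule.eq_bot_iff _).1 hbot _ (avg_lv_mem hG ρ hM0 hvS)
        have := hBd.2 _ hd'' _ (ntPart_inv hG ρ hJr hM0) (ntPart_noFix hG ρ) v hnt hv0
          ((mem_fixedBy hG ρ).2 fun r hr t => hmem r (by
            rcases List.mem_append.1 hr with h | h
            · exact Or.inl h
            · obtain ⟨l, hl, rfl⟩ := List.mem_map.1 h
              rw [List.mem_filter, decide_eq_true_eq] at hl
              exact Or.inr ⟨l, hl.1, hl.2, rfl⟩) t)
        rw [hf] at hdim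
        dsimp only at this
        omega
    · have := further M hM hN' hM0 hf
      omega

/-- The bounds at the last level. -/
theorem base_bd {i : ℕ} (hi : i < D.rank) (hL : L.weightsOK D = true) (hcells : L.cells.map Cell.mu = [D.simple i])
    (htop : L.top = D.simple i) (hJ' : L.J' = []) (hrts : L.rts = []) (hsk : L.scale < D.rank)
    (hsc : D.cartan L.scale L.top = 1 ∨ D.cartan L.scale L.top = -1) {T : ℤ} {poss : List ℤ}
    (hT : T = (Fintype.card F : ℤ)) (hp : T - 1 ∈ poss) :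
    Bd hG ρ [i] [D.simple i] T poss [(i, 0)] := by
  classical
  have hS : L.S = [D.simple i] := hcells
  have hsi := hG.simple_lt hi
  have key : ∀ M, InvM hG ρ M [i] → NoFix hG ρ M [i] → M ≠ ⊥ → ∃ d0, d0 ≠ 0 ∧
      finrank ℂ M = finrank ℂ (M ⊓ fixedBy hG ρ L.S : Submodule ℂ W) + (Fintype.card F - 1) * d0 := by
    intro M hM hN hne
    have hA : AbelOn hG ρ M L.S := by
      refine ⟨fun s hs t => ?_, fun s hs s' hs' t u v _ => ?_⟩ <;> rw [hS, List.mem_singleton] at *
      · subst hs; exact hM.1 (xG_simple_mem_lv hG List.mem_cons_self t).1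
      · subst hs; subst hs'; rw [← rho_mul_apply, ← rho_mul_apply, xG_add, xG_add, add_comm]
    have hinv := inv_wsp hG ρ hL (M := M) (fun r hr t => by simp [Lev.mv, hJ', hrts] at hr)
      (fun l hl => by simp [hJ'] at hl) ⟨hsk, hsc⟩ (fun c hc => hM.2 _ hsk c hc)
    have htot := sum_finrank_wsp hG ρ (S_nodup hL) hA
    rw [← Finset.add_sum_erase _ _ (Finset.mem_univ (1 : Wt F L.S)), wsp_one] at htot
    obtain ⟨ψ0, hψ0⟩ : ∃ ψ : AddChar F ℂ, ψ ≠ 1 := by
      have : Nontrivial (AddChar F ℂ) := Fintype.one_lt_card_iff_nontrivial.1 (by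
        rw [AddChar.card_eq]; exact Fintype.one_lt_card)
      exact exists_ne 1
    have htopS := top_mem hL
    have hdelta : ∀ φ : Wt F L.S, φ = delta L.top (ext φ L.top) := fun φ => wt_ext fun s hs => by
      rw [ext_delta htopS]
      rw [hS, List.mem_singleton, ← htop] at hs
      rw [hs, if_pos rfl]
    rw [Finset.sum_congr rfl fun φ hφ => show finrank ℂ (wsp hG ρ M φ) =
        finrank ℂ (wsp hG ρ M (delta (S := L.S) L.top ψ0)) from by
      conv_lhs => rw [hdelta φ]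
      refine hinv.hT _ _ (fun e => Finset.ne_of_mem_erase hφ ?_) hψ0
      rw [hdelta φ, e]
      exact wt_ext fun s _ => by rw [ext_delta htopS, ext_one]; split_ifs <;> rfl,
      Finset.sum_const, Finset.card_erase_of_mem (Finset.mem_univ _), Finset.card_univ, smul_eq_mul] at htot
    have hcard : Fintype.card (Wt F L.S) = Fintype.card F := by
      rw [Fintype.card_fun, AddChar.card_eq, Fintype.card_of_subtype L.S.toFinset (fun x => List.mem_toFinset),
        List.toFinset_card_of_nodup (S_nodup hL), hS, List.length_singleton, pow_one]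
    refine ⟨finrank ℂ (wsp hG ρ M (delta (S := L.S) L.top ψ0)), fun e => hne ?_, by rw [← hcard]; exact htot.symm⟩
    rw [e, mul_zero, add_zero] at htot
    have heq := Submodule.eq_of_le_of_finrank_eq inf_le_left htot
    refine eq_bot_of_fixed_simple hG ρ (rest := []) rfl rfl hi hM hN fun t v hv => ?_
    rw [← heq] at hv
    exact (mem_fixedBy hG ρ).1 hv.2 _ (by rw [hS]; exact List.mem_cons_self) t
  have h1 : (1 : ℤ) < Fintype.card F := by exact_mod_cast Fintype.one_lt_card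
  refine ⟨fun M hM hN hne => ?_, fun kd hkd M hM hN v hv hv0 hfix => ?_⟩
  · obtain ⟨d0, hd0, hdim⟩ := key M hM hN hne
    by_cases hge : T ≤ (finrank ℂ M : ℤ)
    · exact Or.inl hge
    refine Or.inr ?_
    have h2 : (Fintype.card F - 1) * 1 ≤ (Fintype.card F - 1) * d0 := Nat.mul_le_mul_left _ (by omega)
    rwa [show (finrank ℂ M : ℤ) = T - 1 by omega]
  · obtain rfl : kd = (i, 0) := List.mem_singleton.1 hkd
    obtain ⟨d0, hd0, hdim⟩ := key M hM hN (fun e => hv0 (by rw [e] at hv; simpa using hv))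
    have hf : finrank ℂ (M ⊓ fixedBy hG ρ L.S : Submodule ℂ W) ≠ 0 := fun e => hv0 <|
      (Submodule.eq_bot_iff _).1 (Submodule.finrank_eq_zero.1 e) v ⟨hv, (mem_fixedBy hG ρ).2 fun r hr t =>
        (mem_fixedBy hG ρ).1 hfix r (List.mem_append_left _ (by rwa [hS] at hr)) t⟩
    have h2 : (Fintype.card F - 1) * 1 ≤ (Fintype.card F - 1) * d0 := Nat.mul_le_mul_left _ (by omega)
    omega

end Cfsg.Agent.MinDegree.Exc
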