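import Cfsg.Agent.Lib.MinDegree.AbelianEigen

/-!
Traces of operators permuting the eigenspaces of a finite abelian group of operators.
-/

set_option autoImplicit false
set_option linter.unusedSectionVars false

open Module

namespace Cfsg.Agent.MinDegree

variable {A : Type*} [AddCommGroup A] [Fintype A] {W : Type*} [AddCommGroup W] [Module ℂ W]

/-- The projection to the `χ`-eigenspace. -/
noncomputable def eigenProj (op : A → W →ₗ[ℂ] W) (χ : AddChar A ℂ) : W →ₗ[ℂ] W :=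
  (Fintype.card A : ℂ)⁻¹ • proj op χ

theorem eigenProj_apply_mem {op : A → W →ₗ[ℂ] W} (h : IsOp op) (χ : AddChar A ℂ) (x : W) :
    eigenProj op χ x ∈ eigen op χ :=
  Submodule.smul_mem _ _ (proj_mem_eigen h χ x)

theorem eigenProj_of_mem {op : A → W →ₗ[ℂ] W} {χ : AddChar A ℂ} {x : W} (hx : x ∈ eigen op χ) :
    eigenProj op χ x = x := by
  rw [eigenProj, LinearMap.smul_apply, proj_apply]
  simp only [mem_eigen.1 hx, smul_smul, ← AddChar.map_add_eq_mul, neg_add_cancel,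
    AddChar.map_zero_eq_one, one_smul, Finset.sum_const, Finset.card_univ]
  rw [← Nat.cast_smul_eq_nsmul ℂ, smul_smul, inv_mul_cancel₀ (Nat.cast_ne_zero.2 Fintype.card_ne_zero),
    one_smul]

theorem eigenProj_of_mem_ne {op : A → W →ₗ[ℂ] W} {χ χ' : AddChar A ℂ} {x : W} (hx : x ∈ eigen op χ')
    (hne : χ' ≠ χ) : eigenProj op χ x = 0 := by
  rw [eigenProj, LinearMap.smul_apply, proj_apply]
  simp only [mem_eigen.1 hx, smul_smul, ← Finset.sum_smul]
  have hd : χ' * χ⁻¹ ≠ 1 := fun e => hne (mul_inv_eq_one.1 e)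
  rw [Finset.sum_congr rfl fun a _ => show χ (-a) * χ' a = (χ' * χ⁻¹) a by
    rw [AddChar.mul_apply, AddChar.inv_apply]; ring, AddChar.sum_eq_zero_of_ne_one hd, mul_zero,
    zero_smul]

theorem sum_eigenProj {op : A → W →ₗ[ℂ] W} (h : IsOp op) (x : W) :
    ∑ χ : AddChar A ℂ, eigenProj op χ x = x := by
  simp only [eigenProj, LinearMap.smul_apply, ← Finset.smul_sum, sum_proj h, smul_smul]
  rw [inv_mul_cancel₀ (Nat.cast_ne_zero.2 Fintype.card_ne_zero), one_smul]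

variable [FiniteDimensional ℂ W]

theorem trace_eq_sum {op : A → W →ₗ[ℂ] W} (h : IsOp op) (g : W →ₗ[ℂ] W) :
    LinearMap.trace ℂ W g = ∑ χ : AddChar A ℂ, LinearMap.trace ℂ W (g ∘ₗ eigenProj op χ) := by
  rw [← map_sum]
  refine congrArg _ (LinearMap.ext fun x => ?_)
  simp only [LinearMap.sum_apply, LinearMap.comp_apply, ← map_sum, sum_eigenProj h]

theorem trace_restrict_eigen {op : A → W →ₗ[ℂ] W} (h : IsOp op) (g : W →ₗ[ℂ] W) (χ : AddChar A ℂ)
    (hg : ∀ x ∈ eigen op χ, g x ∈ eigen op χ) :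
    LinearMap.trace ℂ W (g ∘ₗ eigenProj op χ) = LinearMap.trace ℂ (eigen op χ) (g.restrict hg) := by
  let p : W →ₗ[ℂ] eigen op χ := LinearMap.codRestrict _ (eigenProj op χ) (eigenProj_apply_mem h χ)
  have e1 : g ∘ₗ eigenProj op χ = ((eigen op χ).subtype ∘ₗ g.restrict hg) ∘ₗ p := by
    ext x; rfl
  have e2 : p ∘ₗ ((eigen op χ).subtype ∘ₗ g.restrict hg) = g.restrict hg := by
    refine LinearMap.ext fun x => Subtype.ext ?_
    exact eigenProj_of_mem (hg x.1 x.2)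
  rw [e1, LinearMap.trace_comp_comm' p ((eigen op χ).subtype ∘ₗ g.restrict hg), e2]

theorem trace_of_scalar {op : A → W →ₗ[ℂ] W} (h : IsOp op) (g : W →ₗ[ℂ] W) (χ : AddChar A ℂ) (c : ℂ)
    (hg : ∀ x ∈ eigen op χ, g x = c • x) :
    LinearMap.trace ℂ W (g ∘ₗ eigenProj op χ) = c * finrank ℂ (eigen op χ) := by
  rw [trace_restrict_eigen h g χ fun x hx => by rw [hg x hx]; exact Submodule.smul_mem _ _ hx,
    show g.restrict _ = c • (LinearMap.id : eigen op χ →ₗ[ℂ] eigen op χ) from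
      LinearMap.ext fun x => Subtype.ext (hg x.1 x.2), map_smul, LinearMap.trace_id, smul_eq_mul]

theorem trace_of_move {op : A → W →ₗ[ℂ] W} (h : IsOp op) (g : W →ₗ[ℂ] W) {χ χ' : AddChar A ℂ}
    (hne : χ' ≠ χ) (hg : ∀ x ∈ eigen op χ, g x ∈ eigen op χ') :
    LinearMap.trace ℂ W (g ∘ₗ eigenProj op χ) = 0 := by
  have e1 : g ∘ₗ eigenProj op χ = (g ∘ₗ eigenProj op χ) ∘ₗ eigenProj op χ := by
    ext x
    simp [eigenProj_of_mem (eigenProj_apply_mem h χ x)]
  rw [e1, LinearMap.trace_comp_comm']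
  rw [show eigenProj op χ ∘ₗ g ∘ₗ eigenProj op χ = 0 from LinearMap.ext fun x =>
    eigenProj_of_mem_ne (hg _ (eigenProj_apply_mem h χ x)) hne, map_zero]

theorem sum_finrank_eigen {op : A → W →ₗ[ℂ] W} (h : IsOp op) :
    ∑ χ : AddChar A ℂ, finrank ℂ (eigen op χ) = finrank ℂ W := by
  have h1 := trace_eq_sum h (LinearMap.id : W →ₗ[ℂ] W)
  rw [LinearMap.trace_id, Finset.sum_congr rfl fun χ _ =>
    trace_of_scalar h LinearMap.id χ 1 fun x _ => (one_smul ℂ x).symm] at h1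
  simp only [one_mul] at h1
  exact_mod_cast h1.symm

end Cfsg.Agent.MinDegree
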