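import Cfsg.Agent.Lib.MinDegree.ExcWeights
import Cfsg.Agent.Lib.MinDegree.WeightTrace

/-!
The weight decomposition of an invariant subspace of a representation of a Chevalley group under a
commuting set of root subgroups.
-/

set_option autoImplicit false
set_option linter.unusedSectionVars false

open Module

namespace Cfsg.Agent.MinDegree.Exc

open Cfsg.Lie Cfsg.Agent.Chev

variable {F : Type*} [Field F] [Fintype F] {D : ChevalleyDatum} (hG : Good D)
variable {W : Type*} [AddCommGroup W] [Module ℂ W] [FiniteDimensional ℂ W]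
variable (ρ : Representation ℂ ↥(D.group F) W)

/-- The operator of a root element. -/
noncomputable def Xo (r : ℕ) (t : F) : W →ₗ[ℂ] W := ρ (xG hG r t)

theorem rho_inv_apply (g : ↥(D.group F)) (v : W) : ρ g⁻¹ (ρ g v) = v := by
  rw [← Module.End.mul_apply, ← map_mul, inv_mul_cancel, map_one, Module.End.one_apply]

theorem rho_mul_apply (g h : ↥(D.group F)) (v : W) : ρ (g * h) v = ρ g (ρ h v) := by
  rw [map_mul, Module.End.mul_apply]

theorem rho_injective (g : ↥(D.group F)) : Function.Injective (ρ g) :=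
  Function.LeftInverse.injective (rho_inv_apply ρ g)

/-- The elements preserving a subspace. -/
def Stab (M : Submodule ℂ W) : Subgroup ↥(D.group F) where
  carrier := {g | ∀ v ∈ M, ρ g v ∈ M}
  one_mem' := fun v hv => by simpa using hv
  mul_mem' := fun {a b} ha hb v hv => by rw [rho_mul_apply]; exact ha _ (hb v hv)
  inv_mem' := fun {a} ha v hv => by
    have hpow : ∀ n : ℕ, ∀ w ∈ M, ρ (a ^ n) w ∈ M := by
      intro n
      induction n with
      | zero => intro w hw; simpa using hw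
      | succ n ih => intro w hw; rw [pow_succ', rho_mul_apply]; exact ha _ (ih w hw)
    rw [inv_eq_of_mul_eq_one_left (a := a ^ (orderOf a - 1)) (b := a) (by
      rw [← pow_succ, Nat.sub_add_cancel (orderOf_pos a), pow_orderOf_eq_one])]
    exact hpow _ v hv

theorem mem_Stab {M : Submodule ℂ W} {g : ↥(D.group F)} : g ∈ Stab ρ M ↔ ∀ v ∈ M, ρ g v ∈ M := Iff.rfl

/-- The elements fixing a subspace pointwise. -/
def Fix (M : Submodule ℂ W) : Subgroup ↥(D.group F) where
  carrier := {g | ∀ v ∈ M, ρ g v = v}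
  one_mem' := fun v _ => by simp
  mul_mem' := fun {a b} ha hb v hv => by rw [rho_mul_apply, hb v hv, ha v hv]
  inv_mem' := fun {a} ha v hv => by conv_lhs => rw [← ha v hv, rho_inv_apply]

theorem mem_Fix {M : Submodule ℂ W} {g : ↥(D.group F)} : g ∈ Fix ρ M ↔ ∀ v ∈ M, ρ g v = v := Iff.rfl

/-- The subspace fixed by the root subgroups of a list of roots. -/
noncomputable def fixedBy (U : List ℕ) : Submodule ℂ W :=
  ⨅ r, ⨅ _ : r ∈ U, ⨅ t : F, LinearMap.ker (Xo hG ρ r t - LinearMap.id)

theorem mem_fixedBy {U : List ℕ} {v : W} :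
    v ∈ fixedBy hG ρ U ↔ ∀ r ∈ U, ∀ t : F, ρ (xG hG r t) v = v := by
  simp [fixedBy, Submodule.mem_iInf, sub_eq_zero, Xo]

/-- A subspace invariant under the root elements of the given nodes and under the torus. -/
def InvM (M : Submodule ℂ W) (J : List ℕ) : Prop :=
  lv hG J ≤ Stab ρ M ∧ ∀ k < D.rank, ∀ c : F, c ≠ 0 → hR hG (D.simple k) c ∈ Stab ρ M

/-- The root subgroups of a list commute on a subspace and preserve it. -/
def AbelOn (M : Submodule ℂ W) (S : List ℕ) : Prop :=
  (∀ s ∈ S, ∀ t : F, xG hG s t ∈ Stab ρ M) ∧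
    ∀ s ∈ S, ∀ s' ∈ S, ∀ t u : F, ∀ v ∈ M,
      ρ (xG hG s t) (ρ (xG hG s' u) v) = ρ (xG hG s' u) (ρ (xG hG s t) v)

/-- The weight space. -/
noncomputable def wsp (M : Submodule ℂ W) {S : List ℕ} (φ : Wt F S) : Submodule ℂ W :=
  M ⊓ ⨅ s : {s // s ∈ S}, ⨅ t : F, LinearMap.ker (Xo hG ρ s.1 t - φ s t • LinearMap.id)

theorem mem_wsp {M : Submodule ℂ W} {S : List ℕ} {φ : Wt F S} {v : W} :
    v ∈ wsp hG ρ M φ ↔ v ∈ M ∧ ∀ s ∈ S, ∀ t : F, ρ (xG hG s t) v = ext φ s t • v := by
  simp only [wsp, Submodule.mem_inf, Submodule.mem_iInf, LinearMap.mem_ker, LinearMap.sub_apply,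
    LinearMap.smul_apply, LinearMap.id_apply, sub_eq_zero, Xo]
  refine and_congr_right fun _ => ⟨fun h s hs t => ?_, fun h s t => ?_⟩
  · rw [ext, dif_pos hs]; exact h ⟨s, hs⟩ t
  · rw [h s.1 s.2 t, ext_of_mem]

theorem wsp_one (M : Submodule ℂ W) (S : List ℕ) :
    wsp hG ρ M (1 : Wt F S) = M ⊓ fixedBy hG ρ S := by
  ext v
  simp only [mem_wsp, Submodule.mem_inf, mem_fixedBy, ext_one, AddChar.one_apply, one_smul]

theorem addChar_sum {ι A : Type*} [AddCommMonoid A] (χ : AddChar A ℂ) (s : Finset ι) (f : ι → A) :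
    χ (∑ i ∈ s, f i) = ∏ i ∈ s, χ (f i) := by
  classical
  induction s using Finset.induction_on with
  | empty => simp
  | insert a s ha ih => rw [Finset.sum_insert ha, Finset.prod_insert ha, AddChar.map_add_eq_mul, ih]

variable {M : Submodule ℂ W} {S : List ℕ}

theorem list_prod_apply {ι : Type*} (f : ι → Module.End ℂ W) (c : ι → ℂ) {v : W}
    (h : ∀ i, f i v = c i • v) : ∀ l : List ι, (l.map f).prod v = (l.map c).prod • v := by
  intro l
  induction l with
  | nil => simp
  | cons a l ih => rw [List.map_cons, List.prod_cons, List.map_cons, List.prod_cons, Module.End.mul_apply, ih,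
      map_smul, h, smul_smul, mul_comm]

/-- The dimensions of the weight spaces add up. -/
theorem sum_finrank_wsp [DecidableEq F] [Fintype (Wt F S)] (hS : S.Nodup) (hA : AbelOn hG ρ M S) :
    ∑ φ : Wt F S, finrank ℂ (wsp hG ρ M φ) = finrank ℂ M := by
  classical
  let o : {s // s ∈ S} → F → Module.End ℂ M := fun s t =>
    (Xo hG ρ s.1 t).restrict fun v hv => mem_Stab ρ |>.1 (hA.1 s.1 s.2 t) v hv
  have ho : ∀ s t u, o s t * o s u = o s (t + u) := fun s t u => LinearMap.ext fun v => Subtype.ext (by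
    show ρ (xG hG s.1 t) (ρ (xG hG s.1 u) v.1) = ρ (xG hG s.1 (t + u)) v.1
    rw [← rho_mul_apply, xG_add])
  have ho0 : ∀ s, o s 0 = 1 := fun s => LinearMap.ext fun v => Subtype.ext (by
    show ρ (xG hG s.1 (0 : F)) v.1 = v.1
    rw [xG_zero, map_one, Module.End.one_apply])
  have hcomm : ∀ s s' t u, Commute (o s t) (o s' u) := fun s s' t u => LinearMap.ext fun v => Subtype.ext
    (hA.2 s.1 s.2 s'.1 s'.2 t u v.1 v.2)
  let op : ({s // s ∈ S} → F) → M →ₗ[ℂ] M := fun a => (S.attach.map fun s => o s (a s)).prod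
  have key : ∀ (l : List {s // s ∈ S}) (a b : {s // s ∈ S} → F),
      (l.map fun s => o s (a s + b s)).prod = (l.map fun s => o s (a s)).prod * (l.map fun s => o s (b s)).prod := by
    intro l a b
    induction l with
    | nil => simp
    | cons x l ih =>
      have hc : Commute (o x (b x)) (l.map fun s => o s (a s)).prod :=
        Commute.list_prod_right _ _ fun y hy => by
          obtain ⟨s, -, rfl⟩ := List.mem_map.1 hy
          exact hcomm _ _ _ _
      rw [List.map_cons, List.prod_cons, List.map_cons, List.prod_cons, List.map_cons, List.prod_cons, ih, ← ho]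
      simp only [mul_assoc]
      rw [← mul_assoc (o x (b x)), hc.eq, mul_assoc]
  have hop : IsOp op := by
    refine ⟨List.prod_eq_one fun y hy => ?_, fun a b => key _ a b⟩
    obtain ⟨s, -, rfl⟩ := List.mem_map.1 hy
    exact ho0 s
  have hsingle : ∀ s t, op (Pi.single s t) = o s t := by
    intro s t
    have : ∀ l : List {s // s ∈ S}, l.Nodup → (l.map fun x => o x ((Pi.single s t : _ → F) x)).prod =
        if s ∈ l then o s t else 1 := by
      intro l hl
      induction l with
      | nil => simp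
      | cons x l ih =>
        rw [List.nodup_cons] at hl
        rw [List.map_cons, List.prod_cons, ih hl.2]
        by_cases hx : x = s
        · subst hx
          simp [hl.1]
        · rw [Pi.single_eq_of_ne hx, ho0, one_mul]
          simp [Ne.symm hx]
    rw [show op (Pi.single s t) = _ from this _ (List.nodup_attach.2 hS)]
    simp
  let e : AddChar ({s // s ∈ S} → F) ℂ → Wt F S := fun χ s =>
    χ.compAddMonoidHom (AddMonoidHom.single (fun _ : {s // s ∈ S} => F) s)
  have he : Function.Injective e := by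
    intro χ χ' h
    refine DFunLike.ext _ _ fun a => ?_
    rw [← Finset.univ_sum_single a, addChar_sum, addChar_sum]
    exact Finset.prod_congr rfl fun s _ => congrArg (fun φ : Wt F S => φ s (a s)) h
  have hsurj : Function.Surjective e := by
    refine ((Fintype.bijective_iff_injective_and_card e).2 ⟨he, ?_⟩).2
    rw [AddChar.card_eq, ← Nat.card_eq_fintype_card, ← Nat.card_eq_fintype_card, Nat.card_fun, Nat.card_fun,
      Nat.card_eq_fintype_card (α := AddChar F ℂ), AddChar.card_eq, Nat.card_eq_fintype_card (α := F)]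
  have hmap : ∀ χ, (eigen op χ).map M.subtype = wsp hG ρ M (e χ) := by
    intro χ
    ext v
    rw [mem_wsp, Submodule.mem_map]
    constructor
    · rintro ⟨x, hx, rfl⟩
      refine ⟨x.2, fun s hs t => ?_⟩
      have h1 := congrArg Subtype.val (mem_eigen.1 hx (Pi.single ⟨s, hs⟩ t))
      rw [hsingle] at h1
      rw [ext, dif_pos hs]
      exact h1
    · rintro ⟨hv, h⟩
      refine ⟨⟨v, hv⟩, mem_eigen.2 fun a => ?_, rfl⟩
      have h1 := list_prod_apply (W := M) (fun s : {s // s ∈ S} => o s (a s)) (fun s => e χ s (a s))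
        (v := ⟨v, hv⟩) (fun s => Subtype.ext (by
          show ρ (xG hG s.1 (a s)) v = _
          rw [h s.1 s.2, ext_of_mem]; rfl)) S.attach
      refine h1.trans (congrArg (fun c : ℂ => c • (⟨v, hv⟩ : M)) ?_)
      rw [← List.prod_toFinset _ (List.nodup_attach.2 hS),
        show S.attach.toFinset = Finset.univ from Finset.eq_univ_of_forall fun s => by simp]
      conv_rhs => rw [← Finset.univ_sum_single a, addChar_sum]
      rfl
  rw [← sum_finrank_eigen hop, ← Function.Bijective.sum_comp ⟨he, hsurj⟩]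
  refine Finset.sum_congr rfl fun χ _ => ?_
  rw [← hmap, (Submodule.equivMapOfInjective _ M.injective_subtype _).finrank_eq]

theorem finrank_wsp_le {φ φ' : Wt F S} {g : ↥(D.group F)}
    (h : ∀ v ∈ wsp hG ρ M φ, ρ g v ∈ wsp hG ρ M φ') :
    finrank ℂ (wsp hG ρ M φ) ≤ finrank ℂ (wsp hG ρ M φ') := by
  refine LinearMap.finrank_le_finrank_of_injective (f := (ρ g).restrict h) fun x y e => Subtype.ext ?_
  exact rho_injective ρ g (congrArg Subtype.val e)

theorem finrank_wsp_eq {φ φ' : Wt F S} {g : ↥(D.group F)} (hg : g ∈ Stab ρ M)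
    (h : ∀ v ∈ M, (v ∈ wsp hG ρ M φ ↔ ρ g v ∈ wsp hG ρ M φ')) :
    finrank ℂ (wsp hG ρ M φ) = finrank ℂ (wsp hG ρ M φ') := by
  refine le_antisymm (finrank_wsp_le hG ρ fun v hv => (h v ((mem_wsp hG ρ).1 hv).1).1 hv)
    (finrank_wsp_le hG ρ (g := g⁻¹) fun v hv => ?_)
  have hv' := (Stab ρ M).inv_mem hg v ((mem_wsp hG ρ).1 hv).1
  refine (h _ hv').2 ?_
  rwa [← rho_mul_apply, mul_inv_cancel, map_one, Module.End.one_apply]

theorem wsp_move_root {L : Lev} (h : L.weightsOK D = true) {r : ℕ} (hr : r ∈ L.mv D) (t : F)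
    (hg : xG hG r t ∈ Stab ρ M) (φ : Wt F L.S) :
    ∀ v ∈ wsp hG ρ M φ, ρ (xG hG r t) v ∈ wsp hG ρ M (E D r t φ) := by
  intro v hv
  rw [mem_wsp] at hv ⊢
  refine ⟨hg v hv.1, fun s hs u => ?_⟩
  obtain ⟨hok, hnext⟩ := mv_ok h hr hs
  rw [← rho_mul_apply, xG_swap hG hok, rho_mul_apply, rho_mul_apply, stepEl]
  rcases hst : step D r s with _ | ⟨p, σ⟩
  · dsimp only
    rw [map_one, Module.End.one_apply, hv.2 s hs, map_smul, ext_E_none hst]
  · dsimp only
    rw [hv.2 p (hnext p σ hst).1, map_smul, hv.2 s hs, smul_smul, map_smul, ext_E_some hs hst,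
      AddChar.mul_apply, AddChar.mulShift_apply, mul_comm (ext φ p _)]
    congr 3
    ring

theorem wsp_move_torus {L : Lev} (h : L.weightsOK D = true) {k : ℕ} (hk : k < D.rank) {c : F} (hc : c ≠ 0)
    (hg : hR hG (D.simple k) c ∈ Stab ρ M) (φ : Wt F L.S) :
    ∀ v ∈ wsp hG ρ M φ, ρ (hR hG (D.simple k) c) v ∈
      wsp hG ρ M (fun s : {s // s ∈ L.S} => AddChar.mulShift (φ s) (c ^ D.cartan k s.1)⁻¹) := by
  intro v hv
  rw [mem_wsp] at hv ⊢
  refine ⟨hg v hv.1, fun s hs u => ?_⟩
  have e1 := hR_conj hG hk (S_lt h hs) hc ((c ^ D.cartan k s)⁻¹ * u)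
  rw [mul_inv_cancel_left₀ (zpow_ne_zero _ hc)] at e1
  rw [← rho_mul_apply, ← e1, rho_mul_apply, hv.2 s hs, map_smul, ext, dif_pos hs, ext, dif_pos hs,
    AddChar.mulShift_apply]

/-- A function which does not decrease along the maps between weight spaces given by the elements of a
subgroup has the invariances used in the counting. -/
theorem inv_of_mono {L : Lev} (h : L.weightsOK D = true) {H : Subgroup ↥(D.group F)} (hHM : H ≤ Stab ρ M)
    (hmv : ∀ r ∈ L.mv D, ∀ t : F, xG hG r t ∈ H)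
    (hn : ∀ i ∈ L.J', nR hG (D.simple i) (1 : F) ∈ H)
    (hscale : L.scale < D.rank ∧ (D.cartan L.scale L.top = 1 ∨ D.cartan L.scale L.top = -1))
    (hh : ∀ c : F, c ≠ 0 → hR hG (D.simple L.scale) c ∈ H)
    {d : Wt F L.S → ℕ}
    (hd : ∀ g ∈ H, ∀ φ φ', (∀ v ∈ wsp hG ρ M φ, ρ g v ∈ wsp hG ρ M φ') → d φ ≤ d φ') :
    Inv D L d where
  hE r hr t φ := by
    refine le_antisymm ?_ (hd _ (hmv r hr t) _ _ (wsp_move_root hG ρ h hr t (hHM (hmv r hr t)) φ))
    have h1 := hd _ (hmv r hr (-t)) _ _ (wsp_move_root hG ρ h hr (-t) (hHM (hmv r hr _)) (E D r t φ))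
    rwa [E_add h hr, neg_add_cancel, E_zero h] at h1
  hR i hi φ := by
    have hir : ∀ s ∈ L.S, i < D.rank := fun s hs => (refl_mem h hi hs).1
    have hex : ∀ s : {s // s ∈ L.S}, ∃ e : F, e * e = 1 ∧ ∀ t : F, nR hG (D.simple i) 1 *
        xG hG (D.reflectRoot i s.1) t = xG hG s.1 (e * t) * nR hG (D.simple i) 1 := by
      intro s
      have hi' := hir s.1 s.2
      obtain ⟨e, he, hc, -⟩ := exists_nconj hG (F := F) hi' (hG.reflectRoot_lt hi' (S_lt h s.2))
      rw [hG.reflectRoot_reflectRoot hi' (S_lt h s.2)] at hc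
      exact ⟨e, he, hc⟩
    choose e he hc using hex
    refine ⟨fun s => AddChar.mulShift (ext φ (D.reflectRoot i s.1)) (e s), ?_, fun s hs => ?_⟩
    · have key : ∀ v ∈ M, v ∈ wsp hG ρ M φ ↔ ρ (nR hG (D.simple i) 1) v ∈
          wsp hG ρ M (fun s : {s // s ∈ L.S} => AddChar.mulShift (ext φ (D.reflectRoot i s.1)) (e s)) := by
        intro v hv
        rw [mem_wsp, mem_wsp]
        constructor
        · intro hvφ
          refine ⟨hHM (hn i hi) v hv, fun s hs u => ?_⟩
          have e1 := hc ⟨s, hs⟩ (e ⟨s, hs⟩ * u)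
          rw [← mul_assoc, he, one_mul] at e1
          rw [ext, dif_pos hs, ← rho_mul_apply, ← e1, rho_mul_apply, hvφ.2 _ (refl_mem h hi hs).2, map_smul,
            AddChar.mulShift_apply]
        · intro hw
          refine ⟨hv, fun r hr u => ?_⟩
          obtain ⟨hi', hr'⟩ := refl_mem h hi hr
          have e1 := hc ⟨_, hr'⟩ u
          simp only [hG.reflectRoot_reflectRoot hi' (S_lt h hr)] at e1
          refine rho_injective ρ (nR hG (D.simple i) 1) ?_
          rw [← rho_mul_apply, e1, rho_mul_apply, hw.2 _ hr', map_smul, ext, dif_pos hr', AddChar.mulShift_apply]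
          simp only [hG.reflectRoot_reflectRoot hi' (S_lt h hr)]
          rw [← mul_assoc, he, one_mul]
      refine le_antisymm (hd _ (H.inv_mem (hn i hi)) _ _ fun v hv => ?_)
        (hd _ (hn i hi) _ _ fun v hv => (key v ((mem_wsp hG ρ).1 hv).1).1 hv)
      refine (key _ ((Stab ρ M).inv_mem (hHM (hn i hi)) v ((mem_wsp hG ρ).1 hv).1)).2 ?_
      rwa [← rho_mul_apply, mul_inv_cancel, map_one, Module.End.one_apply]
    · rw [ext, dif_pos hs]
      constructor
      · intro h1
        ext x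
        have := DFunLike.congr_fun h1 (e ⟨s, hs⟩ * x)
        rwa [AddChar.mulShift_apply, ← mul_assoc, he, one_mul, AddChar.one_apply] at this
      · intro h1
        simp only [h1]
        ext x
        simp [AddChar.mulShift_apply]
  hT ψ ψ' hψ hψ' := by
    suffices key : ∀ ψ ψ' : AddChar F ℂ, ψ ≠ 1 → ψ' ≠ 1 →
        d (delta (S := L.S) L.top ψ) ≤ d (delta (S := L.S) L.top ψ') from
      le_antisymm (key ψ ψ' hψ hψ') (key ψ' ψ hψ' hψ)
    intro ψ ψ' hψ hψ'
    obtain ⟨a, ha⟩ := (mulShift_bijective hψ).2 ψ'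
    have ha0 : a ≠ 0 := fun e => hψ' (by rw [← ha, e]; simp)
    obtain ⟨c, hc0, hca⟩ : ∃ c : F, c ≠ 0 ∧ c ^ D.cartan L.scale L.top * a = 1 := by
      rcases hscale.2 with e | e
      · exact ⟨a⁻¹, inv_ne_zero ha0, by rw [e, zpow_one, inv_mul_cancel₀ ha0]⟩
      · exact ⟨a, ha0, by rw [e, zpow_neg_one, inv_mul_cancel₀ ha0]⟩
    have e2 : delta (S := L.S) L.top ψ' = fun s : {s // s ∈ L.S} =>
        AddChar.mulShift (delta (S := L.S) L.top ψ s) (c ^ D.cartan L.scale s.1)⁻¹ := by
      funext s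
      simp only [delta]
      split_ifs with hst
      · rw [hst, inv_eq_of_mul_eq_one_right hca]
        exact ha.symm
      · ext x
        simp [AddChar.mulShift_apply]
    rw [e2]
    exact hd _ (hh c hc0) _ _ (wsp_move_torus hG ρ h hscale.1 hc0 (hHM (hh c hc0)) _)

/-- The dimensions of the weight spaces have the invariances used in the counting. -/
theorem inv_wsp {L : Lev} (h : L.weightsOK D = true)
    (hmv : ∀ r ∈ L.mv D, ∀ t : F, xG hG r t ∈ Stab ρ M)
    (hn : ∀ i ∈ L.J', nR hG (D.simple i) (1 : F) ∈ Stab ρ M)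
    (hscale : L.scale < D.rank ∧ (D.cartan L.scale L.top = 1 ∨ D.cartan L.scale L.top = -1))
    (hh : ∀ c : F, c ≠ 0 → hR hG (D.simple L.scale) c ∈ Stab ρ M) :
    Inv D L fun φ : Wt F L.S => finrank ℂ (wsp hG ρ M φ) :=
  inv_of_mono hG ρ h le_rfl hmv hn hscale hh fun _ _ _ _ hg => finrank_wsp_le hG ρ hg

end Cfsg.Agent.MinDegree.Exc
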