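import Cfsg.Agent.Lib.MinDegree.ExcLevel

/-!
The degree of an irreducible representation from the Heisenberg radical of a Chevalley group and the
bounds for its Levi complement.
-/

set_option autoImplicit false
set_option linter.unusedSectionVars false

open Module

namespace Cfsg.Agent.MinDegree.Exc

open Cfsg.Lie Cfsg.Agent.Chev

variable {F : Type*} [Field F] [Fintype F] {D : ChevalleyDatum} (hG : Good D)
variable {W : Type*} [AddCommGroup W] [Module ℂ W] [FiniteDimensional ℂ W]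
variable (ρ : Representation ℂ ↥(D.group F) W)

theorem xG_neg_mem_lv {J L : List ℕ} (h : genOK D J L = true) :
    ∀ r ∈ L, ∀ t : F, xG hG (D.neg r) t ∈ lv hG J := by
  intro r
  induction r using Nat.strong_induction_on with
  | _ r ih =>
    intro hr t
    simp only [genOK, List.all_eq_true, List.any_eq_true, Bool.and_eq_true, Bool.or_eq_true,
      decide_eq_true_eq, List.contains_iff_mem] at h
    obtain ⟨-, i, hi, hir, hcase⟩ := h r hr
    rcases hcase with rfl | ⟨⟨hsr, hs⟩, hw⟩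
    · exact (xG_simple_mem_lv hG hi t).2
    · obtain ⟨s, hs', rfl, hsr⟩ : ∃ s, s ∈ L ∧ r = D.reflectRoot i s ∧ s < r := ⟨_, hs, hw, hsr⟩
      clear hs hw
      have hs : s ∈ L := hs'
      have hsn : s < D.nroots := (h s hs).1
      obtain ⟨e, he', hc, -⟩ := exists_nconj hG (F := F) hir (hG.neg_lt hsn)
      rw [hG.reflectRoot_neg hir hsn] at hc
      have e1 := hc (e * t)
      rw [← mul_assoc, he', one_mul, ← mul_inv_eq_iff_eq_mul] at e1
      rw [← e1]
      exact (lv hG J).mul_mem ((lv hG J).mul_mem (nR_simple_mem_lv hG hi 1) (ih s hsr hs _))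
        ((lv hG J).inv_mem (nR_simple_mem_lv hG hi 1))

/-- The checks on the top level; `P` pairs the roots of the radical. -/
def topOK (D : ChevalleyDatum) (L : Lev) (pos : List ℕ) (th : ℕ) (P : List (ℕ × ℕ)) : Bool :=
  L.weightsOK D && braidOK D L.J L.J' L.rts (L.S ++ [th]) L.j L.nb && genOK D L.J pos &&
    (decide (th < D.nroots) && decide (L.scale < D.rank) &&
      (decide (D.cartan L.scale L.top = 1) || decide (D.cartan L.scale L.top = -1)) &&
      decide (D.cartan L.j th = 1)) &&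
    ((List.range D.nroots).all fun r => pos.contains r || pos.contains (D.neg r)) &&
    ((L.S ++ L.mv D).all fun r => stepOK D r th && (step D r th).isNone) &&
    (L.S.all fun s => L.S.all fun s' =>
      decide (s = s') || stepOK D s s' && through (step D s s') fun p => decide (p = th)) &&
    (L.S.contains (D.simple L.j) && L.S.contains (D.reflectRoot L.j th) && decide (D.simple L.j ≠ D.reflectRoot L.j th) &&
      hits (step D (D.simple L.j) (D.reflectRoot L.j th)) th) &&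
    decide (P.map Prod.fst).Nodup && P.all fun x =>
      L.S.contains x.1 && L.S.contains x.2 && hits (step D x.2 x.1) th &&
        decide (x.2 ≠ x.1) && P.all fun y =>
          decide (y.1 ≠ x.2) && (decide (y.1 = x.1) || (step D x.2 y.1).isNone && (step D x.1 y.1).isNone)

variable {L : Lev} {pos : List ℕ} {th : ℕ} {P : List (ℕ × ℕ)}

/-- The degree of an irreducible representation is at least `T` or among the candidates, with known value
at a root element in the second case. -/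
theorem top_bound [ρ.IsIrreducible] (hsimple : IsSimpleGroup ↥(D.group F)) (hne : ∃ g, ρ g ≠ 1)
    (hL : topOK D L pos th P = true) (hz : xG hG th (1 : F) ≠ 1) {T' : ℤ} {poss' : List ℤ} {low' : List (ℕ × ℤ)} {dnb : ℤ}
    (hBd : Bd hG ρ L.J' L.rts T' poss' low') (hnb : (L.nb, dnb) ∈ low') (hdnb : dnb ≤ 2)
    {Q N T : ℤ} {poss : List ℤ} (hQ : Q = ((Fintype.card F : ℤ) - 1) * (Fintype.card F : ℤ) ^ P.length)
    (hN : N = (orbitSize (Fintype.card F) L : ℤ)) (hT : T = Q + N + T' + 1) (h2N : T ≤ Q + 2 * N)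
    (h2Q : T ≤ 2 * Q + N) (hB : T ≤ Q + (Fintype.card F : ℤ) ^ (L.A1.length + L.A2.length))
    (hp0 : Q + N ∈ poss) (hp1 : T - 1 ∈ poss) (hp2 : T - 2 ∈ poss) (hp3 : ∀ x ∈ poss', Q + N + x ∈ poss) :
    T ≤ (finrank ℂ W : ℤ) ∨ ((finrank ℂ W : ℤ) ∈ poss ∧ ∀ t : F, t ≠ 0 →
      LinearMap.trace ℂ W (ρ (xG hG th t)) = (finrank ℂ W : ℂ) - (Fintype.card F : ℂ) ^ (P.length + 1)) := by
  classical
  simp only [topOK, Bool.and_eq_true, Bool.or_eq_true, List.all_eq_true, decide_eq_true_eq,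
    List.contains_iff_mem, Option.isNone_iff_eq_none, List.mem_range] at hL
  obtain ⟨⟨⟨⟨⟨⟨⟨⟨⟨hW, hbr⟩, hgen⟩, hnum⟩, hall⟩, hcen⟩, hSS⟩, hfuse⟩, hPnd⟩, hP⟩ := hL
  obtain ⟨⟨⟨hth, hsk⟩, hsc⟩, hjth⟩ := hnum
  have hbr' := hbr
  simp only [braidOK, Bool.and_eq_true, Bool.or_eq_true, List.all_eq_true, decide_eq_true_eq,
    List.contains_iff_mem] at hbr'
  obtain ⟨⟨⟨⟨⟨⟨⟨⟨⟨⟨⟨hjr, -⟩, hjJ⟩, -⟩, -⟩, -⟩, -⟩, -⟩, hJ'⟩, -⟩, hgen'⟩, -⟩ := hbr'
  have hJr : ∀ i ∈ L.J', i < D.rank := fun i hi => by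
    have h := hW
    simp only [Lev.weightsOK, Bool.and_eq_true, List.all_eq_true, decide_eq_true_eq] at h
    exact (h.1.1.1.2 i hi).1
  have hlvtop : lv hG (F := F) L.J = ⊤ := by
    rw [eq_top_iff, ← closure_xG hG, Subgroup.closure_le]
    rintro _ ⟨r, hr, t, rfl⟩
    rcases hall r hr with h | h
    · exact xG_mem_lv hG hgen r h t
    · have := xG_neg_mem_lv hG hgen _ h t
      rwa [hG.neg_neg hr] at this
  have hnofix : ∀ v : W, v ∈ fixedBy hG ρ (gensOf D L.J) → v = 0 := by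
    intro v hv
    let Fx : Subrepresentation ρ :=
      ⟨fixedBy hG ρ (gensOf D L.J), fun g w hw => by
        rwa [fixed_of_lv hG ρ hw (hlvtop ▸ Subgroup.mem_top g)]⟩
    rcases eq_bot_or_eq_top Fx with h | h
    · have : v ∈ Fx := hv
      rw [h] at this
      exact (Submodule.mem_bot ℂ).1 this
    · exfalso
      obtain ⟨g, hg⟩ := hne
      refine hg (LinearMap.ext fun w => ?_)
      have hw : w ∈ Fx := by rw [h]; exact Submodule.mem_top
      exact fixed_of_lv hG ρ hw (hlvtop ▸ Subgroup.mem_top g)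
  -- the centre
  let opz : F → W →ₗ[ℂ] W := fun t => ρ (xG hG th t)
  have hopz : IsOp opz := ⟨by simp [opz, xG_zero], fun s t => by simp only [opz, ← map_mul, xG_add]⟩
  have hcomm : ∀ r ∈ L.S ++ L.mv D, ∀ t u : F, Commute (xG hG th u) (xG hG r t) := fun r hr t u =>
    xG_commute hG (hcen r hr).1 (hcen r hr).2 t u
  have hstabψ : ∀ r ∈ L.S ++ L.mv D, ∀ (t : F) (ψ : AddChar F ℂ), ∀ x ∈ eigen opz ψ,
      ρ (xG hG r t) x ∈ eigen opz ψ := by
    intro r hr t ψ x hx
    rw [mem_eigen] at hx ⊢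
    intro u
    show ρ (xG hG th u) (ρ (xG hG r t) x) = _
    rw [← rho_mul_apply, (hcomm r hr t u).eq, rho_mul_apply]
    exact (congrArg _ (hx u)).trans (map_smul _ _ _)
  set d : AddChar F ℂ → ℕ := fun ψ => finrank ℂ (eigen opz ψ) with hd
  obtain ⟨ψ0, hψ0⟩ : ∃ ψ : AddChar F ℂ, ψ ≠ 1 := by
    have : Nontrivial (AddChar F ℂ) := Fintype.one_lt_card_iff_nontrivial.1 (by
      rw [AddChar.card_eq]; exact Fintype.one_lt_card)
    exact exists_ne 1
  have hdle : ∀ (ψ : AddChar F ℂ) (c : F), c ≠ 0 → d ψ ≤ d (AddChar.mulShift ψ c⁻¹) := by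
    intro ψ c hc
    have hmap : ∀ x ∈ eigen opz ψ, ρ (hR hG (D.simple L.j) c) x ∈ eigen opz (AddChar.mulShift ψ c⁻¹) := by
      intro x hx
      rw [mem_eigen] at hx ⊢
      intro u
      have e1 := hR_conj hG hjr hth hc (c⁻¹ * u)
      rw [hjth, zpow_one, mul_inv_cancel_left₀ hc] at e1
      show ρ (xG hG th u) _ = _
      rw [← rho_mul_apply, ← e1, rho_mul_apply, AddChar.mulShift_apply]
      exact (congrArg _ (hx _)).trans (map_smul _ _ _)
    refine LinearMap.finrank_le_finrank_of_injective (f := (ρ (hR hG (D.simple L.j) c)).restrict hmap)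
      fun x y h => Subtype.ext ?_
    exact rho_injective ρ _ (congrArg Subtype.val h)
  have hdeq : ∀ ψ, ψ ≠ 1 → d ψ = d ψ0 := by
    intro ψ hψ
    obtain ⟨a, rfl⟩ := (mulShift_bijective hψ0).2 ψ
    have ha : a ≠ 0 := fun h => hψ (by simp only [h, AddChar.mulShift_zero])
    refine le_antisymm ?_ ?_
    · have h := hdle (AddChar.mulShift ψ0 a) a ha
      rwa [AddChar.mulShift_mulShift, mul_inv_cancel₀ ha, AddChar.mulShift_one] at h
    · have h := hdle ψ0 a⁻¹ (inv_ne_zero ha)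
      rwa [inv_inv] at h
  have hsum : d 1 + (Fintype.card F - 1) * d ψ0 = finrank ℂ W := by
    rw [← sum_finrank_eigen hopz, ← Finset.add_sum_erase _ _ (Finset.mem_univ (1 : AddChar F ℂ)),
      Finset.sum_congr rfl fun ψ hψ => hdeq ψ (Finset.ne_of_mem_erase hψ), Finset.sum_const,
      Finset.card_erase_of_mem (Finset.mem_univ _), Finset.card_univ, AddChar.card_eq, smul_eq_mul]
  have hd0 : d ψ0 ≠ 0 := by
    intro h0
    rw [h0, mul_zero, add_zero] at hsum
    have htop : eigen opz (1 : AddChar F ℂ) = ⊤ := Submodule.eq_top_of_finrank_eq hsum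
    have hker : xG hG th (1 : F) ∈ MonoidHom.ker ρ := MonoidHom.mem_ker.2 (LinearMap.ext fun x => by
      have h := mem_eigen.1 (htop ▸ Submodule.mem_top : x ∈ eigen opz (1 : AddChar F ℂ)) 1
      simpa [opz] using h)
    rcases (inferInstance : (MonoidHom.ker ρ).Normal).eq_bot_or_eq_top with hb | hb
    · rw [hb, Subgroup.mem_bot] at hker
      exact hz hker
    · obtain ⟨g, hg⟩ := hne
      exact hg (MonoidHom.mem_ker.1 (hb ▸ Subgroup.mem_top g))
  have hS1 : ∀ s ∈ L.S, s ∈ L.S ++ L.mv D := fun s h => List.mem_append_left _ h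
  have hswap : ∀ s ∈ L.S, ∀ s' ∈ L.S, s ≠ s' → stepOK D s s' = true ∧ ∀ p σ, step D s s' = some (p, σ) → p = th := by
    intro s hs s' hs' hne'
    obtain ⟨h1, h2⟩ := (hSS s hs s' hs').resolve_left hne'
    refine ⟨h1, fun p σ e => ?_⟩
    simpa [through, e] using h2
  -- the pairs give a multiple of a power of `q`
  obtain ⟨d1, hd1⟩ : ∃ d1 : ℕ, d ψ0 = Fintype.card F ^ P.length * d1 := by
    set Ra := P.map Prod.fst with hRa
    set X := eigen opz ψ0 with hX
    have hRaS : ∀ a ∈ Ra, a ∈ L.S := fun a ha => by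
      obtain ⟨x, hx, rfl⟩ := List.mem_map.1 ha
      exact (hP x hx).1.1.1.1
    have hA : AbelOn hG ρ X Ra := by
      refine ⟨fun s hs t => fun v hv => hstabψ s (hS1 s (hRaS s hs)) t ψ0 v hv, fun s hs s' hs' t u v _ => ?_⟩
      rcases eq_or_ne s s' with rfl | hne'
      · rw [← rho_mul_apply, ← rho_mul_apply, xG_add, xG_add, add_comm]
      obtain ⟨x, hx, rfl⟩ := List.mem_map.1 hs
      obtain ⟨y, hy, rfl⟩ := List.mem_map.1 hs'
      obtain ⟨-, hnone⟩ := ((hP x hx).2 y hy).2.resolve_left (Ne.symm hne')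
      rw [← rho_mul_apply, ← rho_mul_apply,
        (xG_commute hG (hswap _ (hRaS _ hs) _ (hRaS _ hs') hne').1 hnone t u).eq]
    let dd : Wt F Ra → ℕ := fun φ => finrank ℂ (wsp hG ρ X φ)
    have hshift : ∀ (a : {a // a ∈ Ra}) (χ : AddChar F ℂ) (φ : Wt F Ra), dd φ ≤ dd (φ * Pi.mulSingle a χ) := by
      intro a χ φ
      obtain ⟨x, hx, hxa⟩ := List.mem_map.1 a.2
      obtain ⟨⟨⟨⟨-, hx2⟩, hhit⟩, hne12⟩, hys⟩ := hP x hx
      obtain ⟨σ, hσ⟩ := hits_iff hhit
      have hx1 : x.1 ∈ L.S := hRaS _ (List.mem_map_of_mem hx)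
      have hσ' := (step_some (hswap x.2 hx2 x.1 hx1 hne12).1 hσ).2.2
      obtain ⟨u', hu'⟩ := (mulShift_bijective hψ0).2 χ
      set u := (-(σ : F))⁻¹ * u' with hu
      refine finrank_wsp_le hG ρ (g := xG hG x.2 u) fun v hv => ?_
      rw [mem_wsp] at hv ⊢
      have hx2' : x.2 ∈ L.S ++ L.mv D := hS1 _ hx2
      refine ⟨hstabψ _ hx2' u ψ0 v hv.1, fun r hr w => ?_⟩
      have hrS : r ∈ L.S := hRaS r hr
      obtain ⟨y, hy, rfl⟩ := List.mem_map.1 hr
      obtain ⟨hy1, hy2⟩ := hys y hy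
      have hok := (hswap x.2 hx2 y.1 hrS (Ne.symm hy1)).1
      rw [← rho_mul_apply, xG_swap hG hok, rho_mul_apply, rho_mul_apply, stepEl]
      have hext : ext (φ * Pi.mulSingle a χ) y.1 = ext φ y.1 * if y.1 = x.1 then χ else 1 := by
        rw [ext, dif_pos hr, ext, dif_pos hr, Pi.mul_apply]
        congr 1
        by_cases e : y.1 = x.1
        · rw [if_pos e, show (⟨y.1, hr⟩ : {a // a ∈ Ra}) = a from Subtype.ext (e.trans hxa), Pi.mulSingle_eq_same]
        · rw [if_neg e, Pi.mulSingle_eq_of_ne fun e' => e ((congrArg Subtype.val e').trans hxa.symm)]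
      rw [hext]
      rcases hy2 with e | ⟨hnone, -⟩
      · rw [if_pos e]
        have hσy : step D x.2 y.1 = some (th, σ) := by rw [e, hσ]
        rw [hσy]
        dsimp only
        rw [show ρ (xG hG th ((σ : F) * -u * w)) v = ψ0 ((σ : F) * -u * w) • v from mem_eigen.1 hv.1 _,
          map_smul, hv.2 y.1 hr, smul_smul, map_smul, AddChar.mul_apply, mul_comm (ext φ y.1 w)]
        congr 2
        rw [← hu', AddChar.mulShift_apply]
        congr 1
        rw [hu, show (σ : F) * -((-(σ : F))⁻¹ * u') * w = (-(σ : F) * (-(σ : F))⁻¹) * (u' * w) by ring,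
          mul_inv_cancel₀ (sign_ne_zero (F := F) hσ'), one_mul]
      · rw [hnone]
        dsimp only
        rw [map_one, Module.End.one_apply, hv.2 y.1 hr, map_smul, if_neg, mul_one]
        intro e
        rw [e, hσ] at hnone
        simp at hnone
    have hsingle : ∀ (a : {a // a ∈ Ra}) (χ : AddChar F ℂ) (φ : Wt F Ra), dd (φ * Pi.mulSingle a χ) = dd φ := by
      intro a χ φ
      refine le_antisymm ?_ (hshift a χ φ)
      have h := hshift a χ⁻¹ (φ * Pi.mulSingle a χ)
      rwa [mul_assoc, ← Pi.mulSingle_mul, mul_inv_cancel, Pi.mulSingle_one, mul_one] at h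
    have hconst : ∀ φ, dd φ = dd 1 := by
      intro φ
      suffices key : ∀ s : Finset {a // a ∈ Ra}, dd (∏ a ∈ s, Pi.mulSingle a (φ a)) = dd 1 by
        have := key Finset.univ
        rwa [Finset.univ_prod_mulSingle] at this
      intro s
      induction s using Finset.induction_on with
      | empty => simp
      | insert a s ha ih => rw [Finset.prod_insert ha, mul_comm, hsingle, ih]
    refine ⟨dd 1, ?_⟩
    have htot := sum_finrank_wsp hG ρ hPnd hA
    rw [Finset.sum_congr rfl fun φ _ => hconst φ, Finset.sum_const, Finset.card_univ, smul_eq_mul,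
      Fintype.card_fun, AddChar.card_eq, Fintype.card_of_subtype Ra.toFinset (fun x => List.mem_toFinset),
      List.toFinset_card_of_nodup hPnd, List.length_map] at htot
    exact htot.symm
  have hd10 : d1 ≠ 0 := fun e => hd0 (by rw [hd1, e, mul_zero])
  -- the fixed space of the centre
  set M := eigen opz (1 : AddChar F ℂ) with hM
  have hMfix : ∀ v, v ∈ M ↔ ∀ t : F, ρ (xG hG th t) v = v := fun v => by
    rw [hM, mem_eigen]; simp [opz]
  have hMeq : M = fixedBy hG ρ [th] := by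
    ext v; simp [hMfix, mem_fixedBy]
  have hM' : InvM hG ρ M L.J' := by
    refine ⟨?_, fun k hk c hc v hv => ?_⟩
    · rw [lv, Subgroup.closure_le]
      intro g hg v hv
      obtain ⟨r, hr, t, rfl⟩ : ∃ r ∈ L.mv D, ∃ t : F, g = xG hG r t := by
        obtain ⟨i, hi, t, rfl | rfl⟩ := hg
        · exact ⟨_, List.mem_append_left _ (hJ' i hi).2, t, rfl⟩
        · exact ⟨_, List.mem_append_right _ (List.mem_map.2 ⟨i, hi, rfl⟩), t, rfl⟩
      exact hstabψ r (List.mem_append_right _ hr) t 1 v hv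
    · rw [hMeq] at hv ⊢
      exact hR_fixed hG ρ (fun r hr => by rw [List.mem_singleton.1 hr]; exact hth) hk hc hv
  have hA : AbelOn hG ρ M L.S := by
    refine ⟨fun s hs t v hv => hstabψ s (hS1 s hs) t 1 v hv, fun s hs s' hs' t u v hv => ?_⟩
    rcases eq_or_ne s s' with rfl | hne'
    · rw [← rho_mul_apply, ← rho_mul_apply, xG_add, xG_add, add_comm]
    obtain ⟨hok, hth'⟩ := hswap s hs s' hs' hne'
    rw [← rho_mul_apply (ρ := ρ) (xG hG s' u), xG_swap hG hok, rho_mul_apply, rho_mul_apply]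
    congr 2
    rw [stepEl]
    rcases hst : step D s s' with _ | ⟨p, σ⟩
    · simp
    · dsimp only
      rw [hth' p σ hst, (hMfix v).1 hv]
  -- the trace at a root element of the centre
  have hfix : ∀ t : F, t ≠ 0 →
      LinearMap.trace ℂ W (ρ (xG hG th t)) = (d 1 : ℂ) - (d ψ0 : ℂ) := by
    intro t ht
    show LinearMap.trace ℂ W (opz t) = _
    rw [trace_eq_sum hopz, Finset.sum_congr rfl fun ψ _ =>
      trace_of_scalar hopz (opz t) ψ (ψ t) fun x hx => mem_eigen.1 hx t]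
    rw [← Finset.add_sum_erase _ _ (Finset.mem_univ (1 : AddChar F ℂ)), AddChar.one_apply, one_mul,
      Finset.sum_congr rfl fun ψ hψ => by
        rw [show finrank ℂ (eigen opz ψ) = d ψ0 from hdeq ψ (Finset.ne_of_mem_erase hψ)], ← Finset.sum_mul]
    have h1 := Finset.add_sum_erase Finset.univ (fun ψ : AddChar F ℂ => ψ t) (Finset.mem_univ 1)
    rw [AddChar.sum_apply_eq_ite, if_neg ht] at h1
    rw [show ∑ ψ ∈ Finset.univ.erase (1 : AddChar F ℂ), ψ t = -1 from
      eq_neg_of_add_eq_zero_right (by simpa using h1)]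
    ring
  -- some root subgroup of the radical moves the fixed space
  obtain ⟨⟨⟨halS, hrS⟩, hral⟩, hrhit⟩ := hfuse
  set r0 := D.reflectRoot L.j th with hr0
  have hmove : ¬ M ≤ fixedBy hG ρ L.S := by
    intro hle
    obtain ⟨σ, hσ⟩ := hits_iff hrhit
    have hok := (hswap _ halS r0 hrS hral).1
    have hzero : ∀ ψ, ψ ≠ 1 → ∀ g : Module.End ℂ W, g = ρ (xG hG r0 1) →
        LinearMap.trace ℂ W (g ∘ₗ eigenProj opz ψ) = 0 := by
      rintro ψ hψ g rfl
      have hm1 := hstabψ r0 (hS1 _ hrS) 1 ψ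
      rw [trace_restrict_eigen hopz _ _ hm1]
      obtain ⟨c, hc⟩ : ∃ c, ψ c ≠ 1 := by
        by_contra h
        push Not at h
        exact hψ (DFunLike.ext _ _ fun c => by rw [h c, AddChar.one_apply])
      let R : ∀ (s : ℕ), s ∈ L.S → F → Module.End ℂ (eigen opz ψ) := fun s hs t =>
        (ρ (xG hG s t) : W →ₗ[ℂ] W).restrict (hstabψ s (hS1 s hs) t ψ)
      set a : F := -c * (σ : F) with ha
      have hconj : R r0 hrS 1 * R _ halS a = ψ c • (R _ halS a * R r0 hrS 1) := by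
        refine LinearMap.ext fun v => Subtype.ext ?_
        show ρ (xG hG r0 1) (ρ (xG hG (D.simple L.j) a) v.1) =
          ψ c • ρ (xG hG (D.simple L.j) a) (ρ (xG hG r0 1) v.1)
        rw [← rho_mul_apply, xG_swap hG hok, rho_mul_apply, rho_mul_apply, stepEl, hσ]
        dsimp only
        rw [show ρ (xG hG th ((σ : F) * -a * 1)) v.1 = ψ ((σ : F) * -a * 1) • v.1 from mem_eigen.1 v.2 _,
          map_smul, map_smul]
        congr 2
        rw [ha]
        rcases (step_some hok hσ).2.2 with e | e <;> simp [e]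
      have hinv : R _ halS (-a) * R _ halS a = 1 := LinearMap.ext fun v => Subtype.ext (by
        show ρ (xG hG (D.simple L.j) (-a)) (ρ (xG hG (D.simple L.j) a) v.1) = v.1
        rw [← rho_mul_apply, xG_add, neg_add_cancel, xG_zero, map_one, Module.End.one_apply])
      have h2 := congrArg (fun u => LinearMap.trace ℂ (eigen opz ψ) (R _ halS (-a) * u)) hconj
      simp only [mul_smul_comm, map_smul, smul_eq_mul] at h2
      rw [← mul_assoc, ← mul_assoc, hinv, one_mul, LinearMap.trace_mul_comm, ← mul_assoc] at h2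
      have hinv' : R _ halS a * R _ halS (-a) = 1 := LinearMap.ext fun v => Subtype.ext (by
        show ρ (xG hG (D.simple L.j) a) (ρ (xG hG (D.simple L.j) (-a)) v.1) = v.1
        rw [← rho_mul_apply, xG_add, add_neg_cancel, xG_zero, map_one, Module.End.one_apply])
      rw [hinv', one_mul] at h2
      have h3 : (1 - ψ c) * LinearMap.trace ℂ (eigen opz ψ) (R r0 hrS 1) = 0 := by linear_combination h2
      exact (mul_eq_zero.1 h3).resolve_left (sub_ne_zero.2 (Ne.symm hc))
    have htr : LinearMap.trace ℂ W (ρ (xG hG r0 1)) = (d 1 : ℂ) := by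
      rw [trace_eq_sum hopz, Finset.sum_eq_single (1 : AddChar F ℂ) (fun ψ _ hψ => hzero ψ hψ _ rfl) (by simp),
        trace_of_scalar hopz _ 1 1 fun x hx => by
          rw [one_smul]; exact (mem_fixedBy hG ρ).1 (hle hx) r0 hrS 1, one_mul]
    obtain ⟨e, he, hc, -⟩ := exists_nconj hG (F := F) hjr hth
    have e1 := congrArg (fun g => LinearMap.trace ℂ W (ρ g)) (hc (e * 1))
    simp only [← hr0, ← mul_assoc, he, one_mul, map_mul] at e1
    rw [mul_one] at e1
    have hconj : LinearMap.trace ℂ W (ρ (xG hG th e)) = LinearMap.trace ℂ W (ρ (xG hG r0 1)) := by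
      have h4 := congrArg (fun g => LinearMap.trace ℂ W (ρ g))
        (mul_inv_eq_iff_eq_mul.2 (hc e)).symm
      simp only [← hr0, he, map_mul] at h4
      rw [LinearMap.trace_mul_comm, ← mul_assoc, ← map_mul ρ, inv_mul_cancel, map_one, one_mul] at h4
      exact h4.symm
    rw [hfix e (left_ne_zero_of_mul_eq_one he), htr] at hconj
    exact hd0 (by exact_mod_cast sub_eq_self.1 hconj)
  -- the dimensions
  have hinv := inv_wsp hG ρ hW (fun r hr t v hv => hstabψ r (List.mem_append_right _ hr) t 1 v hv)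
    (fun i hi => hM'.1 (nR_simple_mem_lv hG hi 1)) ⟨hsk, hsc⟩ (fun c hc => hM'.2 _ hsk c hc)
  have htot := sum_finrank_wsp hG ρ (S_nodup hW) hA
  rw [← Finset.add_sum_erase _ _ (Finset.mem_univ (1 : Wt F L.S)), wsp_one] at htot
  have hq1 : 1 ≤ Fintype.card F := Fintype.card_pos
  have hW' : (finrank ℂ W : ℤ) = (d 1 : ℤ) + ((Fintype.card F : ℤ) - 1) * (d ψ0 : ℤ) := by
    rw [← hsum]; push_cast [Nat.cast_sub hq1]; ring
  have hdM : d 1 = finrank ℂ M := rfl
  have hWd : (finrank ℂ W : ℤ) = (d 1 : ℤ) + Q * (d1 : ℤ) := by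
    rw [hW', hd1, hQ]; push_cast; ring
  have hQ0 : 0 ≤ Q := by
    rw [hQ]; exact mul_nonneg (by omega) (pow_nonneg (Int.natCast_nonneg _) _)
  have hQd : Q ≤ Q * (d1 : ℤ) := le_mul_of_one_le_right hQ0 (by omega)
  have hsumne : ∑ χ ∈ Finset.univ.erase (1 : Wt F L.S), finrank ℂ (wsp hG ρ M χ) ≠ 0 := by
    intro h0
    rw [h0, add_zero] at htot
    have heq := Submodule.eq_of_le_of_finrank_eq inf_le_left htot
    exact hmove (fun v hv => by rw [← heq] at hv; exact hv.2)
  rcases weights_dichotomy hG hW hinv with ⟨-, hbig⟩ | ⟨d0, hd0'⟩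
  · refine Or.inl (hB.trans ?_)
    rw [hWd, hdM, ← htot]
    have : (Fintype.card F : ℤ) ^ (L.A1.length + L.A2.length) ≤
        ((∑ χ ∈ Finset.univ.erase (1 : Wt F L.S), finrank ℂ (wsp hG ρ M χ) : ℕ) : ℤ) := by
      exact_mod_cast hbig
    push_cast at this ⊢
    linarith
  rw [hd0'] at htot hsumne
  have hd0ne : d0 ≠ 0 := fun e => hsumne (by rw [e, mul_zero])
  have hM0 := fixed_part_inv hG ρ hW hgen' (fun i hi => (hJ' i hi).2) hM'
  rw [finrank_split hG ρ hM0] at htot
  have hN0 : (0 : ℤ) ≤ N := hN ▸ Int.natCast_nonneg _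
  have hWd' : (finrank ℂ W : ℤ) = Q * (d1 : ℤ) + N * (d0 : ℤ) +
      finrank ℂ (M ⊓ fixedBy hG ρ L.S ⊓ fixedBy hG ρ (gensOf D L.J') : Submodule ℂ W) +
      finrank ℂ (ntPart hG ρ (M ⊓ fixedBy hG ρ L.S) L.J') := by
    rw [hWd, hdM, ← htot, hN]; push_cast; ring
  by_cases hge : T ≤ (finrank ℂ W : ℤ)
  · exact Or.inl hge
  have hNd : N ≤ N * (d0 : ℤ) := le_mul_of_one_le_right hN0 (by omega)
  have hd11 : d1 = 1 := by
    by_contra h
    have : Q * 2 ≤ Q * (d1 : ℤ) := mul_le_mul_of_nonneg_left (by omega) hQ0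
    omega
  have hd01 : d0 = 1 := by
    by_contra h
    have : N * 2 ≤ N * (d0 : ℤ) := mul_le_mul_of_nonneg_left (by omega) hN0
    omega
  subst hd11 hd01
  simp only [Nat.cast_one, mul_one] at hWd'
  refine Or.inr ⟨?_, fun t ht => ?_⟩
  swap
  · rw [hfix t ht, ← hsum, hd1]
    push_cast [Nat.cast_sub hq1]
    ring
  rcases Nat.eq_zero_or_pos
    (finrank ℂ (M ⊓ fixedBy hG ρ L.S ⊓ fixedBy hG ρ (gensOf D L.J') : Submodule ℂ W)) with hf | hf
  · rw [hf, Nat.cast_zero, add_zero] at hWd'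
    by_cases hnt0 : ntPart hG ρ (M ⊓ fixedBy hG ρ L.S) L.J' = ⊥
    · rw [hnt0, finrank_bot, Nat.cast_zero, add_zero] at hWd'
      exact hWd' ▸ hp0
    rcases hBd.1 _ (ntPart_inv hG ρ hJr hM0) (ntPart_noFix hG ρ) hnt0 with h | h
    · rwa [show (finrank ℂ W : ℤ) = T - 1 by omega]
    · exact hWd' ▸ hp3 _ h
  · obtain ⟨v, hv, hv0⟩ := Submodule.exists_mem_ne_zero_of_ne_bot (fun e : (M ⊓ fixedBy hG ρ L.S ⊓
      fixedBy hG ρ (gensOf D L.J') : Submodule ℂ W) = ⊥ => by rw [e, finrank_bot] at hf; omega)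
    have hUlt : ∀ r ∈ L.S ++ [th], r < D.nroots := fun r hr => by
      rcases List.mem_append.1 hr with h | h
      · exact S_lt hW h
      · rw [List.mem_singleton.1 h]; exact hth
    have hTopInv : InvM hG ρ (⊤ : Submodule ℂ W) L.J :=
      ⟨fun g _ v _ => Submodule.mem_top, fun k _ c _ v _ => Submodule.mem_top⟩
    have hU : ∀ w, w ∈ fixedBy hG ρ (L.S ++ [th]) ↔ w ∈ M ⊓ fixedBy hG ρ L.S := fun w => by
      simp [Submodule.mem_inf, hMfix, mem_fixedBy, or_imp, forall_and, and_comm]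
    obtain ⟨a, haM, ha1, ha2⟩ : ∃ a ∈ M ⊓ fixedBy hG ρ L.S,
        a ∈ fixedBy hG ρ (parGens D L.rts L.J' L.nb) ∧ a ∉ fixedBy hG ρ (gensOf D L.J') := by
      by_contra hcon
      push Not at hcon
      refine hv0 (braid hG ρ hbr hUlt hTopInv (fun r _ t v _ => Submodule.mem_top) (fun w _ => hnofix w)
        (fun a ha hpar => hcon a ((hU a).1 ha.2) hpar) v Submodule.mem_top ?_)
      rw [mem_fixedBy]
      intro r hr t
      rcases List.mem_append.1 hr with h | h
      exacts [(mem_fixedBy hG ρ).1 ((hU v).2 hv.1) r h t, (mem_fixedBy hG ρ).1 hv.2 r h t]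
    have h := hBd.2 _ hnb _ (ntPart_inv hG ρ hJr hM0) (ntPart_noFix hG ρ) _ (sub_avg_mem hG ρ hM0 haM) ?_ ?_
    · dsimp only at h
      obtain h1 | h2 : (finrank ℂ W : ℤ) = T - 1 ∨ (finrank ℂ W : ℤ) = T - 2 := by omega
      exacts [h1 ▸ hp1, h2 ▸ hp2]
    · intro e
      rw [sub_eq_zero] at e
      exact ha2 (e ▸ (avg_lv_mem hG ρ hM0 haM).2)
    · rw [mem_fixedBy]
      intro r hr t
      have hrlv : xG hG r t ∈ lv hG L.J' := by
        rcases List.mem_append.1 hr with h | h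
        · exact xG_mem_lv hG hgen' r h t
        · obtain ⟨l, hl, rfl⟩ := List.mem_map.1 h
          exact (xG_simple_mem_lv hG (List.mem_filter.1 hl).1 t).2
      rw [map_sub, (mem_fixedBy hG ρ).1 ha1 r hr t, avg_fixed ρ _ hrlv]

end Cfsg.Agent.MinDegree.Exc
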