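import Cfsg.Agent.Lib.MinDegree.ExcElts

/-!
Weights of an abelian product of root subgroups, and the counting of those moved into each other by
the root elements of a Levi complement.
-/

set_option autoImplicit false
set_option linter.unusedSectionVars false

namespace Cfsg.Agent.MinDegree.Exc

open Cfsg.Lie

/-- A root of the abelian set, a node moving it up, the pairs `(a, s)` with `s + a` the root, and the
neighbouring roots. -/
structure Cell where
  mu : ℕ
  up : ℕ
  A : List (ℕ × ℕ)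
  nbrs : List ℕ

/-- The data of one level. -/
structure Lev where
  J : List ℕ
  J' : List ℕ
  j : ℕ
  nb : ℕ
  top : ℕ
  rts : List ℕ
  cells : List Cell
  A1 : List (ℕ × ℕ)
  stab : List ℕ
  L2 : List ℕ
  nu0 : ℕ
  A2 : List (ℕ × ℕ)
  bot : List (ℕ × ℕ × ℕ × ℕ)
  scale : ℕ

/-- The roots of the abelian set. -/
def Lev.S (L : Lev) : List ℕ := L.cells.map Cell.mu

/-- The roots moving the weights. -/
def Lev.mv (D : ChevalleyDatum) (L : Lev) : List ℕ := L.rts ++ L.J'.map fun i => D.neg (D.simple i)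

/-- The second component is the given root. -/
def hits (o : Option (ℕ × ℤ)) (p : ℕ) : Bool :=
  match o with
  | none => false
  | some x => decide (x.1 = p)

/-- The property holds of the root reached, if there is one. -/
def through (o : Option (ℕ × ℤ)) (P : ℕ → Bool) : Bool :=
  match o with
  | none => true
  | some x => P x.1

/-- The checks on the pairs belonging to one root. -/
def pairsOK (D : ChevalleyDatum) (R : List ℕ) (S : List ℕ) (mu : ℕ) (A : List (ℕ × ℕ)) : Bool :=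
  decide (A.map Prod.fst).Nodup && A.all fun x =>
    R.contains x.1 && S.contains x.2 && hits (step D x.1 x.2) mu && (step D x.1 mu).isNone &&
      A.all fun y => decide (y.1 = x.1) || (step D y.1 x.2).isNone

/-- The checks on one cell. -/
def cellOK (D : ChevalleyDatum) (L : Lev) (c : Cell) : Bool :=
  pairsOK D L.rts L.S c.mu c.A && decide (c.mu ≤ L.top) &&
    (c.nbrs.all fun s => (c.A.map Prod.snd).contains s || decide (c.mu < s)) &&
    if c.mu = L.top then decide (c.A = L.A1) && (L.A1.all fun x => c.nbrs.contains x.2)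
    else
      L.J'.contains c.up && decide (c.mu < D.reflectRoot c.up c.mu) &&
        L.cells.any fun c' => decide (c'.mu = D.reflectRoot c.up c.mu) &&
          c'.nbrs.all fun s => c.nbrs.contains (D.reflectRoot c.up s)

/-- The checks on the lower layers. -/
def layerOK (D : ChevalleyDatum) (L : Lev) : Bool :=
  (L.S.all fun s => decide (s = L.top) || (L.A1.map Prod.snd).contains s || L.L2.contains s ||
      (L.bot.map Prod.fst).contains s) &&
    (L.stab.all fun i => L.J'.contains i && decide (D.reflectRoot i L.top = L.top) &&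
      L.A1.all fun x => (L.A1.map Prod.snd).contains (D.reflectRoot i x.2)) &&
    (L.L2.all fun n => L.S.contains n && decide (n ≠ L.top) && !(L.A1.map Prod.snd).contains n &&
      (decide (n = L.nu0) || L.stab.any fun i =>
        decide (n < D.reflectRoot i n) && L.L2.contains (D.reflectRoot i n))) &&
    (L.A2.isEmpty || pairsOK D L.rts L.S L.nu0 L.A2 && L.A2.all fun x =>
      (step D x.1 L.top).isNone && L.A1.all fun y =>
        through (step D x.1 y.2) fun p => (L.A1.map Prod.snd).contains p) &&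
    decide (L.bot.length ≤ 1) && L.bot.all fun b =>
      match b with
      | (b0, i, s1, s2) =>
        let al := D.simple i
        let nal := D.neg al
        L.J'.contains i && decide (D.reflectRoot i L.top = s1) && decide (D.reflectRoot i b0 = s2) &&
          decide (D.reflectRoot i s1 = L.top) && decide (D.reflectRoot i s2 = b0) &&
          L.rts.contains al &&
          L.L2.contains s2 && L.A1.contains (al, s1) && decide (s1 ≠ s2) && decide (b0 ≠ L.top) &&
          decide (b0 ≠ s2) && decide (b0 ≠ s1) && !(L.A1.map Prod.snd).contains b0 &&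
          hits (step D nal L.top) s1 && (step D nal s1).isNone && hits (step D nal s2) b0 &&
          (step D al L.top).isNone && hits (step D al s1) L.top && (step D al s2).isNone &&
          L.A1.all fun y => decide (y.2 = s1) || (step D al y.2).isNone &&
            through (step D nal y.2) fun p => decide (p ≠ s1) && decide (p ≠ s2)

/-- The checks on a level. -/
def Lev.weightsOK (D : ChevalleyDatum) (L : Lev) : Bool :=
  (decide L.S.Nodup && L.S.all fun s => decide (s < D.nroots)) && L.S.contains L.top &&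
    ((L.mv D).all fun r => L.S.all fun s =>
      stepOK D r s && through (step D r s) fun p => L.S.contains p && (step D r p).isNone) &&
    (L.J'.all fun i => decide (i < D.rank) && L.S.all fun s => L.S.contains (D.reflectRoot i s)) &&
    (L.rts.all fun r => L.S.all fun s => through (step D r s) fun p => decide (s < p)) &&
    (L.cells.all fun c => cellOK D L c) && layerOK D L

variable {F : Type*} [Field F] {D : ChevalleyDatum}

theorem hits_iff {o : Option (ℕ × ℤ)} {p : ℕ} (h : hits o p = true) : ∃ σ, o = some (p, σ) := by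
  rcases o with _ | ⟨x, σ⟩
  · simp [hits] at h
  · simp only [hits, decide_eq_true_eq] at h
    exact ⟨σ, by rw [h]⟩

/-- A weight: an additive character for each root of the list. -/
abbrev Wt (F : Type*) [Field F] (S : List ℕ) := {s // s ∈ S} → AddChar F ℂ

/-- The character at a root, trivial off the list. -/
def ext {S : List ℕ} (φ : Wt F S) (s : ℕ) : AddChar F ℂ := if h : s ∈ S then φ ⟨s, h⟩ else 1

theorem ext_of_mem {S : List ℕ} (φ : Wt F S) (s : {s // s ∈ S}) : ext φ s.1 = φ s := dif_pos s.2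

theorem wt_ext {S : List ℕ} {φ φ' : Wt F S} (h : ∀ s ∈ S, ext φ s = ext φ' s) : φ = φ' := by
  funext s
  rw [← ext_of_mem φ s, ← ext_of_mem φ' s, h s.1 s.2]

theorem ext_one {S : List ℕ} (s : ℕ) : ext (1 : Wt F S) s = 1 := by
  rw [ext]; split_ifs <;> rfl

/-- The weight supported at one root. -/
def delta {S : List ℕ} (μ : ℕ) (ψ : AddChar F ℂ) : Wt F S := fun s => if s.1 = μ then ψ else 1

theorem ext_delta {S : List ℕ} {μ : ℕ} (hμ : μ ∈ S) (ψ : AddChar F ℂ) (s : ℕ) :
    ext (delta (S := S) μ ψ) s = if s = μ then ψ else 1 := by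
  by_cases h : s ∈ S
  · rw [ext, dif_pos h, delta]
  · rw [ext, dif_neg h, if_neg fun e => h (by rwa [e])]

/-- The effect of a root element on weights. -/
def E (D : ChevalleyDatum) {S : List ℕ} (r : ℕ) (t : F) (φ : Wt F S) : Wt F S := fun s =>
  match step D r s.1 with
  | none => φ s
  | some (p, σ) => φ s * AddChar.mulShift (ext φ p) (-(σ : F) * t)

theorem ext_E_none {S : List ℕ} {r s : ℕ} (h : step D r s = none) (t : F) (φ : Wt F S) :
    ext (E D r t φ) s = ext φ s := by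
  by_cases hs : s ∈ S
  · rw [ext, dif_pos hs, ext, dif_pos hs, E, h]
  · rw [ext, dif_neg hs, ext, dif_neg hs]

theorem ext_E_some {S : List ℕ} {r s p : ℕ} {σ : ℤ} (hs : s ∈ S) (h : step D r s = some (p, σ))
    (t : F) (φ : Wt F S) :
    ext (E D r t φ) s = ext φ s * AddChar.mulShift (ext φ p) (-(σ : F) * t) := by
  rw [ext, dif_pos hs, ext, dif_pos hs, E, h]

theorem ext_E_eq_one {S : List ℕ} {r s : ℕ} {t : F} {φ : Wt F S} (h1 : ext φ s = 1)
    (h2 : ∀ p σ, step D r s = some (p, σ) → ext φ p = 1) : ext (E D r t φ) s = 1 := by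
  rcases hst : step D r s with _ | ⟨p, σ⟩
  · rw [ext_E_none hst, h1]
  · by_cases hs : s ∈ S
    · rw [ext_E_some hs hst, h1, h2 p σ hst, one_mul]
      ext x; simp [AddChar.mulShift_apply]
    · rw [ext, dif_neg hs]

/-- The effect of a product of root elements. -/
def Efold (D : ChevalleyDatum) {S : List ℕ} (l : List ℕ) (t : ℕ → F) (φ : Wt F S) : Wt F S :=
  l.foldr (fun a φ => E D a (t a) φ) φ

theorem ext_Efold_none {S : List ℕ} {l : List ℕ} {s : ℕ} (h : ∀ b ∈ l, step D b s = none) (t : ℕ → F)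
    (φ : Wt F S) : ext (Efold D l t φ) s = ext φ s := by
  induction l with
  | nil => rfl
  | cons b l ih =>
    rw [show Efold D (b :: l) t φ = E D b (t b) (Efold D l t φ) from rfl,
      ext_E_none (h b List.mem_cons_self), ih fun c hc => h c (List.mem_cons_of_mem _ hc)]

theorem ext_Efold_some {S : List ℕ} {l : List ℕ} {s a p : ℕ} {σ : ℤ} (hs : s ∈ S) (hl : l.Nodup)
    (ha : a ∈ l) (hstep : step D a s = some (p, σ)) (hother : ∀ b ∈ l, b ≠ a → step D b s = none)
    (hp : ∀ b ∈ l, step D b p = none) (t : ℕ → F) (φ : Wt F S) :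
    ext (Efold D l t φ) s = ext φ s * AddChar.mulShift (ext φ p) (-(σ : F) * t a) := by
  induction l with
  | nil => simp at ha
  | cons b l ih =>
    rw [List.nodup_cons] at hl
    rw [show Efold D (b :: l) t φ = E D b (t b) (Efold D l t φ) from rfl]
    by_cases hba : b = a
    · subst hba
      rw [ext_E_some hs hstep,
        ext_Efold_none (fun c hc => hother c (List.mem_cons_of_mem _ hc) (fun e => hl.1 (e ▸ hc))),
        ext_Efold_none (fun c hc => hp c (List.mem_cons_of_mem _ hc))]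
    · rw [ext_E_none (hother b List.mem_cons_self hba)]
      exact ih hl.2 ((List.mem_cons.1 ha).resolve_left (Ne.symm hba))
        (fun c hc => hother c (List.mem_cons_of_mem _ hc)) fun c hc => hp c (List.mem_cons_of_mem _ hc)

theorem ext_Efold_eq_one {S : List ℕ} {l : List ℕ} (P : ℕ → Prop)
    (h : ∀ b ∈ l, ∀ s, P s → ∀ p σ, step D b s = some (p, σ) → P p) (t : ℕ → F) {φ : Wt F S}
    (hφ : ∀ s, P s → ext φ s = 1) : ∀ s, P s → ext (Efold D l t φ) s = 1 := by
  induction l with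
  | nil => exact hφ
  | cons b l ih =>
    have ih' := ih fun c hc => h c (List.mem_cons_of_mem _ hc)
    intro s hs
    exact ext_E_eq_one (ih' s hs) fun p σ hp => ih' p (h b List.mem_cons_self s hs p σ hp)

theorem mulShift_bijective [Fintype F] {ψ : AddChar F ℂ} (hψ : ψ ≠ 1) :
    Function.Bijective fun a : F => AddChar.mulShift ψ a :=
  (Fintype.bijective_iff_injective_and_card _).2
    ⟨AddChar.to_mulShift_inj_of_isPrimitive (AddChar.IsPrimitive.of_ne_one hψ), AddChar.card_eq.symm⟩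

theorem sign_ne_zero {σ : ℤ} (hσ : σ = 1 ∨ σ = -1) : -(σ : F) ≠ 0 := by
  rcases hσ with rfl | rfl <;> simp

variable {L : Lev}

/-- The invariances of a function of weights. -/
structure Inv (D : ChevalleyDatum) (L : Lev) (d : Wt F L.S → ℕ) : Prop where
  hE : ∀ r ∈ L.mv D, ∀ t φ, d (E D r t φ) = d φ
  hR : ∀ i ∈ L.J', ∀ φ, ∃ φ', d φ' = d φ ∧
    ∀ s ∈ L.S, (ext φ' s = 1 ↔ ext φ (D.reflectRoot i s) = 1)
  hT : ∀ ψ ψ', ψ ≠ 1 → ψ' ≠ 1 → d (delta L.top ψ) = d (delta L.top ψ')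

theorem Inv.efold {d : Wt F L.S → ℕ} (hd : Inv D L d) {l : List ℕ} (hl : ∀ a ∈ l, a ∈ L.mv D) (t : ℕ → F)
    (φ : Wt F L.S) : d (Efold D l t φ) = d φ := by
  induction l with
  | nil => rfl
  | cons b l ih =>
    rw [show Efold D (b :: l) t φ = E D b (t b) (Efold D l t φ) from rfl, hd.hE b (hl b List.mem_cons_self),
      ih fun a ha => hl a (List.mem_cons_of_mem _ ha)]

section checks

variable (h : L.weightsOK D = true)
include h

theorem S_nodup : L.S.Nodup := by
  simp only [Lev.weightsOK, Bool.and_eq_true, decide_eq_true_eq] at h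
  exact h.1.1.1.1.1.1.1

theorem S_lt {s : ℕ} (hs : s ∈ L.S) : s < D.nroots := by
  simp only [Lev.weightsOK, Bool.and_eq_true, List.all_eq_true, decide_eq_true_eq] at h
  exact h.1.1.1.1.1.1.2 s hs

theorem top_mem : L.top ∈ L.S := by
  simp only [Lev.weightsOK, Bool.and_eq_true, decide_eq_true_eq, List.contains_iff_mem] at h
  exact h.1.1.1.1.1.2

theorem mv_ok {r s : ℕ} (hr : r ∈ L.mv D) (hs : s ∈ L.S) :
    stepOK D r s = true ∧ ∀ p σ, step D r s = some (p, σ) → p ∈ L.S ∧ step D r p = none := by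
  simp only [Lev.weightsOK, Bool.and_eq_true, List.all_eq_true] at h
  obtain ⟨h1, h2⟩ := h.1.1.1.1.2 r hr s hs
  refine ⟨h1, fun p σ e => ?_⟩
  simp only [through, e, Bool.and_eq_true, List.contains_iff_mem, Option.isNone_iff_eq_none] at h2
  exact h2

theorem refl_mem {i s : ℕ} (hi : i ∈ L.J') (hs : s ∈ L.S) : i < D.rank ∧ D.reflectRoot i s ∈ L.S := by
  simp only [Lev.weightsOK, Bool.and_eq_true, List.all_eq_true, decide_eq_true_eq,
    List.contains_iff_mem] at h
  exact ⟨(h.1.1.1.2 i hi).1, (h.1.1.1.2 i hi).2 s hs⟩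

theorem cell_ok {c : Cell} (hc : c ∈ L.cells) : cellOK D L c = true := by
  simp only [Lev.weightsOK, Bool.and_eq_true, List.all_eq_true] at h
  exact h.1.2 c hc

theorem cell_facts {c : Cell} (hc : c ∈ L.cells) :
    pairsOK D L.rts L.S c.mu c.A = true ∧ c.mu ≤ L.top ∧
    (∀ x ∈ c.A, ∀ s ∈ L.S, c.mu < s → ∀ p σ, step D x.1 s = some (p, σ) → c.mu < p) ∧
    (∀ s ∈ c.nbrs, s ∈ c.A.map Prod.snd ∨ c.mu < s) ∧
    (c.mu = L.top → c.A = L.A1 ∧ ∀ x ∈ L.A1, x.2 ∈ c.nbrs) ∧
    (c.mu ≠ L.top → c.up ∈ L.J' ∧ c.mu < D.reflectRoot c.up c.mu ∧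
      ∃ c' ∈ L.cells, c'.mu = D.reflectRoot c.up c.mu ∧ ∀ s ∈ c'.nbrs, D.reflectRoot c.up s ∈ c.nbrs) := by
  have h1 := cell_ok h hc
  have hup : ∀ r ∈ L.rts, ∀ s ∈ L.S, ∀ p σ, step D r s = some (p, σ) → s < p := by
    simp only [Lev.weightsOK, Bool.and_eq_true, List.all_eq_true] at h
    intro r hr s hs p σ e
    simpa [through, e] using h.1.1.2 r hr s hs
  simp only [cellOK, Bool.and_eq_true, List.all_eq_true, decide_eq_true_eq, Bool.or_eq_true,
    List.contains_iff_mem] at h1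
  obtain ⟨⟨⟨h1, h2⟩, h4⟩, h5⟩ := h1
  refine ⟨h1, h2, fun x hx s hs hlt p σ e => ?_, h4, fun he => ?_, fun hne => ?_⟩
  · have h3 := h1
    simp only [pairsOK, Bool.and_eq_true, List.all_eq_true, List.contains_iff_mem] at h3
    exact hlt.trans (hup x.1 (h3.2 x hx).1.1.1.1 s hs p σ e)
  · simpa [he] using h5
  · simp only [if_neg hne, Bool.and_eq_true, decide_eq_true_eq, List.any_eq_true, List.contains_iff_mem,
      List.all_eq_true] at h5
    exact ⟨h5.1.1, h5.1.2, h5.2⟩

theorem layer_ok : layerOK D L = true := by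
  simp only [Lev.weightsOK, Bool.and_eq_true] at h
  exact h.2

end checks

theorem pairs_facts {R S : List ℕ} {mu : ℕ} {A : List (ℕ × ℕ)} (h : pairsOK D R S mu A = true) :
    (A.map Prod.fst).Nodup ∧ ∀ x ∈ A, x.1 ∈ R ∧ x.2 ∈ S ∧ (∃ σ, step D x.1 x.2 = some (mu, σ)) ∧
      step D x.1 mu = none ∧ ∀ b ∈ A.map Prod.fst, b ≠ x.1 → step D b x.2 = none := by
  simp only [pairsOK, Bool.and_eq_true, List.all_eq_true, decide_eq_true_eq, Bool.or_eq_true,
    List.contains_iff_mem, Option.isNone_iff_eq_none] at h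
  refine ⟨h.1, fun x hx => ?_⟩
  obtain ⟨⟨⟨⟨h1, h2⟩, h3⟩, h4⟩, h5⟩ := h.2 x hx
  refine ⟨h1, h2, hits_iff h3, h4, fun b hb hne => ?_⟩
  obtain ⟨y, hy, rfl⟩ := List.mem_map.1 hb
  exact (h5 y hy).resolve_left hne

/-- A family of parameters for a list of roots. -/
def extT {l : List ℕ} (t : {a // a ∈ l} → F) (a : ℕ) : F := if h : a ∈ l then t ⟨a, h⟩ else 0

section count

variable [Fintype F]

theorem card_params {l : List ℕ} (hl : l.Nodup) :
    Fintype.card ({a // a ∈ l} → F) = Fintype.card F ^ l.length := by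
  rw [Fintype.card_fun, Fintype.card_of_subtype l.toFinset (fun x => List.mem_toFinset),
    List.toFinset_card_of_nodup hl]

/-- The values on the neighbours determine the parameters. -/
theorem pairs_inj {R S : List ℕ} {mu : ℕ} {A : List (ℕ × ℕ)} (h : pairsOK D R S mu A = true)
    (hmv : ∀ x ∈ A, stepOK D x.1 x.2 = true) {φ φ' : Wt F S} {t t' : ℕ → F}
    (htop : ext φ mu ≠ 1) (hmu : ext φ' mu = ext φ mu) (hval : ∀ x ∈ A, ext φ' x.2 = ext φ x.2)
    (he : ∀ x ∈ A, ext (Efold D (A.map Prod.fst) t φ) x.2 = ext (Efold D (A.map Prod.fst) t' φ') x.2) :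
    ∀ a ∈ A.map Prod.fst, t a = t' a := by
  obtain ⟨hnd, hA⟩ := pairs_facts h
  intro a ha
  obtain ⟨x, hx, rfl⟩ := List.mem_map.1 ha
  obtain ⟨-, hs, ⟨σ, hσ⟩, -, hoth⟩ := hA x hx
  have hp : ∀ b ∈ A.map Prod.fst, step D b mu = none := fun b hb => by
    obtain ⟨y, hy, rfl⟩ := List.mem_map.1 hb
    exact (hA y hy).2.2.2.1
  have e := he x hx
  rw [ext_Efold_some hs hnd ha hσ hoth hp, ext_Efold_some hs hnd ha hσ hoth hp, hmu, hval x hx] at e
  exact mul_left_cancel₀ (sign_ne_zero (step_some (hmv x hx) hσ).2.2)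
    ((mulShift_bijective htop).1 (mul_left_cancel e))

/-- The values on the neighbours can be made trivial. -/
theorem exists_kill {R S : List ℕ} {mu : ℕ} {A : List (ℕ × ℕ)} (h : pairsOK D R S mu A = true)
    (hmv : ∀ x ∈ A, stepOK D x.1 x.2 = true) {φ : Wt F S} (htop : ext φ mu ≠ 1) :
    ∃ t : ℕ → F, ext (Efold D (A.map Prod.fst).reverse t φ) mu = ext φ mu ∧
      ∀ x ∈ A, ext (Efold D (A.map Prod.fst).reverse t φ) x.2 = 1 := by
  obtain ⟨hnd, hA⟩ := pairs_facts h
  have ex : ∀ a, ∃ u : F, ∀ x ∈ A, x.1 = a → ∀ σ, step D x.1 x.2 = some (mu, σ) →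
      ext φ x.2 * AddChar.mulShift (ext φ mu) (-(σ : F) * u) = 1 := by
    intro a
    by_cases hex : ∃ x ∈ A, x.1 = a
    · obtain ⟨x, hx, rfl⟩ := hex
      obtain ⟨-, -, ⟨σ, hσ⟩, -⟩ := hA x hx
      obtain ⟨v, hv⟩ := (mulShift_bijective htop).2 (ext φ x.2)⁻¹
      refine ⟨(-(σ : F))⁻¹ * v, fun y hy hyx σ' hσ' => ?_⟩
      obtain rfl := List.inj_on_of_nodup_map hnd hy hx hyx
      obtain rfl : σ' = σ := by rw [hσ] at hσ'; simpa using hσ'.symm
      rw [mul_inv_cancel_left₀ (sign_ne_zero (step_some (hmv y hy) hσ).2.2),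
        show AddChar.mulShift (ext φ mu) v = (ext φ y.2)⁻¹ from hv, mul_inv_cancel]
    · exact ⟨0, fun x hx hxa => absurd ⟨x, hx, hxa⟩ hex⟩
  choose t ht using ex
  have hp : ∀ b ∈ (A.map Prod.fst).reverse, step D b mu = none := fun b hb => by
    obtain ⟨y, hy, rfl⟩ := List.mem_map.1 (List.mem_reverse.1 hb)
    exact (hA y hy).2.2.2.1
  refine ⟨t, ext_Efold_none hp t φ, fun x hx => ?_⟩
  obtain ⟨-, hs, ⟨σ, hσ⟩, -, hoth⟩ := hA x hx
  rw [ext_Efold_some hs (List.nodup_reverse.2 hnd) (List.mem_reverse.2 (List.mem_map_of_mem hx)) hσ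
    (fun b hb => hoth b (List.mem_reverse.1 hb)) hp]
  exact ht _ x hx rfl σ hσ

end count

section levels

variable (hG : Cfsg.Agent.Chev.Good D) (h : L.weightsOK D = true)
include h

theorem E_zero (r : ℕ) (φ : Wt F L.S) : E D r 0 φ = φ := by
  refine wt_ext fun s hs => ?_
  rcases hst : step D r s with _ | ⟨p, σ⟩
  · exact ext_E_none hst _ _
  · rw [ext_E_some hs hst, mul_zero, AddChar.mulShift_zero, mul_one]

theorem E_add {r : ℕ} (hr : r ∈ L.mv D) (t u : F) (φ : Wt F L.S) :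
    E D r t (E D r u φ) = E D r (t + u) φ := by
  refine wt_ext fun s hs => ?_
  rcases hst : step D r s with _ | ⟨p, σ⟩
  · rw [ext_E_none hst, ext_E_none hst, ext_E_none hst]
  · obtain ⟨-, hp2⟩ := (mv_ok h hr hs).2 p σ hst
    rw [ext_E_some hs hst, ext_E_some hs hst, ext_E_some hs hst, ext_E_none hp2, mul_assoc,
      mul_add, add_comm, ← AddChar.mulShift_mul]

theorem Efold_inverse {l : List ℕ} (hl : ∀ a ∈ l, a ∈ L.mv D) (t : ℕ → F) (φ : Wt F L.S) :
    Efold D l.reverse (fun a => -t a) (Efold D l t φ) = φ := by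
  induction l with
  | nil => rfl
  | cons b l ih =>
    rw [List.reverse_cons, Efold, List.foldr_append]
    show Efold D l.reverse (fun a => -t a) (E D b (-t b) (E D b (t b) (Efold D l t φ))) = φ
    rw [E_add h (hl b List.mem_cons_self), neg_add_cancel, E_zero h,
      ih fun a ha => hl a (List.mem_cons_of_mem _ ha)]

omit h in
theorem rts_mv {a : ℕ} (ha : a ∈ L.rts) : a ∈ L.mv D := List.mem_append_left _ ha

theorem cell_mv {c : Cell} (hc : c ∈ L.cells) :
    (∀ a ∈ c.A.map Prod.fst, a ∈ L.mv D) ∧ ∀ x ∈ c.A, stepOK D x.1 x.2 = true := by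
  obtain ⟨-, hA⟩ := pairs_facts (cell_facts h hc).1
  refine ⟨fun a ha => ?_, fun x hx => (mv_ok h (rts_mv (hA x hx).1) (hA x hx).2.1).1⟩
  obtain ⟨x, hx, rfl⟩ := List.mem_map.1 ha
  exact rts_mv (hA x hx).1

variable [Fintype F] {d : Wt F L.S → ℕ} (hd : Inv D L d)

omit h [Fintype F] in
theorem mu_mem {c : Cell} (hc : c ∈ L.cells) : c.mu ∈ L.S := List.mem_map_of_mem hc

/-- The number of the weights in the main orbit. -/
def orbitSize (q : ℕ) (L : Lev) : ℕ := (q - 1) * (L.cells.map fun c => q ^ c.A.length).sum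

include hG hd in
theorem delta_const : ∀ μ ∈ L.S, ∀ ψ ψ0 : AddChar F ℂ, ψ ≠ 1 → ψ0 ≠ 1 →
    d (delta μ ψ) = d (delta L.top ψ0) := by
  intro μ
  induction hn : L.top - μ using Nat.strong_induction_on generalizing μ with
  | _ n ih =>
    intro hμ ψ ψ0 hψ hψ0
    by_cases htop : μ = L.top
    · subst htop; exact hd.hT ψ ψ0 hψ hψ0
    obtain ⟨c, hc, rfl⟩ := List.mem_map.1 hμ
    obtain ⟨-, hle, -, -, -, hup⟩ := cell_facts h hc
    obtain ⟨hi, hlt, c', hc', hc'mu, -⟩ := hup htop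
    obtain ⟨φ', hφ', hsupp⟩ := hd.hR c.up hi (delta c.mu ψ)
    have hir := (refl_mem h hi hμ).1
    have hμ' : c'.mu ∈ L.S := List.mem_map_of_mem hc'
    have hinv : ∀ s ∈ L.S, D.reflectRoot c.up s = c.mu ↔ s = c'.mu := fun s hs => by
      constructor
      · intro e
        rw [hc'mu, ← e, hG.reflectRoot_reflectRoot hir (S_lt h hs)]
      · rintro rfl
        rw [hc'mu, hG.reflectRoot_reflectRoot hir (S_lt h hμ)]
    have hne : ext φ' c'.mu ≠ 1 := by
      rw [Ne, hsupp _ hμ', ext_delta hμ, if_pos ((hinv _ hμ').2 rfl)]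
      exact hψ
    have he : φ' = delta c'.mu (ext φ' c'.mu) := wt_ext fun s hs => by
      rw [ext_delta hμ']
      split_ifs with e
      · rw [e]
      · rw [hsupp s hs, ext_delta hμ, if_neg (fun e' => e ((hinv s hs).1 e'))]
    rw [← hφ', he]
    exact ih _ (by have := (cell_facts h hc').2.1; omega) c'.mu rfl hμ' _ ψ0 hne hψ0

omit h in
theorem Efold_congr {l : List ℕ} {t t' : ℕ → F} (he : ∀ a ∈ l, t a = t' a) (φ : Wt F L.S) :
    Efold D l t φ = Efold D l t' φ := by
  induction l with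
  | nil => rfl
  | cons b l ih =>
    show E D b (t b) (Efold D l t φ) = E D b (t' b) (Efold D l t' φ)
    rw [he b List.mem_cons_self, ih fun a ha => he a (List.mem_cons_of_mem _ ha)]

/-- The conditions saying that a weight is outside the main orbit. -/
def Spread (φ : Wt F L.S) (μ : ℕ) (N : List ℕ) : Prop :=
  ext φ μ ≠ 1 ∧ (∀ s ∈ N, ext φ s = 1) ∧ ∃ s ∈ L.S, s ≠ μ ∧ ext φ s ≠ 1

include hG hd in
theorem push_top : ∀ c ∈ L.cells, ∀ φ, Spread φ c.mu c.nbrs → ∃ φ', d φ' = d φ ∧ ext φ' L.top ≠ 1 ∧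
    (∀ s ∈ L.A1.map Prod.snd, ext φ' s = 1) ∧ ∃ s ∈ L.S, s ≠ L.top ∧ ext φ' s ≠ 1 := by
  intro c
  induction hn : L.top - c.mu using Nat.strong_induction_on generalizing c with
  | _ n ih =>
    intro hc φ hφ
    obtain ⟨h1, h2, h3⟩ := hφ
    obtain ⟨-, hle, -, -, htop, hup⟩ := cell_facts h hc
    by_cases he : c.mu = L.top
    · rw [he] at h1 h3
      refine ⟨φ, rfl, h1, fun s hs => h2 s ?_, h3⟩
      obtain ⟨x, hx, rfl⟩ := List.mem_map.1 hs
      exact (htop he).2 x hx
    obtain ⟨hi, hlt, c', hc', hc'mu, hnb⟩ := hup he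
    obtain ⟨φ', hφ', hsupp⟩ := hd.hR c.up hi φ
    have hμ : c.mu ∈ L.S := List.mem_map_of_mem hc
    have hμ' : c'.mu ∈ L.S := List.mem_map_of_mem hc'
    obtain ⟨hir, -⟩ := refl_mem h hi hμ
    have hback : D.reflectRoot c.up c'.mu = c.mu := by
      rw [hc'mu, hG.reflectRoot_reflectRoot hir (S_lt h hμ)]
    have hP : Spread φ' c'.mu c'.nbrs := by
      refine ⟨?_, fun s hs => ?_, ?_⟩
      · rw [Ne, hsupp _ hμ', hback]; exact h1
      · by_cases hsS : s ∈ L.S
        · rw [hsupp s hsS]; exact h2 _ (hnb s hs)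
        · rw [ext, dif_neg hsS]
      · obtain ⟨s, hs, hne, hs1⟩ := h3
        obtain ⟨-, hs'⟩ := refl_mem h hi hs
        refine ⟨_, hs', fun e => hne ?_, ?_⟩
        · rw [← hG.reflectRoot_reflectRoot hir (S_lt h hs), e, hback]
        · rw [Ne, hsupp _ hs', hG.reflectRoot_reflectRoot hir (S_lt h hs)]; exact hs1
    obtain ⟨φ'', e1, e2⟩ := ih _ (by have := (cell_facts h hc').2.1; omega) c' rfl hc' φ' hP
    exact ⟨φ'', e1.trans hφ', e2⟩

include hG hd in
theorem push_layer {φ : Wt F L.S} (h1 : ext φ L.top ≠ 1) (h2 : ∀ s ∈ L.A1.map Prod.snd, ext φ s = 1)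
    {n : ℕ} (hn : n ∈ L.L2) (h3 : ext φ n ≠ 1) : ∃ φ', d φ' = d φ ∧ ext φ' L.top ≠ 1 ∧
      (∀ s ∈ L.A1.map Prod.snd, ext φ' s = 1) ∧ ext φ' L.nu0 ≠ 1 := by
  have hl := layer_ok h
  simp only [layerOK, Bool.and_eq_true, List.all_eq_true, Bool.or_eq_true, decide_eq_true_eq,
    List.contains_iff_mem, List.any_eq_true, Bool.not_eq_true'] at hl
  obtain ⟨⟨⟨⟨⟨-, hstab⟩, hL2⟩, -⟩, -⟩, -⟩ := hl
  induction hk : D.nroots - n using Nat.strong_induction_on generalizing n φ with
  | _ k ih =>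
    obtain ⟨⟨⟨hnS, -⟩, -⟩, hcase⟩ := hL2 n hn
    by_cases he : n = L.nu0
    · subst he; exact ⟨φ, rfl, h1, h2, h3⟩
    obtain ⟨i, his, hlt, hn'⟩ := hcase.resolve_left he
    obtain ⟨⟨hi, hit⟩, hL1⟩ := hstab i his
    obtain ⟨φ', hφ', hsupp⟩ := hd.hR i hi φ
    obtain ⟨hir, hnew⟩ := refl_mem h hi hnS
    have g1 : ext φ' L.top ≠ 1 := by rw [Ne, hsupp _ (top_mem h), hit]; exact h1
    have g2 : ∀ s ∈ L.A1.map Prod.snd, ext φ' s = 1 := by
      intro s hs
      obtain ⟨x, hx, rfl⟩ := List.mem_map.1 hs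
      by_cases hxS : x.2 ∈ L.S
      · rw [hsupp _ hxS]; exact h2 _ (hL1 x hx)
      · rw [ext, dif_neg hxS]
    have g3 : ext φ' (D.reflectRoot i n) ≠ 1 := by
      rw [Ne, hsupp _ hnew, hG.reflectRoot_reflectRoot hir (S_lt h hnS)]; exact h3
    have hlt' := hG.reflectRoot_lt hir (S_lt h hnS)
    obtain ⟨φ'', e1, e2⟩ := ih (D.nroots - D.reflectRoot i n) (hk ▸ Nat.sub_lt_sub_left (hlt.trans hlt') hlt) g1 g2 hn' g3 rfl
    exact ⟨φ'', e1.trans hφ', e2⟩

include hG hd in
theorem push_bottom {φ : Wt F L.S} (h1 : ext φ L.top ≠ 1) (h2 : ∀ s ∈ L.A1.map Prod.snd, ext φ s = 1)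
    (h4 : ∀ s ∈ L.L2, ext φ s = 1) {b : ℕ × ℕ × ℕ × ℕ} (hb : b ∈ L.bot) (h3 : ext φ b.1 ≠ 1) :
    ∃ φ', d φ' = d φ ∧ ext φ' L.top ≠ 1 ∧ (∀ s ∈ L.A1.map Prod.snd, ext φ' s = 1) ∧
      ∃ s ∈ L.L2, ext φ' s ≠ 1 := by
  have hl := layer_ok h
  simp only [layerOK, Bool.and_eq_true, List.all_eq_true] at hl
  obtain ⟨⟨⟨⟨⟨hcover, -⟩, hL2⟩, -⟩, hlen⟩, hbot⟩ := hl
  have hbl : ∀ b' ∈ L.bot, b' = b := by
    intro b' hb'
    rw [decide_eq_true_eq] at hlen
    obtain ⟨k1, hk1, rfl⟩ := List.getElem_of_mem hb'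
    obtain ⟨k2, hk2, rfl⟩ := List.getElem_of_mem hb
    simp only [show k1 = k2 by omega]
  have hb' := hbot b hb
  obtain ⟨b0, i, s1, s2⟩ := b
  simp only [Bool.and_eq_true, decide_eq_true_eq, List.contains_iff_mem, Bool.or_eq_true,
    Option.isNone_iff_eq_none] at hb'
  obtain ⟨⟨⟨⟨⟨⟨⟨⟨⟨⟨⟨⟨⟨⟨⟨⟨⟨⟨⟨hi, hit⟩, hib⟩, hi1⟩, hi2⟩, hal⟩, hs2⟩, hA⟩, -⟩, -⟩, -⟩, -⟩, -⟩,
    hn0⟩, hn1⟩, hn2⟩, ha0⟩, ha1⟩, ha2⟩, hrest⟩ := hb'
  have hb0 : b0 ∈ L.S := by
    by_contra hc
    exact h3 (by rw [ext, dif_neg hc])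
  have htop := top_mem h
  obtain ⟨hir, hS1⟩ := refl_mem h hi htop
  rw [hit] at hS1
  have hS2 : s2 ∈ L.S := hib ▸ (refl_mem h hi hb0).2
  obtain ⟨φ1, hφ1, hsupp⟩ := hd.hR i hi φ
  have hAs : s1 ∈ L.A1.map Prod.snd := List.mem_map.2 ⟨_, hA, rfl⟩
  have b1 : ext φ1 s1 ≠ 1 := by rw [Ne, hsupp _ hS1, hi1]; exact h1
  have c1 : ext φ1 s2 ≠ 1 := by rw [Ne, hsupp _ hS2, hi2]; exact h3
  have f1 : ∀ p, p ≠ s1 → p ≠ s2 → ext φ1 p = 1 := by
    intro p hp1 hp2
    by_cases hp : p ∈ L.S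
    swap
    · rw [ext, dif_neg hp]
    have hback := hG.reflectRoot_reflectRoot hir (S_lt h hp)
    rw [hsupp p hp]
    have hcv := hcover _ (refl_mem h hi hp).2
    simp only [Bool.or_eq_true, decide_eq_true_eq, List.contains_iff_mem] at hcv
    rcases hcv with ((e | e) | e) | e
    · exact absurd (by rw [← hback, e, hit]) hp1
    · exact h2 _ e
    · exact h4 _ e
    · obtain ⟨b', hb', e'⟩ := List.mem_map.1 e
      rw [hbl b' hb'] at e'
      exact absurd (by rw [← hback, ← e', hib]) hp2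
  have hL : ∀ y ∈ L.A1, y.2 ≠ s2 := by
    intro y hy e
    have h5 := hL2 s2 hs2
    simp only [Bool.and_eq_true, Bool.not_eq_true'] at h5
    have h6 := h5.1.2
    rw [← Bool.not_eq_true, List.contains_iff_mem] at h6
    exact h6 (List.mem_map.2 ⟨y, hy, e⟩)
  obtain ⟨σ1, hσ1⟩ := hits_iff hn0
  obtain ⟨σ2, hσ2⟩ := hits_iff hn2
  obtain ⟨σ3, hσ3⟩ := hits_iff ha1
  have hnal : D.neg (D.simple i) ∈ L.mv D := List.mem_append_right _ (List.mem_map.2 ⟨i, hi, rfl⟩)
  set φ2 := E D (D.neg (D.simple i)) 1 φ1 with hφ2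
  have a1 : ext φ1 L.top = 1 := by rw [hsupp _ htop, hit]; exact h2 _ hAs
  have d1 : ext φ1 b0 = 1 := by rw [hsupp _ hb0, hib]; exact h4 _ hs2
  have a2 : ext φ2 L.top ≠ 1 := by
    rw [hφ2, ext_E_some htop hσ1, a1, one_mul]
    intro e
    refine sign_ne_zero (F := F) (step_some (mv_ok h hnal htop).1 hσ1).2.2
      ((mulShift_bijective b1).1 (a₁ := -(σ1 : F)) (a₂ := 0) ?_)
    simpa using e
  have c2 : ext φ2 s2 ≠ 1 := by
    rw [hφ2, ext_E_some hS2 hσ2, d1]
    simpa [show ∀ a : F, AddChar.mulShift (1 : AddChar F ℂ) a = 1 from fun a => by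
      ext x; simp [AddChar.mulShift_apply]] using c1
  obtain ⟨u, hu⟩ := (mulShift_bijective a2).2 (ext φ2 s1)⁻¹
  set φ3 := E D (D.simple i) ((-(σ3 : F))⁻¹ * u) φ2 with hφ3
  refine ⟨φ3, ?_, ?_, ?_, s2, hs2, ?_⟩
  · rw [hφ3, hd.hE _ (rts_mv hal), hφ2, hd.hE _ hnal, hφ1]
  · rwa [hφ3, ext_E_none ha0]
  · intro s hs
    obtain ⟨y, hy, rfl⟩ := List.mem_map.1 hs
    by_cases hys : y.2 = s1
    · rw [hys, hφ3, ext_E_some hS1 hσ3, mul_inv_cancel_left₀ (sign_ne_zero
        (step_some (mv_ok h (rts_mv hal) hS1).1 hσ3).2.2),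
        show AddChar.mulShift (ext φ2 L.top) u = (ext φ2 s1)⁻¹ from hu, mul_inv_cancel]
    · obtain ⟨hr1, hr2⟩ := (hrest y hy).resolve_left hys
      rw [hφ3, ext_E_none hr1, hφ2]
      refine ext_E_eq_one (f1 _ hys (hL y hy)) fun p σ hp => ?_
      simp only [through, hp, Bool.and_eq_true, decide_eq_true_eq] at hr2
      exact f1 p hr2.1 hr2.2
  · rwa [hφ3, ext_E_none ha2]

omit h in
theorem delta_ne_one {μ : ℕ} (hμ : μ ∈ L.S) {ψ : AddChar F ℂ} (hψ : ψ ≠ 1) : delta (S := L.S) μ ψ ≠ 1 := by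
  intro e
  have e1 := congrArg (fun φ => ext φ μ) e
  simp only [ext_delta hμ, ext_one, if_true] at e1
  exact hψ e1

open Classical in
include hG hd in
/-- The weights outside the main orbit come in large families. -/
theorem spread_bound {φ : Wt F L.S} (h1 : ext φ L.top ≠ 1) (h2 : ∀ s ∈ L.A1.map Prod.snd, ext φ s = 1)
    (h3 : ∃ s ∈ L.S, s ≠ L.top ∧ ext φ s ≠ 1) (hd0 : d φ ≠ 0) :
    L.L2 ≠ [] ∧ Fintype.card F ^ (L.A1.length + L.A2.length) ≤ ∑ χ ∈ Finset.univ.erase 1, d χ := by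
  obtain ⟨φ1, hφ1, g1, g2, n, hn, g3⟩ : ∃ φ1, d φ1 = d φ ∧ ext φ1 L.top ≠ 1 ∧
      (∀ s ∈ L.A1.map Prod.snd, ext φ1 s = 1) ∧ ∃ s ∈ L.L2, ext φ1 s ≠ 1 := by
    by_cases hL : ∃ s ∈ L.L2, ext φ s ≠ 1
    · exact ⟨φ, rfl, h1, h2, hL⟩
    push Not at hL
    obtain ⟨s, hs, hne, hs1⟩ := h3
    have hl := layer_ok h
    simp only [layerOK, Bool.and_eq_true, List.all_eq_true, Bool.or_eq_true, decide_eq_true_eq,
      List.contains_iff_mem] at hl
    rcases hl.1.1.1.1.1 s hs with ((e | e) | e) | e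
    · exact absurd e hne
    · exact absurd (h2 _ e) hs1
    · exact absurd (hL _ e) hs1
    · obtain ⟨b, hb, rfl⟩ := List.mem_map.1 e
      exact push_bottom hG h hd h1 h2 hL hb hs1
  obtain ⟨φ2, hφ2, t1, t2, t3⟩ := push_layer hG h hd g1 g2 hn g3
  obtain ⟨c, hc, hcmu⟩ := List.mem_map.1 (top_mem h)
  obtain ⟨hA1p, -, -, -, htopc, -⟩ := cell_facts h hc
  obtain ⟨hA1, -⟩ := htopc hcmu
  rw [hA1, hcmu] at hA1p
  obtain ⟨hmv1, hok1⟩ := cell_mv h hc
  rw [hA1] at hmv1 hok1
  obtain ⟨hnd1, hf1⟩ := pairs_facts hA1p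
  have hl := layer_ok h
  simp only [layerOK, Bool.and_eq_true, List.all_eq_true, Bool.or_eq_true, List.isEmpty_iff] at hl
  have hA2 := hl.1.1.2
  have hnd2 : (L.A2.map Prod.fst).Nodup := by
    rcases hA2 with e | e
    · simp [e]
    · exact (pairs_facts e.1).1
  have hmv2 : ∀ a ∈ L.A2.map Prod.fst, a ∈ L.mv D := by
    intro a ha
    obtain ⟨x, hx, rfl⟩ := List.mem_map.1 ha
    rcases hA2 with e | e
    · rw [e] at hx; simp at hx
    · exact rts_mv ((pairs_facts e.1).2 x hx).1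
  have keep : ∀ u : ℕ → F, ext (Efold D (L.A2.map Prod.fst) u φ2) L.top = ext φ2 L.top ∧
      ∀ s ∈ L.A1.map Prod.snd, ext (Efold D (L.A2.map Prod.fst) u φ2) s = 1 := by
    intro u
    rcases hA2 with e | e
    · rw [e]; exact ⟨rfl, t2⟩
    refine ⟨ext_Efold_none (fun b hb => ?_) _ _, ext_Efold_eq_one (fun s => s ∈ L.A1.map Prod.snd) ?_ _ t2⟩
    · obtain ⟨x, hx, rfl⟩ := List.mem_map.1 hb
      have := (e.2 x hx)
      simp only [Option.isNone_iff_eq_none] at this
      exact this.1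
    · intro b hb s hs p σ hp
      obtain ⟨x, hx, rfl⟩ := List.mem_map.1 hb
      obtain ⟨y, hy, rfl⟩ := List.mem_map.1 hs
      have := (e.2 x hx).2 y hy
      simpa [through, hp] using this
  let fam : ({a // a ∈ L.A1.map Prod.fst} → F) × ({a // a ∈ L.A2.map Prod.fst} → F) → Wt F L.S :=
    fun p => Efold D (L.A1.map Prod.fst) (extT p.1) (Efold D (L.A2.map Prod.fst) (extT p.2) φ2)
  have hfamtop : ∀ p, ext (fam p) L.top = ext φ2 L.top := fun p => by
    rw [show fam p = Efold D (L.A1.map Prod.fst) (extT p.1) _ from rfl, ext_Efold_none (fun b hb => ?_),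
      (keep _).1]
    obtain ⟨x, hx, rfl⟩ := List.mem_map.1 hb
    exact (hf1 x hx).2.2.2.1
  have hfam : Function.Injective fam := by
    rintro ⟨t, u⟩ ⟨t', u'⟩ e
    have et : t = t' := by
      funext a
      have := pairs_inj hA1p hok1 (φ := Efold D (L.A2.map Prod.fst) (extT u) φ2)
        (φ' := Efold D (L.A2.map Prod.fst) (extT u') φ2) (t := extT t) (t' := extT t')
        (by rw [(keep _).1]; exact t1) (by rw [(keep _).1, (keep _).1])
        (fun x hx => by rw [(keep _).2 _ (List.mem_map_of_mem hx), (keep _).2 _ (List.mem_map_of_mem hx)])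
        (fun x _ => congrArg (fun φ => ext φ x.2) e) a.1 a.2
      simpa [extT, a.2] using this
    subst et
    have e2 := congrArg (Efold D (L.A1.map Prod.fst).reverse fun a => -(extT t) a) e
    simp only [fam, Efold_inverse h hmv1] at e2
    have eu : u = u' := by
      funext a
      rcases hA2 with e' | e'
      · exact absurd (e' ▸ a.2 : a.1 ∈ ([] : List (ℕ × ℕ)).map Prod.fst) (by simp)
      have hok2 : ∀ x ∈ L.A2, stepOK D x.1 x.2 = true := fun x hx =>
        (mv_ok h (hmv2 _ (List.mem_map_of_mem hx)) ((pairs_facts e'.1).2 x hx).2.1).1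
      have := pairs_inj e'.1 hok2 (φ := φ2) (φ' := φ2) (t := extT u) (t' := extT u') t3 rfl
        (fun _ _ => rfl) (fun x _ => congrArg (fun φ => ext φ x.2) e2) a.1 a.2
      simpa [extT, a.2] using this
    subst eu
    rfl
  have hne1 : ∀ p, fam p ≠ 1 := fun p e => t1 (by rw [← hfamtop p, e, ext_one])
  have hdfam : ∀ p, d (fam p) = d φ := fun p => by
    rw [show fam p = Efold D (L.A1.map Prod.fst) (extT p.1) _ from rfl, hd.efold hmv1, hd.efold hmv2,
      hφ2, hφ1]
  refine ⟨List.ne_nil_of_mem hn, ?_⟩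
  calc Fintype.card F ^ (L.A1.length + L.A2.length) = ∑ _p : ({a // a ∈ L.A1.map Prod.fst} → F) ×
        ({a // a ∈ L.A2.map Prod.fst} → F), 1 := by
        rw [Finset.sum_const, smul_eq_mul, mul_one, Finset.card_univ, Fintype.card_prod, card_params hnd1,
          card_params hnd2, List.length_map, List.length_map, pow_add]
    _ ≤ ∑ p, d (fam p) := Finset.sum_le_sum fun p _ => by rw [hdfam]; omega
    _ = ∑ χ ∈ Finset.univ.image fam, d χ := (Finset.sum_image fun p _ p' _ e => hfam e).symm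
    _ ≤ _ := Finset.sum_le_sum_of_subset fun χ hχ => by
        obtain ⟨p, -, rfl⟩ := Finset.mem_image.1 hχ
        exact Finset.mem_erase.2 ⟨hne1 p, Finset.mem_univ _⟩

open Classical in
include hG hd in
/-- Either the non-trivial weights form one orbit of known size, or there are many of them. -/
theorem weights_dichotomy :
    (L.L2 ≠ [] ∧ Fintype.card F ^ (L.A1.length + L.A2.length) ≤ ∑ χ ∈ Finset.univ.erase (1 : Wt F L.S), d χ) ∨
      ∃ d0, ∑ χ ∈ Finset.univ.erase (1 : Wt F L.S), d χ = orbitSize (Fintype.card F) L * d0 := by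
  let ι := Σ k : Fin L.cells.length, {ψ : AddChar F ℂ // ψ ≠ 1} × ({a // a ∈ L.cells[k.1].A.map Prod.fst} → F)
  let fam : ι → Wt F L.S := fun p =>
    Efold D (L.cells[p.1.1].A.map Prod.fst) (extT p.2.2) (delta L.cells[p.1.1].mu p.2.1.1)
  have hmem : ∀ k : Fin L.cells.length, L.cells[k.1] ∈ L.cells := fun k => List.getElem_mem _
  have hfamtop : ∀ p, ext (fam p) L.cells[p.1.1].mu = p.2.1.1 := by
    intro p
    rw [show fam p = Efold D _ _ _ from rfl, ext_Efold_none (fun b hb => ?_), ext_delta (mu_mem (hmem _)),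
      if_pos rfl]
    obtain ⟨x, hx, rfl⟩ := List.mem_map.1 hb
    exact ((pairs_facts (cell_facts h (hmem p.1)).1).2 x hx).2.2.2.1
  have habove : ∀ p, ∀ s, s ∈ L.S ∧ L.cells[p.1.1].mu < s → ext (fam p) s = 1 := by
    intro p
    obtain ⟨-, -, hab, -⟩ := cell_facts h (hmem p.1)
    refine ext_Efold_eq_one (fun s => s ∈ L.S ∧ L.cells[p.1.1].mu < s) ?_ _ fun s hs => ?_
    · intro b hb s hs q σ hq
      obtain ⟨x, hx, rfl⟩ := List.mem_map.1 hb
      exact ⟨((mv_ok h ((cell_mv h (hmem p.1)).1 _ hb) hs.1).2 q σ hq).1, hab x hx s hs.1 hs.2 q σ hq⟩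
    · rw [ext_delta (mu_mem (hmem _)), if_neg (by omega)]
  have hfam : Function.Injective fam := by
    rintro ⟨k, ψ, t⟩ ⟨k', ψ', t'⟩ e
    have hk : L.cells[k.1].mu = L.cells[k'.1].mu := by
      rcases lt_trichotomy L.cells[k.1].mu L.cells[k'.1].mu with hlt | heq | hlt
      · have e1 := habove ⟨k, ψ, t⟩ _ ⟨mu_mem (hmem k'), hlt⟩
        rw [e, hfamtop] at e1
        exact absurd e1 ψ'.2
      · exact heq
      · have e1 := habove ⟨k', ψ', t'⟩ _ ⟨mu_mem (hmem k), hlt⟩
        rw [← e, hfamtop] at e1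
        exact absurd e1 ψ.2
    have hkk : k = k' := by
      have hn := S_nodup h
      have hk' : L.S[k.1]'(by simp [Lev.S]) = L.S[k'.1]'(by simp [Lev.S]) := by simpa [Lev.S] using hk
      exact Fin.ext (hn.getElem_inj_iff.1 hk')
    subst hkk
    have hψ : ψ = ψ' := by
      have e1 := hfamtop ⟨k, ψ, t⟩
      rw [e, hfamtop] at e1
      exact Subtype.ext e1.symm
    subst hψ
    have ht : t = t' := by
      funext a
      obtain ⟨hp, -⟩ := cell_facts h (hmem k)
      have := pairs_inj hp (cell_mv h (hmem k)).2 (φ := delta L.cells[k.1].mu ψ.1)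
        (φ' := delta L.cells[k.1].mu ψ.1) (t := extT t) (t' := extT t')
        (by rw [ext_delta (mu_mem (hmem _)), if_pos rfl]; exact ψ.2) rfl (fun _ _ => rfl)
        (fun x _ => congrArg (fun φ => ext φ x.2) e) a.1 a.2
      simpa [extT, a.2] using this
    subst ht
    rfl
  by_cases hall : ∀ χ : Wt F L.S, χ ≠ 1 → d χ ≠ 0 → χ ∈ Finset.univ.image fam
  · obtain ⟨ψ0, hψ0⟩ : ∃ ψ : AddChar F ℂ, ψ ≠ 1 := by
      have : Nontrivial (AddChar F ℂ) := Fintype.one_lt_card_iff_nontrivial.1 (by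
        rw [AddChar.card_eq]; exact Fintype.one_lt_card)
      exact exists_ne 1
    refine Or.inr ⟨d (delta L.top ψ0), ?_⟩
    have hsub : Finset.univ.image fam ⊆ Finset.univ.erase (1 : Wt F L.S) := fun χ hχ => by
      obtain ⟨p, -, rfl⟩ := Finset.mem_image.1 hχ
      refine Finset.mem_erase.2 ⟨fun e => p.2.1.2 ?_, Finset.mem_univ _⟩
      rw [← hfamtop p, e, ext_one]
    rw [← Finset.sum_subset hsub fun χ hχ hn => by
      by_contra hne
      exact hn (hall χ (Finset.ne_of_mem_erase hχ) hne)]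
    rw [Finset.sum_image fun p _ p' _ e => hfam e, Finset.sum_congr rfl fun p _ => show d (fam p) = _ by
      rw [show fam p = Efold D _ _ _ from rfl, hd.efold (cell_mv h (hmem p.1)).1,
        delta_const hG h hd _ (mu_mem (hmem p.1)) _ _ p.2.1.2 hψ0],
      Finset.sum_const, smul_eq_mul, Finset.card_univ]
    congr 1
    rw [orbitSize, Fintype.card_sigma, ← List.sum_ofFn, ← List.sum_map_mul_left]
    congr 1
    rw [← List.ofFn_getElem_eq_map]
    congr 1
    funext k
    rw [Fintype.card_prod, card_params (pairs_facts (cell_facts h (hmem k)).1).1, List.length_map,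
      Fintype.card_subtype_compl, Fintype.card_subtype_eq, AddChar.card_eq]
  · push Not at hall
    obtain ⟨φ, hφ1, hφd, hφ⟩ := hall
    refine Or.inl ?_
    have hne : (Finset.univ.filter fun s : {s // s ∈ L.S} => φ s ≠ 1).Nonempty := by
      by_contra hempty
      rw [Finset.not_nonempty_iff_eq_empty, Finset.filter_eq_empty_iff] at hempty
      exact hφ1 (funext fun s => not_not.1 (hempty (Finset.mem_univ s)))
    obtain ⟨m, hm, hmax⟩ := Finset.exists_max_image _ (fun s : {s // s ∈ L.S} => s.1) hne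
    rw [Finset.mem_filter] at hm
    obtain ⟨k, hk, hkm⟩ : ∃ (k : ℕ) (hk : k < L.cells.length), L.cells[k].mu = m.1 := by
      obtain ⟨c, hc, e⟩ := List.mem_map.1 m.2
      obtain ⟨k, hk, rfl⟩ := List.getElem_of_mem hc
      exact ⟨k, hk, e⟩
    set c := L.cells[k] with hcdef
    have hc : c ∈ L.cells := List.getElem_mem _
    obtain ⟨hp, -, hab, hnb, -, -⟩ := cell_facts h hc
    obtain ⟨hmvc, hokc⟩ := cell_mv h hc
    have htopne : ext φ c.mu ≠ 1 := by rw [hkm, ext_of_mem φ m]; exact hm.2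
    obtain ⟨t, hg0, hkill⟩ := exists_kill hp hokc htopne
    set g := Efold D (c.A.map Prod.fst).reverse t φ with hg
    have hmvr : ∀ a ∈ (c.A.map Prod.fst).reverse, a ∈ L.mv D := fun a ha => hmvc a (List.mem_reverse.1 ha)
    have hgabove : ∀ s, s ∈ L.S ∧ c.mu < s → ext g s = 1 := by
      refine ext_Efold_eq_one (fun s => s ∈ L.S ∧ c.mu < s) ?_ _ fun s hs => ?_
      · intro b hb s hs q σ hq
        obtain ⟨x, hx, rfl⟩ := List.mem_map.1 (List.mem_reverse.1 hb)
        exact ⟨((mv_ok h (hmvr _ hb) hs.1).2 q σ hq).1, hab x hx s hs.1 hs.2 q σ hq⟩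
      · by_contra hne'
        have := hmax ⟨s, hs.1⟩ (Finset.mem_filter.2 ⟨Finset.mem_univ _, by rwa [← ext_of_mem φ ⟨s, hs.1⟩]⟩)
        simp only at this
        omega
    have hspread : Spread g c.mu c.nbrs := by
      refine ⟨by rw [hg0]; exact htopne, fun s hs => ?_, ?_⟩
      · by_cases hsS : s ∈ L.S
        · rcases hnb s hs with e | e
          · obtain ⟨x, hx, rfl⟩ := List.mem_map.1 e
            exact hkill x hx
          · exact hgabove s ⟨hsS, e⟩
        · rw [ext, dif_neg hsS]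
      · by_contra hcon
        push Not at hcon
        refine hφ (Finset.mem_image.2 ⟨⟨⟨k, hk⟩, ⟨ext φ c.mu, htopne⟩,
          fun a => -t a.1⟩, Finset.mem_univ _, ?_⟩)
        have hgd : g = delta c.mu (ext φ c.mu) := wt_ext fun s hs => by
          rw [ext_delta (mu_mem hc)]
          split_ifs with e
          · rw [e, hg0]
          · exact hcon s hs e
        show Efold D (c.A.map Prod.fst) (extT fun a => -t a.1) (delta c.mu (ext φ c.mu)) = φ
        have hext : ∀ a ∈ c.A.map Prod.fst, extT (l := c.A.map Prod.fst) (fun a => -t a.1) a = -t a := fun a ha =>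
          dif_pos ha
        rw [← hgd, Efold_congr hext]
        have := Efold_inverse h hmvr t φ
        rwa [List.reverse_reverse] at this
    obtain ⟨φ', hd', g1, g2, g3⟩ := push_top hG h hd c hc g hspread
    refine spread_bound hG h hd g1 g2 g3 ?_
    rw [hd', hg, hd.efold hmvr]
    exact hφd

end levels

end Cfsg.Agent.MinDegree.Exc
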