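import Mathlib

/-!
The projection on the vectors fixed by a subgroup.
-/

set_option autoImplicit false

namespace Cfsg.Agent.MinDegree.G2

variable {G : Type*} [Group G] [Finite G] {W : Type*} [AddCommGroup W] [Module ℂ W]
  (ρ : Representation ℂ G W) (U : Subgroup G)

/-- The average over a subgroup. -/
noncomputable def avg : W →ₗ[ℂ] W :=
  let _ : Fintype U := Fintype.ofFinite U
  (Fintype.card U : ℂ)⁻¹ • ∑ u : U, ρ u.1

theorem avg_apply [Fintype U] (v : W) : avg ρ U v = (Fintype.card U : ℂ)⁻¹ • ∑ u : U, ρ u.1 v := by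
  have e : ‹Fintype U› = Fintype.ofFinite U := Subsingleton.elim _ _
  subst e
  simp [avg, LinearMap.smul_apply, LinearMap.sum_apply]

variable {ρ U}

theorem rho_avg {u : G} (hu : u ∈ U) (v : W) : ρ u (avg ρ U v) = avg ρ U v := by
  let _ : Fintype U := Fintype.ofFinite U
  rw [avg_apply, map_smul, map_sum]
  congr 1
  refine Fintype.sum_equiv (Equiv.mulLeft (⟨u, hu⟩ : U)) _ _ fun x => ?_
  simp [← Module.End.mul_apply, ← map_mul]

theorem avg_rho {u : G} (hu : u ∈ U) (v : W) : avg ρ U (ρ u v) = avg ρ U v := by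
  let _ : Fintype U := Fintype.ofFinite U
  rw [avg_apply, avg_apply]
  congr 1
  refine Fintype.sum_equiv (Equiv.mulRight (⟨u, hu⟩ : U)) _ _ fun x => ?_
  simp [← Module.End.mul_apply, ← map_mul]

theorem avg_of_fixed {v : W} (h : ∀ u ∈ U, ρ u v = v) : avg ρ U v = v := by
  let _ : Fintype U := Fintype.ofFinite U
  rw [avg_apply, Finset.sum_congr rfl fun (u : U) _ => h u.1 u.2, Finset.sum_const, Finset.card_univ,
    ← Nat.cast_smul_eq_nsmul ℂ, smul_smul, inv_mul_cancel₀ (Nat.cast_ne_zero.2 Fintype.card_ne_zero), one_smul]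

/-- An element normalising the subgroup commutes with the average. -/
theorem avg_comm {g : G} (hg : ∀ u ∈ U, g * u * g⁻¹ ∈ U) (hg' : ∀ u ∈ U, g⁻¹ * u * g ∈ U) (v : W) :
    avg ρ U (ρ g v) = ρ g (avg ρ U v) := by
  let _ : Fintype U := Fintype.ofFinite U
  rw [avg_apply, avg_apply, map_smul, map_sum]
  congr 1
  let e : U ≃ U :=
    { toFun := fun u => ⟨g⁻¹ * u.1 * g, hg' u.1 u.2⟩
      invFun := fun u => ⟨g * u.1 * g⁻¹, hg u.1 u.2⟩
      left_inv := fun u => Subtype.ext (by simp only; group)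
      right_inv := fun u => Subtype.ext (by simp only; group) }
  refine Fintype.sum_equiv e _ _ fun u => ?_
  simp only [e, Equiv.coe_fn_mk, ← Module.End.mul_apply, ← map_mul]
  congr 2
  group

end Cfsg.Agent.MinDegree.G2
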