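import Cfsg.Agent.Lib.G2OddInvol.Basic
import Cfsg.Agent.Lib.Chev.Simple
import Cfsg.Agent.Lib.Chev.PerfectSeven
import Cfsg.Agent.Lib.Chev.Order
import Cfsg.Agent.Lib.Chev.Poincare

/-!
Root elements of `G₂(F)` as elements of the group, with the conjugation formulas used to move weight
vectors around.
-/

set_option autoImplicit false
set_option maxRecDepth 4000

namespace Cfsg.Agent.MinDegree.G2

open Cfsg.Lie Cfsg.Agent.Chev

variable {F : Type*} [Field F]

/-- `G₂(F)`. -/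
abbrev Grp (F : Type*) [Field F] : Type _ := ↥(chevG2.group F)

theorem good : Good chevG2 := Chev.G2.good

theorem lt12 {r : ℕ} (h : r < 12) : r < chevG2.nroots := G2OddInvol.lt12 h

/-- A root element. -/
noncomputable def X (r : ℕ) (t : F) : Grp F := ⟨xg chevG2 F r t, good.xg_mem_group r t⟩

theorem X_add (r : ℕ) (t u : F) : X r t * X r u = X r (t + u) := Subtype.ext (good.xg_add r t u)

theorem X_zero (r : ℕ) : X r (0 : F) = 1 := Subtype.ext (good.xg_zero r)

theorem X_inv (r : ℕ) (t : F) : (X r t)⁻¹ = X r (-t) := Subtype.ext (good.xg_inv r t)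

theorem X_comm_self (r : ℕ) (t u : F) : X r t * X r u = X r u * X r t := by
  rw [X_add, X_add, add_comm]

theorem X_cancel (r : ℕ) (t : F) : X r (-t) * X r t = 1 := by rw [X_add, neg_add_cancel, X_zero]

/-- A word in root elements. -/
noncomputable def word (l : List (ℕ × F)) : Grp F := (l.map fun p => X p.1 p.2).prod

theorem coe_word (l : List (ℕ × F)) : ((word l : Grp F) : GL chevG2.Idx F) = wordG chevG2 F l := by
  induction l with
  | nil => simp [word, wordG]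
  | cons p l ih =>
    simp only [word, wordG, List.map_cons, List.prod_cons, Subgroup.coe_mul] at ih ⊢
    rw [ih]; rfl

theorem conj_word {r s : ℕ} (hr : r < 12) (hs : s < 12) (h1 : s ≠ r) (h2 : s ≠ chevG2.neg r) (t u : F) :
    X r (-t) * X s u * X r t = X s u * word (chevG2.commWord F r s t u) := by
  have e : X s u * X r t = X r t * X s u * word (chevG2.commWord F r s t u) := by
    apply Subtype.ext
    simp only [Subgroup.coe_mul, coe_word]
    exact good.xg_comm (lt12 hr) (lt12 hs) h1 h2 t u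
  rw [mul_assoc (X r (-t)), e, ← mul_assoc, ← mul_assoc, X_cancel, one_mul]

theorem conj_nil {r s : ℕ} (h : r < 12 ∧ s < 12 ∧ (s = r ∨ (s ≠ chevG2.neg r ∧ chevG2.commTerms r s = [])))
    (t u : F) : X r (-t) * X s u * X r t = X s u := by
  obtain ⟨hr, hs, h3⟩ := h
  rcases eq_or_ne s r with rfl | hne
  · rw [mul_assoc, X_comm_self s u t, ← mul_assoc, X_cancel, one_mul]
  obtain ⟨h1, h2⟩ := h3.resolve_left hne
  rw [conj_word hr hs hne h1, ChevalleyDatum.commWord, h2]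
  simp [word]

theorem commute_nil {r s : ℕ} (h : r < 12 ∧ s < 12 ∧ (s = r ∨ (s ≠ chevG2.neg r ∧ chevG2.commTerms r s = [])))
    (t u : F) : X r t * X s u = X s u * X r t := by
  have e := conj_nil h t u
  rw [← X_inv, mul_assoc, inv_mul_eq_iff_eq_mul] at e
  exact e.symm

/-! ### The conjugation formulas -/

theorem c7_6 (t u : F) : X 7 (-t) * X 6 u * X 7 t =
    X 6 u * X 8 (t * u) * X 9 (t ^ 2 * u) * X 10 (-(t ^ 3 * u)) * X 11 (-(t ^ 3 * u ^ 2)) := by
  rw [conj_word (by norm_num) (by norm_num) (by norm_num) (by decide +kernel), ChevalleyDatum.commWord,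
    show chevG2.commTerms 7 6 = [(8, -1, 1, 1), (9, 1, 2, 1), (10, 1, 3, 1), (11, 1, 3, 2)] by decide +kernel]
  simp [word, mul_assoc, Odd.neg_pow (show Odd 3 by decide)]

theorem c7_8 (t u : F) : X 7 (-t) * X 8 u * X 7 t =
    X 8 u * X 9 (2 * t * u) * X 10 (-(3 * t ^ 2 * u)) * X 11 (-(3 * t * u ^ 2)) := by
  rw [conj_word (by norm_num) (by norm_num) (by norm_num) (by decide +kernel), ChevalleyDatum.commWord,
    show chevG2.commTerms 7 8 = [(9, -2, 1, 1), (10, -3, 2, 1), (11, 3, 1, 2)] by decide +kernel]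
  simp [word, mul_assoc]

theorem c7_9 (t u : F) : X 7 (-t) * X 9 u * X 7 t = X 9 u * X 10 (-(3 * t * u)) := by
  rw [conj_word (by norm_num) (by norm_num) (by norm_num) (by decide +kernel), ChevalleyDatum.commWord,
    show chevG2.commTerms 7 9 = [(10, 3, 1, 1)] by decide +kernel]
  simp [word]

theorem c7_10 (t u : F) : X 7 (-t) * X 10 u * X 7 t = X 10 u := conj_nil (by decide +kernel) t u

theorem c7_11 (t u : F) : X 7 (-t) * X 11 u * X 7 t = X 11 u := conj_nil (by decide +kernel) t u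

theorem c6_7 (t u : F) : X 6 (-t) * X 7 u * X 6 t =
    X 7 u * X 8 (-(t * u)) * X 9 (-(t * u ^ 2)) * X 10 (t * u ^ 3) * X 11 (-(2 * t ^ 2 * u ^ 3)) := by
  rw [conj_word (by norm_num) (by norm_num) (by norm_num) (by decide +kernel), ChevalleyDatum.commWord,
    show chevG2.commTerms 6 7 = [(8, 1, 1, 1), (9, 1, 1, 2), (10, -1, 1, 3), (11, -2, 2, 3)] by decide +kernel]
  simp [word, mul_assoc]

theorem c6_10 (t u : F) : X 6 (-t) * X 10 u * X 6 t = X 10 u * X 11 (-(t * u)) := by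
  rw [conj_word (by norm_num) (by norm_num) (by norm_num) (by decide +kernel), ChevalleyDatum.commWord,
    show chevG2.commTerms 6 10 = [(11, 1, 1, 1)] by decide +kernel]
  simp [word]

theorem c10_6 (t u : F) : X 10 (-t) * X 6 u * X 10 t = X 6 u * X 11 (t * u) := by
  rw [conj_word (by norm_num) (by norm_num) (by norm_num) (by decide +kernel), ChevalleyDatum.commWord,
    show chevG2.commTerms 10 6 = [(11, -1, 1, 1)] by decide +kernel]
  simp [word]

theorem c8_9 (t u : F) : X 8 (-t) * X 9 u * X 8 t = X 9 u * X 11 (-(3 * t * u)) := by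
  rw [conj_word (by norm_num) (by norm_num) (by norm_num) (by decide +kernel), ChevalleyDatum.commWord,
    show chevG2.commTerms 8 9 = [(11, 3, 1, 1)] by decide +kernel]
  simp [word]

theorem c9_8 (t u : F) : X 9 (-t) * X 8 u * X 9 t = X 8 u * X 11 (3 * t * u) := by
  rw [conj_word (by norm_num) (by norm_num) (by norm_num) (by decide +kernel), ChevalleyDatum.commWord,
    show chevG2.commTerms 9 8 = [(11, -3, 1, 1)] by decide +kernel]
  simp [word]

theorem c1_11 (t u : F) : X 1 (-t) * X 11 u * X 1 t = X 11 u * X 6 (t * u) := by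
  rw [conj_word (by norm_num) (by norm_num) (by norm_num) (by decide +kernel), ChevalleyDatum.commWord,
    show chevG2.commTerms 1 11 = [(6, -1, 1, 1)] by decide +kernel]
  simp [word]

theorem c1_5 (t u : F) : X 1 (-t) * X 5 u * X 1 t = X 5 u * X 0 (-(t * u)) := by
  rw [conj_word (by norm_num) (by norm_num) (by norm_num) (by decide +kernel), ChevalleyDatum.commWord,
    show chevG2.commTerms 1 5 = [(0, 1, 1, 1)] by decide +kernel]
  simp [word]

theorem c10_0 (t u : F) : X 10 (-t) * X 0 u * X 10 t = X 0 u * X 5 (-(t * u)) := by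
  rw [conj_word (by norm_num) (by norm_num) (by norm_num) (by decide +kernel), ChevalleyDatum.commWord,
    show chevG2.commTerms 10 0 = [(5, 1, 1, 1)] by decide +kernel]
  simp [word]

/-! ### The torus and the simple reflections -/

/-- `h₇(a) h₆(b)`. -/
noncomputable def hh (a b : F) : Grp F :=
  ⟨hG chevG2 F 7 a * hG chevG2 F 6 b, Subgroup.mul_mem _ (good.hG_mem_group 7 a) (good.hG_mem_group 6 b)⟩

/-- The character of the torus on a root. -/
noncomputable def chi (a b : F) (s : ℕ) : F := a ^ chevG2.cartan 0 s * b ^ chevG2.cartan 1 s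

theorem chi_ne {a b : F} (ha : a ≠ 0) (hb : b ≠ 0) (s : ℕ) : chi a b s ≠ 0 :=
  mul_ne_zero (zpow_ne_zero _ ha) (zpow_ne_zero _ hb)

theorem chi_val (a b : F) : chi a b 5 = a ^ 3 * (b ^ 2)⁻¹ ∧ chi a b 6 = (a ^ 3)⁻¹ * b ^ 2 ∧
    chi a b 7 = a ^ 2 * b⁻¹ ∧ chi a b 8 = a⁻¹ * b ∧ chi a b 9 = a ∧ chi a b 10 = a ^ 3 * b⁻¹ ∧
    chi a b 11 = b ∧ chi a b 0 = b⁻¹ ∧ chi a b 1 = (a ^ 3)⁻¹ * b := by
  have h : chevG2.cartan 0 5 = 3 ∧ chevG2.cartan 1 5 = -2 ∧ chevG2.cartan 0 6 = -3 ∧ chevG2.cartan 1 6 = 2 ∧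
      chevG2.cartan 0 7 = 2 ∧ chevG2.cartan 1 7 = -1 ∧ chevG2.cartan 0 8 = -1 ∧ chevG2.cartan 1 8 = 1 ∧
      chevG2.cartan 0 9 = 1 ∧ chevG2.cartan 1 9 = 0 ∧ chevG2.cartan 0 10 = 3 ∧ chevG2.cartan 1 10 = -1 ∧
      chevG2.cartan 0 11 = 0 ∧ chevG2.cartan 1 11 = 1 ∧ chevG2.cartan 0 0 = 0 ∧ chevG2.cartan 1 0 = -1 ∧
      chevG2.cartan 0 1 = -3 ∧ chevG2.cartan 1 1 = 1 := by decide +kernel
  obtain ⟨e1, e2, e3, e4, e5, e6, e7, e8, e9, e10, e11, e12, e13, e14, e15, e16, e17, e18⟩ := h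
  simp [chi, e1, e2, e3, e4, e5, e6, e7, e8, e9, e10, e11, e12, e13, e14, e15, e16, e17, e18, zpow_ofNat]

theorem hh_conj {a b : F} (ha : a ≠ 0) (hb : b ≠ 0) {s : ℕ} (hs : s < 12) (u : F) :
    hh a b * X s u * (hh a b)⁻¹ = X s (chi a b s * u) :=
  Subtype.ext (G2OddInvol.hh_conj_x ha hb hs u)

/-- A representative of a simple reflection. -/
noncomputable def nn (i : ℕ) : Grp F :=
  ⟨nG chevG2 F (chevG2.simple i) 1, good.nG_mem_group _ 1⟩

theorem nn_conj {i : ℕ} (hi : i < 2) : ∃ e : ℕ → F, (∀ s < 12, e s * e s = 1) ∧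
    ∀ s < 12, ∀ u, nn i * X s u * (nn i)⁻¹ = X (chevG2.reflectRoot i s) (e s * u) := by
  obtain ⟨η, h1, h2⟩ := good.exists_sign_xg (F := F) (i := i) (by rw [G2OddInvol.hk]; exact hi)
  refine ⟨η, fun s hs => (h1 s (lt12 hs)).1, fun s hs u => mul_inv_eq_iff_eq_mul.2 (Subtype.ext ?_)⟩
  exact h2 s (lt12 hs) u

theorem refl_val : chevG2.reflectRoot 0 6 = 10 ∧ chevG2.reflectRoot 0 8 = 9 ∧ chevG2.reflectRoot 0 9 = 8 ∧
    chevG2.reflectRoot 0 10 = 6 ∧ chevG2.reflectRoot 0 11 = 11 ∧ chevG2.reflectRoot 1 7 = 8 ∧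
    chevG2.reflectRoot 1 8 = 7 ∧ chevG2.reflectRoot 1 9 = 9 ∧ chevG2.reflectRoot 1 10 = 11 ∧
    chevG2.reflectRoot 1 11 = 10 ∧ chevG2.reflectRoot 1 6 = 5 := by decide +kernel

theorem simple_group (hF : ∃ a : F, a ≠ 0 ∧ a ≠ 1) : IsSimpleGroup (Grp F) :=
  (Chev.BNSetup.isSimpleGroup_group Chev.G2.good Chev.BNSetup.facts_chevG2 Chev.BNSetup.negTri_chevG2
    Chev.BNSetup.isLongest_chevG2 Chev.BNSetup.connected_chevG2 (Chev.perfect_G2 Chev.G2.good hF)).1

theorem X_ne_one {r : ℕ} (hr : r < 12) {t : F} (ht : t ≠ 0) : X r t ≠ 1 := by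
  intro h
  have e := congrArg Subtype.val h
  simp only [X, Subgroup.coe_one] at e
  refine Chev.BNSetup.xe_ne_one good Chev.BNSetup.facts_chevG2 (lt12 hr) ht ?_
  rw [← e]
  exact Units.ext (by rw [Chev.BNSetup.coe_xe, good.coe_xg])

theorem card_grp [Fintype F] : Nat.card (Grp F) =
    Fintype.card F ^ 6 * (Fintype.card F ^ 2 - 1) * (Fintype.card F ^ 6 - 1) := by
  have h := Chev.BNSetup.card_group (F := F) Chev.G2.good
    Chev.BNSetup.facts_chevG2 Chev.BNSetup.kerCertG2 Chev.BNSetup.kerCertG2_valid Chev.WeylTab.levelsG2 rfl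
    Chev.WeylTab.levelsOK_G2
  simp only [show chevG2.rank = 2 from rfl, show chevG2.nroots / 2 = 6 from rfl,
    mul_assoc (Fintype.card F ^ 6), Chev.WeylTab.poincare_G2 (Fintype.card F) Fintype.card_pos,
    Nat.gcd_one_left, one_pow, pow_one, one_mul] at h
  rw [h]
  ring

end Cfsg.Agent.MinDegree.G2
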