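import Cfsg.Agent.Lib.MinDegree.G2Weights
import Cfsg.Agent.Lib.MinDegree.G2Avg
import Cfsg.Agent.Lib.CharInt.Central

/-!
The degree of an irreducible representation of `G₂(q)` with exactly one line fixed by the unipotent
radical of the Borel subgroup and this line stable under the short simple reflection: summing the
matrix coefficient of that line over the Bruhat cells gives the degree.
-/

set_option autoImplicit false
set_option linter.unusedSectionVars false
set_option maxRecDepth 4000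

namespace Cfsg.Agent.MinDegree.G2

open Module Cfsg.Lie Cfsg.Agent.Chev
open G2OddInvol (ki hn hk simple_val words)

variable {F : Type*} [Field F]

/-- The root subgroup data. -/
noncomputable abbrev TD (F : Type*) [Field F] :
    RootBN.Data (GL chevG2.Idx F) (Fin chevG2.nroots) (Fin chevG2.rank) := G2OddInvol.T F

theorem axD : (TD F).Axioms := G2OddInvol.ax F

theorem mem_grp {g : GL chevG2.Idx F} : g ∈ (TD F).grp ↔ g ∈ chevG2.group F := by
  rw [show (TD F).grp = chevG2.group F from BNSetup.data_grp G2.good]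

/-- The unipotent radical of the Borel subgroup inside the group. -/
noncomputable def Uu (F : Type*) [Field F] : Subgroup (Grp F) := (TD F).U.subgroupOf (chevG2.group F)

theorem U_le_group : (TD F).U ≤ chevG2.group F :=
  le_trans (iSup₂_le fun r _ => RootBN.Data.X_le_grp r) (le_of_eq (BNSetup.data_grp G2.good))

theorem data_nn (j : Fin chevG2.rank) : (TD F).nn j = ((nn j.val : Grp F) : GL chevG2.Idx F) :=
  (isChevData (F := F) G2.good BNSetup.facts_chevG2).nn_eq j

theorem data_X (r : Fin chevG2.nroots) {y : GL chevG2.Idx F} :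
    y ∈ (TD F).X r ↔ ∃ t, y = ((X r.val t : Grp F) : GL chevG2.Idx F) :=
  good.mem_rootSubgroup_iff

/-- The product of representatives along a word, inside the group. -/
noncomputable def nwG (l : List (Fin chevG2.rank)) : Grp F := (l.map fun j => nn j.val).prod

theorem coe_nwG (l : List (Fin chevG2.rank)) : ((nwG l : Grp F) : GL chevG2.Idx F) = (TD F).nw l := by
  induction l with
  | nil => simp [nwG]
  | cons j l ih =>
    simp only [nwG, List.map_cons, List.prod_cons, Subgroup.coe_mul, RootBN.Data.nw_cons] at ih ⊢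
    rw [ih, data_nn]

theorem X_mem_Uu {r : ℕ} (hr : 6 ≤ r) (hr' : r < 12) (t : F) : X r t ∈ Uu F := by
  refine Subgroup.mem_subgroupOf.2 (RootBN.Data.X_le_U (r := (⟨r, lt12 hr'⟩ : Fin chevG2.nroots)) ?_
    ((data_X _).2 ⟨t, rfl⟩))
  show chevG2.nroots / 2 ≤ r
  rw [hn]
  omega

theorem pos_val {r : Fin chevG2.nroots} : (TD F).Pos r ↔ 6 ≤ r.val := by
  show chevG2.nroots / 2 ≤ r.val ↔ _
  rw [show chevG2.nroots / 2 = 6 by rw [hn]]

theorem words12_lt : ∀ l ∈ words, ∀ i ∈ l, i < 2 := G2OddInvol.words_lt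

/-- A word of natural numbers as a word of nodes. -/
noncomputable def toK (l : List ℕ) : List (Fin chevG2.rank) := l.map ki

/-- The ascending steps of the twelve words. -/
theorem words_asc : ∀ l ∈ words, ∀ k < l.length,
    6 ≤ G2OddInvol.wn (l.drop (k + 1)).reverse (chevG2.simple (l.getD k 0)) := by decide +kernel

theorem words_nodup : (words.map fun l => (List.range 12).map (G2OddInvol.wn l)).Nodup := by decide +kernel

theorem wn_simple_lt : chevG2.simple 0 < 12 ∧ chevG2.simple 1 < 12 := by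
  rw [simple_val.1, simple_val.2]; norm_num

theorem asc_toK : ∀ l : List ℕ, (∀ i ∈ l, i < 2) →
    (∀ k < l.length, 6 ≤ G2OddInvol.wn (l.drop (k + 1)).reverse (chevG2.simple (l.getD k 0))) →
    RootBN.Data.Ascending (TD F) (toK l)
  | [], _, _ => trivial
  | a :: d, h2, h => by
    refine ⟨?_, asc_toK d (fun i hi => h2 i (List.mem_cons_of_mem _ hi)) fun k hk =>
      by simpa using h (k + 1) (by simpa using hk)⟩
    rw [pos_val, ← List.map_reverse, G2OddInvol.val_wl _ (fun i hi =>
      h2 i (List.mem_cons_of_mem _ (List.mem_reverse.1 hi)))]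
    have ha : a < 2 := h2 a List.mem_cons_self
    show 6 ≤ G2OddInvol.wn d.reverse (chevG2.simple (a % 2))
    rw [Nat.mod_eq_of_lt ha]
    simpa using h 0 (by simp)

theorem weyl_words [DecidableEq (Equiv.Perm (Fin chevG2.nroots))] :
    (TD F).weyl = words.toFinset.image (fun l => (TD F).wl (toK l)) := by
  ext σ
  simp only [RootBN.Data.mem_weyl, Finset.mem_image, List.mem_toFinset]
  constructor
  · rintro ⟨l, rfl⟩
    induction l with
    | nil => exact ⟨[], by simp [G2OddInvol.words, G2OddInvol.low], by simp [toK]⟩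
    | cons j l ih =>
      obtain ⟨l', hl', e⟩ := ih
      have hj : j.val < 2 := lt_of_lt_of_eq j.2 hk
      obtain ⟨l'', hl'', e''⟩ := G2OddInvol.words_closed j.val hj l' hl'
      refine ⟨l'', hl'', ?_⟩
      rw [RootBN.Data.wl_cons, ← e]
      have h := G2OddInvol.wl_eq (F := F) (l := j.val :: l') (l' := l'') (fun i hi => by
        rcases List.mem_cons.1 hi with rfl | hi
        exacts [hj, words12_lt l' hl' i hi]) (words12_lt l'' hl'') e''
      rw [List.map_cons, RootBN.Data.wl_cons, show ki j.val = j from Fin.ext (Nat.mod_eq_of_lt hj)] at h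
      exact h.symm
  · rintro ⟨l, -, rfl⟩
    exact ⟨_, rfl⟩

theorem words_inj {l l' : List ℕ} (hl : l ∈ words) (hl' : l' ∈ words)
    (h : (TD F).wl (toK l) = (TD F).wl (toK l')) : l = l' := by
  refine List.inj_on_of_nodup_map words_nodup hl hl' (List.map_congr_left fun r hr => ?_)
  have h' := congrArg (fun σ : Equiv.Perm _ => (σ (⟨r, lt12 (List.mem_range.1 hr)⟩ : Fin chevG2.nroots)).val) h
  simp only [toK, G2OddInvol.val_wl _ (words12_lt _ hl), G2OddInvol.val_wl _ (words12_lt _ hl')] at h'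
  exact h'

/-- The weight of a word. -/
noncomputable def wordWeight (q A : ℂ) (l : List ℕ) : ℂ := (l.map fun a => if a = 0 then q else A).prod

/-- The weighted Poincaré polynomial. -/
noncomputable def poly (q A : ℂ) : ℂ := (words.map (wordWeight q A)).sum

theorem poly_eq (q A : ℂ) : poly q A = (1 + q) * (1 + A) * (1 + q * A + q ^ 2 * A ^ 2) := by
  simp [poly, words, G2OddInvol.low, G2OddInvol.W0, wordWeight]
  ring

theorem wordWeight_self (q : ℂ) : ∀ l : List ℕ, wordWeight q q l = q ^ l.length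
  | [] => by simp [wordWeight]
  | a :: l => by
    have := wordWeight_self q l
    simp only [wordWeight, List.map_cons, List.prod_cons, List.length_cons, pow_succ'] at this ⊢
    rw [this]; simp

variable [Fintype F] {W : Type*} [AddCommGroup W] [Module ℂ W] [FiniteDimensional ℂ W]
  {ρ : Representation ℂ (Grp F) W} {ψ : AddChar F ℂ}

set_option maxHeartbeats 4000000 in
/-- The degree formula. -/
theorem degree_of_line (hirr : ρ.IsIrreducible)
    (h1 : D ρ ψ [(6, (0 : F)), (7, 0), (8, 0), (9, 0), (10, 0), (11, 0)] = 1)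
    (h7 : ∀ v ∈ WT ρ ψ [(6, (0 : F)), (7, 0), (8, 0), (9, 0), (10, 0), (11, 0)],
      ρ (nn 0) v ∈ WT ρ ψ [(6, (0 : F)), (7, 0), (8, 0), (9, 0), (10, 0), (11, 0)]) :
    ∃ A : ℂ, (A = 1 ∨ A = (Fintype.card F : ℂ) ∨ A * (Fintype.card F : ℂ) = 1) ∧
      (finrank ℂ W : ℂ) * poly (Fintype.card F : ℂ) A =
        poly (Fintype.card F : ℂ) (Fintype.card F : ℂ) := by
  classical
  haveI : Finite (Grp F) := Subtype.finite
  letI : Fintype (Grp F) := Fintype.ofFinite _
  set L := WT ρ ψ [(6, (0 : F)), (7, 0), (8, 0), (9, 0), (10, 0), (11, 0)] with hL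
  have ax := axD (F := F)
  -- the fixed line
  have hfix : ∀ v, v ∈ L ↔ ∀ u ∈ Uu F, ρ u v = v := by
    intro v
    constructor
    · intro hv u hu
      let S : Subgroup (Grp F) :=
        { carrier := {g | ρ g v = v}
          one_mem' := by simp
          mul_mem' := fun {a b} (ha : ρ a v = v) (hb : ρ b v = v) => by
            show ρ (a * b) v = v
            rw [map_mul, Module.End.mul_apply, hb, ha]
          inv_mem' := fun {a} (ha : ρ a v = v) => by
            show ρ a⁻¹ v = v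
            conv_lhs => rw [← ha]
            rw [← Module.End.mul_apply, ← map_mul, inv_mul_cancel, map_one, Module.End.one_apply] }
      have hle : (TD F).U ≤ S.map (chevG2.group F).subtype := by
        refine iSup₂_le fun r hr y hy => ?_
        obtain ⟨t, rfl⟩ := (data_X r).1 hy
        refine ⟨X r.val t, ?_, rfl⟩
        have h6 : 6 ≤ r.val := pos_val.1 hr
        have h12 : r.val < 12 := hn ▸ r.2
        show ρ (X r.val t) v = v
        have hv' := mem_WT.1 hv
        have : ((r.val : ℕ), (0 : F)) ∈ [(6, (0 : F)), (7, 0), (8, 0), (9, 0), (10, 0), (11, 0)] := by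
          interval_cases r.val <;> simp
        simpa using hv' _ this t
      obtain ⟨g, hg, hge⟩ := hle (Subgroup.mem_subgroupOf.1 hu)
      rw [← Subtype.ext hge]
      exact hg
    · intro h
      refine mem_WT.2 fun p hp t => ?_
      simp only [List.mem_cons, List.not_mem_nil, or_false] at hp
      rcases hp with rfl | rfl | rfl | rfl | rfl | rfl <;>
        simpa using h _ (X_mem_Uu (by norm_num) (by norm_num) t)
  set e := avg ρ (Uu F) with he
  have eL : ∀ w, e w ∈ L := fun w => (hfix _).2 fun u hu => rho_avg hu w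
  have efix : ∀ w ∈ L, e w = w := fun w hw => avg_of_fixed ((hfix w).1 hw)
  obtain ⟨v0, hv0, hv00⟩ := Submodule.exists_mem_ne_zero_of_ne_bot (p := L) (fun hb => by
    unfold D at h1; rw [← hL, hb, finrank_bot] at h1; exact zero_ne_one h1)
  have hspan : ∀ w ∈ L, ∃ c : ℂ, w = c • v0 := fun w hw => by
    obtain ⟨c, hc⟩ := (finrank_eq_one_iff_of_nonzero' (⟨v0, hv0⟩ : L)
      fun h => hv00 (congrArg Subtype.val h)).1 h1 ⟨w, hw⟩
    exact ⟨c, (congrArg Subtype.val hc).symm⟩
  obtain ⟨f, hf'⟩ := (LinearMap.toSpanSingleton ℂ W v0).exists_leftInverse_of_injective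
    (LinearMap.ker_eq_bot.2 fun a b h => smul_left_injective ℂ hv00 (by simpa using h))
  have hf : f v0 = 1 := by simpa using LinearMap.congr_fun hf' 1
  let φ : W →ₗ[ℂ] ℂ := f ∘ₗ e
  have heφ : ∀ w, e w = φ w • v0 := fun w => by
    obtain ⟨c, hc⟩ := hspan _ (eL w)
    simp only [φ, LinearMap.comp_apply, hc, map_smul, hf, smul_eq_mul, mul_one]
  have hφ0 : φ v0 = 1 := by simp [φ, efix v0 hv0, hf]
  have smul_inj : ∀ {a b : ℂ}, a • v0 = b • v0 → a = b := fun h => smul_left_injective ℂ hv00 h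
  let Φ : Grp F → ℂ := fun g => φ (ρ g v0)
  have hΦ : ∀ g, e (ρ g v0) = Φ g • v0 := fun g => heφ _
  have rmul : ∀ a b : Grp F, ∀ w, ρ (a * b) w = ρ a (ρ b w) := fun a b w => by
    rw [map_mul, Module.End.mul_apply]
  -- the diagonal
  let m : Grp F → ℂ := Φ
  have hH : ∀ h : Grp F, (h : GL chevG2.Idx F) ∈ (TD F).H →
      ρ h v0 = m h • v0 ∧ ∀ w, φ (ρ h w) = m h * φ w := by
    intro h hh
    have n1 : ∀ u ∈ Uu F, h * u * h⁻¹ ∈ Uu F := fun u hu =>
      Subgroup.mem_subgroupOf.2 (RootBN.Data.H_conj_U ax hh (Subgroup.mem_subgroupOf.1 hu))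
    have n2 : ∀ u ∈ Uu F, h⁻¹ * u * h ∈ Uu F := fun u hu => by
      have := RootBN.Data.H_conj_U ax ((TD F).H.inv_mem hh) (Subgroup.mem_subgroupOf.1 hu)
      rw [inv_inv] at this
      exact Subgroup.mem_subgroupOf.2 this
    have hline : ρ h v0 ∈ L := by
      rw [← efix v0 hv0, he, ← avg_comm n1 n2]
      exact eL _
    have h1' : ρ h v0 = m h • v0 := by
      show _ = φ (ρ h v0) • v0
      rw [← heφ, efix _ hline]
    refine ⟨h1', fun w => smul_inj ?_⟩
    rw [← heφ, he, avg_comm n1 n2, ← he, heφ, map_smul, h1', smul_smul, mul_comm]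
  have hB : ∀ b : Grp F, (b : GL chevG2.Idx F) ∈ (TD F).B →
      ∃ c : ℂ, ρ b v0 = c • v0 ∧ ∀ w, φ (ρ b w) = c * φ w := by
    intro b hb
    obtain ⟨u, hu, h, hh, e'⟩ := (RootBN.Data.mem_B_iff ax).1 hb
    set u' : Grp F := ⟨u, U_le_group hu⟩
    set h' : Grp F := u'⁻¹ * b
    have hh' : (h' : GL chevG2.Idx F) ∈ (TD F).H := by
      show u⁻¹ * (b : GL chevG2.Idx F) ∈ _
      rw [e', inv_mul_cancel_left]; exact hh
    obtain ⟨a1, a2⟩ := hH h' hh'
    have hu' : u' ∈ Uu F := Subgroup.mem_subgroupOf.2 hu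
    refine ⟨m h', ?_, fun w => ?_⟩
    · rw [show b = u' * h' by simp [h'], rmul, a1, map_smul, (hfix v0).1 hv0 u' hu']
    · rw [show b = u' * h' by simp [h'], rmul, ← a2 w]
      simp only [φ, LinearMap.comp_apply, he, avg_rho hu']
  -- the function on the cells
  let Ψ : Grp F → ℂ := fun g => Φ g * Φ g⁻¹
  have hΨcell : ∀ l (g : Grp F), (g : GL chevG2.Idx F) ∈ (TD F).cell ((TD F).wl l) →
      Ψ g = Ψ (nwG l) := by
    intro l g hg
    obtain ⟨b, hb, c, hc, e'⟩ :=
      (RootBN.Data.mem_cell_iff ax (RootBN.Data.nw_mem_N l) (RootBN.Data.acts_nw ax l)).1 hg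
    have hBle : (TD F).B ≤ chevG2.group F :=
      le_trans (RootBN.Data.B_le_grp ax) (le_of_eq (BNSetup.data_grp G2.good))
    set b' : Grp F := ⟨b, hBle hb⟩
    set c' : Grp F := ⟨c, hBle hc⟩
    have eg : g = b' * nwG l * c' := Subtype.ext (by simp [e', coe_nwG, b', c'])
    obtain ⟨x, x1, x2⟩ := hB b' hb
    obtain ⟨y, y1, y2⟩ := hB c' hc
    obtain ⟨x', x1', x2'⟩ := hB b'⁻¹ ((TD F).B.inv_mem hb)
    obtain ⟨y', y1', y2'⟩ := hB c'⁻¹ ((TD F).B.inv_mem hc)
    have inv_one : ∀ (z : Grp F) (a a' : ℂ), ρ z v0 = a • v0 → ρ z⁻¹ v0 = a' • v0 → a * a' = 1 := by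
      intro z a a' ha ha'
      refine smul_inj ?_
      have h := congrArg (ρ z⁻¹) ha
      rw [map_smul, ← rmul, inv_mul_cancel, map_one, Module.End.one_apply, ha', smul_smul] at h
      rw [one_smul]
      exact h.symm
    have hx := inv_one b' x x' x1 x1'
    have hy := inv_one c' y y' y1 y1'
    show φ (ρ g v0) * φ (ρ g⁻¹ v0) = φ (ρ (nwG l) v0) * φ (ρ (nwG l)⁻¹ v0)
    rw [eg, rmul, rmul, y1, map_smul, x2, map_smul, show (b' * nwG l * c')⁻¹ =
      c'⁻¹ * ((nwG l)⁻¹ * b'⁻¹) by group, rmul, rmul, x1', map_smul, map_smul, map_smul, y2']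
    simp only [smul_eq_mul]
    calc x * (y * φ (ρ (nwG l) v0)) * (x' * (y' * φ (ρ (nwG l)⁻¹ v0)))
        = (x * x') * (y * y') * (φ (ρ (nwG l) v0) * φ (ρ (nwG l)⁻¹ v0)) := by ring
      _ = _ := by rw [hx, hy, one_mul, one_mul]
  -- the step
  have hstep : ∀ (j : Fin chevG2.rank) (d : List (Fin chevG2.rank)),
      (TD F).Pos ((TD F).wl d.reverse ((TD F).simp j)) →
      Φ (nwG (j :: d)) = Φ (nn j.val) * Φ (nwG d) ∧
        Φ (nwG (j :: d))⁻¹ = Φ (nn j.val)⁻¹ * Φ (nwG d)⁻¹ := by
    intro j d hp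
    rw [RootBN.Data.wl_reverse ax] at hp
    have hconj : ∀ y : Grp F, (y : GL chevG2.Idx F) ∈ (TD F).X ((TD F).simp j) →
        (nwG d)⁻¹ * y * nwG d ∈ Uu F := by
      intro y hy
      refine Subgroup.mem_subgroupOf.2 (RootBN.Data.X_le_U hp ?_)
      have := ((RootBN.Data.acts_nw ax d).inv ((TD F).simp j) (y : GL chevG2.Idx F)).2 hy
      simpa [coe_nwG] using this
    have hdec : ∀ u ∈ Uu F, ∃ y v : Grp F, (y : GL chevG2.Idx F) ∈ (TD F).X ((TD F).simp j) ∧
        (v : GL chevG2.Idx F) ∈ (TD F).Urad j ∧ u = y * v := by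
      intro u hu
      obtain ⟨y, hy, v, hv, e'⟩ := RootBN.Data.U_eq_mul ax j (Subgroup.mem_subgroupOf.1 hu)
      exact ⟨⟨y, U_le_group (RootBN.Data.X_le_U (ax.pos_simp j) hy)⟩,
        ⟨v, U_le_group (RootBN.Data.Urad_le_U j hv)⟩, hy, hv, Subtype.ext e'⟩
    have hnv : ∀ v : Grp F, (v : GL chevG2.Idx F) ∈ (TD F).Urad j →
        nn j.val * v * (nn j.val)⁻¹ ∈ Uu F := fun v hv => by
      refine Subgroup.mem_subgroupOf.2 (RootBN.Data.Urad_le_U j ?_)
      have := RootBN.Data.nn_conj_Urad ax hv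
      simpa [data_nn] using this
    have avgApply : ∀ (g : Grp F) (z : W), (∀ u ∈ Uu F, e (ρ g (ρ u z)) = e (ρ g z)) →
        e (ρ g (e z)) = e (ρ g z) := by
      intro g z h
      letI : Fintype (Uu F) := Fintype.ofFinite _
      conv_lhs => arg 2; arg 2; rw [he, avg_apply]
      simp only [map_smul, map_sum]
      rw [Finset.sum_congr rfl fun (u : Uu F) _ => h u.1 u.2, Finset.sum_const, Finset.card_univ,
        ← Nat.cast_smul_eq_nsmul ℂ, smul_smul, inv_mul_cancel₀ (Nat.cast_ne_zero.2 Fintype.card_ne_zero),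
        one_smul]
    constructor
    · refine smul_inj ?_
      have key : e (ρ (nn j.val) (e (ρ (nwG d) v0))) = e (ρ (nn j.val) (ρ (nwG d) v0)) := by
        refine avgApply _ _ fun u hu => ?_
        obtain ⟨y, v, hy, hv, rfl⟩ := hdec u hu
        -- move the radical factor to the left
        have hv' : ((y * v * y⁻¹ : Grp F) : GL chevG2.Idx F) ∈ (TD F).Urad j := by
          simpa using RootBN.Data.X_conj_Urad ax hy hv
        have hfy : ρ y (ρ (nwG d) v0) = ρ (nwG d) v0 := by
          rw [← rmul, show y * nwG d = nwG d * ((nwG d)⁻¹ * y * nwG d) by group, rmul,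
            (hfix v0).1 hv0 _ (hconj y hy)]
        rw [show y * v = (y * v * y⁻¹) * y by group, rmul, hfy, ← rmul,
          show nn j.val * (y * v * y⁻¹) = nn j.val * (y * v * y⁻¹) * (nn j.val)⁻¹ * nn j.val by group,
          rmul, he, avg_rho (hnv _ hv')]
      rw [← rmul, show nn j.val * nwG d = (nwG (j :: d) : Grp F) by simp [nwG]] at key
      rw [← hΦ, ← key, hΦ, map_smul, map_smul, hΦ, smul_smul, mul_comm]
    · refine smul_inj ?_
      have key : e (ρ (nwG d)⁻¹ (e (ρ (nn j.val)⁻¹ v0))) = e (ρ (nwG d)⁻¹ (ρ (nn j.val)⁻¹ v0)) := by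
        refine avgApply _ _ fun u hu => ?_
        obtain ⟨y, v, hy, hv, rfl⟩ := hdec u hu
        have hfv : ρ v (ρ (nn j.val)⁻¹ v0) = ρ (nn j.val)⁻¹ v0 := by
          rw [← rmul, show v * (nn j.val)⁻¹ = (nn j.val)⁻¹ * (nn j.val * v * (nn j.val)⁻¹) by group,
            rmul, (hfix v0).1 hv0 _ (hnv v hv)]
        rw [rmul, hfv, ← rmul, show (nwG d)⁻¹ * y = ((nwG d)⁻¹ * y * nwG d) * (nwG d)⁻¹ by group,
          rmul, he, avg_rho (hconj y hy)]
      rw [← rmul, show (nwG d)⁻¹ * (nn j.val)⁻¹ = (nwG (j :: d) : Grp F)⁻¹ by simp [nwG]] at key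
      rw [← hΦ, ← key, hΦ, map_smul, map_smul, hΦ, smul_smul]
  -- the two letters
  have hΨ0 : Ψ (nn 0) = 1 := by
    obtain ⟨c, hc⟩ := hspan _ (h7 v0 hv0)
    have hc' : ρ (nn 0)⁻¹ v0 = c⁻¹ • v0 := by
      have h := congrArg (ρ (nn 0)⁻¹) hc
      rw [map_smul, ← rmul, inv_mul_cancel, map_one, Module.End.one_apply] at h
      have hc0 : c ≠ 0 := by rintro rfl; rw [zero_smul] at h; exact hv00 h
      exact ((inv_smul_eq_iff₀ hc0).2 h).symm
      
    have hc0 : c ≠ 0 := by
      rintro rfl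
      rw [zero_smul] at hc
      exact hv00 (rho_inj (nn 0) (hc.trans (map_zero _).symm))
    show φ (ρ (nn 0) v0) * φ (ρ (nn 0)⁻¹ v0) = 1
    rw [hc, hc', map_smul, map_smul, hφ0]
    simp [hc0]
  obtain ⟨A, hA, hΨ1⟩ : ∃ A : ℂ, (A = 1 ∨ A = (Fintype.card F : ℂ) ∨ A * (Fintype.card F : ℂ) = 1) ∧
      (Fintype.card F : ℂ) * Ψ (nn 1) = A := by
    refine ⟨_, ?_, rfl⟩
    set n : Grp F := nn 1 with hn1
    set z := ρ n⁻¹ v0 with hz
    obtain ⟨η, hη, hconjn⟩ := nn_conj (F := F) (i := 1) (by norm_num)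
    obtain ⟨-, -, -, -, -, -, -, -, -, -, r6⟩ := refl_val
    have hzfix : ∀ v : Grp F, (v : GL chevG2.Idx F) ∈ (TD F).Urad (ki 1) → ρ v z = z := by
      intro v hv
      have h := RootBN.Data.nn_conj_Urad ax hv
      rw [data_nn] at h
      have hv' : n * v * n⁻¹ ∈ Uu F := Subgroup.mem_subgroupOf.2 (RootBN.Data.Urad_le_U _ h)
      rw [hz, ← rmul, show v * n⁻¹ = n⁻¹ * (n * v * n⁻¹) by group, rmul, (hfix v0).1 hv0 _ hv']
    let w : W := ∑ t : F, ρ (X 6 t) z
    have hw : w ∈ L := (hfix _).2 fun u hu => by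
      obtain ⟨y, hy, v, hv, e'⟩ := RootBN.Data.U_eq_mul ax (ki 1) (Subgroup.mem_subgroupOf.1 hu)
      have hy' := hy
      obtain ⟨s, hs⟩ := (data_X _).1 hy
      have h6 : ((TD F).simp (ki 1)).val = 6 := simple_val.2
      rw [h6] at hs
      set v' : Grp F := ⟨v, U_le_group (RootBN.Data.Urad_le_U _ hv)⟩
      have eu : u = X 6 s * v' := Subtype.ext (by rw [e', hs]; rfl)
      have hv2 : ∀ t : F, ρ v' (ρ (X 6 t) z) = ρ (X 6 t) z := fun t => by
        have hmem : (((X 6 t)⁻¹ * v' * X 6 t : Grp F) : GL chevG2.Idx F) ∈ (TD F).Urad (ki 1) := by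
          have hX : ((X 6 (-t) : Grp F) : GL chevG2.Idx F) ∈ (TD F).X ((TD F).simp (ki 1)) :=
            (data_X _).2 ⟨-t, by rw [h6]⟩
          have := RootBN.Data.X_conj_Urad ax hX hv
          rw [X_inv]
          have e2 : (X 6 t : Grp F) = (X 6 (-t))⁻¹ := by rw [X_inv, neg_neg]
          rw [e2]; simpa using this
        rw [← rmul, show v' * X 6 t = X 6 t * ((X 6 t)⁻¹ * v' * X 6 t) by group, rmul, hzfix _ hmem]
      simp only [w, map_sum]
      refine Fintype.sum_equiv (Equiv.addLeft s) _ _ fun t => ?_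
      rw [eu, rmul, hv2, ← rmul, X_add, Equiv.coe_addLeft]
    have hqz : e w = (Fintype.card F : ℂ) • e z := by
      simp only [w, map_sum, he, avg_rho (X_mem_Uu (le_refl 6) (by norm_num) _), Finset.sum_const,
        Finset.card_univ, Nat.cast_smul_eq_nsmul]
    rw [efix w hw] at hqz
    have hsum : (Fintype.card F : ℂ) * (Φ n⁻¹ * Φ n) = ∑ t : F, Φ (X 5 t) := by
      refine smul_inj ?_
      have h := congrArg (fun x => e (ρ n x)) hqz
      simp only [w, hz, map_sum, map_smul] at h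
      rw [show e (ρ n⁻¹ v0) = Φ n⁻¹ • v0 from hΦ _, map_smul, map_smul,
        show e (ρ n v0) = Φ n • v0 from hΦ _, smul_smul, smul_smul, mul_assoc] at h
      rw [← h, Finset.sum_smul]
      refine Fintype.sum_equiv (Equiv.mulLeft₀ (η 6) (left_ne_zero_of_mul_eq_one (hη 6 (by norm_num)))) _ _
        fun t => ?_
      rw [← hΦ, ← rmul, ← rmul, hconjn 6 (by norm_num) t, r6]
      rfl
    have hn6 : ∀ a : F, a ≠ 0 → ∃ u : Grp F, u ∈ Uu F ∧ X 5 a = u * (hh 1 (-a⁻¹) * n) * u ∧
        ((hh 1 (-a⁻¹) : Grp F) : GL chevG2.Idx F) ∈ (TD F).H := by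
      intro a ha
      refine ⟨X 6 (-(-a⁻¹)), X_mem_Uu le_rfl (by norm_num) _, ?_,
        G2OddInvol.hh_mem one_ne_zero (neg_ne_zero.2 (inv_ne_zero ha))⟩
      have e1 : (⟨_, good.nG_mem_group 6 (-a⁻¹)⟩ : Grp F) = X 6 (-a⁻¹) * X 5 a * X 6 (-a⁻¹) := by
        apply Subtype.ext
        simp only [Subgroup.coe_mul, X, nG_eq, show chevG2.neg 6 = 5 by decide +kernel, neg_inv, inv_inv,
          neg_neg]
      have e2 : (⟨_, good.nG_mem_group 6 (-a⁻¹)⟩ : Grp F) = hh 1 (-a⁻¹) * n := by
        apply Subtype.ext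
        simp only [Subgroup.coe_mul, hn1, hh, nn, simple_val.2]
        have hone : hG chevG2 F 7 1 = 1 := by
          have h := good.hG_mul (F := F) (r := 7) (lt12 (by norm_num)) one_ne_zero one_ne_zero
          rw [mul_one] at h; exact mul_eq_left.1 h
        rw [hone, one_mul]
        have h := BNSetup.ne'_eq_he_mul good (lt12 (show 6 < 12 by norm_num)) (-a⁻¹ : F)
        have conv1 : ∀ x : F, BNSetup.ne' good 6 x = nG chevG2 F 6 x := fun x => Units.ext (by
          rw [BNSetup.coe_ne', good.coe_nG])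
        have conv2 : BNSetup.he good 6 (-a⁻¹ : F) = hG chevG2 F 6 (-a⁻¹) := Units.ext (by
          rw [BNSetup.coe_he, good.coe_hG])
        rw [conv1, conv1, conv2] at h
        exact h
      rw [← e2, e1, ← mul_assoc, ← mul_assoc, X_cancel, one_mul, mul_assoc, X_add, add_neg_cancel,
        X_zero, mul_one]
    have hΦ5 : ∀ a : F, a ≠ 0 → Φ (X 5 a) = m (hh 1 (-a⁻¹)) * Φ n := by
      intro a ha
      obtain ⟨u, hu, e', hH'⟩ := hn6 a ha
      show φ (ρ (X 5 a) v0) = _
      rw [e', rmul, rmul, (hfix v0).1 hv0 u hu, rmul]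
      simp only [φ, LinearMap.comp_apply, he, avg_rho hu]
      exact (hH _ hH').2 _
    let μ : F → ℂ := fun t => if t = 0 then 0 else m (hh 1 t)
    have hS : ∑ t : F, Φ (X 5 t) = 1 + Φ n * ∑ t : F, μ t := by
      rw [← Finset.add_sum_erase _ _ (Finset.mem_univ (0 : F)), X_zero,
        show Φ 1 = 1 by simp [Φ, hφ0], Finset.mul_sum,
        Finset.sum_congr rfl fun a ha => hΦ5 a (Finset.ne_of_mem_erase ha)]
      congr 1
      rw [← Finset.add_sum_erase Finset.univ (fun t => Φ n * μ t) (Finset.mem_univ (0 : F))]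
      simp only [μ, if_true, mul_zero, zero_add]
      refine Finset.sum_bij' (fun a _ => -a⁻¹) (fun a _ => -a⁻¹) ?_ ?_ ?_ ?_ ?_
      · exact fun a ha => Finset.mem_erase.2
          ⟨neg_ne_zero.2 (inv_ne_zero (Finset.ne_of_mem_erase ha)), Finset.mem_univ _⟩
      · exact fun a ha => Finset.mem_erase.2
          ⟨neg_ne_zero.2 (inv_ne_zero (Finset.ne_of_mem_erase ha)), Finset.mem_univ _⟩
      · intro a _; rw [inv_neg, inv_inv, neg_neg]
      · intro a _; rw [inv_neg, inv_inv, neg_neg]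
      · intro a ha
        have : a ≠ 0 := Finset.ne_of_mem_erase ha
        rw [if_neg (neg_ne_zero.2 (inv_ne_zero this)), mul_comm]
    show (Fintype.card F : ℂ) * (Φ n * Φ n⁻¹) = 1 ∨ (Fintype.card F : ℂ) * (Φ n * Φ n⁻¹) = _ ∨
      (Fintype.card F : ℂ) * (Φ n * Φ n⁻¹) * _ = 1
    rw [mul_comm (Φ n) (Φ n⁻¹), hsum, hS]
    by_cases htriv : ∀ t : F, t ≠ 0 → m (hh 1 t) = 1
    · have hμ : ∑ t : F, μ t = (Fintype.card F : ℂ) - 1 := by
        rw [← Finset.add_sum_erase _ _ (Finset.mem_univ (0 : F))]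
        simp only [μ, if_true, zero_add]
        rw [Finset.sum_congr rfl fun t ht => by
          rw [if_neg (Finset.ne_of_mem_erase ht), htriv t (Finset.ne_of_mem_erase ht)]]
        simp [Finset.card_erase_of_mem, Fintype.card_pos, Nat.cast_sub (Fintype.card_pos (α := F))]
      have hne1 : (-1 : F) ≠ 0 := neg_ne_zero.2 one_ne_zero
      have hsq : n * n = hh 1 (-1) := by
        apply Subtype.ext
        show (nn 1 : Grp F).1 * (nn 1 : Grp F).1 = G2OddInvol.hh 1 (-1)
        have h := G2OddInvol.nn_one_sq (F := F)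
        rw [data_nn] at h
        exact h
      have hΦinv : Φ n⁻¹ = Φ n := by
        have hinv : n⁻¹ = n * (hh 1 (-1))⁻¹ := by rw [← hsq]; group
        show φ (ρ n⁻¹ v0) = φ (ρ n v0)
        obtain ⟨a1, -⟩ := hH (hh 1 (-1)) (G2OddInvol.hh_mem one_ne_zero hne1)
        rw [htriv (-1) hne1, one_smul] at a1
        have a1' : ρ (hh 1 (-1))⁻¹ v0 = v0 := by
          conv_lhs => rw [← a1]
          rw [← rmul, inv_mul_cancel, map_one, Module.End.one_apply]
        rw [hinv, rmul, a1']
      rw [hS, hμ, hΦinv] at hsum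
      rw [hμ]
      have hfac : (Φ n - 1) * ((Fintype.card F : ℂ) * Φ n + 1) = 0 := by linear_combination hsum
      rcases mul_eq_zero.1 hfac with h | h
      · refine Or.inr (Or.inl ?_)
        rw [sub_eq_zero.1 h]; ring
      · refine Or.inr (Or.inr ?_)
        have hP : (Fintype.card F : ℂ) * Φ n = -1 := by linear_combination h
        linear_combination ((Fintype.card F : ℂ) - 1) * hP
    · refine Or.inl ?_
      push Not at htriv
      obtain ⟨b, hb, hbm⟩ := htriv
      have hmul : ∀ s : F, s ≠ 0 → μ (b * s) = m (hh 1 b) * μ s := by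
        intro s hs
        simp only [μ, if_neg hs, if_neg (mul_ne_zero hb hs)]
        have e' : (hh 1 (b * s) : Grp F) = hh 1 b * hh 1 s := Subtype.ext (by
          show G2OddInvol.hh 1 (b * s) = G2OddInvol.hh 1 b * G2OddInvol.hh 1 s
          rw [G2OddInvol.hh_mul one_ne_zero hb one_ne_zero hs, one_mul])
        show φ (ρ (hh 1 (b * s)) v0) = _
        rw [e', rmul, (hH _ (G2OddInvol.hh_mem one_ne_zero hb)).2]
      have hsc : ∑ t : F, μ t = m (hh 1 b) * ∑ t : F, μ t := by
        rw [Finset.mul_sum]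
        refine (Fintype.sum_equiv (Equiv.mulLeft₀ b hb) _ _ fun s => ?_).symm
        rcases eq_or_ne s 0 with rfl | hs
        · simp [μ]
        · exact (hmul s hs).symm
      have : ∑ t : F, μ t = 0 := by
        have h : (1 - m (hh 1 b)) * ∑ t : F, μ t = 0 := by linear_combination hsc
        exact (mul_eq_zero.1 h).resolve_left (sub_ne_zero.2 (Ne.symm hbm))
      rw [this, mul_zero, add_zero]
  refine ⟨A, hA, ?_⟩
  -- weights of the words
  have hweight : ∀ l : List ℕ, (∀ i ∈ l, i < 2) → RootBN.Data.Ascending (TD F) (toK l) →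
      (Fintype.card F : ℂ) ^ l.length * Ψ (nwG (toK l)) = wordWeight (Fintype.card F : ℂ) A l := by
    intro l
    induction l with
    | nil => intro _ _; simp [toK, nwG, Ψ, Φ, hφ0, wordWeight]
    | cons a d ih =>
      intro h2 hasc
      obtain ⟨hp, hasc'⟩ := hasc
      have ih' := ih (fun i hi => h2 i (List.mem_cons_of_mem _ hi)) hasc'
      obtain ⟨s1, s2⟩ := hstep (ki a) (toK d) hp
      have ha : a < 2 := h2 a List.mem_cons_self
      have hmul : Ψ (nwG (toK (a :: d))) = Ψ (nn a) * Ψ (nwG (toK d)) := by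
        show Φ (nwG (ki a :: toK d)) * Φ (nwG (ki a :: toK d))⁻¹ = _
        rw [s1, s2, show (ki a).val = a from Nat.mod_eq_of_lt ha]
        show _ = Φ (nn a) * Φ (nn a)⁻¹ * (Φ (nwG (toK d)) * Φ (nwG (toK d))⁻¹)
        ring
      have hw : wordWeight (Fintype.card F : ℂ) A (a :: d) =
          (if a = 0 then (Fintype.card F : ℂ) else A) * wordWeight (Fintype.card F : ℂ) A d := by
        simp [wordWeight]
      rw [hmul, List.length_cons, pow_succ, hw, ← ih']
      rcases (show a = 0 ∨ a = 1 by omega) with rfl | rfl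
      · rw [hΨ0, if_pos rfl]; ring
      · rw [if_neg one_ne_zero, ← hΨ1]; ring
  -- the sum over the group
  let S : W →ₗ[ℂ] W := ∑ g : Grp F, ρ g ∘ₗ e ∘ₗ ρ g⁻¹
  have hScomm : ∀ g, S * ρ g = ρ g * S := by
    intro g
    refine LinearMap.ext fun x => ?_
    simp only [S, Module.End.mul_apply, LinearMap.sum_apply, LinearMap.comp_apply, map_sum]
    refine (Fintype.sum_equiv (Equiv.mulLeft g) _ _ fun x' => ?_).symm
    simp only [Equiv.coe_mulLeft, ← rmul, mul_inv_rev, mul_assoc, inv_mul_cancel, mul_one]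
  haveI := hirr
  obtain ⟨c, hc⟩ := CharInt.exists_eq_smul_one_of_commute ρ S hScomm
  have hc1 : c = ∑ g : Grp F, Ψ g := by
    have h := congrArg (fun T : W →ₗ[ℂ] W => φ (T v0)) hc
    simp only [S, LinearMap.sum_apply, LinearMap.comp_apply, map_sum, LinearMap.smul_apply,
      Module.End.one_apply, map_smul, hφ0, smul_eq_mul, mul_one] at h
    rw [← h]
    refine Finset.sum_congr rfl fun g _ => ?_
    rw [heφ, map_smul, map_smul, smul_eq_mul, mul_comm]
  have hc2 : (Fintype.card (Grp F) : ℂ) = c * finrank ℂ W := by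
    have htr : LinearMap.trace ℂ W e = 1 := by
      rw [show e = φ.smulRight v0 from LinearMap.ext heφ, LinearMap.trace_smulRight, hφ0]
    have h := congrArg (LinearMap.trace ℂ W) hc
    rw [map_smul, LinearMap.trace_one, smul_eq_mul] at h
    rw [← h]
    simp only [S, map_sum]
    rw [Finset.sum_congr rfl fun g _ => show LinearMap.trace ℂ W (ρ g ∘ₗ e ∘ₗ ρ g⁻¹) = 1 by
      rw [← htr]
      show LinearMap.trace ℂ W (ρ g * (e * ρ g⁻¹)) = _
      rw [LinearMap.trace_mul_comm, mul_assoc, ← map_mul, inv_mul_cancel, map_one, mul_one]]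
    simp
  -- cells
  have hcell : ∀ l : List (Fin chevG2.rank),
      ((Finset.univ.filter fun g : Grp F => (g : GL chevG2.Idx F) ∈ (TD F).cell ((TD F).wl l)).card) =
        Nat.card (TD F).B * Fintype.card F ^ (TD F).inv ((TD F).wl l) := by
    intro l
    have hq : ∀ i, Nat.card ((TD F).X ((TD F).simp i)) = Fintype.card F := fun i =>
      BNSetup.card_rootSubgroup G2.good BNSetup.facts_chevG2 (G2.good.simple_lt i.2)
    rw [← RootBN.Data.card_cosets ax hq l, RootBN.Data.cosets, ← QuotientGroup.card_preimage_mk,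
      ← Fintype.card_subtype, ← Nat.card_eq_fintype_card]
    have hpre : QuotientGroup.mk ⁻¹' (QuotientGroup.mk '' (TD F).cell ((TD F).wl l) :
        Set (GL chevG2.Idx F ⧸ (TD F).B)) = (TD F).cell ((TD F).wl l) :=
      Set.ext fun g => RootBN.Data.mem_cosets
    rw [hpre]
    exact Nat.card_congr
      { toFun := fun g => ⟨g.1.1, g.2⟩
        invFun := fun g => ⟨⟨g.1, mem_grp.1 (RootBN.Data.cell_subset_grp ax l g.2)⟩, g.2⟩
        left_inv := fun g => rfl
        right_inv := fun g => rfl }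
  have hgroup : ∀ f' : Grp F → ℂ, ∑ g, f' g = ∑ σ ∈ (TD F).weyl,
      ∑ g ∈ Finset.univ.filter (fun g : Grp F => (g : GL chevG2.Idx F) ∈ (TD F).cell σ), f' g := by
    intro f'
    rw [← Finset.sum_biUnion (fun σ hσ τ hτ hne => ?_)]
    · refine Finset.sum_congr ?_ fun _ _ => rfl
      refine (Finset.eq_univ_of_forall fun g => ?_).symm
      obtain ⟨l, hl⟩ := RootBN.Data.exists_cell ax (mem_grp.2 g.2)
      exact Finset.mem_biUnion.2 ⟨_, RootBN.Data.mem_weyl.2 ⟨l, rfl⟩, by simpa using hl⟩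
    · rw [Function.onFun, Finset.disjoint_left]
      intro g hg hg'
      obtain ⟨l, rfl⟩ := RootBN.Data.mem_weyl.1 hσ
      obtain ⟨l', rfl⟩ := RootBN.Data.mem_weyl.1 hτ
      exact hne (RootBN.Data.cell_disjoint ax (by simpa using hg) (by simpa using hg'))
  have hfinal : ∀ (f' : Grp F → ℂ) (v : List ℕ → ℂ), (∀ l ∈ words, ∀ g : Grp F,
      (g : GL chevG2.Idx F) ∈ (TD F).cell ((TD F).wl (toK l)) → f' g = v l) →
      ∑ g, f' g = (Nat.card (TD F).B : ℂ) * (words.map fun l =>
        (Fintype.card F : ℂ) ^ l.length * v l).sum := by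
    intro f' v hv
    rw [hgroup f', weyl_words, Finset.sum_image fun l hl l' hl' h =>
      words_inj (List.mem_toFinset.1 hl) (List.mem_toFinset.1 hl') h,
      List.sum_toFinset _ (List.Nodup.of_map _ words_nodup), ← List.sum_map_mul_left]
    refine congrArg List.sum (List.map_congr_left fun l hl => ?_)
    have hasc := asc_toK (F := F) l (words12_lt l hl) (words_asc l hl)
    rw [Finset.sum_congr rfl fun g hg => hv l hl g (by simpa using hg), Finset.sum_const, hcell,
      RootBN.Data.inv_eq_length ax hasc, nsmul_eq_mul]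
    simp [toK, mul_assoc]
  have hB0 : (Nat.card (TD F).B : ℂ) ≠ 0 := Nat.cast_ne_zero.2 Nat.card_pos.ne'
  have hs1 : c = (Nat.card (TD F).B : ℂ) * poly (Fintype.card F : ℂ) A := by
    rw [hc1, hfinal Ψ (fun l => Ψ (nwG (toK l))) fun l hl g hg => hΨcell _ g hg, poly]
    congr 2
    exact List.map_congr_left fun l hl =>
      hweight l (words12_lt l hl) (asc_toK (F := F) l (words12_lt l hl) (words_asc l hl))
  have hs2 : (Fintype.card (Grp F) : ℂ) = (Nat.card (TD F).B : ℂ) *
      poly (Fintype.card F : ℂ) (Fintype.card F : ℂ) := by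
    have h := hfinal (fun _ => 1) (fun _ => 1) fun _ _ _ _ => rfl
    rw [Finset.sum_const, Finset.card_univ, nsmul_eq_mul, mul_one] at h
    rw [h, poly]
    congr 2
    exact List.map_congr_left fun l _ => by rw [wordWeight_self, mul_one]
  rw [hs2, hs1, mul_assoc] at hc2
  rw [mul_comm]
  exact (mul_left_cancel₀ hB0 hc2).symm

end Cfsg.Agent.MinDegree.G2
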