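import Cfsg.Agent.Lib.MinDegree.G2Weights

/-!
Weights in a representation of `G₂(q)` in characteristic 3: the bound `q⁴ + q² - 2` and the sizes of the
weight spaces of a representation of smaller degree than `q⁴ + q² + 1`.
-/

set_option autoImplicit false
set_option linter.unusedSectionVars false

namespace Cfsg.Agent.MinDegree.G2

open Module
open scoped Classical

variable {F : Type*} [Field F] [Fintype F] {W : Type*} [AddCommGroup W] [Module ℂ W] [FiniteDimensional ℂ W]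
  (ρ : Representation ℂ (Grp F) W) (ψ : AddChar F ℂ)

/-- Weights on `X₈ X₉ X₁₀ X₁₁`. -/
noncomputable def A4 (α β γ δ : F) : ℕ := D ρ ψ [(8, α), (9, β), (10, γ), (11, δ)]

/-- Weights on `X₈ X₉ X₁₁`. -/
noncomputable def C3 (α β δ : F) : ℕ := D ρ ψ [(8, α), (9, β), (11, δ)]

/-- Weights on `X₉ X₁₀ X₁₁`. -/
noncomputable def B3 (β γ δ : F) : ℕ := D ρ ψ [(9, β), (10, γ), (11, δ)]

theorem arith (q : ℕ) (hq : 9 ≤ q) :
    q ^ 4 + q ^ 2 ≤ (q - 1) * ((q ^ 2 - 1) * (q * 2)) ∧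
    q ^ 4 + q ^ 2 ≤ (q - 1) * (q * 4 + (q ^ 2 - 1) * q) + (q ^ 2 - 1) * (q - 1) + 2 ∧
    q ^ 4 + q ^ 2 ≤ (q - 1) * (q + (q ^ 2 - 1) * q) + (q ^ 2 - 1) * (q * 2) + 2 ∧
    q ^ 4 + q ^ 2 = (q - 1) * (q + (q ^ 2 - 1) * q) +
      ((q - 1) + (q - 1) + (q - 1) * q + (q ^ 2 - 1) * q) + 2 := by
  obtain ⟨n, rfl⟩ : ∃ n, q = n + 9 := ⟨q - 9, by omega⟩
  have e1 : n + 9 - 1 = n + 8 := by omega
  have e2 : (n + 9) ^ 2 - 1 = n ^ 2 + 18 * n + 80 := by
    rw [show (n + 9) ^ 2 = n ^ 2 + 18 * n + 80 + 1 by ring]; omega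
  rw [e1, e2]
  refine ⟨?_, ?_, ?_, ?_⟩
  · nlinarith [Nat.zero_le (n ^ 4), Nat.zero_le (n ^ 3), Nat.zero_le (n ^ 2)]
  · nlinarith [Nat.zero_le (n ^ 4), Nat.zero_le (n ^ 3), Nat.zero_le (n ^ 2)]
  · nlinarith [Nat.zero_le (n ^ 4), Nat.zero_le (n ^ 3), Nat.zero_le (n ^ 2)]
  · ring

variable {ρ ψ} (h3 : (3 : F) = 0)
include h3

theorem two_ne : (2 : F) ≠ 0 := by
  intro h
  exact one_ne_zero (α := F) (by linear_combination h3 - h)

theorem cube_sub (x y : F) : (x - y) ^ 3 = x ^ 3 - y ^ 3 := by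
  linear_combination (-x ^ 2 * y + x * y ^ 2) * h3

theorem cube_bij : Function.Bijective fun x : F => x ^ 3 := by
  refine Finite.injective_iff_bijective.1 fun x y h => ?_
  have : (x - y) ^ 3 = 0 := by rw [cube_sub h3]; exact sub_eq_zero.2 h
  exact sub_eq_zero.1 (eq_zero_of_pow_eq_zero this)

theorem com89 (t u : F) : X 8 (-t) * X 9 u * X 8 t = X 9 u := by
  rw [c8_9, h3]; simp [X_zero]

theorem mem4 {α β γ δ : F} {v : W} (hv : v ∈ WT ρ ψ [(8, α), (9, β), (10, γ), (11, δ)]) :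
    (∀ t, ρ (X 8 t) v = ψ (α * t) • v) ∧ (∀ t, ρ (X 9 t) v = ψ (β * t) • v) ∧
      (∀ t, ρ (X 10 t) v = ψ (γ * t) • v) ∧ (∀ t, ρ (X 11 t) v = ψ (δ * t) • v) := by
  have h := mem_WT.1 hv
  exact ⟨h (8, α) (by simp), h (9, β) (by simp), h (10, γ) (by simp), h (11, δ) (by simp)⟩

theorem A4_shift6 (t α β γ δ : F) : A4 ρ ψ α β γ δ ≤ A4 ρ ψ α β (γ - t * δ) δ := by
  refine D_le_of_shift (r := 6) (t := t) fun v hv q hq u => ?_
  obtain ⟨h8, h9, h10, h11⟩ := mem4 h3 hv
  simp only [List.mem_cons, List.not_mem_nil, or_false] at hq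
  rcases hq with rfl | rfl | rfl | rfl
  · simp only [moveX (conj_nil (r := 6) (s := 8) (by decide +kernel) t u), map_smul, h8]
  · simp only [moveX (conj_nil (r := 6) (s := 9) (by decide +kernel) t u), map_smul, h9]
  · simp only [moveX (c6_10 t u), map_mul, Module.End.mul_apply, map_smul, h10, h11, smul_smul,
      ← AddChar.map_add_eq_mul]
    congr 2; ring
  · simp only [moveX (conj_nil (r := 6) (s := 11) (by decide +kernel) t u), map_smul, h11]

theorem C3_shift7 (t α β δ : F) : C3 ρ ψ α β δ ≤ C3 ρ ψ (α + 2 * t * β) β δ := by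
  refine D_le_of_shift (r := 7) (t := t) fun v hv q hq u => ?_
  have h := mem_WT.1 hv
  have h8 := h (8, α) (by simp)
  have h9 := h (9, β) (by simp)
  have h11 := h (11, δ) (by simp)
  simp only [List.mem_cons, List.not_mem_nil, or_false] at hq
  rcases hq with rfl | rfl | rfl
  · simp only [moveX (c7_8 t u), h3, zero_mul, neg_zero, X_zero, mul_one, map_mul, Module.End.mul_apply,
      map_smul, h8, h9, smul_smul, ← AddChar.map_add_eq_mul]
    congr 2; ring
  · simp only [moveX (c7_9 t u), h3, zero_mul, neg_zero, X_zero, mul_one, map_smul, h9]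
  · simp only [moveX (c7_11 t u), map_smul, h11]

theorem C3_torus {a b : F} (ha : a ≠ 0) (hb : b ≠ 0) (α β δ : F) :
    C3 ρ ψ (a⁻¹ * b * α) (a * β) (b * δ) = C3 ρ ψ α β δ := by
  obtain ⟨-, -, -, e8, e9, -, e11, -, -⟩ := chi_val a b
  refine Eq.trans ?_ (D_torus (ρ := ρ) (ψ := ψ) ha hb (S := [(8, α), (9, β), (11, δ)]) (by simp))
  simp [C3, e8, e9, e11]

theorem C3_flip : ∃ e : ℕ → F, (∀ s < 12, e s * e s = 1) ∧ ∀ α β δ,
    C3 ρ ψ (e 9 * β) (e 8 * α) (e 11 * δ) = C3 ρ ψ α β δ := by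
  obtain ⟨e, he, h⟩ := exists_D_nn (ρ := ρ) (ψ := ψ) (i := 0) (by norm_num)
  obtain ⟨-, e8, e9, -, e11, -⟩ := refl_val
  refine ⟨e, he, fun α β δ => Eq.trans ?_ (h [(8, α), (9, β), (11, δ)] (by simp))⟩
  refine D_congr ?_ ?_ <;> simp [e8, e9, e11]

theorem B3_flip : ∃ e : ℕ → F, (∀ s < 12, e s * e s = 1) ∧ ∀ β γ δ,
    B3 ρ ψ (e 9 * β) (e 11 * δ) (e 10 * γ) = B3 ρ ψ β γ δ := by
  obtain ⟨e, he, h⟩ := exists_D_nn (ρ := ρ) (ψ := ψ) (i := 1) (by norm_num)
  obtain ⟨-, -, -, -, -, -, -, e9, e10, e11, -⟩ := refl_val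
  refine ⟨e, he, fun β γ δ => Eq.trans ?_ (h [(9, β), (10, γ), (11, δ)] (by simp))⟩
  refine D_congr ?_ ?_ <;> simp [e9, e10, e11]

theorem C3_nonzero {α β : F} (hab : α ≠ 0 ∨ β ≠ 0) (δ : F) :
    ∃ δ', (δ' = 0 ↔ δ = 0) ∧ C3 ρ ψ α β δ = C3 ρ ψ 0 1 δ' := by
  have main : ∀ α β δ : F, β ≠ 0 → ∃ δ', (δ' = 0 ↔ δ = 0) ∧ C3 ρ ψ α β δ = C3 ρ ψ 0 1 δ' := by
    intro α β δ hβ
    have h2 := two_ne h3 (F := F)
    have e1 : C3 ρ ψ α β δ = C3 ρ ψ 0 β δ := by
      refine le_antisymm ((C3_shift7 h3 (-α / (2 * β)) α β δ).trans_eq ?_)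
        ((C3_shift7 h3 (α / (2 * β)) 0 β δ).trans_eq ?_)
      · rw [show α + 2 * (-α / (2 * β)) * β = 0 by field_simp; ring]
      · rw [show 0 + 2 * (α / (2 * β)) * β = α by field_simp; ring]
    refine ⟨δ, Iff.rfl, e1.trans ?_⟩
    rw [← C3_torus h3 (inv_ne_zero hβ) one_ne_zero 0 β δ]
    simp [hβ]
  by_cases hβ : β = 0
  · subst hβ
    have hα := hab.resolve_right (not_not.2 rfl)
    obtain ⟨e, he, h⟩ := C3_flip (ρ := ρ) (ψ := ψ) h3
    have e8 : e 8 ≠ 0 := left_ne_zero_of_mul_eq_one (he 8 (by norm_num))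
    have e11 : e 11 ≠ 0 := left_ne_zero_of_mul_eq_one (he 11 (by norm_num))
    rw [← h α 0 δ]
    obtain ⟨δ', hδ, hC⟩ := main (e 9 * 0) (e 8 * α) (e 11 * δ) (mul_ne_zero e8 hα)
    exact ⟨δ', hδ.trans (by simp [e11]), hC⟩
  · exact main α β δ hβ

theorem C3_const {α β : F} (hab : α ≠ 0 ∨ β ≠ 0) {δ : F} :
    C3 ρ ψ α β δ = if δ = 0 then C3 ρ ψ 0 1 0 else C3 ρ ψ 0 1 1 := by
  obtain ⟨δ', hδ, h⟩ := C3_nonzero (ρ := ρ) (ψ := ψ) h3 hab δ
  rw [h]
  split_ifs with hd
  · rw [hδ.2 hd]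
  · rw [← C3_torus h3 one_ne_zero (mt hδ.1 hd) 0 1 1]
    simp

theorem C3_zero {δ : F} (hδ : δ ≠ 0) : C3 ρ ψ 0 0 δ = C3 ρ ψ 0 0 1 := by
  rw [← C3_torus h3 one_ne_zero hδ 0 0 1]; simp

variable (hψ : ψ.IsPrimitive)
include hψ

theorem splitA10 (α β δ : F) : ∑ γ, A4 ρ ψ α β γ δ = C3 ρ ψ α β δ := by
  rw [C3, ← split (ρ := ρ) hψ 10 [(8, α), (9, β), (11, δ)] fun t v =>
    pres_nil (by simp only [List.map_cons, List.map_nil]; decide +kernel) t]
  exact Finset.sum_congr rfl fun γ _ => D_congr (by simp) (by simp)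

theorem pres8 (S : List (ℕ × F)) (hS : ∀ p ∈ S, p.1 = 9 ∨ p.1 = 10 ∨ p.1 = 11) (t : F) {v : W}
    (hv : v ∈ WT ρ ψ S) : ρ (X 8 t) v ∈ WT ρ ψ S := mem_WT.2 fun p hp u => by
  rcases hS p hp with h | h | h <;> rw [h]
  · rw [moveX (com89 h3 t u), ← h, mem_WT.1 hv p hp, map_smul]
  · rw [moveX (conj_nil (r := 8) (s := 10) (by decide +kernel) t u), ← h, mem_WT.1 hv p hp, map_smul]
  · rw [moveX (conj_nil (r := 8) (s := 11) (by decide +kernel) t u), ← h, mem_WT.1 hv p hp, map_smul]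

theorem splitA8 (β γ δ : F) : ∑ α, A4 ρ ψ α β γ δ = B3 ρ ψ β γ δ :=
  split (ρ := ρ) hψ 8 [(9, β), (10, γ), (11, δ)] fun t v => pres8 h3 hψ _ (by simp) t

theorem A4_const {δ : F} (hδ : δ ≠ 0) (α β γ : F) : A4 ρ ψ α β γ δ = A4 ρ ψ α β 0 δ := by
  refine le_antisymm ((A4_shift6 h3 (γ / δ) α β γ δ).trans_eq ?_)
    ((A4_shift6 h3 (-γ / δ) α β 0 δ).trans_eq ?_)
  · rw [show γ - γ / δ * δ = 0 by field_simp; ring]
  · rw [show 0 - -γ / δ * δ = γ by field_simp; ring]

theorem C3_eq_mul {δ : F} (hδ : δ ≠ 0) (α β : F) :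
    C3 ρ ψ α β δ = Fintype.card F * A4 ρ ψ α β 0 δ := by
  rw [← splitA10 h3 hψ, Finset.sum_congr rfl fun γ _ => A4_const h3 hψ hδ α β γ, Finset.sum_const,
    Finset.card_univ, smul_eq_mul]

theorem A4_nonzero {δ : F} (hδ : δ ≠ 0) {α β : F} (hab : α ≠ 0 ∨ β ≠ 0) :
    A4 ρ ψ α β 0 δ = A4 ρ ψ 0 1 0 1 := by
  refine Nat.eq_of_mul_eq_mul_left (Fintype.card_pos (α := F)) ?_
  rw [← C3_eq_mul h3 hψ hδ, ← C3_eq_mul h3 hψ one_ne_zero, C3_const h3 hab, if_neg hδ]

theorem A4_zero {δ : F} (hδ : δ ≠ 0) : A4 ρ ψ 0 0 0 δ = A4 ρ ψ 0 0 0 1 := by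
  refine Nat.eq_of_mul_eq_mul_left (Fintype.card_pos (α := F)) ?_
  rw [← C3_eq_mul h3 hψ hδ, ← C3_eq_mul h3 hψ one_ne_zero, C3_zero h3 hδ]

theorem split_one (f : F → ℕ) : ∑ a, f a = f 0 + ∑ a ∈ Finset.univ.erase (0 : F), f a :=
  (Finset.add_sum_erase _ _ (Finset.mem_univ _)).symm

theorem sum_erase_const [DecidableEq F] {f : F → ℕ} {c : ℕ} (h : ∀ a, a ≠ 0 → f a = c) :
    ∑ a, f a = f 0 + (Fintype.card F - 1) * c := by
  rw [← Finset.add_sum_erase _ _ (Finset.mem_univ (0 : F)),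
    Finset.sum_congr rfl fun a ha => h a (Finset.ne_of_mem_erase ha), Finset.sum_const,
    Finset.card_erase_of_mem (Finset.mem_univ _), Finset.card_univ, smul_eq_mul]

theorem B3_delta {δ : F} (hδ : δ ≠ 0) (β : F) :
    B3 ρ ψ β 0 δ = if β = 0 then A4 ρ ψ 0 0 0 1 + (Fintype.card F - 1) * A4 ρ ψ 0 1 0 1
      else Fintype.card F * A4 ρ ψ 0 1 0 1 := by
  classical
  rw [← splitA8 h3 hψ]
  split_ifs with hβ
  · subst hβ
    rw [sum_erase_const h3 hψ fun a ha => A4_nonzero h3 hψ hδ (Or.inl ha), A4_zero h3 hψ hδ]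
  · rw [Finset.sum_congr rfl fun a _ => A4_nonzero h3 hψ hδ (Or.inr hβ), Finset.sum_const,
      Finset.card_univ, smul_eq_mul]

theorem B3_gamma {γ : F} (hγ : γ ≠ 0) (β : F) :
    B3 ρ ψ β γ 0 = if β = 0 then A4 ρ ψ 0 0 0 1 + (Fintype.card F - 1) * A4 ρ ψ 0 1 0 1
      else Fintype.card F * A4 ρ ψ 0 1 0 1 := by
  obtain ⟨e, he, h⟩ := B3_flip (ρ := ρ) (ψ := ψ) h3
  have e9 : e 9 ≠ 0 := left_ne_zero_of_mul_eq_one (he 9 (by norm_num))
  have e10 : e 10 ≠ 0 := left_ne_zero_of_mul_eq_one (he 10 (by norm_num))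
  rw [← h β γ 0, mul_zero, B3_delta h3 hψ (mul_ne_zero e10 hγ)]
  simp [e9]

theorem total [DecidableEq F] : finrank ℂ W =
    (Fintype.card F - 1) * (Fintype.card F * A4 ρ ψ 0 0 0 1 +
      (Fintype.card F ^ 2 - 1) * (Fintype.card F * A4 ρ ψ 0 1 0 1)) +
    (C3 ρ ψ 0 0 0 + (Fintype.card F ^ 2 - 1) * C3 ρ ψ 0 1 0) := by
  have hp : ∀ δ : F, D ρ ψ [(11, δ)] = ∑ p : F × F, C3 ρ ψ p.1 p.2 δ := fun δ => by
    rw [Fintype.sum_prod_type, Finset.sum_comm, ← split (ρ := ρ) hψ 9 [(11, δ)] fun t v =>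
      pres_nil (by simp only [List.map_cons, List.map_nil]; decide +kernel) t]
    refine Finset.sum_congr rfl fun β _ => ?_
    exact (split (ρ := ρ) hψ 8 [(9, β), (11, δ)] fun t v => pres8 h3 hψ _ (by simp) t).symm
  have hsplit : ∀ δ : F, D ρ ψ [(11, δ)] =
      C3 ρ ψ 0 0 δ + (Fintype.card F ^ 2 - 1) * if δ = 0 then C3 ρ ψ 0 1 0 else C3 ρ ψ 0 1 1 := by
    intro δ
    rw [hp, ← Finset.add_sum_erase _ _ (Finset.mem_univ ((0, 0) : F × F)),
      Finset.sum_congr rfl fun p hp => C3_const h3 (show p.1 ≠ 0 ∨ p.2 ≠ 0 by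
        have := Finset.ne_of_mem_erase hp
        by_contra h
        push Not at h
        exact this (Prod.ext h.1 h.2)), Finset.sum_const,
      Finset.card_erase_of_mem (Finset.mem_univ _), Finset.card_univ, Fintype.card_prod, smul_eq_mul, sq]
    simp
  rw [← split_top (ρ := ρ) hψ 11, sum_erase_const h3 hψ (f := fun δ => D ρ ψ [(11, δ)])
    (c := C3 ρ ψ 0 0 1 + (Fintype.card F ^ 2 - 1) * C3 ρ ψ 0 1 1) (fun δ hδ => by
      rw [hsplit, if_neg hδ, C3_zero h3 hδ]),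
    hsplit, if_pos rfl, C3_eq_mul h3 hψ one_ne_zero, C3_eq_mul h3 hψ one_ne_zero]
  ring

theorem N_ge : (Fintype.card F - 1) * A4 ρ ψ 0 1 0 1 ≤ C3 ρ ψ 0 1 0 := by
  classical
  have e1 : ∑ α, C3 ρ ψ α 1 0 = Fintype.card F * C3 ρ ψ 0 1 0 := by
    rw [Finset.sum_congr rfl fun α _ => (C3_const (ρ := ρ) (ψ := ψ) h3 (δ := 0) (α := α) (Or.inr (one_ne_zero (α := F)))).trans
      (if_pos rfl), Finset.sum_const, Finset.card_univ, smul_eq_mul]
  have e2 : ∑ α, C3 ρ ψ α 1 0 = ∑ γ, B3 ρ ψ 1 γ 0 := by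
    simp only [← splitA10 h3 hψ, ← splitA8 h3 hψ]
    exact Finset.sum_comm
  have e3 : ∑ γ, B3 ρ ψ 1 γ 0 =
      B3 ρ ψ 1 0 0 + (Fintype.card F - 1) * (Fintype.card F * A4 ρ ψ 0 1 0 1) :=
    sum_erase_const h3 hψ fun γ hγ => by rw [B3_gamma h3 hψ hγ, if_neg one_ne_zero]
  have := e1.symm.trans (e2.trans e3)
  refine Nat.le_of_mul_le_mul_left ?_ (Fintype.card_pos (α := F))
  rw [this, Nat.mul_left_comm]
  omega

variable (hq : 9 ≤ Fintype.card F) (hne : ∃ g, ρ g ≠ 1)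
include hq hne

omit h3 hψ hne in
theorem exists_elt : ∃ u : F, u ≠ 0 ∧ u ^ 2 ≠ 1 := by
  classical
  by_contra h
  push Not at h
  have hs : (Finset.univ : Finset F) ⊆ insert 0 ((Polynomial.nthRoots 2 (1 : F)).toFinset) := fun x _ => by
    rcases eq_or_ne x 0 with rfl | hx
    · simp
    · simp [h x hx]
  have h1 := (Finset.card_le_card hs).trans (Finset.card_insert_le _ _)
  have u2 : (Polynomial.nthRoots 2 (1 : F)).toFinset.card ≤ 2 :=
    (Multiset.toFinset_card_le _).trans (Polynomial.card_nthRoots _ _)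
  rw [Finset.card_univ] at h1
  omega

theorem K_pos : 0 < A4 ρ ψ 0 1 0 1 := by
  classical
  by_contra hK
  have hK0 : A4 ρ ψ 0 1 0 1 = 0 := by omega
  obtain ⟨s, hs, hpos⟩ := exists_weight_ne_zero (ρ := ρ) ⟨_, (exists_elt hq).choose_spec.1,
    fun h => (exists_elt (F := F) hq).choose_spec.2 (by rw [h, one_pow])⟩ hψ hne (r := 11) (by norm_num)
  have hE : 0 < A4 ρ ψ 0 0 0 1 := by
    by_contra hE
    have hE0 : A4 ρ ψ 0 0 0 1 = 0 := by omega
    rw [← split (ρ := ρ) hψ 9 [(11, s)] fun t v =>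
      pres_nil (by simp only [List.map_cons, List.map_nil]; decide +kernel) t] at hpos
    obtain ⟨β, -, hβ⟩ := Finset.exists_ne_zero_of_sum_ne_zero hpos.ne'
    rw [← split (ρ := ρ) hψ 8 [(9, β), (11, s)] fun t v => pres8 h3 hψ _ (by simp) t] at hβ
    obtain ⟨α, -, hα⟩ := Finset.exists_ne_zero_of_sum_ne_zero hβ
    change C3 ρ ψ α β s ≠ 0 at hα
    rw [C3_eq_mul h3 hψ hs] at hα
    by_cases hab : α = 0 ∧ β = 0
    · rw [hab.1, hab.2, A4_zero h3 hψ hs, hE0, mul_zero] at hα; exact hα rfl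
    · rw [A4_nonzero h3 hψ hs (not_and_or.1 hab), hK0, mul_zero] at hα; exact hα rfl
  -- a weight for the short root
  have h7 : ∑ τ, D ρ ψ [(7, τ), (8, 0), (9, 0), (10, 0), (11, (1 : F))] = A4 ρ ψ 0 0 0 1 := by
    refine split (ρ := ρ) hψ 7 [(8, 0), (9, 0), (10, 0), (11, (1 : F))] fun t v hv => mem_WT.2 fun p hp u => ?_
    obtain ⟨h8, h9, h10, h11⟩ := mem4 h3 hv
    simp only [List.mem_cons, List.not_mem_nil, or_false] at hp
    rcases hp with rfl | rfl | rfl | rfl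
    · simp [moveX (c7_8 t u), h3, X_zero, map_mul, h8, h9]
    · simp [moveX (c7_9 t u), h3, X_zero, h9]
    · simp [moveX (c7_10 t u), h10]
    · simp only [moveX (c7_11 t u), map_smul, h11]
  rw [← h7] at hE
  obtain ⟨τ, -, hτ⟩ := Finset.exists_ne_zero_of_sum_ne_zero hE.ne'
  -- shifting by the long root
  have hsig : ∀ u : F, ∃ σ : F, ∀ t, ψ (-(2 * u ^ 2 * t ^ 3)) = ψ (σ * t) := by
    intro u
    let χ : AddChar F ℂ :=
      { toFun := fun t => ψ (-(2 * u ^ 2 * t ^ 3))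
        map_zero_eq_one' := by simp
        map_add_eq_mul' := fun a b => by
          rw [← AddChar.map_add_eq_mul]
          congr 1
          linear_combination (-(2 * u ^ 2) * (a ^ 2 * b + a * b ^ 2)) * h3 }
    obtain ⟨σ, hσ⟩ := (shift_bij hψ).2 χ
    exact ⟨σ, fun t => by rw [← AddChar.mulShift_apply, show AddChar.mulShift ψ σ = χ from hσ]; rfl⟩
  choose σ hσ using hsig
  obtain ⟨u2, hu2, hu21⟩ := exists_elt (F := F) hq
  obtain ⟨u, hu, hne'⟩ : ∃ u : F, u ≠ 0 ∧ τ + σ u ≠ 0 := by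
    by_contra h
    push Not at h
    have he : σ 1 = σ u2 := add_left_cancel ((h 1 one_ne_zero).trans (h u2 hu2).symm)
    refine hu21 ?_
    have : AddChar.mulShift ψ (-(2 * 1 ^ 2) : F) = AddChar.mulShift ψ (-(2 * u2 ^ 2)) := by
      refine DFunLike.ext _ _ fun s => ?_
      obtain ⟨t, rfl⟩ := (cube_bij h3 (F := F)).2 s
      simp only [AddChar.mulShift_apply, neg_mul]
      rw [hσ, hσ, he]
    have h2 := neg_injective ((shift_bij hψ).1 this)
    simpa using (mul_left_cancel₀ (two_ne h3) h2).symm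
  have hshift : D ρ ψ [(7, τ), (8, 0), (9, 0), (10, 0), (11, (1 : F))] ≤
      D ρ ψ [(7, τ + σ u), (9, 0), (10, -u), (11, (1 : F))] := by
    refine D_le_of_shift (r := 6) (t := u) fun v hv p hp w => ?_
    have h := mem_WT.1 hv
    have h7' := h (7, τ) (by simp)
    have h8 := h (8, 0) (by simp)
    have h9 := h (9, 0) (by simp)
    have h10 := h (10, 0) (by simp)
    have h11 := h (11, 1) (by simp)
    simp only [List.mem_cons, List.not_mem_nil, or_false] at hp
    rcases hp with rfl | rfl | rfl | rfl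
    · simp only [moveX (c6_7 u w), map_mul, Module.End.mul_apply, map_smul, h7', h8, h9, h10, h11,
        smul_smul, zero_mul, AddChar.map_zero_eq_one, one_mul, one_smul, mul_one, add_mul,
        AddChar.map_add_eq_mul, ← hσ]
      congr 1
      ring
    · simp only [moveX (conj_nil (r := 6) (s := 9) (by decide +kernel) u w), map_smul, h9]
    · simp only [moveX (c6_10 u w), map_mul, Module.End.mul_apply, map_smul, h10, h11, smul_smul,
        ← AddChar.map_add_eq_mul]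
      congr 2; ring
    · simp only [moveX (conj_nil (r := 6) (s := 11) (by decide +kernel) u w), map_smul, h11]
  obtain ⟨e, he, hD⟩ := exists_D_nn (ρ := ρ) (ψ := ψ) (i := 1) (by norm_num)
  obtain ⟨-, -, -, -, -, r7, -, r9, r10, r11, -⟩ := refl_val
  have e7 : e 7 ≠ 0 := left_ne_zero_of_mul_eq_one (he 7 (by norm_num))
  have e10 : e 10 ≠ 0 := left_ne_zero_of_mul_eq_one (he 10 (by norm_num))
  rw [← hD [(7, τ + σ u), (9, 0), (10, -u), (11, (1 : F))] (by simp)] at hshift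
  simp only [List.map_cons, List.map_nil, r7, r9, r10, r11, mul_zero] at hshift
  have hle := hshift.trans (D_mono (S' := [(8, e 7 * (τ + σ u)), (9, (0 : F)), (11, e 10 * -u)]) (by simp))
  change _ ≤ C3 ρ ψ _ _ _ at hle
  rw [C3_eq_mul h3 hψ (mul_ne_zero e10 (neg_ne_zero.2 hu)),
    A4_nonzero h3 hψ (mul_ne_zero e10 (neg_ne_zero.2 hu)) (Or.inl (mul_ne_zero e7 hne')), hK0,
    mul_zero] at hle
  omega

set_option maxHeartbeats 2000000 in
/-- The degree is `q⁴ + q² - q - 1 + f` with `f ≥ q - 1`, unless it is at least `q⁴ + q² + 1`. -/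
theorem wild_bound : Fintype.card F ^ 4 + Fintype.card F ^ 2 - 2 ≤ finrank ℂ W := by
  classical
  set q := Fintype.card F with hqdef
  by_contra hlt
  have hd := total (ρ := ρ) h3 hψ
  have hN := N_ge (ρ := ρ) h3 hψ
  have hK := K_pos h3 hψ hq hne
  rw [← hqdef] at hd hN
  set K := A4 ρ ψ 0 1 0 1 with hKdef
  set E := A4 ρ ψ 0 0 0 1 with hEdef
  set N := C3 ρ ψ 0 1 0 with hNdef
  set R := C3 ρ ψ 0 0 0 with hRdef
  obtain ⟨ar1, ar2, ar3, ar4⟩ := arith q hq
  obtain ⟨n, hn⟩ : ∃ n, q = n + 9 := ⟨q - 9, by omega⟩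
  have hK1 : K = 1 := by
    by_contra hcon
    have h2 : 2 ≤ K := by omega
    have b1 : (q - 1) * ((q ^ 2 - 1) * (q * 2)) ≤ (q - 1) * ((q ^ 2 - 1) * (q * K)) :=
      Nat.mul_le_mul_left _ (Nat.mul_le_mul_left _ (Nat.mul_le_mul_left _ h2))
    have b2 : (q - 1) * ((q ^ 2 - 1) * (q * K)) ≤ finrank ℂ W := by
      rw [hd]
      exact le_trans (Nat.mul_le_mul_left _ (Nat.le_add_left _ _)) (Nat.le_add_right _ _)
    omega
  rw [hK1, mul_one] at hd hN
  have hE3 : E ≤ 3 := by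
    by_contra hcon
    have h4 : 4 ≤ E := by omega
    have b1 : (q - 1) * (q * 4 + (q ^ 2 - 1) * q) ≤ (q - 1) * (q * E + (q ^ 2 - 1) * q) :=
      Nat.mul_le_mul_left _ (Nat.add_le_add_right (Nat.mul_le_mul_left _ h4) _)
    have b3 : (q ^ 2 - 1) * (q - 1) ≤ (q ^ 2 - 1) * N := Nat.mul_le_mul_left _ hN
    have b : (q - 1) * (q * 4 + (q ^ 2 - 1) * q) + (q ^ 2 - 1) * (q - 1) ≤ finrank ℂ W := by omega
    omega
  -- the weights with a11 = a9 = 0
  have split6 : ∀ α γ : F,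
      ∑ a, D ρ ψ [(6, a), (8, α), (9, 0), (10, γ), (11, 0)] = A4 ρ ψ α 0 γ 0 := fun α γ => by
    refine split (ρ := ρ) hψ 6 [(8, α), (9, 0), (10, γ), (11, 0)] fun t v hv => mem_WT.2 fun p hp u => ?_
    obtain ⟨h8, h9, h10, h11⟩ := mem4 h3 hv
    simp only [List.mem_cons, List.not_mem_nil, or_false] at hp
    rcases hp with rfl | rfl | rfl | rfl
    · simp only [moveX (conj_nil (r := 6) (s := 8) (by decide +kernel) t u), map_smul, h8]
    · simp only [moveX (conj_nil (r := 6) (s := 9) (by decide +kernel) t u), map_smul, h9]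
    · simp only [moveX (c6_10 t u), map_mul, Module.End.mul_apply, map_smul, h10, h11, zero_mul,
        AddChar.map_zero_eq_one, one_smul]
    · simp only [moveX (conj_nil (r := 6) (s := 11) (by decide +kernel) t u), map_smul, h11]
  have shift : ∀ t a α γ : F, D ρ ψ [(6, a), (8, α), (9, 0), (10, γ), (11, 0)] ≤
      D ρ ψ [(6, a + (t * α - t ^ 3 * γ)), (8, α), (9, 0), (10, γ), (11, 0)] := by
    intro t a α γ
    refine D_le_of_shift (r := 7) (t := t) fun v hv p hp u => ?_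
    have h := mem_WT.1 hv
    have h6 := h (6, a) (by simp)
    have h8 := h (8, α) (by simp)
    have h9 := h (9, 0) (by simp)
    have h10 := h (10, γ) (by simp)
    have h11 := h (11, 0) (by simp)
    simp only [List.mem_cons, List.not_mem_nil, or_false] at hp
    rcases hp with rfl | rfl | rfl | rfl | rfl
    · simp only [moveX (c7_6 t u), map_mul, Module.End.mul_apply, map_smul, h6, h8, h9, h10, h11,
        smul_smul, ← AddChar.map_add_eq_mul]
      congr 2; ring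
    · simp only [moveX (c7_8 t u), h3, zero_mul, neg_zero, X_zero, mul_one, map_mul,
        Module.End.mul_apply, map_smul, h8, h9, AddChar.map_zero_eq_one, one_smul]
    · simp only [moveX (c7_9 t u), h3, zero_mul, neg_zero, X_zero, mul_one, map_smul, h9]
    · simp only [moveX (c7_10 t u), map_smul, h10]
    · simp only [moveX (c7_11 t u), map_smul, h11]
  have torusA : ∀ a : F, a ≠ 0 → ∀ α γ : F, A4 ρ ψ (a ^ 2 * α) 0 γ 0 = A4 ρ ψ α 0 γ 0 := by
    intro a ha α γ
    obtain ⟨-, -, -, e8, -, e10, -, -, -⟩ := chi_val a (a ^ 3)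
    refine Eq.trans ?_ (D_torus (ρ := ρ) (ψ := ψ) ha (pow_ne_zero 3 ha)
      (S := [(8, α), (9, 0), (10, γ), (11, 0)]) (by simp))
    simp only [A4, List.map_cons, List.map_nil, mul_zero, e8, e10]
    rw [show a⁻¹ * a ^ 3 = a ^ 2 by field_simp, show a ^ 3 * (a ^ 3)⁻¹ = 1 by field_simp, one_mul]
  have hS8 : ∀ α γ : F, α ≠ 0 → γ ≠ 0 → A4 ρ ψ α 0 γ 0 = 0 := by
    intro α γ hα hγ
    by_contra hpos
    let f : F → F := fun t => t * α - t ^ 3 * γ
    have hq3 : ∀ α' : F, A4 ρ ψ α' 0 γ 0 ≠ 0 → α' ≠ 0 → q ≤ 3 * A4 ρ ψ α' 0 γ 0 := by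
      intro α' hp hα'
      rw [← split6 α' γ] at hp ⊢
      obtain ⟨a0, -, ha0⟩ := Finset.exists_ne_zero_of_sum_ne_zero hp
      let g : F → F := fun t => a0 + (t * α' - t ^ 3 * γ)
      have hfib : ∀ b ∈ Finset.univ.image g, (Finset.univ.filter fun t => g t = b).card ≤ 3 := by
        intro b hb
        obtain ⟨t0, -, rfl⟩ := Finset.mem_image.1 hb
        have hs : (Finset.univ.filter fun t => g t = g t0) ⊆
            insert t0 ((Polynomial.nthRoots 2 (α' / γ)).toFinset.image fun r => t0 + r) := by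
          intro t ht
          simp only [Finset.mem_filter, Finset.mem_univ, true_and, g, add_right_inj] at ht
          have hz : (t - t0) * (α' - (t - t0) ^ 2 * γ) = 0 := by
            linear_combination ht - γ * cube_sub h3 t t0
          rw [Finset.mem_insert]
          rcases mul_eq_zero.1 hz with h | h
          · exact Or.inl (sub_eq_zero.1 h)
          · refine Or.inr (Finset.mem_image.2 ⟨t - t0, ?_, by ring⟩)
            rw [Multiset.mem_toFinset, Polynomial.mem_nthRoots two_pos]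
            field_simp
            linear_combination -h
        refine (Finset.card_le_card hs).trans ((Finset.card_insert_le _ _).trans ?_)
        have := (Multiset.toFinset_card_le _).trans (Polynomial.card_nthRoots 2 (α' / γ))
        have h2 : ((Polynomial.nthRoots 2 (α' / γ)).toFinset.image fun r => t0 + r).card ≤ 2 :=
          Finset.card_image_le.trans this
        omega
      have hcard := Finset.card_le_mul_card_image Finset.univ 3 hfib
      rw [Finset.card_univ] at hcard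
      refine hcard.trans (Nat.mul_le_mul_left 3 ?_)
      refine le_trans ?_ (Finset.sum_le_sum_of_subset (Finset.subset_univ (Finset.univ.image g)))
      rw [Finset.card_eq_sum_ones]
      refine Finset.sum_le_sum fun b hb => ?_
      obtain ⟨t, -, rfl⟩ := Finset.mem_image.1 hb
      exact le_trans (Nat.one_le_iff_ne_zero.2 ha0) (shift t a0 α' γ)
    let sq : Fˣ → F := fun a => (a : F) ^ 2 * α
    have hfib2 : ∀ b ∈ Finset.univ.image sq, (Finset.univ.filter fun a => sq a = b).card ≤ 2 := by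
      intro b hb
      obtain ⟨a0, -, rfl⟩ := Finset.mem_image.1 hb
      have hs : (Finset.univ.filter fun a => sq a = sq a0) ⊆ {a0, -a0} := by
        intro a ha
        simp only [Finset.mem_filter, Finset.mem_univ, true_and, sq] at ha
        rcases sq_eq_sq_iff_eq_or_eq_neg.1 (mul_right_cancel₀ hα ha) with h | h
        · rw [Units.ext h]; simp
        · rw [show a = -a0 from Units.ext (by rw [h, Units.val_neg])]; simp
      exact (Finset.card_le_card hs).trans Finset.card_le_two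
    have hcard := Finset.card_le_mul_card_image Finset.univ 2 hfib2
    rw [Finset.card_univ, Fintype.card_units] at hcard
    have hsum : q * (Finset.univ.image sq).card ≤ 3 * B3 ρ ψ 0 γ 0 := by
      rw [← splitA8 h3 hψ, Finset.mul_sum]
      refine le_trans ?_ (Finset.sum_le_sum_of_subset (Finset.subset_univ (Finset.univ.image sq)))
      rw [mul_comm, ← smul_eq_mul]
      refine Finset.card_nsmul_le_sum _ _ _ fun b hb => ?_
      obtain ⟨a, -, rfl⟩ := Finset.mem_image.1 hb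
      refine hq3 _ ?_ (mul_ne_zero (pow_ne_zero 2 a.ne_zero) hα)
      show A4 ρ ψ ((a : F) ^ 2 * α) 0 γ 0 ≠ 0
      rw [torusA _ a.ne_zero]; exact hpos
    rw [B3_gamma h3 hψ hγ, if_pos rfl, ← hKdef, hK1, ← hEdef, ← hqdef, mul_one] at hsum
    have h5 : q * (q - 1) ≤ q * (2 * (Finset.univ.image sq).card) := Nat.mul_le_mul_left _ hcard
    rw [Nat.mul_left_comm] at h5
    rw [hn, show n + 9 - 1 = n + 8 by omega] at h5 hsum
    nlinarith
  have hAg : ∀ γ : F, γ ≠ 0 → A4 ρ ψ 0 0 γ 0 = E + (q - 1) := by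
    intro γ hγ
    have h := B3_gamma (ρ := ρ) h3 hψ hγ 0
    rw [if_pos rfl, ← hKdef, hK1, mul_one, ← splitA8 h3 hψ,
      Finset.sum_eq_single (0 : F) (fun α _ hα => hS8 α γ hα hγ) (by simp)] at h
    exact h
  have hconst : ∀ a γ : F, γ ≠ 0 → D ρ ψ [(6, a), (8, 0), (9, 0), (10, γ), (11, 0)] =
      D ρ ψ [(6, 0), (8, 0), (9, 0), (10, γ), (11, 0)] := by
    intro a γ hγ
    obtain ⟨t, ht⟩ := (cube_bij h3 (F := F)).2 (a / γ)
    obtain ⟨t', ht'⟩ := (cube_bij h3 (F := F)).2 (-a / γ)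
    simp only at ht ht'
    refine le_antisymm ((shift t a 0 γ).trans_eq ?_) ((shift t' 0 0 γ).trans_eq ?_)
    · rw [ht, show a + (t * 0 - a / γ * γ) = 0 by field_simp; ring]
    · rw [ht', show (0 : F) + (t' * 0 - -a / γ * γ) = a by field_simp; ring]
  have hJ : ∀ γ : F, γ ≠ 0 → D ρ ψ [(6, 0), (8, 0), (9, 0), (10, γ), (11, 0)] = 1 ∧ E = 1 := by
    intro γ hγ
    have h := split6 0 γ
    rw [Finset.sum_congr rfl fun a _ => hconst a γ hγ, Finset.sum_const, Finset.card_univ, smul_eq_mul,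
      hAg γ hγ, ← hqdef] at h
    set J := D ρ ψ [(6, 0), (8, 0), (9, 0), (10, γ), (11, 0)]
    have : J = 1 := by
      rcases (show J = 0 ∨ J = 1 ∨ 2 ≤ J by omega) with hJ | hJ | hJ
      · rw [hJ, mul_zero] at h; omega
      · exact hJ
      · have := Nat.mul_le_mul_left q hJ; omega
    rw [this, mul_one] at h
    exact ⟨this, by omega⟩
  have hE1 : E = 1 := (hJ 1 one_ne_zero).2
  -- the value of N
  have hN1 : ∀ α : F, α ≠ 0 → A4 ρ ψ α 0 0 0 = N := by
    intro α hα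
    have h := C3_const (ρ := ρ) (ψ := ψ) h3 (δ := 0) (Or.inl hα : α ≠ 0 ∨ (0 : F) ≠ 0)
    rw [if_pos rfl, ← splitA10 h3 hψ,
      Finset.sum_eq_single (0 : F) (fun γ _ hγ => hS8 α γ hα hγ) (by simp)] at h
    exact h
  have hconst' : ∀ a α : F, α ≠ 0 → D ρ ψ [(6, a), (8, α), (9, 0), (10, 0), (11, 0)] =
      D ρ ψ [(6, 0), (8, α), (9, 0), (10, 0), (11, 0)] := by
    intro a α hα
    refine le_antisymm ((shift (-a / α) a α 0).trans_eq ?_) ((shift (a / α) 0 α 0).trans_eq ?_)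
    · rw [show a + (-a / α * α - (-a / α) ^ 3 * 0) = 0 by field_simp; ring]
    · rw [show (0 : F) + (a / α * α - (a / α) ^ 3 * 0) = a by field_simp; ring]
  have hNq : N = q := by
    have h := split6 1 0
    rw [Finset.sum_congr rfl fun a _ => hconst' a 1 one_ne_zero, Finset.sum_const, Finset.card_univ,
      smul_eq_mul, hN1 1 one_ne_zero, ← hqdef] at h
    set J := D ρ ψ [(6, 0), (8, (1 : F)), (9, 0), (10, 0), (11, 0)]
    rcases (show J = 0 ∨ J = 1 ∨ 2 ≤ J by omega) with hJ' | hJ' | hJ'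
    · rw [hJ', mul_zero] at h; omega
    · rw [hJ', mul_one] at h; exact h.symm
    · exfalso
      have hN2 : q * 2 ≤ N := h ▸ Nat.mul_le_mul_left q hJ'
      have b3 : (q ^ 2 - 1) * (q * 2) ≤ (q ^ 2 - 1) * N := Nat.mul_le_mul_left _ hN2
      rw [hE1, mul_one] at hd
      have b : (q - 1) * (q + (q ^ 2 - 1) * q) + (q ^ 2 - 1) * (q * 2) ≤ finrank ℂ W := by omega
      omega
  -- the value of R
  obtain ⟨e0, he0, hflip0⟩ := exists_D_nn (ρ := ρ) (ψ := ψ) (i := 0) (by norm_num)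
  obtain ⟨r6, r8, r9, r10, r11, r7, r8', r9', r10', r11', -⟩ := refl_val
  have hline : ∀ a : F, a ≠ 0 → D ρ ψ [(6, a), (8, 0), (9, 0), (10, 0), (11, 0)] = 1 := by
    intro a ha
    have e6 : e0 6 ≠ 0 := left_ne_zero_of_mul_eq_one (he0 6 (by norm_num))
    rw [← hflip0 [(6, a), (8, 0), (9, 0), (10, 0), (11, 0)] (by simp),
      ← (hJ (e0 6 * a) (mul_ne_zero e6 ha)).1]
    refine D_congr ?_ ?_ <;> simp [r6, r8, r9, r10, r11]
  set f := D ρ ψ [(6, (0 : F)), (8, 0), (9, 0), (10, 0), (11, 0)] with hfdef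
  have hR : R = f + (q - 1) + (q - 1) * q := by
    rw [hRdef, ← splitA10 h3 hψ, sum_erase_const h3 hψ fun γ hγ => by rw [hAg γ hγ, hE1],
      ← split6 0 0, sum_erase_const h3 hψ hline, mul_one, ← hqdef, ← hfdef,
      show 1 + (q - 1) = q by omega]
  -- the short root weights
  have hf : q - 1 ≤ f := by
    have hone : ∀ τ : F, τ ≠ 0 → D ρ ψ [(7, τ), (8, 0), (9, 0), (10, 0), (11, 0)] = 1 := by
      intro τ hτ
      obtain ⟨e, he, hD⟩ := exists_D_nn (ρ := ρ) (ψ := ψ) (i := 1) (by norm_num)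
      have e7 : e 7 ≠ 0 := left_ne_zero_of_mul_eq_one (he 7 (by norm_num))
      set α := e 7 * τ
      have hα : α ≠ 0 := mul_ne_zero e7 hτ
      have hsplit : ∑ σ, D ρ ψ [(7, σ), (8, α), (9, 0), (10, 0), (11, 0)] = q := by
        rw [← hNq, ← hN1 α hα]
        refine split (ρ := ρ) hψ 7 [(8, α), (9, 0), (10, 0), (11, 0)] fun t v hv => mem_WT.2 fun p hp u => ?_
        obtain ⟨h8, h9, h10, h11⟩ := mem4 h3 hv
        simp only [List.mem_cons, List.not_mem_nil, or_false] at hp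
        rcases hp with rfl | rfl | rfl | rfl
        · simp only [moveX (c7_8 t u), h3, zero_mul, neg_zero, X_zero, mul_one, map_mul,
            Module.End.mul_apply, map_smul, h8, h9, AddChar.map_zero_eq_one, one_smul]
        · simp only [moveX (c7_9 t u), h3, zero_mul, neg_zero, X_zero, mul_one, map_smul, h9]
        · simp only [moveX (c7_10 t u), map_smul, h10]
        · simp only [moveX (c7_11 t u), map_smul, h11]
      have sh : ∀ w σ : F, D ρ ψ [(7, σ), (8, α), (9, 0), (10, 0), (11, 0)] ≤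
          D ρ ψ [(7, σ - α * w), (8, α), (9, 0), (10, 0), (11, 0)] := by
        intro w σ
        refine D_le_of_shift (r := 6) (t := w) fun v hv p hp u => ?_
        have h := mem_WT.1 hv
        have h7 := h (7, σ) (by simp)
        have h8 := h (8, α) (by simp)
        have h9 := h (9, 0) (by simp)
        have h10 := h (10, 0) (by simp)
        have h11 := h (11, 0) (by simp)
        simp only [List.mem_cons, List.not_mem_nil, or_false] at hp
        rcases hp with rfl | rfl | rfl | rfl | rfl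
        · simp only [moveX (c6_7 w u), map_mul, Module.End.mul_apply, map_smul, h7, h8, h9, h10, h11,
            smul_smul, ← AddChar.map_add_eq_mul]
          congr 2; ring
        · simp only [moveX (conj_nil (r := 6) (s := 8) (by decide +kernel) w u), map_smul, h8]
        · simp only [moveX (conj_nil (r := 6) (s := 9) (by decide +kernel) w u), map_smul, h9]
        · simp only [moveX (c6_10 w u), map_mul, Module.End.mul_apply, map_smul, h10, h11, zero_mul,
            AddChar.map_zero_eq_one, one_smul]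
        · simp only [moveX (conj_nil (r := 6) (s := 11) (by decide +kernel) w u), map_smul, h11]
      have hc : ∀ σ, D ρ ψ [(7, σ), (8, α), (9, 0), (10, 0), (11, 0)] =
          D ρ ψ [(7, 0), (8, α), (9, 0), (10, 0), (11, 0)] := fun σ => by
        refine le_antisymm ((sh (σ / α) σ).trans_eq ?_) ((sh (-σ / α) 0).trans_eq ?_)
        · rw [show σ - α * (σ / α) = 0 by field_simp; ring]
        · rw [show (0 : F) - α * (-σ / α) = σ by field_simp; ring]
      rw [Finset.sum_congr rfl fun σ _ => hc σ, Finset.sum_const, Finset.card_univ, smul_eq_mul,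
        ← hqdef] at hsplit
      rw [← hD [(7, τ), (8, 0), (9, 0), (10, 0), (11, 0)] (by simp)]
      refine Eq.trans ?_ ((mul_eq_left₀ (show q ≠ 0 by omega)).1 hsplit)
      refine D_congr ?_ ?_ <;> simp [r7, r8', r9', r10', r11', α]
    have hzero : ∀ τ a : F, τ ≠ 0 → a ≠ 0 →
        D ρ ψ [(6, a), (7, τ), (8, 0), (9, 0), (10, 0), (11, 0)] = 0 := by
      intro τ a hτ ha
      by_contra hpos
      have hsp : ∑ σ, D ρ ψ [(7, σ), (6, a), (8, 0), (9, 0), (10, 0), (11, 0)] = 1 := by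
        rw [← hline a ha]
        refine split (ρ := ρ) hψ 7 [(6, a), (8, 0), (9, 0), (10, 0), (11, 0)] fun t v hv =>
          mem_WT.2 fun p hp u => ?_
        have h := mem_WT.1 hv
        have h6 := h (6, a) (by simp)
        have h8 := h (8, 0) (by simp)
        have h9 := h (9, 0) (by simp)
        have h10 := h (10, 0) (by simp)
        have h11 := h (11, 0) (by simp)
        simp only [List.mem_cons, List.not_mem_nil, or_false] at hp
        rcases hp with rfl | rfl | rfl | rfl | rfl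
        · simp [moveX (c7_6 t u), map_mul, h6, h8, h9, h10, h11]
        · simp [moveX (c7_8 t u), map_mul, h3, X_zero, h8, h9]
        · simp [moveX (c7_9 t u), h3, X_zero, h9]
        · simp [moveX (c7_10 t u), h10]
        · simp [moveX (c7_11 t u), h11]
      have hall : ∀ σ : F, σ ≠ 0 → 1 ≤ D ρ ψ [(7, σ), (6, a), (8, 0), (9, 0), (10, 0), (11, 0)] := by
        intro σ hσ
        set t := σ / τ
        have ht : t ≠ 0 := div_ne_zero hσ hτ
        have h := D_torus (ρ := ρ) (ψ := ψ) (pow_ne_zero 2 ht) (pow_ne_zero 3 ht)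
          (S := [(6, a), (7, τ), (8, 0), (9, 0), (10, 0), (11, 0)]) (by simp)
        obtain ⟨-, e6, e7, -, -, -, -, -, -⟩ := chi_val (t ^ 2) (t ^ 3)
        simp only [List.map_cons, List.map_nil, mul_zero, e6, e7] at h
        rw [show ((t ^ 2) ^ 3)⁻¹ * (t ^ 3) ^ 2 * a = a by field_simp,
          show (t ^ 2) ^ 2 * (t ^ 3)⁻¹ * τ = σ by simp only [t]; field_simp] at h
        rw [D_congr (S' := [(6, a), (7, σ), (8, 0), (9, 0), (10, 0), (11, 0)]) (by simp) (by simp), h]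
        omega
      have h1 := Finset.sum_le_sum (s := Finset.univ.erase (0 : F)) (f := fun _ => 1)
        (g := fun σ => D ρ ψ [(7, σ), (6, a), (8, 0), (9, 0), (10, 0), (11, 0)])
        fun σ hσ => hall σ (Finset.ne_of_mem_erase hσ)
      rw [Finset.sum_const, Finset.card_erase_of_mem (Finset.mem_univ _), Finset.card_univ, smul_eq_mul,
        mul_one] at h1
      have h2 := h1.trans (Finset.sum_le_sum_of_subset (Finset.erase_subset _ _))
      rw [hsp] at h2
      omega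
    have hsix : ∀ τ : F, τ ≠ 0 → D ρ ψ [(6, 0), (7, τ), (8, 0), (9, 0), (10, 0), (11, 0)] = 1 := by
      intro τ hτ
      rw [← hone τ hτ, ← split (ρ := ρ) hψ 6 [(7, τ), (8, 0), (9, 0), (10, 0), (11, 0)] fun t v hv =>
        mem_WT.2 fun p hp u => ?_]
      · rw [Finset.sum_eq_single (0 : F) (fun a _ ha => hzero τ a hτ ha) (by simp)]
      have h := mem_WT.1 hv
      have h7 := h (7, τ) (by simp)
      have h8 := h (8, 0) (by simp)
      have h9 := h (9, 0) (by simp)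
      have h10 := h (10, 0) (by simp)
      have h11 := h (11, 0) (by simp)
      simp only [List.mem_cons, List.not_mem_nil, or_false] at hp
      rcases hp with rfl | rfl | rfl | rfl | rfl
      · simp [moveX (c6_7 t u), map_mul, h7, h8, h9, h10, h11]
      · simp [moveX (conj_nil (r := 6) (s := 8) (by decide +kernel) t u), h8]
      · simp [moveX (conj_nil (r := 6) (s := 9) (by decide +kernel) t u), h9]
      · simp [moveX (c6_10 t u), map_mul, h10, h11]
      · simp [moveX (conj_nil (r := 6) (s := 11) (by decide +kernel) t u), h11]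
    have hsum : ∑ τ, D ρ ψ [(7, τ), (6, 0), (8, 0), (9, 0), (10, 0), (11, 0)] = f := by
      refine split (ρ := ρ) hψ 7 [(6, 0), (8, 0), (9, 0), (10, 0), (11, 0)] fun t v hv =>
        mem_WT.2 fun p hp u => ?_
      have h := mem_WT.1 hv
      have h6 := h (6, 0) (by simp)
      have h8 := h (8, 0) (by simp)
      have h9 := h (9, 0) (by simp)
      have h10 := h (10, 0) (by simp)
      have h11 := h (11, 0) (by simp)
      simp only [List.mem_cons, List.not_mem_nil, or_false] at hp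
      rcases hp with rfl | rfl | rfl | rfl | rfl
      · simp [moveX (c7_6 t u), map_mul, h6, h8, h9, h10, h11]
      · simp [moveX (c7_8 t u), map_mul, h3, X_zero, h8, h9]
      · simp [moveX (c7_9 t u), h3, X_zero, h9]
      · simp [moveX (c7_10 t u), h10]
      · simp [moveX (c7_11 t u), h11]
    rw [← hsum, sum_erase_const h3 hψ (c := 1) fun τ hτ => by
      rw [D_congr (S' := [(6, 0), (7, τ), (8, 0), (9, 0), (10, 0), (11, 0)]) (by simp) (by simp)]
      exact hsix τ hτ]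
    omega
  apply hlt
  rw [hd, hR, hNq, hE1, mul_one]
  omega

end Cfsg.Agent.MinDegree.G2
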