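import Cfsg.Agent.Lib.MinDegree.G2TameFinal
import Cfsg.Agent.Lib.MinDegree.G2Wild

/-!
The minimal degree of a nonlinear irreducible complex representation of `G₂(q)`.
-/

set_option autoImplicit false
set_option linter.unusedSectionVars false

namespace Cfsg.Agent.MinDegree.G2

open Module

theorem wild_arith {q d : ℕ} (hq : 9 ≤ q) (hlo : q ^ 4 + q ^ 2 - 2 ≤ d) (hhi : d < q ^ 4 + q ^ 2 + 1)
    (hdvd : d ∣ q ^ 6 * (q ^ 2 - 1) * (q ^ 6 - 1)) : False := by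
  set x := q ^ 2 with hx
  have h81 : 81 ≤ x := by rw [hx]; nlinarith
  have h4 : q ^ 4 = x ^ 2 := by rw [hx]; ring
  have h6 : q ^ 6 = x ^ 3 := by rw [hx]; ring
  rw [h4] at hlo hhi
  rw [h6] at hdvd
  have h1 : 1 ≤ x ^ 3 := Nat.one_le_pow _ _ (by omega)
  have hd := Int.natCast_dvd_natCast.2 hdvd
  push_cast [h1, show 1 ≤ x by omega] at hd
  have hx2 : x ≤ x ^ 2 := by nlinarith
  have hxz : (81 : ℤ) ≤ x := by exact_mod_cast h81
  rcases (show d + 2 = x ^ 2 + x ∨ d + 1 = x ^ 2 + x ∨ d = x ^ 2 + x by omega) with h | h | h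
  · have hd' : (d : ℤ) = ((x : ℤ) + 2) * ((x : ℤ) - 1) := by
      have : (d : ℤ) + 2 = (x : ℤ) ^ 2 + x := by exact_mod_cast h
      linarith
    rw [hd', show (x : ℤ) ^ 3 * ((x : ℤ) - 1) * ((x : ℤ) ^ 3 - 1) =
      ((x : ℤ) ^ 3 * ((x : ℤ) ^ 3 - 1)) * ((x : ℤ) - 1) by ring] at hd
    have h2 := (mul_dvd_mul_iff_right (show (x : ℤ) - 1 ≠ 0 by omega)).1 hd
    rw [show (x : ℤ) ^ 3 * ((x : ℤ) ^ 3 - 1) = ((x : ℤ) + 2) *
        ((x : ℤ) ^ 5 - 2 * (x : ℤ) ^ 4 + 4 * (x : ℤ) ^ 3 - 9 * (x : ℤ) ^ 2 + 18 * x - 36) + 72 by ring,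
      dvd_add_right (dvd_mul_right _ _)] at h2
    have := Int.le_of_dvd (by norm_num) h2
    omega
  · have hd' : (d : ℤ) = (x : ℤ) ^ 2 + x - 1 := by
      have : (d : ℤ) + 1 = (x : ℤ) ^ 2 + x := by exact_mod_cast h
      linarith
    rw [hd', show (x : ℤ) ^ 3 * ((x : ℤ) - 1) * ((x : ℤ) ^ 3 - 1) = ((x : ℤ) ^ 2 + x - 1) *
        ((x : ℤ) ^ 5 - 2 * (x : ℤ) ^ 4 + 3 * (x : ℤ) ^ 3 - 6 * (x : ℤ) ^ 2 + 10 * x - 16) +
          (26 * (x : ℤ) - 16) by ring, dvd_add_right (dvd_mul_right _ _)] at hd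
    have := Int.le_of_dvd (by omega) hd
    nlinarith
  · have hd' : (d : ℤ) = (x : ℤ) * ((x : ℤ) + 1) := by
      have : (d : ℤ) = (x : ℤ) ^ 2 + x := by exact_mod_cast h
      linarith
    rw [hd', show (x : ℤ) ^ 3 * ((x : ℤ) - 1) * ((x : ℤ) ^ 3 - 1) =
      (x : ℤ) * ((x : ℤ) ^ 2 * ((x : ℤ) - 1) * ((x : ℤ) ^ 3 - 1)) by ring] at hd
    have h2 := (mul_dvd_mul_iff_left (show (x : ℤ) ≠ 0 by omega)).1 hd
    rw [show (x : ℤ) ^ 2 * ((x : ℤ) - 1) * ((x : ℤ) ^ 3 - 1) = ((x : ℤ) + 1) *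
        ((x : ℤ) ^ 5 - 2 * (x : ℤ) ^ 4 + 2 * (x : ℤ) ^ 3 - 3 * (x : ℤ) ^ 2 + 4 * x - 4) + 4 by ring,
      dvd_add_right (dvd_mul_right _ _)] at h2
    have := Int.le_of_dvd (by norm_num) h2
    omega

variable {F : Type*} [Field F] [Fintype F]

theorem three_eq_zero_iff : (3 : F) = 0 ↔ Fintype.card F % 3 = 0 := by
  obtain ⟨n, hp, hn⟩ := FiniteField.card F (ringChar F)
  have h3 : Nat.Prime 3 := by norm_num
  constructor
  · intro h
    have hd : ringChar F ∣ 3 := (ringChar.spec F 3).1 (by exact_mod_cast h)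
    have he : ringChar F = 3 := ((Nat.prime_dvd_prime_iff_eq hp h3).1 hd)
    rw [hn, he]
    exact Nat.mod_eq_zero_of_dvd (dvd_pow_self 3 n.ne_zero)
  · intro h
    have hd : 3 ∣ ringChar F ^ (n : ℕ) := hn ▸ Nat.dvd_of_mod_eq_zero h
    have he : ringChar F = 3 := ((Nat.prime_dvd_prime_iff_eq h3 hp).1 (h3.dvd_of_dvd_pow hd)).symm
    have h0 : ((ringChar F : ℕ) : F) = 0 := ringChar.Nat.cast_ringChar
    rw [he] at h0
    exact_mod_cast h0

theorem exists_cube_root (h : Fintype.card F % 3 = 1) : ∃ ω : F, ω ^ 3 = 1 ∧ ω ≠ 1 := by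
  classical
  have hd : 3 ∣ Fintype.card Fˣ := by rw [Fintype.card_units]; omega
  obtain ⟨u, hu⟩ := exists_prime_orderOf_dvd_card 3 (hp := ⟨by norm_num⟩) hd
  refine ⟨u, ?_, fun e => ?_⟩
  · rw [← Units.val_pow_eq_pow_val, ← hu, pow_orderOf_eq_one, Units.val_one]
  · rw [Units.val_eq_one.1 e, orderOf_one] at hu
    norm_num at hu

theorem exists_primitive : ∃ ψ : AddChar F ℂ, ψ.IsPrimitive := by
  have : Nontrivial (AddChar F ℂ) := Fintype.one_lt_card_iff_nontrivial.1 (by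
    rw [AddChar.card_eq]; exact Fintype.one_lt_card)
  obtain ⟨ψ, hψ⟩ := exists_ne (1 : AddChar F ℂ)
  exact ⟨ψ, AddChar.IsPrimitive.of_ne_one hψ⟩

/-- The bounds. -/
theorem min_degree {W : Type*} [AddCommGroup W] [Module ℂ W] [FiniteDimensional ℂ W]
    (ρ : Representation ℂ (Grp F) W) (hirr : ρ.IsIrreducible) (hne : ∃ g, ρ g ≠ 1) :
    (Fintype.card F % 3 = 1 → 4 < Fintype.card F → Fintype.card F ^ 3 + 1 ≤ finrank ℂ W) ∧
    (Fintype.card F % 3 = 2 → 2 < Fintype.card F → Fintype.card F ^ 3 - 1 ≤ finrank ℂ W) ∧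
    (Fintype.card F % 3 = 0 → 3 < Fintype.card F →
      Fintype.card F ^ 4 + Fintype.card F ^ 2 + 1 ≤ finrank ℂ W) := by
  obtain ⟨ψ, hψ⟩ := exists_primitive (F := F)
  refine ⟨fun h hq => ?_, fun h hq => ?_, fun h hq => ?_⟩
  · have h3 : (3 : F) ≠ 0 := mt three_eq_zero_iff.1 (by omega)
    obtain ⟨ω, hω, hω1⟩ := exists_cube_root h
    exact degree_gt_cube hψ h3 hω hω1 hne (by omega) hirr
  · have h3 : (3 : F) ≠ 0 := mt three_eq_zero_iff.1 (by omega)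
    exact degree_ge hψ h3 hne (by omega)
  · have h9 : 9 ≤ Fintype.card F := by
      obtain ⟨n, hp, hn⟩ := FiniteField.card F (ringChar F)
      have hd : 3 ∣ ringChar F ^ (n : ℕ) := hn ▸ Nat.dvd_of_mod_eq_zero h
      have he : ringChar F = 3 :=
        ((Nat.prime_dvd_prime_iff_eq (by norm_num) hp).1 ((by norm_num : Nat.Prime 3).dvd_of_dvd_pow hd)).symm
      rw [he] at hn
      rw [hn] at hq ⊢
      rcases (show (n : ℕ) = 1 ∨ 2 ≤ (n : ℕ) by have := n.pos; omega) with e | e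
      · rw [e] at hq; norm_num at hq
      · exact (show 9 = 3 ^ 2 by norm_num).le.trans (Nat.pow_le_pow_right (by norm_num) e)
    have hlo := wild_bound (three_eq_zero_iff.2 h) hψ h9 hne
    by_contra hlt
    have : Finite (Grp F) := Subtype.finite
    haveI := hirr
    have hdvd := CharInt.finrank_dvd_natCard (ρ := ρ)
    rw [card_grp] at hdvd
    exact wild_arith h9 hlo (by omega) hdvd

end Cfsg.Agent.MinDegree.G2
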