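import Cfsg.Agent.Lib.MinDegree.G2TameBound
import Cfsg.Agent.Lib.MinDegree.G2Avg

/-!
For `q ≡ 1 (mod 3)` a representation of degree `q³ - 1` does not exist: the element `h₇(ω)` centralising
`SL₃` would act by a scalar on too large a subspace.
-/

set_option autoImplicit false
set_option linter.unusedSectionVars false

namespace Cfsg.Agent.MinDegree.G2

open Module

variable {F : Type*} [Field F] [Fintype F] {W : Type*} [AddCommGroup W] [Module ℂ W] [FiniteDimensional ℂ W]
  {ρ : Representation ℂ (Grp F) W} {ψ : AddChar F ℂ}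

instance : Finite (Grp F) := Subtype.finite

theorem hh_fix {ω : F} (hω : ω ^ 3 = 1) {s : ℕ} (hs : s = 0 ∨ s = 5 ∨ s = 6 ∨ s = 10 ∨ s = 11) (u : F) :
    (hh ω 1)⁻¹ * X s u * hh ω 1 = X s u := by
  have hω0 : ω ≠ 0 := by rintro rfl; norm_num at hω
  obtain ⟨e5, e6, -, -, -, e10, e11, e0, -⟩ := chi_val ω (1 : F)
  have hlt : s < 12 := by rcases hs with rfl | rfl | rfl | rfl | rfl <;> norm_num
  have hc : chi ω 1 s = 1 := by
    rcases hs with rfl | rfl | rfl | rfl | rfl <;> simp [e5, e6, e10, e11, e0, hω]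
  have h := hh_conj hω0 (one_ne_zero (α := F)) hlt u
  rw [hc, one_mul] at h
  nth_rw 1 [← h]
  group

/-- The radical of the parabolic of `SL₃`. -/
noncomputable def U3 (F : Type*) [Field F] : Subgroup (Grp F) :=
  Subgroup.closure (Set.range (X 6) ∪ Set.range (X 11))

theorem X6_mem (t : F) : X 6 t ∈ U3 F := Subgroup.subset_closure (Or.inl ⟨t, rfl⟩)

theorem X11_mem (t : F) : X 11 t ∈ U3 F := Subgroup.subset_closure (Or.inr ⟨t, rfl⟩)

theorem conj_U3 {g : Grp F} (h6 : ∀ u, g * X 6 u * g⁻¹ ∈ U3 F) (h11 : ∀ u, g * X 11 u * g⁻¹ ∈ U3 F) :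
    ∀ u ∈ U3 F, g * u * g⁻¹ ∈ U3 F := by
  intro u hu
  refine (Subgroup.closure_le ((U3 F).comap (MulAut.conj g).toMonoidHom)).2 ?_ hu
  rintro _ (⟨t, rfl⟩ | ⟨t, rfl⟩)
  exacts [h6 t, h11 t]

theorem mem_nA {r : ℕ} (hr : r = 1 ∨ r = 10) (t : F) :
    (∀ u ∈ U3 F, X r t * u * (X r t)⁻¹ ∈ U3 F) ∧ ∀ u ∈ U3 F, (X r t)⁻¹ * u * X r t ∈ U3 F := by
  have key : ∀ t : F, ∀ u ∈ U3 F, X r (-t) * u * (X r (-t))⁻¹ ∈ U3 F := by
    intro t
    have e : (X r (-t))⁻¹ = (X r t : Grp F) := by rw [X_inv, neg_neg]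
    refine conj_U3 (fun u => ?_) (fun u => ?_) <;> rw [e] <;> rcases hr with rfl | rfl
    · rw [conj_nil (r := 1) (s := 6) (by decide +kernel) t u]; exact X6_mem u
    · rw [c10_6]; exact Subgroup.mul_mem _ (X6_mem u) (X11_mem _)
    · rw [c1_11]; exact Subgroup.mul_mem _ (X11_mem u) (X6_mem _)
    · rw [conj_nil (r := 10) (s := 11) (by decide +kernel) t u]; exact X11_mem u
  refine ⟨fun u hu => ?_, fun u hu => ?_⟩
  · simpa using key (-t) u hu
  · have := key t u hu
    rwa [← X_inv, inv_inv] at this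

theorem avg_A {r : ℕ} (hr : r = 1 ∨ r = 10) (t : F) (v : W) :
    avg ρ (U3 F) (ρ (X r t) v) = ρ (X r t) (avg ρ (U3 F) v) :=
  avg_comm (mem_nA hr t).1 (mem_nA hr t).2 v

variable (hψ : ψ.IsPrimitive)
include hψ

theorem no_fixed (h3 : (3 : F) ≠ 0) {ω : F} (hω : ω ^ 3 = 1) (hω1 : ω ≠ 1) (hne : ∃ g, ρ g ≠ 1)
    (hq : 5 ≤ Fintype.card F) (hd : finrank ℂ W ≤ Fintype.card F ^ 3) :
    T ρ ψ (0, 0, 0, 0) ≠ 0 := by
  classical
  intro hT0
  obtain ⟨hdim, -, hout, hone⟩ := tame_structure hψ h3 hne hq hd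
  rw [hT0, add_zero] at hdim
  obtain ⟨he, heq⟩ := mult_pos hψ h3 (two_elts hq) hne (ρ := ρ)
  have hω0 : ω ≠ 0 := by rintro rfl; norm_num at hω
  set q := Fintype.card F with hqdef
  set h0 : Grp F := hh ω 1 with hh0
  set σ := WT ρ ψ [(6, 0), (11, (0 : F))] with hσdef
  have memσ : ∀ {v : W}, v ∈ σ ↔ (∀ t, ρ (X 6 t) v = v) ∧ ∀ t, ρ (X 11 t) v = v := by
    intro v
    simp [σ, mem_WT]
  -- the lines of the weight spaces
  have hline : ∀ a : F, D ρ ψ [(10, a), (6, 0), (11, 0)] = if a = 0 then 0 else 1 := by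
    intro a
    have h10 : ∀ α β : F, T ρ ψ (0, α, β, a) = if α = 0 ∧ β = 0 ∧ a ≠ 0 then 1 else 0 := by
      intro α β
      split_ifs with hc
      · obtain ⟨rfl, rfl, ha⟩ := hc
        refine hone _ (mem_cubes.2 ⟨(some 0, Units.mk0 a ha), ?_⟩)
        simp [cube, shift7]
      · by_cases hp : ((0 : F), α, β, a) = (0, 0, 0, 0)
        · rw [hp, hT0]
        refine hout _ hp fun hC => hc ?_
        obtain ⟨⟨x, b⟩, hx⟩ := mem_cubes.1 hC
        cases x with
        | none => simp [cube] at hx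
        | some t =>
          simp only [cube, shift7, Option.elim_some, Prod.mk.injEq] at hx
          obtain ⟨e6, e8, e9, e10⟩ := hx
          have ht : t = 0 := by
            have : t ^ 3 * (b : F) = 0 := by linear_combination -e6
            exact eq_zero_of_pow_eq_zero ((mul_eq_zero.1 this).resolve_right b.ne_zero)
          subst ht
          exact ⟨by rw [← e8]; ring, by rw [← e9]; ring, e10 ▸ b.ne_zero⟩
    have h9 : ∑ β, D ρ ψ [(9, β), (10, a), (6, 0), (11, 0)] = D ρ ψ [(10, a), (6, 0), (11, (0 : F))] :=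
      split hψ 9 _ fun t v => pres_nil (by simp only [List.map_cons, List.map_nil]; decide +kernel) t
    have h8 : ∀ β, ∑ α, D ρ ψ [(8, α), (9, β), (10, a), (6, 0), (11, 0)] =
        D ρ ψ [(9, β), (10, a), (6, 0), (11, (0 : F))] := by
      intro β
      refine split (ρ := ρ) hψ 8 [(9, β), (10, a), (6, 0), (11, 0)] fun t v hv => mem_WT.2 fun p hp u => ?_
      have h := mem_WT.1 hv
      simp only [List.forall_mem_cons, List.not_mem_nil, IsEmpty.forall_iff, implies_true, and_true] at h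
      obtain ⟨h9', h10', h6', h11'⟩ := h
      simp only [List.mem_cons, List.not_mem_nil, or_false] at hp
      rcases hp with rfl | rfl | rfl | rfl
      · simp only [moveX (c8_9 t u), map_mul, Module.End.mul_apply, map_smul, h9', h11', zero_mul,
          AddChar.map_zero_eq_one, one_smul]
      · simp only [moveX (conj_nil (r := 8) (s := 10) (by decide +kernel) t u), map_smul, h10']
      · simp only [moveX (conj_nil (r := 8) (s := 6) (by decide +kernel) t u), map_smul, h6']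
      · simp only [moveX (conj_nil (r := 8) (s := 11) (by decide +kernel) t u), map_smul, h11']
    rw [← h9, Finset.sum_congr rfl fun β _ => (h8 β).symm,
      Finset.sum_congr rfl fun β _ => Finset.sum_congr rfl fun α _ =>
        show D ρ ψ [(8, α), (9, β), (10, a), (6, 0), (11, 0)] = T ρ ψ (0, α, β, a) from
          D_congr (by simp) (by simp)]
    simp only [h10]
    rw [Finset.sum_eq_single 0 (fun β _ hβ => Finset.sum_eq_zero fun α _ => if_neg fun h => hβ h.2.1)
      (by simp), Finset.sum_eq_single 0 (fun α _ hα => if_neg fun h => hα h.1) (by simp)]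
    simp [ite_not]
  have pres10 : ∀ t, ∀ v ∈ σ, ρ (X 10 t) v ∈ σ := by
    intro t v hv
    rw [memσ] at hv ⊢
    refine ⟨fun u => ?_, fun u => ?_⟩
    · rw [moveX (c10_6 t u), map_mul, Module.End.mul_apply, hv.2, hv.1]
    · rw [moveX (conj_nil (r := 10) (s := 11) (by decide +kernel) t u), hv.2]
  have pres1 : ∀ t, ∀ v ∈ σ, ρ (X 1 t) v ∈ σ := by
    intro t v hv
    rw [memσ] at hv ⊢
    refine ⟨fun u => ?_, fun u => ?_⟩
    · rw [moveX (conj_nil (r := 1) (s := 6) (by decide +kernel) t u), hv.1]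
    · rw [moveX (c1_11 t u), map_mul, Module.End.mul_apply, hv.1, hv.2]
  have hσcard : finrank ℂ σ = q - 1 := by
    rw [← show ∑ a, D ρ ψ [(10, a), (6, 0), (11, 0)] = finrank ℂ σ from split hψ 10 _ pres10,
      Finset.sum_congr rfl fun a _ => hline a, ← Finset.add_sum_erase _ _ (Finset.mem_univ (0 : F)),
      if_pos rfl, zero_add, Finset.sum_congr rfl fun a ha => if_neg (Finset.ne_of_mem_erase ha)]
    simp [Finset.card_erase_of_mem, q]
  -- every vector of `σ` is a sum of weight vectors with nonzero weight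
  have hdec : ∀ P : Submodule ℂ W, (∀ a : F, a ≠ 0 → ∀ v ∈ WT ρ ψ [(10, a), (6, 0), (11, 0)], v ∈ P) →
      σ ≤ P := by
    intro P hP v hv
    rw [← sum_eigenProj (isOp ρ 10) v]
    refine Submodule.sum_mem _ fun χ _ => ?_
    obtain ⟨a, rfl⟩ := (shift_bij hψ).2 χ
    have hmem : eigenProj (op ρ 10) (AddChar.mulShift ψ a) v ∈ WT ρ ψ [(10, a), (6, 0), (11, 0)] :=
      ⟨eigenProj_apply_mem (isOp ρ 10) _ v, Submodule.smul_mem _ _ (proj_mem pres10 _ hv)⟩
    by_cases ha : a = 0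
    · have hbot : WT ρ ψ [(10, a), (6, 0), (11, 0)] = ⊥ :=
        Submodule.finrank_eq_zero.1 (by show D ρ ψ _ = 0; rw [hline a, if_pos ha])
      rw [hbot, Submodule.mem_bot] at hmem
      rw [hmem]
      exact Submodule.zero_mem _
    · exact hP a ha _ hmem
  -- the projection kills the translate by the reflection
  have hkill : ∀ r ∈ σ, avg ρ (U3 F) (ρ (nn 1) r) = 0 := by
    intro r hr
    have := hdec (LinearMap.ker ((avg ρ (U3 F)) ∘ₗ ρ (nn 1))) (fun a ha v hv => ?_) hr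
    · simpa using this
    obtain ⟨t, ht⟩ := exists_ne_one hψ ha
    obtain ⟨e, he', hc⟩ := nn_conj (F := F) (i := 1) (by norm_num)
    obtain ⟨-, -, -, -, -, -, -, -, r10, -, -⟩ := refl_val
    have h1 : avg ρ (U3 F) (ρ (nn 1) (ρ (X 10 t) v)) = avg ρ (U3 F) (ρ (nn 1) v) := by
      rw [← Module.End.mul_apply (ρ (nn 1)), ← map_mul ρ,
        show nn 1 * X 10 t = X 11 (e 10 * t) * nn (F := F) 1 by
          rw [← r10, ← hc 10 (by norm_num) t]; group, map_mul, Module.End.mul_apply, avg_rho (X11_mem _)]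
    rw [show ρ (X 10 t) v = ψ (a * t) • v from mem_WT.1 hv (10, a) (by simp) t, map_smul, map_smul] at h1
    simp only [LinearMap.mem_ker, LinearMap.comp_apply]
    by_contra hne'
    exact ht (smul_left_injective ℂ hne' (h1.trans (one_smul ℂ _).symm))
  -- big cell elements
  have hkillg : ∀ a c : F, (a ≠ 0 ∨ c ≠ 0) → ∀ r ∈ σ, avg ρ (U3 F) (ρ (X 5 a * X 0 c) r) = 0 := by
    have hX5 : ∀ a : F, a ≠ 0 → ∀ r ∈ σ, avg ρ (U3 F) (ρ (X 5 a) r) = 0 := by
      intro a ha r hr
      -- the identity in the copy of SL₂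
      have hn6 : X 6 (-(-a⁻¹)) * (⟨_, good.nG_mem_group 6 (-a⁻¹)⟩ : Grp F) * X 6 (-(-a⁻¹)) = X 5 a := by
        have e : (⟨_, good.nG_mem_group 6 (-a⁻¹)⟩ : Grp F) = X 6 (-a⁻¹) * X 5 a * X 6 (-a⁻¹) := by
          apply Subtype.ext
          simp only [Subgroup.coe_mul, X, Cfsg.Agent.Chev.nG_eq,
            show Cfsg.Lie.chevG2.neg 6 = 5 by decide +kernel, neg_inv, inv_inv, neg_neg]
        rw [e, ← mul_assoc, ← mul_assoc, X_cancel, one_mul, mul_assoc, X_add, add_neg_cancel, X_zero,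
          mul_one]
      obtain ⟨t0, ht0, hsplit⟩ : ∃ t0 : F, t0 ≠ 0 ∧
          (⟨_, good.nG_mem_group 6 (-a⁻¹)⟩ : Grp F) = hh 1 t0 * nn 1 := by
        refine ⟨-a⁻¹, by simpa using ha, Subtype.ext ?_⟩
        simp only [Subgroup.coe_mul, hh, nn, G2OddInvol.simple_val.2]
        rw [show Cfsg.Agent.Chev.hG Cfsg.Lie.chevG2 F 7 1 = 1 by
          have h := good.hG_mul (F := F) (r := 7) (lt12 (by norm_num)) one_ne_zero one_ne_zero
          rw [mul_one] at h; exact mul_eq_left.1 h, one_mul]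
        have h := Cfsg.Agent.Chev.BNSetup.ne'_eq_he_mul good (lt12 (show 6 < 12 by norm_num)) (-a⁻¹ : F)
        have conv1 : ∀ x : F, Cfsg.Agent.Chev.BNSetup.ne' good 6 x =
            Cfsg.Agent.Chev.nG Cfsg.Lie.chevG2 F 6 x := fun x => Units.ext (by
          rw [Cfsg.Agent.Chev.BNSetup.coe_ne', good.coe_nG])
        have conv2 : Cfsg.Agent.Chev.BNSetup.he good 6 (-a⁻¹ : F) =
            Cfsg.Agent.Chev.hG Cfsg.Lie.chevG2 F 6 (-a⁻¹) := Units.ext (by
          rw [Cfsg.Agent.Chev.BNSetup.coe_he, good.coe_hG])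
        rw [conv1, conv1, conv2] at h
        exact h
      have hnorm : ∀ u ∈ U3 F, hh 1 t0 * u * (hh 1 t0)⁻¹ ∈ U3 F :=
        conj_U3 (fun u => by rw [hh_conj one_ne_zero ht0 (by norm_num)]; exact X6_mem _)
          (fun u => by rw [hh_conj one_ne_zero ht0 (by norm_num)]; exact X11_mem _)
      have hinv : ∀ r < 12, ∀ v : F, (hh 1 t0)⁻¹ * X r v * (hh 1 t0)⁻¹⁻¹ = X r ((chi 1 t0 r)⁻¹ * v) := by
        intro r hr v
        have h := hh_conj one_ne_zero ht0 (s := r) hr ((chi 1 t0 r)⁻¹ * v)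
        rw [mul_inv_cancel_left₀ (chi_ne one_ne_zero ht0 _)] at h
        rw [← h]; group
      have hnorm' : ∀ u ∈ U3 F, (hh 1 t0)⁻¹ * u * hh 1 t0 ∈ U3 F := by
        intro u hu
        have := conj_U3 (g := (hh 1 t0)⁻¹) (fun v => by rw [hinv 6 (by norm_num)]; exact X6_mem _)
          (fun v => by rw [hinv 11 (by norm_num)]; exact X11_mem _) u hu
        simpa using this
      rw [← hn6, map_mul, map_mul, Module.End.mul_apply, Module.End.mul_apply, avg_rho (X6_mem _),
        (memσ.1 hr).1, hsplit, map_mul, Module.End.mul_apply, avg_comm hnorm hnorm', hkill r hr, map_zero]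
    have hgen : ∀ a c : F, a ≠ 0 → ∀ r ∈ σ, avg ρ (U3 F) (ρ (X 5 a * X 0 c) r) = 0 := by
      intro a c ha r hr
      have e := c1_5 (-c / a) a
      rw [show -(-c / a * a) = c by field_simp] at e
      rw [← e, map_mul, map_mul, Module.End.mul_apply, Module.End.mul_apply, avg_A (Or.inl rfl),
        hX5 a ha _ (pres1 _ r hr), map_zero]
    intro a c hac r hr
    by_cases ha : a = 0
    · subst ha
      have hc := hac.resolve_left (by simp)
      have e := c10_0 (1 : F) c
      have e' : X 10 (1 : F) * (X 0 c * X 5 (-(1 * c))) * X 10 (-1) = X 0 c := by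
        rw [← e, ← X_inv]; group
      rw [X_zero, one_mul, ← e', map_mul, map_mul, Module.End.mul_apply, Module.End.mul_apply,
        avg_A (Or.inr rfl), commute_nil (r := 0) (s := 5) (by decide +kernel),
        hgen _ c (by simpa using hc) _ (pres10 _ r hr), map_zero]
    · exact hgen a c ha r hr
  -- independence of the translates
  let Φ : ((F × F) → σ) →ₗ[ℂ] W :=
    ∑ i : F × F, (ρ (X 5 i.1 * X 0 i.2)) ∘ₗ σ.subtype ∘ₗ LinearMap.proj i
  have hΦ : ∀ f, Φ f = ∑ i : F × F, ρ (X 5 i.1 * X 0 i.2) (f i : W) := fun f => by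
    simp [Φ, LinearMap.sum_apply]
  have hΦinj : Function.Injective Φ := by
    rw [injective_iff_map_eq_zero]
    intro f hf
    funext j
    have hdiff : ∀ i : F × F, (X 5 j.1 * X 0 j.2)⁻¹ * (X 5 i.1 * X 0 i.2) =
        X 5 (i.1 - j.1) * X 0 (i.2 - j.2) := fun i => by
      rw [mul_inv_rev, X_inv, X_inv, mul_assoc, ← mul_assoc (X 5 (-j.1)), X_add, ← mul_assoc,
        commute_nil (r := 0) (s := 5) (by decide +kernel), mul_assoc, X_add, neg_add_eq_sub, neg_add_eq_sub]
    have h := congrArg (fun w => avg ρ (U3 F) (ρ (X 5 j.1 * X 0 j.2)⁻¹ w)) hf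
    simp only [map_zero, hΦ, map_sum] at h
    simp only [← Module.End.mul_apply, ← map_mul, hdiff] at h
    simp only [Module.End.mul_apply] at h
    rw [Finset.sum_eq_single j (fun i _ hij => hkillg _ _ ?_ _ (f i).2) (by simp), sub_self, sub_self,
      X_zero, X_zero, one_mul, map_one, Module.End.one_apply, avg_of_fixed ?_] at h
    · exact Subtype.ext h
    · intro u hu
      refine Subgroup.closure_induction (p := fun u _ => ρ u (f j : W) = f j) ?_ (by simp) ?_ ?_ hu
      · rintro _ (⟨t, rfl⟩ | ⟨t, rfl⟩)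
        exacts [(memσ.1 (f j).2).1 t, (memσ.1 (f j).2).2 t]
      · intro a b _ _ ha hb; rw [map_mul, Module.End.mul_apply, hb, ha]
      · intro a _ ha
        conv_lhs => rw [← ha]
        rw [← Module.End.mul_apply, ← map_mul, inv_mul_cancel, map_one, Module.End.one_apply]
    · by_contra hc
      push Not at hc
      exact hij (Prod.ext (sub_eq_zero.1 hc.1) (sub_eq_zero.1 hc.2))
  -- the scalar
  obtain ⟨v1, hv1, hv10⟩ := Submodule.exists_mem_ne_zero_of_ne_bot
    (p := WT ρ ψ [(10, (1 : F)), (6, 0), (11, 0)]) (fun hb => by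
      have := hline 1
      rw [D, hb, finrank_bot] at this
      simp at this)
  have hhpres : ∀ S : List (ℕ × F), (∀ p ∈ S, p.1 = 0 ∨ p.1 = 5 ∨ p.1 = 6 ∨ p.1 = 10 ∨ p.1 = 11) →
      ∀ v ∈ WT ρ ψ S, ρ h0 v ∈ WT ρ ψ S := fun S hS v hv => mem_WT.2 fun p hp u => by
    rw [move (hh_fix hω (hS p hp) u), mem_WT.1 hv p hp u, map_smul]
  obtain ⟨x, hx⟩ : ∃ x : ℂ, ρ h0 v1 = x • v1 := by
    have hd1 : finrank ℂ (WT ρ ψ [(10, (1 : F)), (6, 0), (11, 0)]) = 1 := by
      have := hline 1; simpa [D] using this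
    obtain ⟨c, hc⟩ := (finrank_eq_one_iff_of_nonzero' (⟨v1, hv1⟩ : WT ρ ψ [(10, (1 : F)), (6, 0), (11, 0)])
      fun e => hv10 (congrArg Subtype.val e)).1 hd1 ⟨_, hhpres _ (by simp) v1 hv1⟩
    exact ⟨c, (congrArg Subtype.val hc).symm⟩
  have hx0 : x ≠ 0 := by
    rintro rfl
    rw [zero_smul] at hx
    exact hv10 (rho_inj h0 (hx.trans (map_zero _).symm))
  let Ex : Submodule ℂ W := LinearMap.ker (ρ h0 - x • LinearMap.id)
  have memE : ∀ {v}, v ∈ Ex ↔ ρ h0 v = x • v := by intro v; simp [Ex, sub_eq_zero]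
  have hσE : σ ≤ Ex := hdec Ex fun a ha v hv => by
    rw [memE]
    have hb : (a : F) ≠ 0 := ha
    obtain ⟨-, e6, -, -, -, e10, e11, -, -⟩ := chi_val (1 : F) a
    set g : Grp F := hh 1 a with hg
    have hmv : ρ g v1 ∈ WT ρ ψ [(10, a), (6, 0), (11, 0)] := mem_WT.2 fun p hp u => by
      have hlt : p.1 < 12 := by simp at hp; rcases hp with rfl | rfl | rfl <;> norm_num
      have e : g⁻¹ * X p.1 u * g = X p.1 ((chi 1 a p.1)⁻¹ * u) := by
        have h := hh_conj one_ne_zero hb hlt ((chi 1 a p.1)⁻¹ * u)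
        rw [mul_inv_cancel_left₀ (chi_ne one_ne_zero hb _)] at h
        rw [← h, hg]; group
      simp only [List.mem_cons, List.not_mem_nil, or_false] at hp
      rcases hp with rfl | rfl | rfl
      · rw [move e, mem_WT.1 hv1 (10, 1) (by simp), map_smul, e10]
        simp
      · rw [move e, mem_WT.1 hv1 (6, 0) (by simp), map_smul]
        simp
      · rw [move e, mem_WT.1 hv1 (11, 0) (by simp), map_smul]
        simp
    have hd1 : finrank ℂ (WT ρ ψ [(10, a), (6, 0), (11, 0)]) = 1 := by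
      have := hline a; rw [if_neg ha] at this; exact this
    obtain ⟨c, hc⟩ := (finrank_eq_one_iff_of_nonzero' (⟨_, hmv⟩ : WT ρ ψ [(10, a), (6, 0), (11, 0)])
      fun e => hv10 (rho_inj g ((congrArg Subtype.val e).trans (map_zero _).symm))).1 hd1 ⟨v, hv⟩
    have hc' : v = c • ρ g v1 := (congrArg Subtype.val hc).symm
    have hcomm : h0 * g = g * h0 := by
      apply Subtype.ext
      show (G2OddInvol.hh ω 1 : GL _ F) * G2OddInvol.hh 1 a = G2OddInvol.hh 1 a * G2OddInvol.hh ω 1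
      rw [G2OddInvol.hh_mul hω0 one_ne_zero one_ne_zero hb,
        G2OddInvol.hh_mul one_ne_zero hb hω0 one_ne_zero]
      simp
    rw [hc', map_smul, ← Module.End.mul_apply, ← map_mul, hcomm, map_mul, Module.End.mul_apply, hx,
      map_smul, smul_comm]
  have hΦE : LinearMap.range Φ ≤ Ex := by
    rintro _ ⟨f, rfl⟩
    rw [hΦ]
    refine Submodule.sum_mem _ fun i _ => memE.2 ?_
    have hcomm : h0 * (X 5 i.1 * X 0 i.2) = X 5 i.1 * X 0 i.2 * h0 := by
      have e5 := hh_fix hω (s := 5) (by simp) i.1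
      have e0 := hh_fix hω (s := 0) (by simp) i.2
      calc h0 * (X 5 i.1 * X 0 i.2)
          = h0 * ((h0⁻¹ * X 5 i.1 * h0) * (h0⁻¹ * X 0 i.2 * h0)) := by rw [e5, e0]
        _ = _ := by group
    rw [← Module.End.mul_apply, ← map_mul, hcomm, map_mul, Module.End.mul_apply, memE.1 (hσE (f i).2),
      map_smul]
  have hlow : q ^ 2 * (q - 1) ≤ finrank ℂ Ex := by
    refine le_trans (le_of_eq ?_) (Submodule.finrank_mono hΦE)
    rw [LinearMap.finrank_range_of_inj hΦinj, Module.finrank_pi_fintype, Finset.sum_const, hσcard,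
      Finset.card_univ, Fintype.card_prod, smul_eq_mul, sq]
  -- the other eigenvalues
  have hfixE : ∀ s, (s = 10 ∨ s = 11) → ∀ t : F, ∀ v ∈ Ex, ρ (X s t) v ∈ Ex := by
    intro s hs t v hv
    rw [memE] at hv ⊢
    rw [move (c' := h0) (show (X s t)⁻¹ * h0 * X s t = h0 by
      have e := hh_fix hω (s := s) (by rcases hs with rfl | rfl <;> simp) t
      rw [mul_assoc, inv_mul_eq_iff_eq_mul] at e
      rw [mul_assoc, ← e, inv_mul_cancel_left]), hv, map_smul]
  have hpiece : ∀ γ s : F, finrank ℂ (eigen (op ρ 10) (AddChar.mulShift ψ γ) ⊓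
      (eigen (op ρ 11) (AddChar.mulShift ψ s) ⊓ Ex) : Submodule ℂ W) + (if s = 0 then 0 else 2) ≤
        D ρ ψ [(10, γ), (11, s)] := by
    intro γ s
    have hle : eigen (op ρ 10) (AddChar.mulShift ψ γ) ⊓ (eigen (op ρ 11) (AddChar.mulShift ψ s) ⊓ Ex) ≤
        WT ρ ψ [(10, γ), (11, s)] := fun v hv => ⟨hv.1, hv.2.1, trivial⟩
    by_cases hs : s = 0
    · rw [if_pos hs, add_zero]; exact Submodule.finrank_mono hle
    rw [if_neg hs]
    have hpos : 0 < D ρ ψ [(9, (1 : F)), (10, γ), (11, s)] := by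
      rw [D_Z_const h3 hs]
      refine lt_of_lt_of_le he (le_of_eq ?_)
      rw [← D_torus (ρ := ρ) (ψ := ψ) one_ne_zero hs (S := [(9, (0 : F)), (10, 0), (11, 1)]) (by simp)]
      obtain ⟨-, -, -, -, -, -, e11, -, -⟩ := chi_val (1 : F) s
      simp [e11]
    obtain ⟨v, hv, hv0⟩ := Submodule.exists_mem_ne_zero_of_ne_bot
      (p := WT ρ ψ [(9, (1 : F)), (10, γ), (11, s)]) (fun hb => by unfold D at hpos; rw [hb, finrank_bot] at hpos; exact lt_irrefl 0 hpos)
    have hstep : ∀ (b : F) (w : W), w ∈ WT ρ ψ [(9, b), (10, γ), (11, s)] →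
        ρ h0 w ∈ WT ρ ψ [(9, ω⁻¹ * b), (10, γ), (11, s)] := by
      intro b w hw
      refine mem_WT.2 fun p hp u => ?_
      simp only [List.mem_cons, List.not_mem_nil, or_false] at hp
      rcases hp with rfl | rfl | rfl
      · have e : h0⁻¹ * X 9 u * h0 = X 9 (ω⁻¹ * u) := by
          have h := hh_conj hω0 (one_ne_zero (α := F)) (s := 9) (by norm_num) (ω⁻¹ * u)
          rw [(chi_val ω (1 : F)).2.2.2.2.1, mul_inv_cancel_left₀ hω0] at h
          rw [← h, hh0]; group
        rw [move e, mem_WT.1 hw (9, b) (by simp), map_smul]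
        congr 2; ring
      · rw [move (hh_fix hω (by simp) u), mem_WT.1 hw (10, γ) (by simp), map_smul]
      · rw [move (hh_fix hω (by simp) u), mem_WT.1 hw (11, s) (by simp), map_smul]
    have hv1' := hstep 1 v hv
    have hv2' := hstep _ _ hv1'
    have hdist : ω⁻¹ * 1 ≠ (1 : F) ∧ ω⁻¹ * (ω⁻¹ * 1) ≠ (1 : F) ∧ ω⁻¹ * (ω⁻¹ * 1) ≠ ω⁻¹ * 1 := by
      refine ⟨by simpa using hω1, fun e => hω1 ?_, fun e => hω1 ?_⟩
      · have h2 : ω ^ 2 = 1 := by
          rw [mul_one, ← mul_inv, ← sq, inv_eq_one] at e; exact e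
        rw [pow_succ, h2, one_mul] at hω; exact hω
      · have := mul_left_cancel₀ (inv_ne_zero hω0) e
        simpa using this
    let P : AddChar F ℂ → W →ₗ[ℂ] W := eigenProj (op ρ 9)
    have hP : ∀ b b' w, w ∈ WT ρ ψ [(9, b), (10, γ), (11, s)] →
        P (AddChar.mulShift ψ b') w = if b = b' then w else 0 := by
      intro b b' w hw
      split_ifs with hb
      · exact eigenProj_of_mem (hb ▸ hw.1)
      · exact eigenProj_of_mem_ne hw.1 fun e => hb ((shift_bij hψ).1 e)
    let L : (Fin 2 → ℂ) →ₗ[ℂ] W :=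
      (LinearMap.proj 0).smulRight v + (LinearMap.proj 1).smulRight (ρ h0 v)
    have hL : ∀ c, L c = c 0 • v + c 1 • ρ h0 v := fun c => by simp [L]
    have hkey : ∀ c, L c ∈ Ex → c = 0 := by
      intro c hc
      rw [memE, hL, map_add, map_smul, map_smul] at hc
      have k2 := congrArg (P (AddChar.mulShift ψ (ω⁻¹ * (ω⁻¹ * 1)))) hc
      simp only [map_add, map_smul, hP _ _ _ hv, hP _ _ _ hv1', hP _ _ _ hv2', if_true,
        if_neg hdist.2.1.symm, if_neg hdist.2.2.symm, smul_zero, zero_add] at k2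
      have c1 : c 1 = 0 := (smul_eq_zero.1 k2).resolve_right fun h => hv0 (rho_inj h0 (rho_inj h0
        (h.trans (by simp))))
      have k0 := congrArg (P (AddChar.mulShift ψ 1)) hc
      simp only [c1, zero_smul, map_zero, add_zero, map_smul, hP _ _ _ hv, hP _ _ _ hv1',
        if_neg hdist.1, if_true, smul_zero] at k0
      have c0 : c 0 = 0 := by
        have := (smul_eq_zero.1 k0.symm).resolve_left hx0
        exact (smul_eq_zero.1 this).resolve_right hv0
      funext i; fin_cases i <;> simp [c0, c1]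
    have hLinj : Function.Injective L := by
      rw [injective_iff_map_eq_zero]
      exact fun c hc => hkey c (hc ▸ Submodule.zero_mem _)
    set M := eigen (op ρ 10) (AddChar.mulShift ψ γ) ⊓ (eigen (op ρ 11) (AddChar.mulShift ψ s) ⊓ Ex)
    have hdisj : M ⊓ LinearMap.range L = ⊥ := by
      rw [eq_bot_iff]
      rintro w ⟨hw, c, rfl⟩
      rw [hkey c hw.2.2, map_zero]
      exact Submodule.zero_mem _
    have hsup : M ⊔ LinearMap.range L ≤ WT ρ ψ [(10, γ), (11, s)] := by
      refine sup_le hle ?_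
      rintro _ ⟨c, rfl⟩
      rw [hL]
      exact Submodule.add_mem _ (Submodule.smul_mem _ _ (WT_mono (by simp) hv))
        (Submodule.smul_mem _ _ (WT_mono (by simp) hv1'))
    have h := Submodule.finrank_sup_add_finrank_inf_eq M (LinearMap.range L)
    rw [hdisj, finrank_bot, add_zero, LinearMap.finrank_range_of_inj hLinj, Module.finrank_fin_fun] at h
    exact h ▸ Submodule.finrank_mono hsup
  have hsplitE : ∀ s : F, ∑ γ : F, finrank ℂ (eigen (op ρ 10) (AddChar.mulShift ψ γ) ⊓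
      (eigen (op ρ 11) (AddChar.mulShift ψ s) ⊓ Ex) : Submodule ℂ W) =
      finrank ℂ (eigen (op ρ 11) (AddChar.mulShift ψ s) ⊓ Ex : Submodule ℂ W) := fun s => by
    refine split_sub hψ 10 _ fun t v hv => ⟨?_, hfixE 10 (Or.inl rfl) t v hv.2⟩
    refine mem_eigen.2 fun u => ?_
    show ρ (X 11 u) _ = _
    rw [moveX (conj_nil (r := 10) (s := 11) (by decide +kernel) t u),
      show ρ (X 11 u) v = _ from mem_eigen.1 hv.1 u, map_smul]
  have hEsum := split_sub hψ (ρ := ρ) 11 Ex (hfixE 11 (Or.inr rfl))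
  simp only [← hsplitE] at hEsum
  have hall := split_top (ρ := ρ) hψ 11
  simp only [← split10 hψ] at hall
  have hineq : finrank ℂ Ex + (q - 1) * q * 2 ≤ finrank ℂ W := by
    rw [← hEsum, ← hall]
    have : ∑ s : F, ∑ _γ : F, (if s = 0 then 0 else 2) = (q - 1) * q * 2 := by
      rw [← Finset.add_sum_erase _ _ (Finset.mem_univ (0 : F)),
        Finset.sum_congr rfl fun s hs => Finset.sum_congr rfl fun _ _ => if_neg (Finset.ne_of_mem_erase hs)]
      simp [q, Finset.card_erase_of_mem, mul_assoc]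
    rw [← this, ← Finset.sum_add_distrib]
    refine Finset.sum_le_sum fun s _ => ?_
    rw [← Finset.sum_add_distrib]
    exact Finset.sum_le_sum fun γ _ => hpiece γ s
  rw [hdim] at hineq
  obtain ⟨n, hn⟩ : ∃ n, q = n + 5 := ⟨q - 5, by omega⟩
  rw [hn, show n + 5 - 1 = n + 4 by omega] at hlow hineq
  have hp : (n + 5) ^ 3 = (n + 5) ^ 2 * (n + 4) + (n + 5) ^ 2 := by ring
  have : (n + 5) ^ 2 < (n + 4) * (n + 5) * 2 := by nlinarith
  omega

end Cfsg.Agent.MinDegree.G2
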