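import Cfsg.Agent.Lib.MinDegree.G2Weights

/-!
Weights of the radical of the long-root parabolic in a representation of `G₂(q)`, characteristic not 3.
-/

set_option autoImplicit false
set_option linter.unusedSectionVars false

namespace Cfsg.Agent.MinDegree.G2

open Module

variable {F : Type*} [Field F] [Fintype F] {W : Type*} [AddCommGroup W] [Module ℂ W] [FiniteDimensional ℂ W]
  (ρ : Representation ℂ (Grp F) W) (ψ : AddChar F ℂ)

/-- The weights of the radical on the vectors fixed by its centre. -/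
noncomputable def T (p : F × F × F × F) : ℕ :=
  D ρ ψ [(6, p.1), (8, p.2.1), (9, p.2.2.1), (10, p.2.2.2), (11, 0)]

/-- The action of `X₇` on the weights. -/
def shift7 (t : F) (p : F × F × F × F) : F × F × F × F :=
  (p.1 + t * p.2.1 + t ^ 2 * p.2.2.1 - t ^ 3 * p.2.2.2, p.2.1 + 2 * t * p.2.2.1 - 3 * t ^ 2 * p.2.2.2,
    p.2.2.1 - 3 * t * p.2.2.2, p.2.2.2)

variable {ρ ψ}

theorem mem5 {p : F × F × F × F} {v : W}
    (hv : v ∈ WT ρ ψ [(6, p.1), (8, p.2.1), (9, p.2.2.1), (10, p.2.2.2), (11, (0 : F))]) :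
    (∀ t, ρ (X 6 t) v = ψ (p.1 * t) • v) ∧ (∀ t, ρ (X 8 t) v = ψ (p.2.1 * t) • v) ∧
      (∀ t, ρ (X 9 t) v = ψ (p.2.2.1 * t) • v) ∧ (∀ t, ρ (X 10 t) v = ψ (p.2.2.2 * t) • v) ∧
      ∀ t, ρ (X 11 t) v = v := by
  have h := mem_WT.1 hv
  refine ⟨h (6, _) (by simp), h (8, _) (by simp), h (9, _) (by simp), h (10, _) (by simp), fun t => ?_⟩
  simpa using h (11, (0 : F)) (by simp) t

theorem T_shift (t : F) (p : F × F × F × F) : T ρ ψ p ≤ T ρ ψ (shift7 t p) := by
  refine D_le_of_shift (r := 7) (t := t) fun v hv q hq u => ?_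
  obtain ⟨h6, h8, h9, h10, h11⟩ := mem5 hv
  simp only [List.mem_cons, List.not_mem_nil, or_false] at hq
  rcases hq with rfl | rfl | rfl | rfl | rfl
  · simp only [moveX (c7_6 t u), map_mul, Module.End.mul_apply, map_smul, h6, h8, h9, h10, h11, smul_smul,
      ← AddChar.map_add_eq_mul, shift7]
    congr 2; ring
  · simp only [moveX (c7_8 t u), map_mul, Module.End.mul_apply, map_smul, h8, h9, h10, h11, smul_smul,
      ← AddChar.map_add_eq_mul, shift7]
    congr 2; ring
  · simp only [moveX (c7_9 t u), map_mul, Module.End.mul_apply, map_smul, h9, h10, smul_smul,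
      ← AddChar.map_add_eq_mul, shift7]
    congr 2; ring
  · simp only [moveX (c7_10 t u), map_smul, h10, shift7]
  · simp only [moveX (c7_11 t u), h11, zero_mul, AddChar.map_zero_eq_one, one_smul]

theorem T_torus {a b : F} (ha : a ≠ 0) (hb : b ≠ 0) (p : F × F × F × F) :
    T ρ ψ ((a ^ 3)⁻¹ * b ^ 2 * p.1, a⁻¹ * b * p.2.1, a * p.2.2.1, a ^ 3 * b⁻¹ * p.2.2.2) = T ρ ψ p := by
  obtain ⟨-, e6, -, e8, e9, e10, -, -, -⟩ := chi_val a b
  refine (le_of_eq ?_).antisymm (le_of_eq ?_) <;>
  · rw [T, T, ← D_torus ha hb (S := [(6, p.1), (8, p.2.1), (9, p.2.2.1), (10, p.2.2.2), (11, 0)]) (by simp)]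
    simp [e6, e8, e9, e10]

theorem T_scalar {a : F} (ha : a ≠ 0) (p : F × F × F × F) :
    T ρ ψ (a * p.1, a * p.2.1, a * p.2.2.1, a * p.2.2.2) = T ρ ψ p := by
  rw [← T_torus ha (pow_ne_zero 2 ha) p]
  congr 1
  refine Prod.ext ?_ (Prod.ext ?_ (Prod.ext rfl ?_)) <;> field_simp

/-- The reflection in the short simple root reverses the weights. -/
theorem T_flip : ∃ e : ℕ → F, (∀ s < 12, e s * e s = 1) ∧ ∀ p : F × F × F × F,
    T ρ ψ (e 10 * p.2.2.2, e 9 * p.2.2.1, e 8 * p.2.1, e 6 * p.1) = T ρ ψ p := by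
  obtain ⟨e, he, h⟩ := exists_D_nn (ρ := ρ) (ψ := ψ) (i := 0) (by norm_num)
  obtain ⟨e6, e8, e9, e10, e11, -⟩ := refl_val
  refine ⟨e, he, fun p => ?_⟩
  conv_rhs => rw [T, ← h [(6, p.1), (8, p.2.1), (9, p.2.2.1), (10, p.2.2.2), (11, 0)] (by simp)]
  refine D_congr ?_ ?_ <;> simp [e6, e8, e9, e10, e11]

theorem D_shift_Z {s : F} (t t' β γ : F) :
    D ρ ψ [(9, β), (10, γ), (11, s)] ≤ D ρ ψ [(9, β - 3 * t * s), (10, γ - t' * s), (11, s)] := by
  refine (D_le_of_shift (r := 8) (t := t) (S' := [(9, β - 3 * t * s), (10, γ), (11, s)])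
    fun v hv q hq u => ?_).trans (D_le_of_shift (r := 6) (t := t') fun v hv q hq u => ?_)
  · have h := mem_WT.1 hv
    simp only [List.forall_mem_cons, List.not_mem_nil, IsEmpty.forall_iff, implies_true, and_true] at h
    obtain ⟨h9, h10, h11⟩ := h
    simp only [List.mem_cons, List.not_mem_nil, or_false] at hq
    rcases hq with rfl | rfl | rfl
    · simp only [moveX (c8_9 t u), map_mul, Module.End.mul_apply, map_smul, h9, h11, smul_smul,
        ← AddChar.map_add_eq_mul]
      congr 2; ring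
    · simp only [moveX (conj_nil (r := 8) (s := 10) (by decide +kernel) t u), map_smul, h10]
    · simp only [moveX (conj_nil (r := 8) (s := 11) (by decide +kernel) t u), map_smul, h11]
  · have h := mem_WT.1 hv
    simp only [List.forall_mem_cons, List.not_mem_nil, IsEmpty.forall_iff, implies_true, and_true] at h
    obtain ⟨h9, h10, h11⟩ := h
    simp only [List.mem_cons, List.not_mem_nil, or_false] at hq
    rcases hq with rfl | rfl | rfl
    · simp only [moveX (conj_nil (r := 6) (s := 9) (by decide +kernel) t' u), map_smul, h9]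
    · simp only [moveX (c6_10 t' u), map_mul, Module.End.mul_apply, map_smul, h10, h11, smul_smul,
        ← AddChar.map_add_eq_mul]
      congr 2; ring
    · simp only [moveX (conj_nil (r := 6) (s := 11) (by decide +kernel) t' u), map_smul, h11]

theorem D_Z_const (h3 : (3 : F) ≠ 0) {s : F} (hs : s ≠ 0) (β γ : F) :
    D ρ ψ [(9, β), (10, γ), (11, s)] = D ρ ψ [(9, 0), (10, 0), (11, s)] := by
  refine le_antisymm ((D_shift_Z (β / (3 * s)) (γ / s) β γ).trans_eq ?_)
    ((D_shift_Z (-β / (3 * s)) (-γ / s) 0 0).trans_eq ?_)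
  · rw [show β - 3 * (β / (3 * s)) * s = 0 by field_simp; ring,
      show γ - γ / s * s = 0 by field_simp; ring]
  · rw [show (0 : F) - 3 * (-β / (3 * s)) * s = β by field_simp; ring,
      show (0 : F) - -γ / s * s = γ by field_simp; ring]

theorem D11_const {s : F} (hs : s ≠ 0) : D ρ ψ [(11, s)] = D ρ ψ [(11, 1)] := by
  have h := D_torus (ρ := ρ) (ψ := ψ) one_ne_zero hs (S := [(11, (1 : F))]) (by simp)
  obtain ⟨-, -, -, -, -, -, e11, -, -⟩ := chi_val (1 : F) s
  simpa [e11] using h

variable (hψ : ψ.IsPrimitive)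
include hψ

theorem split9 (γ s : F) :
    ∑ β, D ρ ψ [(9, β), (10, γ), (11, s)] = D ρ ψ [(10, γ), (11, s)] :=
  split hψ 9 _ fun t v => pres_nil (by simp only [List.map_cons, List.map_nil]; decide +kernel) t

theorem split10 (s : F) : ∑ γ, D ρ ψ [(10, γ), (11, s)] = D ρ ψ [(11, s)] :=
  split hψ 10 _ fun t v => pres_nil (by simp only [List.map_cons, List.map_nil]; decide +kernel) t

theorem split8 (β γ : F) : ∑ α, D ρ ψ [(8, α), (9, β), (10, γ), (11, 0)] =
    D ρ ψ [(9, β), (10, γ), (11, 0)] := by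
  refine split (ρ := ρ) hψ 8 [(9, β), (10, γ), (11, 0)] fun t v hv => mem_WT.2 fun q hq u => ?_
  have h := mem_WT.1 hv
  simp only [List.forall_mem_cons, List.not_mem_nil, IsEmpty.forall_iff, implies_true, and_true] at h
  obtain ⟨h9, h10, h11⟩ := h
  simp only [List.mem_cons, List.not_mem_nil, or_false] at hq
  rcases hq with rfl | rfl | rfl
  · simp only [moveX (c8_9 t u), map_mul, Module.End.mul_apply, map_smul, h9, h11, zero_mul,
      AddChar.map_zero_eq_one, one_smul]
  · simp only [moveX (conj_nil (r := 8) (s := 10) (by decide +kernel) t u), map_smul, h10]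
  · simp only [moveX (conj_nil (r := 8) (s := 11) (by decide +kernel) t u), map_smul, h11]

theorem split6 (α β γ : F) :
    ∑ δ, T ρ ψ (δ, α, β, γ) = D ρ ψ [(8, α), (9, β), (10, γ), (11, 0)] := by
  simp only [T]
  refine split (ρ := ρ) hψ 6 [(8, α), (9, β), (10, γ), (11, 0)] fun t v hv => mem_WT.2 fun q hq u => ?_
  have h := mem_WT.1 hv
  simp only [List.forall_mem_cons, List.not_mem_nil, IsEmpty.forall_iff, implies_true, and_true] at h
  obtain ⟨h8, h9, h10, h11⟩ := h
  simp only [List.mem_cons, List.not_mem_nil, or_false] at hq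
  rcases hq with rfl | rfl | rfl | rfl
  · simp only [moveX (conj_nil (r := 6) (s := 8) (by decide +kernel) t u), map_smul, h8]
  · simp only [moveX (conj_nil (r := 6) (s := 9) (by decide +kernel) t u), map_smul, h9]
  · simp only [moveX (c6_10 t u), map_mul, Module.End.mul_apply, map_smul, h10, h11, zero_mul,
      AddChar.map_zero_eq_one, one_smul]
  · simp only [moveX (conj_nil (r := 6) (s := 11) (by decide +kernel) t u), map_smul, h11]

theorem sum_T : ∑ p : F × F × F × F, T ρ ψ p = D ρ ψ [(11, 0)] := by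
  have h9 := fun γ : F => split9 (ρ := ρ) hψ γ 0
  have h10 := split10 (ρ := ρ) hψ (0 : F)
  have h8 := fun β γ : F => split8 (ρ := ρ) hψ β γ
  have h6 := fun α β γ : F => split6 (ρ := ρ) hψ α β γ
  let e : F × F × F × F ≃ F × F × F × F :=
    { toFun := fun p => (p.2.2.2, p.2.2.1, p.2.1, p.1)
      invFun := fun p => (p.2.2.2, p.2.2.1, p.2.1, p.1)
      left_inv := fun p => rfl
      right_inv := fun p => rfl }
  rw [← Equiv.sum_comp e, ← h10, Fintype.sum_prod_type]
  refine Finset.sum_congr rfl fun γ _ => ?_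
  rw [← h9 γ, Fintype.sum_prod_type]
  refine Finset.sum_congr rfl fun β _ => ?_
  rw [← h8 β γ, Fintype.sum_prod_type]
  exact Finset.sum_congr rfl fun α _ => h6 α β γ

variable (h3 : (3 : F) ≠ 0) (hF : ∃ a : F, a ≠ 0 ∧ a ≠ 1) (hne : ∃ g, ρ g ≠ 1)
include h3 hF hne

theorem mult_pos : 0 < D ρ ψ [(9, 0), (10, 0), (11, (1 : F))] ∧
    finrank ℂ W = D ρ ψ [(11, 0)] +
      (Fintype.card F - 1) * (Fintype.card F ^ 2 * D ρ ψ [(9, 0), (10, 0), (11, (1 : F))]) := by
  classical
  have h9 := fun γ : F => split9 (ρ := ρ) hψ γ 1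
  have h10 := split10 (ρ := ρ) hψ (1 : F)
  simp only [← h9, D_Z_const h3 one_ne_zero, Finset.sum_const, Finset.card_univ, smul_eq_mul] at h10
  have htot := split_top (ρ := ρ) hψ 11
  rw [← Finset.add_sum_erase _ _ (Finset.mem_univ (0 : F)),
    Finset.sum_congr rfl fun s hs => D11_const (Finset.ne_of_mem_erase hs), Finset.sum_const,
    Finset.card_erase_of_mem (Finset.mem_univ _), Finset.card_univ, smul_eq_mul, ← h10] at htot
  constructor
  · obtain ⟨s, hs, hpos⟩ := exists_weight_ne_zero hF hψ hne (ρ := ρ) (r := 11) (by norm_num)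
    rw [D11_const hs, ← h10] at hpos
    exact Nat.pos_of_mul_pos_left (Nat.pos_of_mul_pos_left hpos)
  · rw [← htot, sq, mul_assoc (Fintype.card F)]

/-- Some weight with nonzero last and vanishing last but one coordinate occurs. -/
theorem exists_T : ∃ a b c : F, c ≠ 0 ∧ 0 < T ρ ψ (a, b, 0, c) := by
  classical
  obtain ⟨hpos, -⟩ := mult_pos hψ h3 hF hne
  have h1 : 0 < D ρ ψ [(10, (0 : F)), (11, 1)] := lt_of_lt_of_le hpos (D_mono (by simp))
  obtain ⟨e, he, hD⟩ := exists_D_nn (ρ := ρ) (ψ := ψ) (i := 1) (by norm_num)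
  obtain ⟨-, -, -, -, -, -, -, -, r10, r11, -⟩ := refl_val
  rw [← hD _ (by simp)] at h1
  simp only [List.map_cons, List.map_nil, r10, r11, mul_zero, mul_one] at h1
  rw [D_congr (S' := [(10, e 11), (11, 0)]) (by simp) (by simp)] at h1
  set c := e 11
  have hc : c ≠ 0 := left_ne_zero_of_mul_eq_one (he 11 (by norm_num))
  rw [← split9 hψ] at h1
  obtain ⟨β, -, hβ⟩ := Finset.exists_ne_zero_of_sum_ne_zero h1.ne'
  rw [← split8 hψ] at hβ
  obtain ⟨α, -, hα⟩ := Finset.exists_ne_zero_of_sum_ne_zero hβ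
  rw [← split6 hψ] at hα
  obtain ⟨δ, -, hδ⟩ := Finset.exists_ne_zero_of_sum_ne_zero hα
  have h := (Nat.pos_of_ne_zero hδ).trans_le (T_shift (β / (3 * c)) (δ, α, β, c))
  simp only [shift7, show β - 3 * (β / (3 * c)) * c = 0 by field_simp; ring] at h
  exact ⟨_, _, c, hc, h⟩

/-- Either the weights of the cubes occur, or many others do. -/
theorem cubes_or_many (hq : 5 ≤ Fintype.card F) :
    2 * Fintype.card F * (Fintype.card F - 1) ≤ D ρ ψ [(11, 0)] ∨ 0 < T ρ ψ (0, 0, 0, 1) := by
  classical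
  obtain ⟨A, B, c, hc, hpos⟩ := exists_T hψ h3 hF hne
  by_cases hAB : A = 0 ∧ B = 0
  · right
    obtain ⟨rfl, rfl⟩ := hAB
    rw [← T_torus one_ne_zero hc (0, 0, 0, c)] at hpos
    simpa [hc] using hpos
  left
  obtain ⟨a, ha, ha2, ha3⟩ : ∃ a : F, a ≠ 0 ∧ a ^ 2 ≠ 1 ∧ a ^ 3 ≠ 1 := by
    have h2 : Nat.card {x : F // x ^ 2 = 1} ≤ 2 := by
      have := Polynomial.card_nthRoots 2 (1 : F)
      rw [Nat.subtype_card (s := (Polynomial.nthRoots 2 (1 : F)).toFinset) fun x => by simp]
      exact (Multiset.toFinset_card_le _).trans this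
    by_contra hcon
    push Not at hcon
    -- every nonzero element is a root of one of the two polynomials
    by_cases h5 : 6 ≤ Fintype.card F
    · have hs : (Finset.univ : Finset F) ⊆ insert 0 ((Polynomial.nthRoots 2 (1 : F)).toFinset ∪
          (Polynomial.nthRoots 3 (1 : F)).toFinset \ {1}) := fun x _ => by
        rcases eq_or_ne x 0 with rfl | hx
        · simp
        by_cases h : x ^ 2 = 1
        · simp [h]
        · have := hcon x hx h
          have h1 : x ≠ 1 := fun e => h (by rw [e, one_pow])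
          simp [this, h1]
      have h := (Finset.card_le_card hs).trans ((Finset.card_insert_le _ _).trans
        (Nat.add_le_add_right (Finset.card_union_le _ _) 1))
      have u2 : (Polynomial.nthRoots 2 (1 : F)).toFinset.card ≤ 2 :=
        (Multiset.toFinset_card_le _).trans (Polynomial.card_nthRoots _ _)
      have u3 : ((Polynomial.nthRoots 3 (1 : F)).toFinset \ {1}).card ≤ 2 := by
        have : (Polynomial.nthRoots 3 (1 : F)).toFinset.card ≤ 3 :=
          (Multiset.toFinset_card_le _).trans (Polynomial.card_nthRoots _ _)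
        rw [Finset.card_sdiff]
        simp
        omega
      rw [Finset.card_univ] at h
      omega
    · have h5' : Fintype.card F = 5 := by omega
      have hpow : ∀ x : F, x ≠ 0 → x ^ 2 = 1 := fun x hx => by
        by_contra h
        have h1 := hcon x hx h
        have h4 := FiniteField.pow_card_sub_one_eq_one x hx
        rw [h5', show 5 - 1 = 4 from rfl, pow_succ, h1, one_mul] at h4
        exact h (by rw [h4, one_pow])
      have hs : (Finset.univ : Finset F) ⊆ insert 0 ((Polynomial.nthRoots 2 (1 : F)).toFinset) :=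
        fun x _ => by
          rcases eq_or_ne x 0 with rfl | hx
          · simp
          · simp [hpow x hx]
      have h := (Finset.card_le_card hs).trans (Finset.card_insert_le _ _)
      have u2 : (Polynomial.nthRoots 2 (1 : F)).toFinset.card ≤ 2 :=
        (Multiset.toFinset_card_le _).trans (Polynomial.card_nthRoots _ _)
      rw [Finset.card_univ] at h
      omega
  let base : Bool → F × F := fun i => if i then (a ^ 3 * A, a ^ 2 * B) else (A, B)
  have hbase : ∀ i, 0 < T ρ ψ ((base i).1, (base i).2, 0, c) := by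
    rintro (_ | _)
    · exact hpos
    · rw [← T_torus ha (pow_ne_zero 3 ha) (A, B, 0, c)] at hpos
      simp only [base, if_true]
      convert hpos using 3 <;> field_simp
      simp
  let f : Bool × F × Fˣ → F × F × F × F := fun x =>
    shift7 x.2.1 ((x.2.2 : F) ^ 2 * (base x.1).1, (x.2.2 : F) * (base x.1).2, 0, (x.2.2 : F)⁻¹ * c)
  have hf : ∀ x, 1 ≤ T ρ ψ (f x) := fun x => by
    refine le_trans ?_ (T_shift _ _)
    have h := hbase x.1
    rw [← T_torus one_ne_zero x.2.2.ne_zero] at h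
    exact Nat.one_le_iff_ne_zero.2 (by simpa using h.ne')
  have hinj : Function.Injective f := by
    rintro ⟨i, t, b⟩ ⟨i', t', b'⟩ h
    simp only [f, shift7, Prod.mk.injEq] at h
    obtain ⟨e6, e8, e9, e10⟩ := h
    have hb : b = b' := Units.ext (inv_injective (mul_right_cancel₀ hc e10))
    subst hb
    have ht : t = t' := by
      have hk : 3 * ((b : F)⁻¹ * c) ≠ 0 := mul_ne_zero h3 (mul_ne_zero (inv_ne_zero b.ne_zero) hc)
      refine mul_right_cancel₀ hk ?_
      linear_combination -e9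
    subst ht
    have hB : (base i).2 = (base i').2 := mul_left_cancel₀ b.ne_zero (by linear_combination e8)
    have hA : (base i).1 = (base i').1 := mul_left_cancel₀ (pow_ne_zero 2 b.ne_zero)
      (by rw [hB] at e6; linear_combination e6)
    by_contra hne'
    have hii : i ≠ i' := fun e => hne' (by rw [e])
    apply hAB
    have f3 : a ^ 3 - 1 ≠ 0 := sub_ne_zero.2 ha3
    have f2 : a ^ 2 - 1 ≠ 0 := sub_ne_zero.2 ha2
    cases i <;> cases i' <;> simp [base] at hii hA hB <;>
      refine ⟨(mul_eq_zero.1 (?_ : (a ^ 3 - 1) * A = 0)).resolve_left f3,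
        (mul_eq_zero.1 (?_ : (a ^ 2 - 1) * B = 0)).resolve_left f2⟩
    · linear_combination -hA
    · linear_combination -hB
    · linear_combination hA
    · linear_combination hB
  have h := Finset.sum_le_sum (s := Finset.univ.image f) (f := fun _ => 1) (g := T ρ ψ) fun p hp => by
    obtain ⟨x, -, rfl⟩ := Finset.mem_image.1 hp
    exact hf x
  rw [Finset.sum_const, smul_eq_mul, mul_one, Finset.card_image_of_injective _ hinj, Finset.card_univ] at h
  have := h.trans (Finset.sum_le_sum_of_subset (Finset.subset_univ _))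
  rw [sum_T hψ] at this
  simpa [Fintype.card_units, mul_assoc] using this

omit h3 hF hne in
/-- The cubes with nonzero scalar factor. -/
theorem T_cube_le (x : Option F) (b : Fˣ) : T ρ ψ (0, 0, 0, 1) ≤ T ρ ψ
    (x.elim ((b : F), 0, 0, 0) fun t => shift7 t (0, 0, 0, (b : F))) := by
  cases x with
  | some t =>
    refine le_trans (le_of_eq ?_) (T_shift _ _)
    rw [← T_torus one_ne_zero (inv_ne_zero b.ne_zero) (0, 0, 0, 1)]
    simp
  | none =>
    obtain ⟨e, he, hflip⟩ := T_flip (ρ := ρ) (ψ := ψ)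
    have hne0 : e 10 ≠ 0 := left_ne_zero_of_mul_eq_one (he 10 (by norm_num))
    refine le_of_eq ?_
    rw [← hflip (0, 0, 0, 1), ← T_scalar (mul_ne_zero b.ne_zero hne0) (e 10 * 1, e 9 * 0, e 8 * 0, e 6 * 0)]
    simp [mul_assoc, he 10 (by norm_num)]

end Cfsg.Agent.MinDegree.G2
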