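import Cfsg.Agent.Lib.MinDegree.G2Tame

/-!
The bound `q³ - 1` for `G₂(q)`, characteristic not 3, and the weights of a representation of degree at
most `q³`.
-/

set_option autoImplicit false
set_option linter.unusedSectionVars false

namespace Cfsg.Agent.MinDegree.G2

open Module

variable {F : Type*} [Field F] [Fintype F] {W : Type*} [AddCommGroup W] [Module ℂ W] [FiniteDimensional ℂ W]
  {ρ : Representation ℂ (Grp F) W} {ψ : AddChar F ℂ}

/-- The cubes with nonzero factor. -/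
def cube (x : Option F × Fˣ) : F × F × F × F :=
  x.1.elim ((x.2 : F), 0, 0, 0) fun t => shift7 t (0, 0, 0, (x.2 : F))

/-- All the cubes. -/
noncomputable def cubes (F : Type*) [Field F] [Fintype F] : Finset (F × F × F × F) := by
  classical exact Finset.univ.image cube

theorem mem_cubes {p : F × F × F × F} : p ∈ cubes F ↔ ∃ x, cube x = p := by
  classical simp [cubes]

theorem cube_inj (h3 : (3 : F) ≠ 0) : Function.Injective (cube : Option F × Fˣ → F × F × F × F) := by
  rintro ⟨x, b⟩ ⟨y, c⟩ h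
  cases x <;> cases y <;> simp [cube, shift7, Units.val_inj, eq_comm (a := (0 : F))] at h
  · exact Prod.ext rfl h
  · obtain ⟨-, -, e9, e10⟩ := h
    subst e10
    rw [mul_left_cancel₀ h3 (mul_right_cancel₀ b.ne_zero e9)]

theorem card_cubes (h3 : (3 : F) ≠ 0) : (cubes F).card = (Fintype.card F + 1) * (Fintype.card F - 1) := by
  classical
  rw [cubes, Finset.card_image_of_injective _ (cube_inj h3), Finset.card_univ, Fintype.card_prod,
    Fintype.card_option, Fintype.card_units]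

theorem cubes_scalar {a : F} (ha : a ≠ 0) {p : F × F × F × F} (hp : p ∈ cubes F) :
    (a * p.1, a * p.2.1, a * p.2.2.1, a * p.2.2.2) ∈ cubes F := by
  obtain ⟨⟨x, b⟩, rfl⟩ := mem_cubes.1 hp
  refine mem_cubes.2 ⟨(x, Units.mk0 a ha * b), ?_⟩
  cases x
  · simp [cube]
  · simp only [cube, Option.elim_some, shift7, Units.val_mul, Units.val_mk0]
    refine Prod.ext ?_ (Prod.ext ?_ (Prod.ext ?_ rfl)) <;> ring

variable (hψ : ψ.IsPrimitive) (h3 : (3 : F) ≠ 0) (hne : ∃ g, ρ g ≠ 1) (hq : 5 ≤ Fintype.card F)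
include hψ h3 hne hq

omit hψ h3 hne in
theorem two_elts : ∃ a : F, a ≠ 0 ∧ a ≠ 1 := by
  classical
  obtain ⟨a, -, ha⟩ := Finset.exists_mem_notMem_of_card_lt_card (s := ({0, 1} : Finset F)) (t := Finset.univ)
    ((Finset.card_insert_le _ _).trans_lt (by rw [Finset.card_univ]; simp; omega))
  exact ⟨a, by simpa using ha⟩

theorem cube_sum_le : T ρ ψ (0, 0, 0, 1) * ((Fintype.card F + 1) * (Fintype.card F - 1)) ≤
    ∑ p ∈ cubes F, T ρ ψ p := by
  rw [mul_comm, ← card_cubes h3, ← smul_eq_mul]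
  refine Finset.card_nsmul_le_sum _ _ _ fun p hp => ?_
  obtain ⟨⟨x, b⟩, rfl⟩ := mem_cubes.1 hp
  exact T_cube_le hψ x b

/-- The degree is at least `q³ - 1`. -/
theorem degree_ge : Fintype.card F ^ 3 - 1 ≤ finrank ℂ W := by
  classical
  obtain ⟨he, hd⟩ := mult_pos hψ h3 (two_elts hq) hne
  have h1 : (Fintype.card F + 1) * (Fintype.card F - 1) ≤ D ρ ψ [(11, (0 : F))] := by
    rcases cubes_or_many hψ h3 (two_elts hq) hne hq with h | h
    · exact le_trans (Nat.mul_le_mul_right _ (by omega)) h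
    · refine le_trans ?_ ((cube_sum_le hψ h3 hne hq).trans ((Finset.sum_le_sum_of_subset
        (Finset.subset_univ _)).trans_eq (sum_T hψ)))
      exact Nat.le_mul_of_pos_left _ h
  rw [hd]
  have h2 := Nat.le_mul_of_pos_right (Fintype.card F ^ 2) he
  have h4 := Nat.mul_le_mul_left (Fintype.card F - 1) h2
  obtain ⟨n, hn⟩ := Nat.exists_eq_add_of_le (show 1 ≤ Fintype.card F by omega)
  rw [hn] at h1 h4 ⊢
  simp only [Nat.add_sub_cancel_left] at h1 h4 ⊢
  have : (1 + n) ^ 3 = (1 + n + 1) * n + n * (1 + n) ^ 2 + 1 := by ring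
  omega

/-- The weights of a representation of degree at most `q³`. -/
theorem tame_structure (hd : finrank ℂ W ≤ Fintype.card F ^ 3) :
    finrank ℂ W = Fintype.card F ^ 3 - 1 + T ρ ψ (0, 0, 0, 0) ∧ T ρ ψ (0, 0, 0, 0) ≤ 1 ∧
      (∀ p, p ≠ (0, 0, 0, 0) → p ∉ cubes F → T ρ ψ p = 0) ∧ (∀ p ∈ cubes F, T ρ ψ p = 1) := by
  classical
  obtain ⟨he, heq⟩ := mult_pos hψ h3 (two_elts hq) hne
  set e := D ρ ψ [(9, 0), (10, 0), (11, (1 : F))]
  set d1 := D ρ ψ [(11, (0 : F))]
  set q := Fintype.card F with hqdef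
  have hsum := sum_T (ρ := ρ) hψ
  set N := (q + 1) * (q - 1) with hN
  obtain ⟨n, hn⟩ : ∃ n, q = n + 5 := ⟨q - 5, by omega⟩
  have hN1 : N + 1 = q ^ 2 := by rw [hN, hn]; simp only [show n + 5 - 1 = n + 4 by omega]; ring
  have hq3 : q ^ 3 = (q - 1) * q ^ 2 + q ^ 2 := by rw [hn]; simp only [show n + 5 - 1 = n + 4 by omega]; ring
  have hT1 : 0 < T ρ ψ (0, 0, 0, 1) := by
    rcases cubes_or_many hψ h3 (two_elts hq) hne hq with h | h
    · exfalso
      rw [← hqdef] at h
      have h' : q ^ 2 < 2 * q * (q - 1) := by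
        rw [hn]; simp only [show n + 5 - 1 = n + 4 by omega]; nlinarith
      have : (q - 1) * q ^ 2 ≤ (q - 1) * (q ^ 2 * e) :=
        Nat.mul_le_mul_left _ (Nat.le_mul_of_pos_right _ he)
      omega
    · exact h
  have hlow := cube_sum_le hψ h3 hne hq (ρ := ρ)
  rw [← hN] at hlow
  have hsub : ∑ p ∈ cubes F, T ρ ψ p ≤ d1 := (Finset.sum_le_sum_of_subset (Finset.subset_univ _)).trans_eq hsum
  have hNd : N ≤ d1 := le_trans (Nat.le_mul_of_pos_left _ hT1) (hlow.trans hsub)
  have he1 : e = 1 := by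
    by_contra hcon
    have : (q - 1) * (q ^ 2 * 2) ≤ (q - 1) * (q ^ 2 * e) :=
      Nat.mul_le_mul_left _ (Nat.mul_le_mul_left _ (by omega))
    have h' : q ^ 2 + 1 < (q - 1) * q ^ 2 := by
      rw [hn]; simp only [show n + 5 - 1 = n + 4 by omega]; nlinarith
    rw [← mul_assoc, mul_two] at this
    omega
  rw [he1, mul_one] at heq
  have hd1 : d1 ≤ q ^ 2 := by omega
  have h25 : 25 ≤ q ^ 2 := by rw [hn]; nlinarith
  have hTN := Nat.le_mul_of_pos_left N hT1
  -- everything outside the cubes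
  have h0C : ((0, 0, 0, 0) : F × F × F × F) ∉ cubes F := by
    intro h
    obtain ⟨⟨x, b⟩, hx⟩ := mem_cubes.1 h
    cases x <;> simp [cube, shift7] at hx
  have hsplit := Finset.sum_compl_add_sum (cubes F) (T ρ ψ)
  rw [hsum] at hsplit
  have hout : ∀ p, p ≠ (0, 0, 0, 0) → p ∉ cubes F → T ρ ψ p = 0 := by
    intro p hp0 hpC
    by_contra hpos
    let g : Fˣ → F × F × F × F := fun a =>
      ((a : F) * p.1, (a : F) * p.2.1, (a : F) * p.2.2.1, (a : F) * p.2.2.2)
    have hg : Function.Injective g := by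
      intro a b h
      simp only [g, Prod.mk.injEq, mul_eq_mul_right_iff, Units.val_inj] at h
      by_contra hab
      exact hp0 (Prod.ext (h.1.resolve_left hab) (Prod.ext (h.2.1.resolve_left hab)
        (Prod.ext (h.2.2.1.resolve_left hab) (h.2.2.2.resolve_left hab))))
    have hgC : Finset.univ.image g ⊆ (cubes F)ᶜ := fun x hx => by
      obtain ⟨a, -, rfl⟩ := Finset.mem_image.1 hx
      rw [Finset.mem_compl]
      intro h
      have := cubes_scalar (inv_ne_zero a.ne_zero) h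
      simp [g] at this
      exact hpC this
    have hle := (Finset.card_nsmul_le_sum (Finset.univ.image g) (T ρ ψ) 1 fun x hx => by
      obtain ⟨a, -, rfl⟩ := Finset.mem_image.1 hx
      rw [show T ρ ψ (g a) = T ρ ψ p from T_scalar a.ne_zero p]
      omega).trans (Finset.sum_le_sum_of_subset hgC)
    rw [Finset.card_image_of_injective _ hg, Finset.card_univ, Fintype.card_units, smul_eq_mul,
      mul_one] at hle
    omega
  have hT0 : ∑ p ∈ (cubes F)ᶜ, T ρ ψ p = T ρ ψ (0, 0, 0, 0) := by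
    refine Finset.sum_eq_single_of_mem _ (Finset.mem_compl.2 h0C) fun p hp hne' =>
      hout p hne' (Finset.mem_compl.1 hp)
  rw [hT0] at hsplit
  have hone : T ρ ψ (0, 0, 0, 1) = 1 := by
    by_contra hcon
    have : N * 2 ≤ N * T ρ ψ (0, 0, 0, 1) := Nat.mul_le_mul_left _ (by omega)
    rw [mul_comm N (T ρ ψ _)] at this
    omega
  have hC1 : ∀ p ∈ cubes F, 1 ≤ T ρ ψ p := fun p hp => by
    obtain ⟨⟨x, b⟩, rfl⟩ := mem_cubes.1 hp
    exact hone ▸ T_cube_le hψ x b
  -- the cube multiplicities are all one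
  obtain ⟨eflip, heflip, hflip⟩ := T_flip (ρ := ρ) (ψ := ψ)
  have hC : ∀ p ∈ cubes F, T ρ ψ p = 1 := by
    intro p hp
    refine le_antisymm ?_ (hC1 p hp)
    obtain ⟨⟨x, b⟩, rfl⟩ := mem_cubes.1 hp
    cases x with
    | some t =>
      refine le_trans (T_shift (-t) _) (le_of_eq ?_)
      rw [← hone, ← T_torus one_ne_zero (inv_ne_zero b.ne_zero) (0, 0, 0, 1)]
      congr 1
      simp only [cube, Option.elim_some, shift7, one_pow, inv_one, one_mul, mul_zero, inv_inv, mul_one]
      refine Prod.ext ?_ (Prod.ext ?_ (Prod.ext ?_ rfl)) <;> ring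
    | none =>
      refine le_of_eq ?_
      have hne0 : eflip 10 ≠ 0 := left_ne_zero_of_mul_eq_one (heflip 10 (by norm_num))
      rw [← hone, ← hflip (0, 0, 0, 1),
        ← T_scalar (mul_ne_zero b.ne_zero hne0) (eflip 10 * 1, eflip 9 * 0, eflip 8 * 0, eflip 6 * 0)]
      simp [cube, mul_assoc, heflip 10 (by norm_num)]
  have hCsum : ∑ p ∈ cubes F, T ρ ψ p = N := by
    rw [Finset.sum_congr rfl hC, Finset.sum_const, card_cubes h3, smul_eq_mul, mul_one]
  refine ⟨by omega, by omega, hout, hC⟩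

end Cfsg.Agent.MinDegree.G2
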