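import Cfsg.Agent.Lib.MinDegree.G2NoFixed
import Cfsg.Agent.Lib.MinDegree.G2Hecke

/-!
The bound `q³ + 1` for `G₂(q)`, `q ≡ 1 (mod 3)`.
-/

set_option autoImplicit false
set_option linter.unusedSectionVars false

namespace Cfsg.Agent.MinDegree.G2

open Module Cfsg.Lie

variable {F : Type*} [Field F] [Fintype F] {W : Type*} [AddCommGroup W] [Module ℂ W] [FiniteDimensional ℂ W]
  {ρ : Representation ℂ (Grp F) W} {ψ : AddChar F ℂ}

set_option maxHeartbeats 800000 in
/-- The degree is more than `q³` when `F` has an element of order 3. -/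
theorem degree_gt_cube (hψ : ψ.IsPrimitive) (h3 : (3 : F) ≠ 0) {ω : F} (hω : ω ^ 3 = 1) (hω1 : ω ≠ 1)
    (hne : ∃ g, ρ g ≠ 1) (hq : 5 ≤ Fintype.card F) (hirr : ρ.IsIrreducible) :
    Fintype.card F ^ 3 + 1 ≤ finrank ℂ W := by
  classical
  by_contra hlt
  have hd : finrank ℂ W ≤ Fintype.card F ^ 3 := by omega
  obtain ⟨hdim, hle, -, -⟩ := tame_structure hψ h3 hne hq hd
  have hne0 := no_fixed hψ h3 hω hω1 hne hq hd
  have hT : T ρ ψ (0, 0, 0, 0) = 1 := by omega
  have hd3 : finrank ℂ W = Fintype.card F ^ 3 := by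
    have : 1 ≤ Fintype.card F ^ 3 := Nat.one_le_pow _ _ (by omega)
    omega
  set Q0 : List (ℕ × F) := [(6, 0), (8, 0), (9, 0), (10, 0), (11, 0)] with hQ0
  have hQ : D ρ ψ Q0 = 1 := hT
  have hsum : ∑ τ : F, D ρ ψ ((7, τ) :: Q0) = D ρ ψ Q0 := by
    refine split (ρ := ρ) hψ 7 Q0 fun t v hv => mem_WT.2 fun p hp u => ?_
    obtain ⟨h6, h8, h9, h10, h11⟩ := mem5 (p := ((0 : F), (0 : F), (0 : F), (0 : F))) hv
    simp only [hQ0, List.mem_cons, List.not_mem_nil, or_false] at hp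
    rcases hp with rfl | rfl | rfl | rfl | rfl
    · simp [moveX (c7_6 t u), map_mul, h6, h8, h9, h10, h11]
    · simp [moveX (c7_8 t u), map_mul, h8, h9, h10, h11]
    · simp [moveX (c7_9 t u), map_mul, h9, h10]
    · simp [moveX (c7_10 t u), h10]
    · simp [moveX (c7_11 t u), h11]
  have hzero : ∀ τ : F, τ ≠ 0 → D ρ ψ ((7, τ) :: Q0) = 0 := by
    intro τ hτ
    by_contra hpos
    have hconst : ∀ σ : F, σ ≠ 0 → 1 ≤ D ρ ψ ((7, σ) :: Q0) := by
      intro σ hσ
      have hb : τ / σ ≠ 0 := div_ne_zero hτ hσ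
      have h := D_torus (ρ := ρ) (ψ := ψ) one_ne_zero hb (S := (7, τ) :: Q0) (by simp [hQ0])
      obtain ⟨-, -, e7, -, -, -, -, -, -⟩ := chi_val (1 : F) (τ / σ)
      simp only [hQ0, List.map_cons, List.map_nil, mul_zero, e7] at h hpos ⊢
      rw [show (1 : F) ^ 2 * (τ / σ)⁻¹ * τ = σ by field_simp] at h
      omega
    have h := Finset.sum_le_sum (s := Finset.univ.erase (0 : F)) (f := fun _ => 1)
      (g := fun σ => D ρ ψ ((7, σ) :: Q0)) fun σ hσ => hconst σ (Finset.ne_of_mem_erase hσ)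
    rw [Finset.sum_const, Finset.card_erase_of_mem (Finset.mem_univ _), Finset.card_univ, smul_eq_mul,
      mul_one] at h
    have h' := h.trans (Finset.sum_le_sum_of_subset (Finset.erase_subset _ _))
    rw [hsum, hQ] at h'
    omega
  rw [Finset.sum_eq_single (0 : F) (fun τ _ h => hzero τ h) (by simp), hQ] at hsum
  set L0 : List (ℕ × F) := [(6, 0), (7, 0), (8, 0), (9, 0), (10, 0), (11, 0)] with hL0
  have h1 : D ρ ψ L0 = 1 := by
    rw [← hsum]
    exact D_congr (by simp [hL0, hQ0]) (by simp [hL0, hQ0])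
  have hWT : WT ρ ψ L0 = WT ρ ψ Q0 :=
    Submodule.eq_of_le_of_finrank_le (WT_mono (by simp [hL0, hQ0]))
      (by show D ρ ψ Q0 ≤ D ρ ψ L0; rw [h1, hQ])
  have h7 : ∀ v ∈ WT ρ ψ L0, ρ (nn 0) v ∈ WT ρ ψ L0 := by
    intro v hv
    rw [hWT] at hv ⊢
    obtain ⟨e, he, hc⟩ := nn_conj (F := F) (i := 0) (by norm_num)
    obtain ⟨r6, r8, r9, r10, r11, -⟩ := refl_val
    have key : ∀ s s' : ℕ, s < 12 → chevG2.reflectRoot 0 s = s' →
        ((s, (0 : F)) ∈ Q0) → ∀ u, ρ (X s' u) (ρ (nn 0) v) = ψ (0 * u) • ρ (nn 0) v := by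
      intro s s' hs hr hm u
      have e' : (nn 0 : Grp F)⁻¹ * X s' u * nn 0 = X s (e s * u) := by
        have h := hc s hs (e s * u)
        rw [← mul_assoc, he s hs, one_mul, hr] at h
        rw [← h]; group
      rw [move e', mem_WT.1 hv (s, 0) hm, map_smul, zero_mul, zero_mul]
    refine mem_WT.2 fun p hp u => ?_
    simp only [hQ0, List.mem_cons, List.not_mem_nil, or_false] at hp
    rcases hp with rfl | rfl | rfl | rfl | rfl
    · exact key 10 6 (by norm_num) r10 (by simp [hQ0]) u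
    · exact key 9 8 (by norm_num) r9 (by simp [hQ0]) u
    · exact key 8 9 (by norm_num) r8 (by simp [hQ0]) u
    · exact key 6 10 (by norm_num) r6 (by simp [hQ0]) u
    · exact key 11 11 (by norm_num) r11 (by simp [hQ0]) u
  obtain ⟨A, hA, heq⟩ := degree_of_line hirr h1 h7
  rw [hd3] at heq
  generalize Fintype.card F = q at heq hA hq
  rw [poly_eq, poly_eq] at heq
  push_cast at heq
  have hq5 : (5 : ℕ) ≤ q := hq
  rcases hA with rfl | rfl | hA
  · have h : q ^ 3 * ((1 + q) * (1 + 1) * (1 + q * 1 + q ^ 2 * 1 ^ 2)) =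
        (1 + q) * (1 + q) * (1 + q * q + q ^ 2 * q ^ 2) := by exact_mod_cast heq
    have h2 : (1 + q) * (1 + q * q + q ^ 2 * q ^ 2) = q ^ 3 * 2 * (1 + q + q ^ 2) := by
      refine Nat.eq_of_mul_eq_mul_left (show 0 < 1 + q by omega) ?_
      linear_combination -h
    have := Nat.mul_le_mul_right (q ^ 4) hq5
    nlinarith
  · have h : q ^ 3 * ((1 + q) * (1 + q) * (1 + q * q + q ^ 2 * q ^ 2)) =
        1 * ((1 + q) * (1 + q) * (1 + q * q + q ^ 2 * q ^ 2)) := by
      rw [one_mul]; exact_mod_cast heq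
    have h2 := Nat.eq_of_mul_eq_mul_right (by positivity) h
    have : 5 ^ 3 ≤ q ^ 3 := Nat.pow_le_pow_left hq5 3
    omega
  · have h' : (q : ℂ) ^ 2 * ((1 + q) * (1 + q) * 3) =
        (1 + q) * (1 + q) * (1 + q * q + q ^ 2 * q ^ 2) := by
      rw [← heq]
      linear_combination
        -((q : ℂ) ^ 2 * (1 + q) * (1 + (q : ℂ) * A + (q : ℂ) ^ 2 * A ^ 2 +
          (1 + q) * ((q : ℂ) * A + 2))) * hA
    have h : q ^ 2 * ((1 + q) * (1 + q) * 3) = (1 + q) * (1 + q) * (1 + q * q + q ^ 2 * q ^ 2) := by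
      exact_mod_cast h'
    have h2 : 3 * q ^ 2 = 1 + q * q + q ^ 2 * q ^ 2 := by
      refine Nat.eq_of_mul_eq_mul_left (show 0 < (1 + q) * (1 + q) by positivity) ?_
      linear_combination h
    have : 25 ≤ q ^ 2 := by nlinarith
    nlinarith

end Cfsg.Agent.MinDegree.G2
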