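import Cfsg.Agent.Lib.MinDegree.WeightTrace
import Cfsg.Agent.Lib.MinDegree.G2Base

/-!
Weight spaces of root subgroups in a complex representation of `G₂(F)`.
-/

set_option autoImplicit false
set_option linter.unusedSectionVars false

namespace Cfsg.Agent.MinDegree.G2

open Module

variable {F : Type*} [Field F] [Fintype F] {W : Type*} [AddCommGroup W] [Module ℂ W] [FiniteDimensional ℂ W]
  (ρ : Representation ℂ (Grp F) W) (ψ : AddChar F ℂ)

/-- The operators of one root subgroup. -/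
noncomputable def op (r : ℕ) (t : F) : W →ₗ[ℂ] W := ρ (X r t)

theorem isOp (r : ℕ) : IsOp (op ρ (F := F) r) :=
  ⟨by simp [op, X_zero], fun s t => by simp [op, ← map_mul, X_add]⟩

/-- The vectors with prescribed weights. -/
noncomputable def WT : List (ℕ × F) → Submodule ℂ W
  | [] => ⊤
  | p :: S => eigen (op ρ p.1) (AddChar.mulShift ψ p.2) ⊓ WT S

/-- The dimension of a weight space. -/
noncomputable def D (S : List (ℕ × F)) : ℕ := finrank ℂ (WT ρ ψ S)

variable {ρ ψ}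

theorem mem_WT {S : List (ℕ × F)} {v : W} :
    v ∈ WT ρ ψ S ↔ ∀ p ∈ S, ∀ t, ρ (X p.1 t) v = ψ (p.2 * t) • v := by
  induction S with
  | nil => simp [WT]
  | cons p S ih => simp [WT, mem_eigen, op, ih, AddChar.mulShift_apply]

theorem WT_mono {S S' : List (ℕ × F)} (h : S' ⊆ S) : WT ρ ψ S ≤ WT ρ ψ S' := fun v hv =>
  mem_WT.2 fun p hp => mem_WT.1 hv p (h hp)

theorem D_mono {S S' : List (ℕ × F)} (h : S' ⊆ S) : D ρ ψ S ≤ D ρ ψ S' :=
  Submodule.finrank_mono (WT_mono h)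

theorem D_congr {S S' : List (ℕ × F)} (h : S ⊆ S') (h' : S' ⊆ S) : D ρ ψ S = D ρ ψ S' :=
  le_antisymm (D_mono h') (D_mono h)

theorem rho_inj (g : Grp F) : Function.Injective (ρ g) := by
  intro x y h
  have h' := congrArg (ρ g⁻¹) h
  rwa [← Module.End.mul_apply, ← Module.End.mul_apply, ← map_mul, inv_mul_cancel, map_one,
    Module.End.one_apply, Module.End.one_apply] at h'

theorem move {g c c' : Grp F} (e : g⁻¹ * c * g = c') (v : W) : ρ c (ρ g v) = ρ g (ρ c' v) := by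
  rw [← e, ← Module.End.mul_apply, ← map_mul, ← Module.End.mul_apply, ← map_mul]
  congr 2
  group

theorem moveX {r : ℕ} {t : F} {c c' : Grp F} (e : X r (-t) * c * X r t = c') (v : W) :
    ρ c (ρ (X r t) v) = ρ (X r t) (ρ c' v) :=
  move (by rw [X_inv]; exact e) v

theorem finrank_le_of_maps (g : Grp F) {M M' : Submodule ℂ W} (h : ∀ v ∈ M, ρ g v ∈ M') :
    finrank ℂ M ≤ finrank ℂ M' :=
  LinearMap.finrank_le_finrank_of_injective (f := (ρ g).restrict h) fun x y e =>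
    Subtype.ext (rho_inj g (congrArg Subtype.val e))

/-- Shifted weights are the image of a root element. -/
theorem D_le_of_shift {r : ℕ} {t : F} {S S' : List (ℕ × F)}
    (h : ∀ v ∈ WT ρ ψ S, ∀ p ∈ S', ∀ u, ρ (X p.1 u) (ρ (X r t) v) = ψ (p.2 * u) • ρ (X r t) v) :
    D ρ ψ S ≤ D ρ ψ S' :=
  finrank_le_of_maps _ fun v hv => mem_WT.2 (h v hv)

section primitive

variable (hψ : ψ.IsPrimitive)
include hψ

theorem shift_bij : Function.Bijective fun a : F => AddChar.mulShift ψ a :=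
  (Fintype.bijective_iff_injective_and_card _).2
    ⟨AddChar.to_mulShift_inj_of_isPrimitive hψ, AddChar.card_eq.symm⟩

theorem eq_of_weights {a b : F} {r : ℕ} {v : W} (hv : v ≠ 0) (ha : ∀ t, ρ (X r t) v = ψ (a * t) • v)
    (hb : ∀ t, ρ (X r t) v = ψ (b * t) • v) : a = b := by
  refine (shift_bij hψ).1 (DFunLike.ext _ _ fun t => ?_)
  simp only [AddChar.mulShift_apply]
  exact smul_left_injective ℂ hv ((ha t).symm.trans (hb t))

theorem exists_ne_one {a : F} (ha : a ≠ 0) : ∃ t, ψ (a * t) ≠ 1 := by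
  by_contra h
  push Not at h
  exact ha ((shift_bij hψ).1 (DFunLike.ext _ _ fun t => by simp [AddChar.mulShift_apply, h t]))

/-- Splitting an invariant subspace by the weights of one root subgroup. -/
theorem split_sub (r : ℕ) (M : Submodule ℂ W) (hM : ∀ t, ∀ v ∈ M, ρ (X r t) v ∈ M) :
    ∑ a : F, finrank ℂ (eigen (op ρ r) (AddChar.mulShift ψ a) ⊓ M : Submodule ℂ W) = finrank ℂ M := by
  let op' : F → M →ₗ[ℂ] M := fun t => (op ρ r t).restrict (hM t)
  have hop : IsOp op' := by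
    refine ⟨LinearMap.ext fun x => Subtype.ext ?_, fun a b => LinearMap.ext fun x => Subtype.ext ?_⟩
    · simp [op', (isOp ρ r).zero]
    · show op ρ r (a + b) x.1 = op ρ r a (op ρ r b x.1)
      rw [(isOp ρ r).add, Module.End.mul_apply]
  rw [← sum_finrank_eigen hop, ← (shift_bij hψ).sum_comp (fun χ => finrank ℂ (eigen op' χ))]
  refine Finset.sum_congr rfl fun a _ => ?_
  have e := LinearEquiv.finrank_eq (Submodule.equivMapOfInjective M.subtype M.injective_subtype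
    (eigen op' (AddChar.mulShift ψ a)))
  rw [e, show (eigen op' (AddChar.mulShift ψ a)).map M.subtype =
    eigen (op ρ r) (AddChar.mulShift ψ a) ⊓ M from ?_]
  ext v
  simp only [Submodule.mem_inf, Submodule.mem_map, mem_eigen]
  constructor
  · rintro ⟨x, h1, rfl⟩
    exact ⟨fun t => congrArg Subtype.val (h1 t), x.2⟩
  · rintro ⟨h1, h2⟩
    exact ⟨⟨v, h2⟩, fun t => Subtype.ext (h1 t), rfl⟩

theorem split (r : ℕ) (S : List (ℕ × F)) (hS : ∀ t, ∀ v ∈ WT ρ ψ S, ρ (X r t) v ∈ WT ρ ψ S) :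
    ∑ a : F, D ρ ψ ((r, a) :: S) = D ρ ψ S :=
  split_sub hψ r _ hS

theorem split_top (r : ℕ) : ∑ a : F, D ρ ψ [(r, a)] = finrank ℂ W := by
  rw [split hψ r [] fun _ v _ => Submodule.mem_top]
  exact finrank_top ℂ W

end primitive

/-- A root subgroup commuting with the roots of the list preserves the weight space. -/
theorem pres_nil {r : ℕ} {S : List (ℕ × F)}
    (h : ∀ s ∈ S.map Prod.fst, r < 12 ∧ s < 12 ∧
      (s = r ∨ (s ≠ Cfsg.Lie.chevG2.neg r ∧ Cfsg.Lie.chevG2.commTerms r s = [])))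
    (t : F) {v : W} (hv : v ∈ WT ρ ψ S) : ρ (X r t) v ∈ WT ρ ψ S :=
  mem_WT.2 fun p hp u => by
    rw [moveX (conj_nil (h p.1 (List.mem_map_of_mem hp)) t u), mem_WT.1 hv p hp u, map_smul]

/-- Transport by the torus. -/
theorem D_torus {a b : F} (ha : a ≠ 0) (hb : b ≠ 0) {S : List (ℕ × F)} (hS : ∀ p ∈ S, p.1 < 12) :
    D ρ ψ (S.map fun p => (p.1, chi a b p.1 * p.2)) = D ρ ψ S := by
  refine le_antisymm (finrank_le_of_maps (ρ := ρ) (hh a b) fun v hv => mem_WT.2 fun p hp u => ?_)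
    (finrank_le_of_maps (ρ := ρ) (hh a b)⁻¹ fun v hv => mem_WT.2 ?_)
  · have e : (hh a b)⁻¹ * X p.1 u * hh a b = X p.1 ((chi a b p.1)⁻¹ * u) := by
      have h := hh_conj ha hb (hS p hp) ((chi a b p.1)⁻¹ * u)
      rw [mul_inv_cancel_left₀ (chi_ne ha hb _)] at h
      rw [← h]; group
    rw [move e, mem_WT.1 hv (p.1, chi a b p.1 * p.2) (List.mem_map.2 ⟨p, hp, rfl⟩), map_smul]
    congr 2
    have := chi_ne ha hb p.1
    field_simp
  · intro p hp u
    obtain ⟨p, hp', rfl⟩ := List.mem_map.1 hp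
    rw [move (show (hh a b)⁻¹⁻¹ * X p.1 u * (hh a b)⁻¹ = X p.1 (chi a b p.1 * u) by
      rw [inv_inv]; exact hh_conj ha hb (hS p hp') u), mem_WT.1 hv p hp', map_smul]
    congr 2
    ring

/-- Transport by a simple reflection. -/
theorem exists_D_nn {i : ℕ} (hi : i < 2) : ∃ e : ℕ → F, (∀ s < 12, e s * e s = 1) ∧
    ∀ S : List (ℕ × F), (∀ p ∈ S, p.1 < 12) →
      D ρ ψ (S.map fun p => (Cfsg.Lie.chevG2.reflectRoot i p.1, e p.1 * p.2)) = D ρ ψ S := by
  obtain ⟨e, he, hc⟩ := nn_conj (F := F) hi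
  refine ⟨e, he, fun S hS => le_antisymm (finrank_le_of_maps (ρ := ρ) (nn i)⁻¹ fun v hv => mem_WT.2 fun p hp u => ?_)
    (finrank_le_of_maps (ρ := ρ) (nn i) fun v hv => mem_WT.2 ?_)⟩
  · rw [move (show (nn i)⁻¹⁻¹ * X p.1 u * (nn i)⁻¹ =
        X (Cfsg.Lie.chevG2.reflectRoot i p.1) (e p.1 * u) by rw [inv_inv]; exact hc p.1 (hS p hp) u),
      mem_WT.1 hv (_, e p.1 * p.2) (List.mem_map.2 ⟨p, hp, rfl⟩), map_smul]
    congr 2
    rw [mul_mul_mul_comm, he p.1 (hS p hp), one_mul]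
  · intro p hp u
    obtain ⟨p, hp', rfl⟩ := List.mem_map.1 hp
    have e' : (nn i : Grp F)⁻¹ * X (Cfsg.Lie.chevG2.reflectRoot i p.1) u * nn i = X p.1 (e p.1 * u) := by
      have h := hc p.1 (hS p hp') (e p.1 * u)
      rw [← mul_assoc, he p.1 (hS p hp'), one_mul] at h
      rw [← h]; group
    rw [move e', mem_WT.1 hv p hp', map_smul]
    congr 2
    ring

/-- Some vector outside the fixed space of a root subgroup, for a nontrivial representation. -/
theorem exists_weight_ne_zero (hF : ∃ a : F, a ≠ 0 ∧ a ≠ 1) (hψ : ψ.IsPrimitive) (hne : ∃ g, ρ g ≠ 1)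
    {r : ℕ} (hr : r < 12) : ∃ a : F, a ≠ 0 ∧ 0 < D ρ ψ [(r, a)] := by
  by_contra hc
  push Not at hc
  have h := split_top (ρ := ρ) hψ r
  rw [Finset.sum_eq_single (0 : F) (fun a _ ha => Nat.le_zero.1 (hc a ha)) (by simp)] at h
  have htop : WT ρ ψ [(r, 0)] = ⊤ := Submodule.eq_top_of_finrank_eq h
  have hker : X r 1 ∈ MonoidHom.ker ρ := MonoidHom.mem_ker.2 (LinearMap.ext fun v => by
    simpa using mem_WT.1 (htop ▸ Submodule.mem_top : v ∈ WT ρ ψ [(r, (0 : F))]) (r, 0) (by simp) 1)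
  have := simple_group hF
  rcases this.eq_bot_or_eq_top_of_normal (MonoidHom.ker ρ) inferInstance with e | e
  · rw [e, Subgroup.mem_bot] at hker
    exact X_ne_one hr one_ne_zero hker
  · obtain ⟨g, hg⟩ := hne
    exact hg (MonoidHom.mem_ker.1 (e ▸ Subgroup.mem_top g))

end Cfsg.Agent.MinDegree.G2
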