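import Cfsg.Agent.Lib.MinDegree.WeightTrace

/-!
A lower bound for the degree of a nontrivial complex representation of a finite group containing a
special `p`-subgroup with centre the additive group of a field: the Heisenberg part contributes
`(q - 1) * m`, the part fixed by the centre contributes the length of an orbit of linear characters.
-/

set_option autoImplicit false
set_option linter.unusedSectionVars false

open Module

namespace Cfsg.Agent.MinDegree

theorem card_le_of_weights {M : Type*} [Monoid M] {W : Type*} [AddCommGroup W] [Module ℂ W]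
    [FiniteDimensional ℂ W] (R : M →* Module.End ℂ W) (S : Finset (M → ℂ))
    (hS : ∀ f ∈ S, ∃ v : W, v ≠ 0 ∧ ∀ x, R x v = f x • v) : S.card ≤ finrank ℂ W := by
  classical
  choose v hv0 hv using hS
  have key : ∀ T : Finset (M → ℂ), ∀ (hT : T ⊆ S) (c : (M → ℂ) → ℂ),
      ∑ f ∈ T.attach, c f.1 • v f.1 (hT f.2) = 0 → ∀ f ∈ T, c f = 0 := by
    intro T
    induction T using Finset.induction_on with
    | empty => simp
    | insert a T ha ih =>
      intro hT c hc
      have hTS : T ⊆ S := (Finset.subset_insert a T).trans hT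
      let w : (M → ℂ) → W := fun f => if h : f ∈ S then v f h else 0
      have hw : ∀ f (h : f ∈ S), w f = v f h := fun f h => dif_pos h
      have hc' : c a • w a + ∑ f ∈ T, c f • w f = 0 := by
        rw [← Finset.sum_insert (f := fun f => c f • w f) ha, ← Finset.sum_attach, ← hc]
        exact Finset.sum_congr rfl fun f _ => by rw [hw f.1 (hT f.2)]
      have hR : ∀ x, ∀ f ∈ S, R x (w f) = f x • w f := fun x f hf => by rw [hw f hf]; exact hv f hf x
      have hT0 : ∀ f ∈ T, c f = 0 := by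
        intro f hf
        obtain ⟨x, hx⟩ : ∃ x, f x ≠ a x := by
          by_contra hcon
          push Not at hcon
          exact ha (by rw [← funext hcon]; exact hf)
        have h1 := congrArg (R x) hc'
        rw [map_add, map_smul, hR x a (hT (Finset.mem_insert_self a T)), map_sum, map_zero] at h1
        have h2 : ∑ g ∈ T, (c g * (g x - a x)) • w g = 0 := by
          have h3 : ∑ g ∈ T, R x (c g • w g) = ∑ g ∈ T, (c g * g x) • w g :=
            Finset.sum_congr rfl fun g hg => by rw [map_smul, hR x g (hTS hg), smul_smul]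
          rw [h3] at h1
          have h4 := congrArg (fun y => a x • y) hc'
          simp only [smul_add, Finset.smul_sum, smul_zero] at h4
          have h5 := sub_eq_zero.2 (h1.trans h4.symm)
          rw [smul_smul, smul_smul, mul_comm (c a) (a x), add_sub_add_left_eq_sub, ← Finset.sum_sub_distrib] at h5
          rw [← h5]
          exact Finset.sum_congr rfl fun g _ => by
            rw [smul_smul, ← sub_smul]
            congr 1
            ring
        have h6 := ih hTS (fun g => c g * (g x - a x)) (by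
          rw [← h2, ← Finset.sum_attach (f := fun g => (c g * (g x - a x)) • w g)]
          exact Finset.sum_congr rfl fun g _ => by rw [hw g.1 (hTS g.2)]) f hf
        exact (mul_eq_zero.1 h6).resolve_right (sub_ne_zero.2 hx)
      intro f hf
      rcases Finset.mem_insert.1 hf with rfl | hf
      · rw [Finset.sum_eq_zero fun g hg => by rw [hT0 g hg, zero_smul], add_zero] at hc'
        refine (smul_eq_zero.1 hc').resolve_right ?_
        rw [hw f (hT (Finset.mem_insert_self f T))]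
        exact hv0 _ _
      · exact hT0 f hf
  have li : LinearIndependent ℂ fun f : S => v f.1 f.2 := by
    rw [Fintype.linearIndependent_iff]
    intro c hc f
    have := key S subset_rfl (fun g => if h : g ∈ S then c ⟨g, h⟩ else 0) (by
      rw [← hc]
      exact Finset.sum_congr rfl fun g _ => by simp) f.1 f.2
    simpa using this
  simpa using li.fintype_card_le_finrank

/-- The degree bound. -/
theorem heisenberg_bound {G : Type*} [Group G] [Finite G] {k : Type*} [Field k] [Fintype k]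
    (z : k → G) (hz_add : ∀ s t, z (s + t) = z s * z t)
    (Q : Subgroup G) (hzQ : ∀ t, z t ∈ Q) (hcen : ∀ t, ∀ x ∈ Q, z t * x = x * z t)
    (hcomm : ∀ x ∈ Q, ∀ y ∈ Q, ∃ c, y * x * y⁻¹ = x * z c)
    (hnd : ∀ x ∈ Q, x ∉ Set.range z → ∀ c, ∃ y ∈ Q, y * x * y⁻¹ = x * z c)
    {ι : Type*} [Fintype ι] (e : ι → G) (heQ : ∀ v, e v ∈ Q)
    (he : ∀ v w, v ≠ w → (e w)⁻¹ * e v ∉ Set.range z) {m : ℕ} (hι : Fintype.card ι = m ^ 2)
    (hscale : ∀ c : k, c ≠ 0 → ∃ g, ∀ t, g * z t * g⁻¹ = z (c * t))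
    (hfuse : ∃ x ∈ Q, x ∉ Set.range z ∧ ∃ g t, t ≠ 0 ∧ g * x * g⁻¹ = z t)
    (hgen : Subgroup.normalClosure (Set.range z) = ⊤) (N : ℕ)
    (horb : ∀ f : G → ℂ, (∀ x ∈ Q, ∀ y ∈ Q, f (x * y) = f x * f y) → (∀ t, f (z t) = 1) →
      (∃ x ∈ Q, f x ≠ 1) → (∀ x, x ∉ Q → f x = 0) → ∃ S : Finset (G → ℂ), N ≤ S.card ∧
        ∀ f' ∈ S, ∃ g, (∀ x, g * x * g⁻¹ ∈ Q ↔ x ∈ Q) ∧ (∀ t, ∃ s, g * z t * g⁻¹ = z s) ∧
          f' = fun x => f (g * x * g⁻¹))
    {W : Type*} [AddCommGroup W] [Module ℂ W] [FiniteDimensional ℂ W] (ρ : Representation ℂ G W)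
    (hne : ∃ g, ρ g ≠ 1) :
    (Fintype.card k - 1) * m + N ≤ finrank ℂ W := by
  classical
  have hz0 : z 0 = 1 := by
    have h := hz_add 0 0
    rw [add_zero] at h
    exact mul_left_cancel (a := z 0) (by rw [← h, mul_one])
  set op : k → W →ₗ[ℂ] W := fun t => ρ (z t) with hop_def
  have hop : IsOp op := ⟨by simp [op, hz0], fun s t => by simp [op, hz_add, map_mul]⟩
  have hmap : ∀ (g : G) (σ : k → k) (ψ ψ' : AddChar k ℂ), (∀ t, z t * g = g * z (σ t)) →
      (∀ t, ψ (σ t) = ψ' t) → ∀ x ∈ eigen op ψ, ρ g x ∈ eigen op ψ' := by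
    intro g σ ψ ψ' hg hψ x hx
    rw [mem_eigen] at hx ⊢
    intro t
    show ρ (z t) (ρ g x) = _
    rw [← Module.End.mul_apply, ← map_mul, hg, map_mul, Module.End.mul_apply]
    rw [show ρ (z (σ t)) x = ψ (σ t) • x from hx (σ t), map_smul, hψ]
  have hinj : ∀ g : G, Function.Injective (ρ g) := by
    intro g x y h
    have h' := congrArg (ρ g⁻¹) h
    rwa [← Module.End.mul_apply, ← Module.End.mul_apply, ← map_mul, inv_mul_cancel, map_one,
      Module.End.one_apply, Module.End.one_apply] at h'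
  set d : AddChar k ℂ → ℕ := fun ψ => finrank ℂ (eigen op ψ) with hd_def
  have hdle : ∀ (ψ : AddChar k ℂ) (c : k), c ≠ 0 → d ψ ≤ d (AddChar.mulShift ψ c⁻¹) := by
    intro ψ c hc
    obtain ⟨g, hg⟩ := hscale c hc
    have hg' : ∀ t, z t * g = g * z (c⁻¹ * t) := fun t => by
      have := hg (c⁻¹ * t)
      rw [mul_inv_cancel_left₀ hc] at this
      rw [← this]
      group
    let L : eigen op ψ →ₗ[ℂ] eigen op (AddChar.mulShift ψ c⁻¹) :=
      (ρ g).restrict fun x hx => hmap g _ ψ _ hg' (fun t => (AddChar.mulShift_apply).symm) x hx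
    refine LinearMap.finrank_le_finrank_of_injective (f := L) fun x y h => Subtype.ext ?_
    exact hinj g (congrArg Subtype.val h)
  -- all nontrivial characters are multiples of one of them
  obtain ⟨ψ0, hψ0⟩ : ∃ ψ : AddChar k ℂ, ψ ≠ 1 := by
    have : Nontrivial (AddChar k ℂ) := Fintype.one_lt_card_iff_nontrivial.1 (by
      rw [AddChar.card_eq]; exact Fintype.one_lt_card)
    exact exists_ne 1
  have hshift : Function.Bijective fun a : k => AddChar.mulShift ψ0 a :=
    (Fintype.bijective_iff_injective_and_card _).2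
      ⟨AddChar.to_mulShift_inj_of_isPrimitive (AddChar.IsPrimitive.of_ne_one hψ0), AddChar.card_eq.symm⟩
  have hdeq : ∀ ψ, ψ ≠ 1 → d ψ = d ψ0 := by
    intro ψ hψ
    obtain ⟨a, rfl⟩ := hshift.2 ψ
    have ha : a ≠ 0 := fun h => hψ (by simp only [h, AddChar.mulShift_zero])
    refine le_antisymm ?_ ?_
    · have h := hdle (AddChar.mulShift ψ0 a) a ha
      rwa [AddChar.mulShift_mulShift, mul_inv_cancel₀ ha, AddChar.mulShift_one] at h
    · have h := hdle ψ0 a⁻¹ (inv_ne_zero ha)
      rwa [inv_inv] at h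
  have hsum : d 1 + (Fintype.card k - 1) * d ψ0 = finrank ℂ W := by
    rw [← sum_finrank_eigen hop, ← Finset.add_sum_erase _ _ (Finset.mem_univ (1 : AddChar k ℂ)),
      Finset.sum_congr rfl fun ψ hψ => hdeq ψ (Finset.ne_of_mem_erase hψ), Finset.sum_const,
      Finset.card_erase_of_mem (Finset.mem_univ _), Finset.card_univ, AddChar.card_eq, smul_eq_mul]
  have hd0 : d ψ0 ≠ 0 := by
    intro h0
    rw [h0, mul_zero, add_zero] at hsum
    have htop : eigen op (1 : AddChar k ℂ) = ⊤ := Submodule.eq_top_of_finrank_eq hsum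
    have hle : Subgroup.normalClosure (Set.range z) ≤ MonoidHom.ker ρ := by
      refine Subgroup.normalClosure_le_normal ?_
      rintro _ ⟨t, rfl⟩
      refine MonoidHom.mem_ker.2 (LinearMap.ext fun x => ?_)
      have h := mem_eigen.1 (htop ▸ Submodule.mem_top : x ∈ eigen op (1 : AddChar k ℂ)) t
      simpa [op] using h
    rw [hgen, top_le_iff] at hle
    obtain ⟨g, hg⟩ := hne
    exact hg (MonoidHom.mem_ker.1 (by rw [hle]; trivial))
  -- the action of `Q` on the eigenspaces
  have hQe : ∀ ψ, ∀ x ∈ Q, ∀ w ∈ eigen op ψ, ρ x w ∈ eigen op ψ := fun ψ x hx =>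
    hmap x id ψ ψ (fun t => hcen t x hx) fun t => rfl
  let Re : ∀ ψ : AddChar k ℂ, ↥Q →* Module.End ℂ (eigen op ψ) := fun ψ =>
    { toFun := fun x => (ρ x.1).restrict (hQe ψ x.1 x.2)
      map_one' := LinearMap.ext fun w => Subtype.ext (by simp [LinearMap.restrict_apply])
      map_mul' := fun x y => LinearMap.ext fun w => Subtype.ext (by simp [LinearMap.restrict_apply]) }
  have hRe : ∀ ψ (x : ↥Q) (w : eigen op ψ), ((Re ψ x w : eigen op ψ) : W) = ρ x.1 w.1 := fun _ _ _ => rfl
  have hRez : ∀ ψ t, Re ψ ⟨z t, hzQ t⟩ = ψ t • 1 := fun ψ t =>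
    LinearMap.ext fun w => Subtype.ext (mem_eigen.1 w.2 t)
  have htr0 : ∀ ψ, ψ ≠ 1 → ∀ x : ↥Q, x.1 ∉ Set.range z →
      LinearMap.trace ℂ (eigen op ψ) (Re ψ x) = 0 := by
    intro ψ hψ x hx
    obtain ⟨c, hc⟩ : ∃ c, ψ c ≠ 1 := by
      by_contra h
      push Not at h
      exact hψ (DFunLike.ext _ _ fun c => by rw [h c, AddChar.one_apply])
    obtain ⟨y, hy, hyx⟩ := hnd x.1 x.2 hx c
    let y' : ↥Q := ⟨y, hy⟩
    have h1 : y' * x * y'⁻¹ = x * ⟨z c, hzQ c⟩ := Subtype.ext hyx
    have h2 := congrArg (fun u => LinearMap.trace ℂ (eigen op ψ) (Re ψ u)) h1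
    simp only [map_mul, hRez] at h2
    rw [LinearMap.trace_mul_comm, ← mul_assoc, ← map_mul, inv_mul_cancel, map_one, one_mul,
      mul_smul_comm, mul_one, map_smul, smul_eq_mul] at h2
    have h3 : (1 - ψ c) * LinearMap.trace ℂ (eigen op ψ) (Re ψ x) = 0 := by linear_combination h2
    exact (mul_eq_zero.1 h3).resolve_left (sub_ne_zero.2 (Ne.symm hc))
  have hm : m ≤ d ψ0 := by
    have li : LinearIndependent ℂ fun v => Re ψ0 ⟨e v, heQ v⟩ := by
      rw [Fintype.linearIndependent_iff]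
      intro a ha v
      have h1 := congrArg
        (fun u => LinearMap.trace ℂ (eigen op ψ0) (Re ψ0 ⟨e v, heQ v⟩⁻¹ * u)) ha
      simp only [Finset.mul_sum, mul_smul_comm, map_sum, map_smul, mul_zero, map_zero, smul_eq_mul,
        ← map_mul] at h1
      rw [Finset.sum_eq_single v (fun w _ hw => ?_) (by simp)] at h1
      · rw [inv_mul_cancel, map_one, LinearMap.trace_one] at h1
        exact (mul_eq_zero.1 h1).resolve_right (Nat.cast_ne_zero.2 hd0)
      · rw [htr0 ψ0 hψ0 _ (he w v hw), mul_zero]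
    have h := li.fintype_card_le_finrank
    rw [hι, Module.finrank_linearMap] at h
    by_contra hlt
    push Not at hlt
    exact absurd h (not_le.2 (by nlinarith))
  -- the centre fixes a vector with nontrivial weight
  obtain ⟨x0, hx0Q, hx0, g0, t0, ht0, hgx⟩ := hfuse
  have htrx : LinearMap.trace ℂ W (ρ x0) =
      LinearMap.trace ℂ (eigen op (1 : AddChar k ℂ)) (Re 1 ⟨x0, hx0Q⟩) := by
    rw [trace_eq_sum hop, Finset.sum_eq_single (1 : AddChar k ℂ) (fun ψ _ hψ => ?_) (by simp)]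
    · exact trace_restrict_eigen hop _ _ (hQe 1 x0 hx0Q)
    · rw [trace_restrict_eigen hop _ _ (hQe ψ x0 hx0Q)]
      exact htr0 ψ hψ ⟨x0, hx0Q⟩ hx0
  have htrz : LinearMap.trace ℂ W (ρ (z t0)) = (d 1 : ℂ) - d ψ0 := by
    rw [trace_eq_sum hop, Finset.sum_congr rfl fun ψ _ =>
      trace_of_scalar hop (ρ (z t0)) ψ (ψ t0) fun x hx => mem_eigen.1 hx t0]
    rw [← Finset.add_sum_erase _ _ (Finset.mem_univ (1 : AddChar k ℂ)), AddChar.one_apply, one_mul,
      Finset.sum_congr rfl fun ψ hψ => by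
        rw [show finrank ℂ (eigen op ψ) = d ψ0 from hdeq ψ (Finset.ne_of_mem_erase hψ)],
      ← Finset.sum_mul]
    have h1 := Finset.add_sum_erase Finset.univ (fun ψ : AddChar k ℂ => ψ t0) (Finset.mem_univ 1)
    rw [AddChar.sum_apply_eq_ite, if_neg ht0] at h1
    rw [show ∑ ψ ∈ Finset.univ.erase (1 : AddChar k ℂ), ψ t0 = -1 from
      eq_neg_of_add_eq_zero_right (by simpa using h1)]
    ring
  have hconj : LinearMap.trace ℂ W (ρ x0) = LinearMap.trace ℂ W (ρ (z t0)) := by
    rw [← hgx, map_mul ρ, LinearMap.trace_mul_comm, ← map_mul ρ, inv_mul_cancel_left]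
  -- a commutative group of operators on the fixed space of the centre
  let X := eigen op (1 : AddChar k ℂ)
  have hone : ∀ t, Re 1 ⟨z t, hzQ t⟩ = 1 := fun t => by rw [hRez, AddChar.one_apply, one_smul]
  let π : ↥Q →* (Module.End ℂ X)ˣ := (Re 1).toHomUnits
  have hπ : ∀ x : ↥Q, ((π x : (Module.End ℂ X)ˣ) : Module.End ℂ X) = Re 1 x := fun x => rfl
  have hπc : ∀ a b : ↥π.range, a * b = b * a := by
    rintro ⟨_, x, rfl⟩ ⟨_, y, rfl⟩
    refine Subtype.ext (Units.ext ?_)
    show Re 1 x * Re 1 y = Re 1 y * Re 1 x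
    obtain ⟨c, hc⟩ := hcomm x.1 x.2 y.1 y.2
    have h1 : y * x = x * ⟨z c, hzQ c⟩ * y :=
      Subtype.ext (show y.1 * x.1 = x.1 * z c * y.1 by rw [← hc]; group)
    rw [← map_mul, ← map_mul, h1, map_mul, map_mul, map_mul, hone, mul_one]
  let inst : CommGroup ↥π.range := { (inferInstance : Group ↥π.range) with mul_comm := hπc }
  have : Finite ↥π.range := Finite.of_surjective _ π.rangeRestrict_surjective
  let fin : Fintype (Additive ↥π.range) := Fintype.ofFinite _
  let op1 : Additive ↥π.range → X →ₗ[ℂ] X := fun a => (a.toMul.1 : Module.End ℂ X)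
  have hop1 : IsOp op1 := ⟨by simp [op1], fun a b => by simp [op1]⟩
  obtain ⟨x1, hx1⟩ : ∃ x : ↥Q, Re 1 x ≠ 1 := by
    by_contra hcon
    push Not at hcon
    rw [hconj, htrz, hcon ⟨x0, hx0Q⟩, LinearMap.trace_one] at htrx
    exact hd0 (by exact_mod_cast sub_eq_self.1 htrx)
  obtain ⟨w0, hw0⟩ : ∃ w : X, Re 1 x1 w ≠ w := by
    by_contra hcon
    push Not at hcon
    exact hx1 (LinearMap.ext hcon)
  obtain ⟨χ, hχ, y, -, hy0, hyχ⟩ := exists_eigen_ne_one hop1 (M := (⊤ : Submodule ℂ X))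
    (fun _ _ _ => trivial) (Submodule.mem_top (x := w0))
    (a := Additive.ofMul (⟨π x1, x1, rfl⟩ : ↥π.range)) hw0
  let f : G → ℂ := fun x =>
    if h : x ∈ Q then χ (Additive.ofMul (⟨π ⟨x, h⟩, ⟨x, h⟩, rfl⟩ : ↥π.range)) else 0
  have hfv : ∀ (x : G) (h : x ∈ Q), Re 1 ⟨x, h⟩ y = f x • y := fun x h => by
    simp only [f, dif_pos h]
    exact mem_eigen.1 hyχ (Additive.ofMul (⟨π ⟨x, h⟩, ⟨x, h⟩, rfl⟩ : ↥π.range))
  have hfmul : ∀ x ∈ Q, ∀ x' ∈ Q, f (x * x') = f x * f x' := by
    intro x hx x' hx'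
    refine smul_left_injective ℂ hy0 ?_
    show f (x * x') • y = (f x * f x') • y
    rw [← hfv _ (Q.mul_mem hx hx'), show (⟨x * x', Q.mul_mem hx hx'⟩ : ↥Q) = ⟨x, hx⟩ * ⟨x', hx'⟩ from rfl,
      map_mul, Module.End.mul_apply, hfv x' hx', map_smul, hfv x hx, smul_smul, mul_comm]
  have hfz : ∀ t, f (z t) = 1 := fun t => by
    refine smul_left_injective ℂ hy0 ?_
    show f (z t) • y = (1 : ℂ) • y
    rw [← hfv _ (hzQ t), hone, Module.End.one_apply, one_smul]
  have hfne : ∃ x ∈ Q, f x ≠ 1 := by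
    by_contra hcon
    push Not at hcon
    refine hχ (DFunLike.ext _ _ fun a => ?_)
    obtain ⟨x, hx⟩ := a.toMul.2
    have h1 := mem_eigen.1 hyχ a
    have h2 := hfv x.1 x.2
    rw [hcon x.1 x.2, one_smul] at h2
    refine smul_left_injective ℂ hy0 ?_
    show χ a • y = (1 : AddChar (Additive ↥π.range) ℂ) a • y
    rw [AddChar.one_apply, one_smul, ← h1]
    show (a.toMul.1 : Module.End ℂ X) y = y
    rw [← hx]
    exact h2
  obtain ⟨S, hS, hSf⟩ := horb f hfmul hfz hfne fun x hx => dif_neg hx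
  have hN : N ≤ d 1 := by
    let res : (G → ℂ) → (↥Q → ℂ) := fun F x => F x.1
    have hres : Set.InjOn res (S : Set (G → ℂ)) := by
      intro F hF F' hF' h
      funext x
      by_cases hx : x ∈ Q
      · exact congrFun h ⟨x, hx⟩
      · obtain ⟨g, hgQ, -, rfl⟩ := hSf F hF
        obtain ⟨g', hgQ', -, rfl⟩ := hSf F' hF'
        simp only [f, dif_neg (mt (hgQ x).1 hx), dif_neg (mt (hgQ' x).1 hx)]
    refine hS.trans ?_
    rw [← Finset.card_image_of_injOn hres]
    refine card_le_of_weights (Re 1) _ fun F' hF' => ?_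
    obtain ⟨F, hF, rfl⟩ := Finset.mem_image.1 hF'
    obtain ⟨g, hgQ, hgz, rfl⟩ := hSf F hF
    choose σ hσ using hgz
    have hmem : ρ g⁻¹ y.1 ∈ eigen op (1 : AddChar k ℂ) :=
      hmap g⁻¹ σ 1 1 (fun t => by rw [← hσ t]; group) (fun t => by simp) y.1 y.2
    refine ⟨⟨_, hmem⟩, fun h => hy0 (Subtype.ext ((hinj g⁻¹) (by simpa using congrArg Subtype.val h))),
      fun x => Subtype.ext ?_⟩
    rw [hRe]
    show ρ x.1 (ρ g⁻¹ y.1) = f (g * x.1 * g⁻¹) • ρ g⁻¹ y.1
    have h := congrArg Subtype.val (hfv _ ((hgQ x.1).2 x.2))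
    rw [hRe] at h
    simp only [SetLike.val_smul] at h
    rw [← map_smul, ← h, ← Module.End.mul_apply, ← map_mul, ← Module.End.mul_apply, ← map_mul]
    congr 2
    group
  calc (Fintype.card k - 1) * m + N ≤ (Fintype.card k - 1) * d ψ0 + d 1 :=
        Nat.add_le_add (Nat.mul_le_mul_left _ hm) hN
    _ = finrank ℂ W := by rw [← hsum, add_comm]

end Cfsg.Agent.MinDegree
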