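import Mathlib

/-!
Arithmetic for the minimal degrees of orthogonal groups.
-/

set_option autoImplicit false

namespace Cfsg.Agent.MinDegree.Orth

theorem two_min_plus {q P D : ℤ} (hq : 4 ≤ q) (hP : q ^ 2 ≤ P) (hD : 2 * (q * P ^ 2 - P) ≤ D) :
    q ^ 3 * P ^ 2 + q ^ 3 * P - q * P - q ≤ (q ^ 2 - 1) * D := by
  have h1 := mul_le_mul_of_nonneg_left hD (show (0 : ℤ) ≤ q ^ 2 - 1 by nlinarith)
  have h2 : 0 ≤ (P - q ^ 2) * ((q ^ 3 - 2 * q) * P) :=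
    mul_nonneg (by linarith) (mul_nonneg (by nlinarith) (by nlinarith))
  have h3 : q ^ 3 + 2 * q ^ 2 - q - 2 ≤ q ^ 2 * (q ^ 3 - 2 * q) := by
    nlinarith [pow_le_pow_left₀ (by linarith) hq 3, mul_nonneg (show (0 : ℤ) ≤ q - 4 by linarith) (sq_nonneg q)]
  have h4 := mul_le_mul_of_nonneg_right h3 (show (0 : ℤ) ≤ P by nlinarith)
  nlinarith

theorem two_min_minus {q P D : ℤ} (hq : 2 ≤ q) (hP : q ^ 2 ≤ P)
    (hD : 2 * (q * P ^ 2 - q * P + P - 1) ≤ D) :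
    q ^ 3 * P ^ 2 - q ^ 3 * P + q * P - q ≤ (q ^ 2 - 1) * D := by
  have h1 := mul_le_mul_of_nonneg_left hD (show (0 : ℤ) ≤ q ^ 2 - 1 by nlinarith)
  have hP0 : 0 ≤ P := by nlinarith
  have h2 : 0 ≤ (P - q ^ 2) * ((q ^ 3 - 2 * q) * P) :=
    mul_nonneg (by linarith) (mul_nonneg (by nlinarith) hP0)
  have hb : q ^ 3 - 2 * q ^ 2 - q + 2 + 2 ≤ q ^ 2 * (q ^ 3 - 2 * q) := by
    nlinarith [pow_le_pow_left₀ (by linarith) hq 3, mul_nonneg (show (0 : ℤ) ≤ q - 2 by linarith) (sq_nonneg q)]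
  have h3 := mul_le_mul_of_nonneg_right hb hP0
  nlinarith

/-- One less than the bound is impossible. -/
theorem not_bound_sub_one {q P D C e : ℤ} (hq : 2 ≤ q) (hP : q ^ 2 ≤ P) (he : e = 1 ∨ e = -1)
    (hD : (q ^ 2 - 1) * (D + 1) = q * (q ^ 2 * P - e) * (P + e))
    (hC : (q ^ 2 - 1) * C = (q ^ 2 * P - e) * (q * P + e) * ((q * P - e) * (P + e)))
    (hdvd : D ∣ C * (q * P ^ 2)) (hqP : ∃ j : ℕ, P = q ^ j) : False := by
  obtain ⟨j, hj⟩ := hqP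
  have hq1 : q ^ 2 - 1 ≠ 0 := by nlinarith
  have hee : e * e = 1 := by rcases he with rfl | rfl <;> norm_num
  have hqC : q * C = (D + 1) * (q ^ 2 * P ^ 2 - 1) := by
    refine mul_left_cancel₀ hq1 ?_
    rw [← mul_assoc, mul_comm (q ^ 2 - 1) q, mul_assoc, hC, ← mul_assoc (q ^ 2 - 1), hD]
    linear_combination (-q) * (q ^ 2 * P - e) * (P + e) * hee
  have hqD : q ∣ D + 1 :=
    ⟨(D + 1) * (q * P ^ 2) - C, by linear_combination hqC⟩
  obtain ⟨l, hl⟩ := hqD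
  have hcop : IsCoprime D q := ⟨-1, l, by linarith⟩
  have hd2 : D ∣ (q ^ 2 * P ^ 2 - 1) * (q * P ^ 2) := by
    have h1 : D ∣ (D + 1) * ((q ^ 2 * P ^ 2 - 1) * (q * P ^ 2)) := by
      rw [← mul_assoc, ← hqC, mul_assoc]
      exact hdvd.mul_left q
    rw [add_mul, one_mul] at h1
    exact (dvd_add_right (dvd_mul_right D _)).1 h1
  have hP' : IsCoprime D (q * P ^ 2) := by
    rw [hj, ← pow_mul, ← pow_succ']
    exact hcop.pow_right
  obtain ⟨i, hi⟩ := hP'.dvd_of_dvd_mul_right hd2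
  have hlow : q * P ^ 2 ≤ D + 1 := by
    refine Int.le_of_mul_le_mul_left (a := q ^ 2 - 1) ?_ (by nlinarith)
    rw [hD]
    have hqP : 0 ≤ q * P := mul_nonneg (by linarith) (by nlinarith)
    rcases he with rfl | rfl <;>
      nlinarith [mul_nonneg hqP (show (0 : ℤ) ≤ P - q ^ 2 by linarith),
        mul_nonneg (show (0 : ℤ) ≤ q by linarith) (show (0 : ℤ) ≤ P - 1 by nlinarith), mul_nonneg hqP (show (0:ℤ) ≤ q ^ 2 - 1 by nlinarith)]
  have hhigh : D + 1 < q ^ 2 * P ^ 2 - 1 := by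
    refine Int.lt_of_mul_lt_mul_left (a := q ^ 2 - 1) ?_ (by nlinarith)
    rw [hD]
    have h4 : (4 : ℤ) ≤ P := by nlinarith
    have k1 : (0 : ℤ) ≤ q ^ 2 - q - 2 := by nlinarith
    have k2 : (0 : ℤ) ≤ P - q - 1 := by nlinarith
    rcases he with rfl | rfl <;>
      nlinarith [mul_nonneg (show (0 : ℤ) ≤ q ^ 2 * P ^ 2 by positivity) k1,
        mul_nonneg (show (0 : ℤ) ≤ q ^ 2 * P from mul_nonneg (by positivity) (by linarith)) k2]
  have hi1 : q ∣ i - 1 := ⟨l * i - q * P ^ 2, by linear_combination hi + i * hl⟩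
  obtain ⟨m, hm⟩ := hi1
  have h4 : 4 ≤ P := by nlinarith
  have h32 : 2 * 16 ≤ q * P ^ 2 := mul_le_mul hq (by nlinarith) (by norm_num) (by linarith)
  have hDpos : 0 < D := by linarith
  rcases lt_trichotomy m 0 with hm0 | rfl | hm0
  · have hi0 : i ≤ 0 := by nlinarith [mul_le_mul_of_nonneg_left (show m ≤ -1 by omega) (show (0 : ℤ) ≤ q by linarith)]
    nlinarith [mul_nonpos_iff.2 (Or.inl ⟨hDpos.le, hi0⟩)]
  · obtain rfl : i = 1 := by linarith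
    linarith
  · have : q + 1 ≤ i := by nlinarith [mul_le_mul_of_nonneg_left (show 1 ≤ m by omega) (show (0 : ℤ) ≤ q by linarith)]
    have h5 : (q + 1) * (q * P ^ 2 - 1) ≤ i * D := mul_le_mul this (by linarith) (by linarith) (by linarith)
    nlinarith [mul_le_mul_of_nonneg_left (show (2 : ℤ) ≤ P ^ 2 by nlinarith) (show (0 : ℤ) ≤ q by linarith)]

theorem dvd_bound {D a b : ℕ} (h : D ∣ a * b) : D ∣ Nat.gcd D a * Nat.gcd D b :=
  (Nat.dvd_gcd dvd_rfl h).trans (Nat.gcd_mul_right_dvd_mul_gcd D a b)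

theorem gcd_dvd_of_eq {D a K : ℤ} {r : ℤ} (h : D = a * K + r) : (Int.gcd D a : ℤ) ∣ r := by
  have h1 := Int.gcd_dvd_left D a
  have h2 := (Int.gcd_dvd_right D a).mul_right K
  have := dvd_sub h1 h2
  rwa [h, add_sub_cancel_left, ← h] at this

/-- The degrees just below the bound for eight-dimensional plus type. -/
theorem not_plus_eight {q D C d : ℕ} (hq : 4 ≤ q) (hd : d = 2 ∨ d = 3)
    (hD : D + d = q ^ 5 + 2 * q ^ 3 + q) (hC : C + (q ^ 2 + 1) ^ 2 = (q ^ 2 + 1) ^ 2 * q ^ 6)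
    (hdvd : D ∣ C * q ^ 5) : False := by
  have h6 : 1 ≤ q ^ 6 := Nat.one_le_pow _ _ (by omega)
  have hC' : C = (q ^ 2 + 1) ^ 2 * (q ^ 6 - 1) := by rw [Nat.mul_sub, mul_one]; omega
  rw [hC'] at hdvd
  by_cases hsmall : q ≤ 10
  · obtain rfl : D = q ^ 5 + 2 * q ^ 3 + q - d := by omega
    interval_cases q <;> rcases hd with rfl | rfl <;> norm_num at hdvd
  push Not at hsmall
  have e6 : q ^ 6 - 1 = (q - 1) * (q + 1) * ((q ^ 2 + q + 1) * (q ^ 2 + 1 - q)) := by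
    obtain ⟨p, rfl⟩ : ∃ p, q = p + 1 := ⟨q - 1, by omega⟩
    have h1 : p + 1 ≤ (p + 1) ^ 2 + 1 := by nlinarith
    rw [Nat.add_sub_cancel]
    zify [h6, h1]
    ring
  rw [e6] at hdvd
  have key : ∀ {a : ℕ} (K r : ℤ), (D : ℤ) = (a : ℤ) * K + r → r ≠ 0 → Nat.gcd D a ≤ r.natAbs := fun {a} K r h hr => by
    have h1 := gcd_dvd_of_eq h
    rw [Int.gcd_natCast_natCast] at h1
    exact Nat.le_of_dvd (by omega) (Int.natCast_dvd.1 h1)
  have kdvd : ∀ {a : ℕ} (K r : ℤ), (D : ℤ) = (a : ℤ) * K + r → Nat.gcd D a ∣ r.natAbs := fun {a} K r h => by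
    have h1 := gcd_dvd_of_eq h
    rw [Int.gcd_natCast_natCast] at h1
    exact Int.natCast_dvd.1 h1
  have hDz : (D : ℤ) = q ^ 5 + 2 * q ^ 3 + q - d := by
    have : (D : ℤ) + d = q ^ 5 + 2 * q ^ 3 + q := by exact_mod_cast hD
    linarith
  have hd' : (d : ℤ) = 2 ∨ (d : ℤ) = 3 := by rcases hd with rfl | rfl <;> norm_num
  have g1 : Nat.gcd D (q ^ 2 + 1) ∣ d := by
    simpa using kdvd (a := q ^ 2 + 1) (q * (q ^ 2 + 1)) (-d) (by rw [hDz]; push_cast; ring)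
  have g2 : Nat.gcd D q ∣ d := by simpa using kdvd (a := q) (q ^ 4 + 2 * q ^ 2 + 1) (-d) (by rw [hDz]; ring)
  have g3 := key (a := q - 1) ((q : ℤ) ^ 4 + q ^ 3 + 3 * q ^ 2 + 3 * q + 4) (4 - d)
    (by rw [hDz, Nat.cast_sub (by omega)]; push_cast; ring) (by omega)
  have g4 := key (a := q + 1) ((q : ℤ) ^ 4 - q ^ 3 + 3 * q ^ 2 - 3 * q + 4) (-4 - d)
    (by rw [hDz]; push_cast; ring) (by omega)
  have g5 := key (a := q ^ 2 + q + 1) ((q : ℤ) ^ 3 - q ^ 2 + 2 * q - 1) (1 - d)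
    (by rw [hDz]; push_cast; ring) (by omega)
  have g6 := key (a := q ^ 2 + 1 - q) ((q : ℤ) ^ 3 + q ^ 2 + 2 * q + 1) (-1 - d)
    (by rw [hDz, Nat.cast_sub (by nlinarith)]; push_cast; ring) (by omega)
  have hb := dvd_bound hdvd
  have hpow : 11 ^ 5 ≤ q ^ 5 := Nat.pow_le_pow_left (by omega) 5
  have hD0 : 0 < D := by omega
  have hsq : Nat.gcd D ((q ^ 2 + 1) ^ 2 * ((q - 1) * (q + 1) * ((q ^ 2 + q + 1) * (q ^ 2 + 1 - q)))) ≤
      d ^ 2 * ((4 - d) * (4 + d) * ((d - 1) * (d + 1))) := by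
    have m : ∀ a b, Nat.gcd D (a * b) ≤ Nat.gcd D a * Nat.gcd D b := fun a b => by
      refine Nat.le_of_dvd ?_ (Nat.gcd_mul_right_dvd_mul_gcd D a b)
      exact Nat.mul_pos (Nat.gcd_pos_of_pos_left _ hD0) (Nat.gcd_pos_of_pos_left _ hD0)
    have hd0 : 0 < d := by omega
    refine (m _ _).trans (Nat.mul_le_mul ?_ ((m _ _).trans (Nat.mul_le_mul ((m _ _).trans (Nat.mul_le_mul ?_ ?_))
      ((m _ _).trans (Nat.mul_le_mul ?_ ?_)))))
    · rw [sq, sq d]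
      exact (m _ _).trans (Nat.mul_le_mul (Nat.le_of_dvd hd0 g1) (Nat.le_of_dvd hd0 g1))
    · omega
    · omega
    · omega
    · omega
  have hq5 : Nat.gcd D (q ^ 5) ≤ d ^ 5 := Nat.le_of_dvd (pow_pos (by omega) 5)
    ((Nat.dvd_gcd ((Nat.gcd_dvd_left _ _).trans (dvd_pow_self D (by norm_num : 5 ≠ 0)))
      (Nat.gcd_dvd_right _ _)).trans (by rw [Nat.pow_gcd_pow]; exact pow_dvd_pow_of_dvd g2 5))
  have := (Nat.le_of_dvd (Nat.mul_pos (Nat.gcd_pos_of_pos_left _ hD0) (Nat.gcd_pos_of_pos_left _ hD0)) hb).trans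
    (Nat.mul_le_mul hsq hq5)
  rcases hd with rfl | rfl <;> norm_num at this <;> omega

end Cfsg.Agent.MinDegree.Orth
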