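import Cfsg.Agent.Lib.MinDegree.OrthLevel
import Cfsg.Agent.Lib.GL.Basic
import Cfsg.Agent.Lib.CharInt.Central
import Cfsg.Agent.Lib.CharInt.Congruence

/-!
The class of long root elements: its size, and the divisibility it forces on the degree.
-/

set_option autoImplicit false
set_option linter.unusedSectionVars false

open Module
open scoped MatrixGroups

namespace Cfsg.Agent.MinDegree.Orth

open Cfsg.Agent.ClassicalSimple
open Cfsg.Agent.MinDeg.Orth

variable {F V : Type*} [Field F] [Fintype F] [AddCommGroup V] [Module F V] [Finite V]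
  [FiniteDimensional F V] {Q : QuadraticForm F V}

/-- The number of non-zero singular vectors. -/
noncomputable def nsing (Q : QuadraticForm F V) : ℕ := Nat.card {x : V // x ≠ 0 ∧ Q x = 0}

theorem nsing_add_one : nsing Q + 1 = cnt Q 0 := by
  classical
  let _ : Fintype V := Fintype.ofFinite V
  rw [nsing, cnt, Nat.card_eq_fintype_card, Nat.card_eq_fintype_card, Fintype.card_subtype, Fintype.card_subtype,
    ← Finset.card_erase_add_one (s := Finset.univ.filter fun x : V => Q x = 0) (a := 0) (by simp)]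
  congr 2
  ext x
  simp

theorem finite_siegel (Q : QuadraticForm F V) : Finite (siegelGroup Q) :=
  Finite.of_injective (fun (g : siegelGroup Q) (x : V) => g • x) fun _ _ e => ext_act fun x => congrFun e x

variable (hN : (bil Q).Nondegenerate)
include hN

/-- The pairs with a given long root element are the images of one of them under `SL_2`. -/
theorem card_fibre {a b : V} (ha : Q a = 0) (hb : Q b = 0) (hab : bil Q a b = 0)
    (hi : LinearIndependent F ![a, b]) :
    Nat.card {p : V × V // Q p.1 = 0 ∧ Q p.2 = 0 ∧ bil Q p.1 p.2 = 0 ∧ LinearIndependent F ![p.1, p.2] ∧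
      sg Q p.1 p.2 = sg Q a b} = Fintype.card F * (Fintype.card F ^ 2 - 1) := by
  classical
  have hba : bil Q b a = 0 := (bil_comm b a).trans hab
  have act : ∀ (a' b' : V), Q a' = 0 → Q b' = 0 → bil Q a' b' = 0 → ∀ x,
      sg Q a' b' • x = x + bil Q x a' • b' - bil Q x b' • a' := fun a' b' h1 h2 h3 x => by
    rw [sg_act h1 h3, h2, zero_mul, add_zero]
  have hcomb : ∀ s t s' t' : F, Q (s • a + t • b) = 0 ∧ bil Q (s • a + t • b) (s' • a + t' • b) = 0 :=
    fun s t s' t' => by
      simp [quad_add, quad_smul_vec, ha, hb, hab, hba, bil_self_of_singular ha, bil_self_of_singular hb]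
  let f : SL(2, F) → {p : V × V // Q p.1 = 0 ∧ Q p.2 = 0 ∧ bil Q p.1 p.2 = 0 ∧
      LinearIndependent F ![p.1, p.2] ∧ sg Q p.1 p.2 = sg Q a b} := fun M =>
    ⟨(M.1 0 0 • a + M.1 0 1 • b, M.1 1 0 • a + M.1 1 1 • b), (hcomb _ _ (M.1 0 0) (M.1 0 1)).1,
      (hcomb _ _ (M.1 0 0) (M.1 0 1)).1, (hcomb _ _ _ _).2, by
        have hdet : M.1 0 0 * M.1 1 1 - M.1 0 1 * M.1 1 0 = 1 := by rw [← Matrix.det_fin_two]; exact M.2
        rw [LinearIndependent.pair_iff] at hi ⊢
        intro s t hst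
        obtain ⟨e1, e2⟩ := hi (s * M.1 0 0 + t * M.1 1 0) (s * M.1 0 1 + t * M.1 1 1) (by rw [← hst]; module)
        constructor
        · linear_combination M.1 1 1 * e1 - M.1 1 0 * e2 - s * hdet
        · linear_combination M.1 0 0 * e2 - M.1 0 1 * e1 - t * hdet, by
        have hdet : M.1 0 0 * M.1 1 1 - M.1 0 1 * M.1 1 0 = 1 := by rw [← Matrix.det_fin_two]; exact M.2
        refine ext_act fun x => ?_
        rw [act _ _ (hcomb _ _ (M.1 0 0) (M.1 0 1)).1 (hcomb _ _ (M.1 0 0) (M.1 0 1)).1 (hcomb _ _ _ _).2,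
          act a b ha hb hab]
        simp only [map_add, map_smul, smul_eq_mul]
        match_scalars
        · ring
        · linear_combination (-bil Q x b) * hdet
        · linear_combination (bil Q x a) * hdet⟩
  rw [← Nat.card_eq_of_bijective f ⟨fun M N e => ?_, fun p => ?_⟩, GL.card_SL2]
  · have h := congrArg Subtype.val e
    simp only [f, Prod.mk.injEq] at h
    rw [LinearIndependent.pair_iff] at hi
    obtain ⟨e1, e2⟩ := hi (M.1 0 0 - N.1 0 0) (M.1 0 1 - N.1 0 1) (by linear_combination (norm := module) h.1)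
    obtain ⟨e3, e4⟩ := hi (M.1 1 0 - N.1 1 0) (M.1 1 1 - N.1 1 1) (by linear_combination (norm := module) h.2)
    refine Subtype.ext ?_
    ext i j
    fin_cases i <;> fin_cases j
    exacts [sub_eq_zero.1 e1, sub_eq_zero.1 e2, sub_eq_zero.1 e3, sub_eq_zero.1 e4]
  · obtain ⟨⟨a', b'⟩, hQa, hQb, hB, hli, he⟩ := p
    simp only at hQa hQb hB hli he
    have hspan : ∀ x, bil Q x a' • b' - bil Q x b' • a' = bil Q x a • b - bil Q x b • a := fun x => by
      have h := congrArg (fun g : siegelGroup Q => g • x) he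
      simp only [act a' b' hQa hQb hB, act a b ha hb hab] at h
      rw [add_sub_assoc, add_sub_assoc, add_right_inj] at h
      exact h
    obtain ⟨x, hx1, hx2⟩ := exists_bil_pair hN hli 1 0
    obtain ⟨y, hy1, hy2⟩ := exists_bil_pair hN hli 0 1
    have e1 := hspan x
    rw [bil_comm x a', bil_comm x b', hx1, hx2, one_smul, zero_smul, sub_zero] at e1
    have e2 := hspan y
    rw [bil_comm y a', bil_comm y b', hy1, hy2, one_smul, zero_smul, zero_sub] at e2
    set s := bil Q y b
    set t := -bil Q y a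
    set s' := -bil Q x b
    set t' := bil Q x a
    have ea : a' = s • a + t • b := by rw [← neg_neg a', e2]; module
    have eb : b' = s' • a + t' • b := by rw [e1]; module
    have hdet : s * t' - t * s' = 1 := by
      obtain ⟨z, hz1, hz2⟩ := exists_bil_pair hN hi 1 0
      have h := hspan z
      rw [ea, eb] at h
      simp only [map_add, map_smul, smul_eq_mul, bil_comm z a, bil_comm z b, hz1, hz2] at h
      obtain ⟨w, hw1, hw2⟩ := exists_bil_pair hN hi 0 1
      have h' := congrArg (bil Q w) h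
      simp only [map_add, map_sub, map_smul, smul_eq_mul, bil_comm w a, bil_comm w b, hw1, hw2] at h'
      linear_combination h'
    refine ⟨⟨!![s, t; s', t'], by rw [Matrix.det_fin_two]; simpa using hdet⟩, Subtype.ext ?_⟩
    simp [f, ea, eb]

variable (h5 : 5 ≤ finrank F V)
include h5

theorem nsing_W {a a₁ v v₁ : V} (Pa : HP Q a a₁) (P : HP Q v v₁) :
    nsing (QW Q a a₁) = nsing (QW Q v v₁) := by
  have h1 := cnt_split Pa (0 : F)
  have h2 := cnt_split P (0 : F)
  have e : finrank F (Wsub Q a a₁) = finrank F (Wsub Q v v₁) := by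
    have := Pa.finrank_W; have := P.finrank_W; omega
  rw [e] at h1
  have h3 : cnt (QW Q a a₁) 0 = cnt (QW Q v v₁) 0 :=
    Nat.eq_of_mul_eq_mul_left (Fintype.card_pos (α := F)) (by omega)
  have := nsing_add_one (Q := QW Q a a₁)
  have := nsing_add_one (Q := QW Q v v₁)
  omega

theorem card_partners {a a₁ : V} (Pa : HP Q a a₁) :
    Nat.card {b : V // Q b = 0 ∧ bil Q a b = 0 ∧ LinearIndependent F ![a, b]} =
      Fintype.card F * nsing (QW Q a a₁) := by
  classical
  let f : F × {w : Wsub Q a a₁ // w ≠ 0 ∧ QW Q a a₁ w = 0} →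
      {b : V // Q b = 0 ∧ bil Q a b = 0 ∧ LinearIndependent F ![a, b]} := fun p =>
    ⟨Pa.splitEquiv ((p.1, 0), p.2.1), by
      obtain ⟨h1, h2⟩ := mem_Wsub.1 p.2.1.2
      refine ⟨?_, ?_, ?_⟩
      · rw [Pa.quad_split, mul_zero, zero_add]
        exact p.2.2.2
      · show bil Q a (p.1 • a + (0 : F) • a₁ + (p.2.1 : V)) = 0
        simp [h1, bil_self_of_singular Pa.sing]
      · refine (LinearIndependent.pair_iff' Pa.ne_zero).2 fun c hc => p.2.2.1 ?_
        have h : Pa.splitEquiv ((c, 0), 0) = Pa.splitEquiv ((p.1, 0), p.2.1) := by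
          rw [← hc]
          show c • a + (0 : F) • a₁ + ((0 : Wsub Q a a₁) : V) = c • a
          simp
        exact (Prod.ext_iff.1 (Pa.splitEquiv.injective h)).2.symm⟩
  rw [← Nat.card_eq_of_bijective f ⟨fun p p' e => ?_, fun b => ?_⟩, Nat.card_prod, Nat.card_eq_fintype_card]
  · rfl
  · have h := Pa.splitEquiv.injective (congrArg Subtype.val e)
    simp only [Prod.mk.injEq] at h
    exact Prod.ext h.1.1 (Subtype.ext h.2)
  · obtain ⟨b, hb, hab, hi⟩ := b
    obtain ⟨p, rfl⟩ := Pa.splitEquiv.surjective b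
    obtain ⟨h1, -⟩ := mem_Wsub.1 p.2.2
    have hz : p.1.2 = 0 := by
      change bil Q a (p.1.1 • a + p.1.2 • a₁ + (p.2 : V)) = 0 at hab
      simpa [h1, Pa.one, bil_self_of_singular Pa.sing] using hab
    rw [Pa.quad_split, hz, mul_zero, zero_add] at hb
    have hne : p.2 ≠ 0 := fun e => (LinearIndependent.pair_iff' Pa.ne_zero).1 hi p.1.1 (by
      show _ = p.1.1 • a + p.1.2 • a₁ + (p.2 : V)
      rw [e, hz]; simp)
    refine ⟨(p.1.1, ⟨p.2, hne, hb⟩), Subtype.ext ?_⟩
    show Pa.splitEquiv ((p.1.1, 0), p.2) = Pa.splitEquiv p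
    rw [← hz]

/-- The size of the class of long root elements. -/
theorem card_class {v v₁ : V} (P : HP Q v v₁) {u u₁ : Wsub Q v v₁} (Pu : HP (QW Q v v₁) u u₁)
    (hk : 5 ≤ finrank F (Wsub Q v v₁)) :
    (Fintype.card F ^ 2 - 1) * Nat.card {h : siegelGroup Q // IsConj (sg Q v (u : V)) h} =
      nsing Q * nsing (QW Q v v₁) := by
  classical
  have := finite_siegel Q
  let _ : Fintype V := Fintype.ofFinite V
  let _ : Fintype (siegelGroup Q) := Fintype.ofFinite _
  let Pr := {p : V × V // Q p.1 = 0 ∧ Q p.2 = 0 ∧ bil Q p.1 p.2 = 0 ∧ LinearIndependent F ![p.1, p.2]}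
  have hu : Q (u : V) = 0 := Pu.sing
  obtain ⟨u1, u2⟩ := mem_Wsub.1 u.2
  have hconj : ∀ p : Pr, IsConj (sg Q v (u : V)) (sg Q p.1.1 p.1.2) := by
    rintro ⟨⟨a, b⟩, ha, hb, hab, hi⟩
    obtain ⟨w, hw0, hw, g, hg⟩ := conj_to_radical hN h5 P ha hb hab hi
    obtain ⟨k, hk', e⟩ := siegel_trans (P.nondegenerate_QW hN) hk Pu.ne_zero hw0 Pu.sing hw
    obtain ⟨G, G1, -, G3⟩ := HP.exists_lift hk'
    refine isConj_iff.2 ⟨g⁻¹ * G, ?_⟩
    have h1 : G * sg Q v (u : V) * G⁻¹ = sg Q v (w : V) := by rw [sg_conj, G1, G3, e]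
    calc g⁻¹ * G * sg Q v (u : V) * (g⁻¹ * G)⁻¹ = g⁻¹ * (G * sg Q v (u : V) * G⁻¹) * g := by group
      _ = sg Q a b := by rw [h1, ← hg]; group
  let π : Pr → {h : siegelGroup Q // IsConj (sg Q v (u : V)) h} := fun p => ⟨_, hconj p⟩
  have hfib : ∀ h, Nat.card {p : Pr // π p = h} = Fintype.card F * (Fintype.card F ^ 2 - 1) := by
    rintro ⟨h, hh⟩
    obtain ⟨g, rfl⟩ := isConj_iff.1 hh
    rw [← card_fibre hN (a := g • v) (b := g • (u : V)) (by rw [quad_smul', P.sing]) (by rw [quad_smul', hu])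
      (by rw [bil_smul', u1]) ?_]
    · refine Nat.card_congr ((Equiv.subtypeSubtypeEquivSubtypeExists _ _).trans (Equiv.subtypeEquivRight fun p => ?_))
      constructor
      · rintro ⟨⟨h1, h2, h3, h4⟩, e⟩
        exact ⟨h1, h2, h3, h4, (congrArg Subtype.val e).trans (sg_conj g v _)⟩
      · rintro ⟨h1, h2, h3, h4, e⟩
        exact ⟨⟨h1, h2, h3, h4⟩, Subtype.ext (e.trans (sg_conj g v _).symm)⟩
    · rw [LinearIndependent.pair_iff]
      intro s t hst
      rw [← smul_comm g, ← smul_comm g, ← smul_add, smul_eq_zero_iff_eq] at hst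
      have h1 := congrArg (bil Q v₁) hst
      simp [P.symm.one, u2] at h1
      subst h1
      simp only [zero_smul, zero_add, smul_eq_zero, Submodule.coe_eq_zero] at hst
      exact ⟨rfl, hst.resolve_right Pu.ne_zero⟩
  have hcard : Nat.card Pr = nsing Q * (Fintype.card F * nsing (QW Q v v₁)) := by
    let E : Pr ≃ Σ a : {a : V // a ≠ 0 ∧ Q a = 0},
        {b : V // Q b = 0 ∧ bil Q a.1 b = 0 ∧ LinearIndependent F ![a.1, b]} :=
      { toFun := fun p => ⟨⟨p.1.1, p.2.2.2.2.ne_zero 0, p.2.1⟩, p.1.2, p.2.2.1, p.2.2.2.1, p.2.2.2.2⟩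
        invFun := fun p => ⟨(p.1.1, p.2.1), p.1.2.2, p.2.2.1, p.2.2.2.1, p.2.2.2.2⟩
        left_inv := fun _ => rfl
        right_inv := fun _ => rfl }
    have heach : ∀ a : {a : V // a ≠ 0 ∧ Q a = 0},
        Nat.card {b : V // Q b = 0 ∧ bil Q a.1 b = 0 ∧ LinearIndependent F ![a.1, b]} =
          Fintype.card F * nsing (QW Q v v₁) := by
      intro a
      obtain ⟨a₁, Pa⟩ := exists_HP hN a.2.2 a.2.1
      rw [card_partners hN h5 Pa, nsing_W hN h5 Pa P]
    rw [Nat.card_congr E, Nat.card_sigma, Finset.sum_congr rfl fun a _ => heach a, Finset.sum_const,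
      smul_eq_mul, Finset.card_univ, ← Nat.card_eq_fintype_card]
    rfl
  have hsum : Nat.card Pr =
      Nat.card {h : siegelGroup Q // IsConj (sg Q v (u : V)) h} * (Fintype.card F * (Fintype.card F ^ 2 - 1)) := by
    rw [← Nat.card_congr (Equiv.sigmaFiberEquiv π), Nat.card_sigma, Finset.sum_congr rfl fun h _ => hfib h,
      Finset.sum_const, smul_eq_mul, Finset.card_univ, Nat.card_eq_fintype_card]
  rw [hcard] at hsum
  refine Nat.eq_of_mul_eq_mul_left (Fintype.card_pos (α := F)) ?_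
  rw [mul_left_comm] at hsum
  rw [hsum]
  ring

/-- The degree divides the class size times the deficit. -/
theorem dvd_of_deficit {X : Type*} [AddCommGroup X] [Module ℂ X] [FiniteDimensional ℂ X]
    (ρ : Representation ℂ (siegelGroup Q) X) [ρ.IsIrreducible] {g : siegelGroup Q} {d : ℕ}
    (hd : (finrank ℂ X : ℂ) - LinearMap.trace ℂ X (ρ g) = d) :
    finrank ℂ X ∣ Nat.card {h : siegelGroup Q // IsConj g h} * d := by
  have := finite_siegel Q
  have hnt := CharInt.nontrivial_of_irreducible ρ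
  set D := finrank ℂ X
  set C := Nat.card {h : siegelGroup Q // IsConj g h}
  have hD : D ≠ 0 := finrank_pos.ne'
  have h1 := CharInt.isIntegral_omega ρ g
  have h2 : IsIntegral ℤ (((C * d : ℕ) : ℤ) : ℂ) := CharInt.isIntegral_intCast _
  have h3 : ((C : ℂ) - (C : ℂ) * ρ.character g / (D : ℂ)) = (((C * d : ℕ) : ℤ) : ℂ) / (D : ℂ) := by
    rw [Int.cast_natCast, Nat.cast_mul, ← hd]
    show _ = (C : ℂ) * ((D : ℂ) - ρ.character g) / (D : ℂ)
    field_simp
  have h4 : IsIntegral ℤ ((((C * d : ℕ) : ℤ) : ℂ) / (D : ℂ)) := by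
    rw [← h3]
    exact IsIntegral.sub (by simpa using CharInt.isIntegral_intCast (C : ℤ)) h1
  exact Int.natCast_dvd_natCast.1 (CharInt.dvd_of_isIntegral_div hD h4)

end Cfsg.Agent.MinDegree.Orth
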