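import Cfsg.Agent.Lib.MinDegree.OrthLevel
import Cfsg.Agent.Lib.MinDegree.OrthClass

/-!
The six-dimensional base cases: a representation in which every long root element has deficit `q ^ 3` is large.
-/

set_option autoImplicit false
set_option linter.unusedSectionVars false

open Module

namespace Cfsg.Agent.MinDegree.Orth

open Cfsg.Agent.ClassicalSimple
open Cfsg.Agent.MinDeg.Orth

variable {F V : Type*} [Field F] [Fintype F] [AddCommGroup V] [Module F V] [Finite V]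
  [FiniteDimensional F V] {Q : QuadraticForm F V}

noncomputable local instance fintypeW'' (v v₁ : V) : Fintype (Wsub Q v v₁) := Fintype.ofFinite _

omit [Finite V] [FiniteDimensional F V] in
theorem pair_indep {v v₁ : V} (P : HP Q v v₁) {u : Wsub Q v v₁} (hu : u ≠ 0) :
    LinearIndependent F ![v, (u : V)] :=
  (LinearIndependent.pair_iff' P.ne_zero).2 fun c hc => hu (Subtype.ext (by
    have h := congrArg (bil Q v₁) hc
    rw [map_smul, P.symm.one, (mem_Wsub.1 u.2).2, smul_eq_mul, mul_one] at h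
    rw [← hc, h, zero_smul]; rfl))

variable {X : Type*} [AddCommGroup X] [Module ℂ X] [FiniteDimensional ℂ X]
  {τ : Representation ℂ (siegelGroup Q) X} {ψ : AddChar F ℂ}

/-- In a four-dimensional split complement the Levi factor is transitive on each value. -/
theorem mult_eq_of_value_four {v v₁ : V} (P : HP Q v v₁) {e f : Wsub Q v v₁} (Pe : HP (QW Q v v₁) e f)
    {e' f' : Wsub (QW Q v v₁) e f} (Pe' : HP (QW (QW Q v v₁) e f) e' f')
    (h0 : finrank F (Wsub (QW (QW Q v v₁) e f) e' f') = 0) (φ φ' : Wsub Q v v₁)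
    (hφ : φ ≠ 0) (hφ' : φ' ≠ 0) (hQ : Q (φ : V) = Q (φ' : V)) : mult τ ψ φ = mult τ ψ φ' := by
  have hQe : Q (e : V) = 0 := Pe.sing
  have hQf : Q (f : V) = 0 := Pe.sing₁
  have hQe' : Q (e' : V) = 0 := Pe'.sing
  have hQf' : Q (f' : V) = 0 := Pe'.sing₁
  have hef : bil Q (e : V) (f : V) = 1 := Pe.one
  have hef' : bil Q (e' : V) (f' : V) = 1 := Pe'.one
  obtain ⟨hee', hfe'⟩ : bil Q (e : V) (e' : V) = 0 ∧ bil Q (f : V) (e' : V) = 0 := mem_Wsub.1 e'.2
  obtain ⟨hef'', hff'⟩ : bil Q (e : V) (f' : V) = 0 ∧ bil Q (f : V) (f' : V) = 0 := mem_Wsub.1 f'.2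
  -- coordinates
  let mk : F → F → F → F → Wsub Q v v₁ := fun α β γ δ =>
    α • e + β • f + γ • (e' : Wsub Q v v₁) + δ • (f' : Wsub Q v v₁)
  have hmk : ∀ φ : Wsub Q v v₁, ∃ α β γ δ, φ = mk α β γ δ := by
    intro φ
    obtain ⟨p, hp⟩ := Pe.splitEquiv.surjective φ
    obtain ⟨r, hr⟩ := Pe'.splitEquiv.surjective p.2
    have hr0 : r.2 = 0 := (finrank_zero_iff_forall_zero.1 h0) r.2
    refine ⟨p.1.1, p.1.2, r.1.1, r.1.2, ?_⟩
    rw [← hp]
    show p.1.1 • e + p.1.2 • f + (p.2 : Wsub Q v v₁) = _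
    rw [← hr]
    show p.1.1 • e + p.1.2 • f + ((r.1.1 • e' + r.1.2 • f' + (r.2 : Wsub (QW Q v v₁) e f) :
      Wsub (QW Q v v₁) e f) : Wsub Q v v₁) = _
    rw [hr0]
    simp only [Submodule.coe_add, Submodule.coe_smul, Submodule.coe_zero, add_zero, mk]
    abel
  have move : ∀ (x y φ φ' : Wsub Q v v₁), Q (x : V) = 0 → Q (y : V) = 0 → bil Q (x : V) (y : V) = 0 →
      φ' = φ + bil Q (φ : V) (x : V) • y - bil Q (φ : V) (y : V) • x → mult τ ψ φ' = mult τ ψ φ := by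
    intro x y φ φ' hx hy hxy he
    obtain ⟨x1, x2⟩ := mem_Wsub.1 x.2
    obtain ⟨y1, y2⟩ := mem_Wsub.1 y.2
    refine (mult_eq_of_map P (g := sg Q (x : V) (y : V)) (c := 1) one_ne_zero ?_ ?_ ?_).symm
    · rw [one_smul, sg_fix hx hxy x1 y1]
    · rw [inv_one, one_smul, sg_fix hx hxy x2 y2]
    · rw [one_smul, sg_act hx hxy, hy, he]
      simp
  have rel : ∀ α β γ δ,
      bil Q (mk α β γ δ : V) (e : V) = β ∧ bil Q (mk α β γ δ : V) (f : V) = α ∧
      bil Q (mk α β γ δ : V) (e' : V) = δ ∧ bil Q (mk α β γ δ : V) (f' : V) = γ := by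
    intro α β γ δ
    simp [mk, bil_self_of_singular hQe, bil_self_of_singular hQf, bil_self_of_singular hQe',
      bil_self_of_singular hQf', hef, hef', hee', hfe', hef'', hff',
      bil_comm (f : V) (e : V), bil_comm (f' : V) (e' : V), bil_comm (e' : V) (e : V),
      bil_comm (e' : V) (f : V), bil_comm (f' : V) (e : V), bil_comm (f' : V) (f : V)]
  have m1 : ∀ s α β γ δ, mult τ ψ (mk (α - s * δ) β (γ + s * β) δ) = mult τ ψ (mk α β γ δ) := fun s α β γ δ => by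
    obtain ⟨r1, r2, r3, r4⟩ := rel α β γ δ
    refine move e (s • (e' : Wsub Q v v₁)) _ _ hQe (by simp [quad_smul_vec, hQe']) (by simp [hee']) ?_
    rw [Submodule.coe_smul, LinearMap.map_smul, r1, r3, smul_eq_mul]
    simp only [mk]
    module
  have m2 : ∀ s α β γ δ, mult τ ψ (mk (α - s * γ) β γ (δ + s * β)) = mult τ ψ (mk α β γ δ) := fun s α β γ δ => by
    obtain ⟨r1, r2, r3, r4⟩ := rel α β γ δ
    refine move e (s • (f' : Wsub Q v v₁)) _ _ hQe (by simp [quad_smul_vec, hQf']) (by simp [hef'']) ?_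
    rw [Submodule.coe_smul, LinearMap.map_smul, r1, r4, smul_eq_mul]
    simp only [mk]
    module
  have m3 : ∀ s α β γ δ, mult τ ψ (mk α (β - s * δ) (γ + s * α) δ) = mult τ ψ (mk α β γ δ) := fun s α β γ δ => by
    obtain ⟨r1, r2, r3, r4⟩ := rel α β γ δ
    refine move f (s • (e' : Wsub Q v v₁)) _ _ hQf (by simp [quad_smul_vec, hQe']) (by simp [hfe']) ?_
    rw [Submodule.coe_smul, LinearMap.map_smul, r2, r3, smul_eq_mul]
    simp only [mk]
    module
  have m4 : ∀ s α β γ δ, mult τ ψ (mk α (β - s * γ) γ (δ + s * α)) = mult τ ψ (mk α β γ δ) := fun s α β γ δ => by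
    obtain ⟨r1, r2, r3, r4⟩ := rel α β γ δ
    refine move f (s • (f' : Wsub Q v v₁)) _ _ hQf (by simp [quad_smul_vec, hQf']) (by simp [hff']) ?_
    rw [Submodule.coe_smul, LinearMap.map_smul, r2, r4, smul_eq_mul]
    simp only [mk]
    module
  -- first coordinate one
  have one : ∀ β γ δ, mult τ ψ (mk 1 β γ δ) = mult τ ψ (mk 1 (β + γ * δ) 0 0) := fun β γ δ => by
    rw [← m3 (-γ) 1 β γ δ, ← m4 (-δ) 1 (β - -γ * δ) (γ + -γ * 1) δ,
      show γ + -γ * 1 = 0 by ring, show β - -γ * δ - -δ * 0 = β + γ * δ by ring,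
      show δ + -δ * 1 = 0 by ring]
  have hg : ∀ α β γ δ, γ ≠ 0 → ∃ β' γ' δ', mult τ ψ (mk α β γ δ) = mult τ ψ (mk 1 β' γ' δ') ∧
      β' + γ' * δ' = α * β + γ * δ := fun α β γ δ hγ => by
    refine ⟨β, γ, δ + (α - 1) / γ * β, ?_, ?_⟩
    · rw [← m2 ((α - 1) / γ) α β γ δ, div_mul_cancel₀ _ hγ, sub_sub_cancel]
    · field_simp
      ring
  have red : ∀ α β γ δ, mk α β γ δ ≠ 0 →
      mult τ ψ (mk α β γ δ) = mult τ ψ (mk 1 (α * β + γ * δ) 0 0) := by
    intro α β γ δ hne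
    rcases ne_or_eq γ 0 with hγ | rfl
    · obtain ⟨β', γ', δ', h1, h2⟩ := hg α β γ δ hγ
      rw [h1, one, h2]
    rcases ne_or_eq δ 0 with hδ | rfl
    · have h1 := m1 ((α - 1) / δ) α β 0 δ
      rw [div_mul_cancel₀ _ hδ, sub_sub_cancel] at h1
      rw [← h1, one]
      congr 2
      field_simp
      ring
    rcases ne_or_eq α 0 with hα | rfl
    · have h1 := m3 1 α β 0 0
      simp only [mul_zero, sub_zero, one_mul, zero_add] at h1
      obtain ⟨β', γ', δ', h2, h3⟩ := hg α β α 0 hα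
      rw [← h1, h2, one, h3]
      ring_nf
    rcases ne_or_eq β 0 with hβ | rfl
    · have h1 := m1 1 0 β 0 0
      simp only [mul_zero, sub_zero, one_mul, zero_add] at h1
      obtain ⟨β', γ', δ', h2, h3⟩ := hg 0 β β 0 hβ
      rw [← h1, h2, one, h3]
      ring_nf
    · exact absurd (by simp [mk]) hne
  have val : ∀ α β γ δ, Q (mk α β γ δ : V) = α * β + γ * δ := fun α β γ δ => by
    simp [mk, quad_add, quad_smul_vec, hQe, hQf, hQe', hQf', hef, hef', hee', hfe', hef'', hff']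
    ring
  obtain ⟨α, β, γ, δ, rfl⟩ := hmk φ
  obtain ⟨α', β', γ', δ', rfl⟩ := hmk φ'
  rw [val, val] at hQ
  rw [red _ _ _ _ hφ, red _ _ _ _ hφ', hQ]

/-- Minus type: at least `q ^ 3 - q ^ 2 + q`. -/
theorem minus_base (h : Typ Q 3 (-1)) (hψ : ψ.IsPrimitive) {a a₁ : V} (P : HP Q a a₁)
    (hD : ∀ x z : V, Q x = 0 → Q z = 0 → bil Q x z = 0 → LinearIndependent F ![x, z] →
      (finrank ℂ X : ℂ) - LinearMap.trace ℂ X (τ (sg Q x z)) = ((Fintype.card F ^ 3 : ℕ) : ℂ))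
    {y : X} (hy0 : y ≠ 0) (hy : ∀ x ∈ Wsub Q a a₁, τ (sg Q a x) y = y) :
    Fintype.card F ^ 3 + Fintype.card F ≤ finrank ℂ X + Fintype.card F ^ 2 := by
  classical
  have hN := h.nondeg
  have hT := Typ.descend (m := 2) h P
  set q := Fintype.card F
  have hq : 2 ≤ q := Fintype.one_lt_card
  let Sv := (Finset.univ : Finset (Wsub Q a a₁)).filter fun b : Wsub Q a a₁ => b ≠ 0 ∧ Q (b : V) = 0
  let Bne : Wsub Q a a₁ → Wsub Q a a₁ → Prop := fun φ b => bil Q (φ : V) (b : V) ≠ 0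
  have hS : q * (Sv.card + 1) + q ^ 3 = q ^ 4 + q ^ 2 := by
    have h1 := hT.zeros
    have h2 := nsing_add_one (Q := QW Q a a₁)
    rw [nsing, Nat.card_eq_fintype_card, Fintype.card_subtype] at h2
    rw [show Sv.card + 1 = cnt (QW Q a a₁) 0 from h2]
    push_cast at h1
    zify
    linear_combination h1
  -- one singular vector
  have hline : ∀ b ∈ Sv, q * ∑ φ ∈ Finset.univ.filter (fun φ => Bne φ b), mult τ ψ φ = (q - 1) * q ^ 3 := by
    intro b hb
    obtain ⟨-, hb0, hbs⟩ := Finset.mem_filter.1 hb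
    obtain ⟨b1, -⟩ := mem_Wsub.1 b.2
    have hsum : ∀ l ∈ (Finset.univ : Finset F).erase 0,
        ∑ φ : Wsub Q a a₁, (mult τ ψ φ : ℂ) * (1 - ψ (l * bil Q (φ : V) (b : V))) = ((q ^ 3 : ℕ) : ℂ) := by
      intro l hl
      have hl0 := (Finset.mem_erase.1 hl).1
      rw [← hD a (l • (b : V)) P.sing (by rw [quad_smul_vec, hbs, mul_zero]) (by simp [b1])
        (pair_indep P (u := l • b) (smul_ne_zero hl0 hb0)), ← Submodule.coe_smul,
        deficit_eq_sum (ρ := τ) hN hψ P (l • b)]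
      exact Finset.sum_congr rfl fun φ _ => by rw [Submodule.coe_smul, LinearMap.map_smul, smul_eq_mul]
    have h2 : ∀ t : F, ∑ l ∈ (Finset.univ : Finset F).erase 0, (1 - ψ (l * t)) = if t = 0 then 0 else (q : ℂ) := by
      intro t
      rw [Finset.sum_erase _ (by simp), Finset.sum_sub_distrib, AddChar.sum_mulShift t hψ, Finset.sum_const,
        Finset.card_univ, nsmul_eq_mul, mul_one]
      split_ifs <;> simp [q]
    have h3 := Finset.sum_congr (rfl : (Finset.univ : Finset F).erase 0 = _) hsum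
    rw [Finset.sum_comm] at h3
    simp only [← Finset.mul_sum, h2, mul_ite, mul_zero, Finset.sum_const, Finset.card_erase_of_mem
      (Finset.mem_univ (0 : F)), Finset.card_univ, nsmul_eq_mul] at h3
    rw [Finset.sum_ite, Finset.sum_const_zero, zero_add, ← Finset.sum_mul] at h3
    have h4 : ((q * ∑ φ ∈ Finset.univ.filter (fun φ => Bne φ b), mult τ ψ φ : ℕ) : ℂ) = (((q - 1) * q ^ 3 : ℕ) : ℂ) := by
      push_cast at h3 ⊢
      rw [mul_comm]
      exact h3
    exact_mod_cast h4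
  have hall := Finset.sum_congr (rfl : Sv = _) hline
  rw [← Finset.mul_sum, Finset.sum_const, smul_eq_mul] at hall
  have hswap : ∑ b ∈ Sv, ∑ φ ∈ Finset.univ.filter (fun φ => Bne φ b), mult τ ψ φ =
      ∑ φ ∈ (Finset.univ : Finset (Wsub Q a a₁)).erase 0, (Sv.filter fun b => Bne φ b).card * mult τ ψ φ := by
    rw [Finset.sum_erase _ (by simp [Bne]), Finset.sum_congr rfl fun b _ => Finset.sum_filter _ _, Finset.sum_comm]
    exact Finset.sum_congr rfl fun φ _ => by rw [← Finset.sum_filter, Finset.sum_const, smul_eq_mul]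
  have hbound : ∀ φ : Wsub Q a a₁, (Sv.filter fun b => Bne φ b).card + (q - 1) ≤ Sv.card := by
    intro φ
    obtain ⟨s, hs0, hs, hφs⟩ := exists_singular (Q := QW Q a a₁) (fun _ : Unit => bil (QW Q a a₁) φ)
      (by rw [hT.dim]; simp)
    have hφs' : bil Q (φ : V) (s : V) = 0 := hφs ()
    rw [← Finset.card_filter_add_card_filter_not (s := Sv) (fun b => Bne φ b)]
    refine Nat.add_le_add_left ?_ _
    calc q - 1 = (((Finset.univ : Finset F).erase 0).image fun l => l • s).card := by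
          rw [Finset.card_image_of_injective _ fun x y e => smul_left_injective F hs0 e,
            Finset.card_erase_of_mem (Finset.mem_univ _), Finset.card_univ]
      _ ≤ _ := Finset.card_le_card fun x hx => by
          obtain ⟨l, hl, rfl⟩ := Finset.mem_image.1 hx
          have hQs : Q (s : V) = 0 := hs
          simp [Sv, Bne, (Finset.mem_erase.1 hl).1, hs0, quad_smul_vec, hQs, hφs']
  have hle : ∑ φ ∈ (Finset.univ : Finset (Wsub Q a a₁)).erase 0, (Sv.filter fun b => Bne φ b).card * mult τ ψ φ ≤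
      (Sv.card - (q - 1)) * ∑ φ ∈ (Finset.univ : Finset (Wsub Q a a₁)).erase 0, mult τ ψ φ := by
    rw [Finset.mul_sum]
    refine Finset.sum_le_sum fun φ _ => Nat.mul_le_mul_right _ ?_
    have := hbound φ
    omega
  rw [hswap] at hall
  have h0 : 1 ≤ mult τ ψ (0 : Wsub Q a a₁) := Submodule.one_le_finrank_iff.2 fun e =>
    hy0 ((Submodule.eq_bot_iff _).1 e y (mem_wsp_zero.2 fun x => hy _ x.2))
  have hfin := sum_mult (ρ := τ) hN hψ P
  rw [← Finset.add_sum_erase _ _ (Finset.mem_univ (0 : Wsub Q a a₁))] at hfin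
  set Fs := ∑ φ ∈ (Finset.univ : Finset (Wsub Q a a₁)).erase 0, mult τ ψ φ
  obtain ⟨p, hp⟩ : ∃ p, q = p + 2 := ⟨q - 2, by omega⟩
  rw [hp] at hS hall hle ⊢
  simp only [show p + 2 - 1 = p + 1 by omega] at hall hle
  have hSv : Sv.card = (p + 1) * ((p + 2) ^ 2 + 1) := by
    refine Nat.add_right_cancel (m := 1) (Nat.eq_of_mul_eq_mul_left (show 0 < p + 2 by omega) ?_)
    linarith [hS, show (p + 2) * ((p + 1) * ((p + 2) ^ 2 + 1) + 1) + (p + 2) ^ 3 = (p + 2) ^ 4 + (p + 2) ^ 2 by ring]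
  rw [hSv, show (p + 1) * ((p + 2) ^ 2 + 1) - (p + 1) = (p + 1) * (p + 2) ^ 2 by rw [mul_add, mul_one, Nat.add_sub_cancel]] at hle
  rw [hSv] at hall
  have hF : (p + 1) * ((p + 2) ^ 2 + 1) ≤ Fs := by
    have h1 := Nat.mul_le_mul_left (p + 2) hle
    rw [hall] at h1
    refine Nat.le_of_mul_le_mul_left (c := (p + 2) * ((p + 1) * (p + 2) ^ 2)) ?_ (by positivity)
    linarith [h1]
  nlinarith

/-- Plus type: at least `q ^ 3 + q ^ 2 + q - 2`. -/
theorem plus_base (h : Typ Q 3 1) (hq : 4 ≤ Fintype.card F) (hψ : ψ.IsPrimitive)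
    (hD : ∀ x z : V, Q x = 0 → Q z = 0 → bil Q x z = 0 → LinearIndependent F ![x, z] →
      (finrank ℂ X : ℂ) - LinearMap.trace ℂ X (τ (sg Q x z)) = ((Fintype.card F ^ 3 : ℕ) : ℂ)) :
    Fintype.card F ^ 3 + Fintype.card F ^ 2 + Fintype.card F ≤ finrank ℂ X + 2 := by
  classical
  have hN := h.nondeg
  have h5 : 5 ≤ finrank F V := by rw [h.dim]; norm_num
  set q := Fintype.card F with hqdef
  obtain ⟨v, hv0, hv⟩ := h.exists_singular (Or.inl ⟨rfl, by norm_num⟩)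
  obtain ⟨v₁, P⟩ := exists_HP hN hv hv0
  have hW := Typ.descend (m := 2) h P
  have hNW := hW.nondeg
  obtain ⟨e, he0, he⟩ := hW.exists_singular (Or.inl ⟨rfl, by norm_num⟩)
  obtain ⟨f, Pe⟩ := exists_HP hNW he he0
  have hW' := Typ.descend (m := 1) hW Pe
  obtain ⟨e', he'0, he'⟩ := hW'.exists_singular (Or.inl ⟨rfl, le_rfl⟩)
  obtain ⟨f', Pe'⟩ := exists_HP hW'.nondeg he' he'0
  have hW'' := Typ.descend (m := 0) hW' Pe'
  have hconst := mult_eq_of_value_four (τ := τ) (ψ := ψ) P Pe Pe' hW''.dim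
  set mc := mval τ ψ v v₁ with hmcdef
  have hmc : ∀ φ : Wsub Q v v₁, φ ≠ 0 → mult τ ψ φ = mc (Q (φ : V)) := fun φ hφ =>
    mult_eq_mval hconst φ hφ
  -- exactly one value occurs
  have hM : ∑ c, mc c = 1 := by
    have h1 := deficit_singular (ρ := τ) hN hψ P mc hmc Pe
    rw [hD v (e : V) P.sing he (mem_Wsub.1 e.2).1 (pair_indep P he0), card_Wsub Pe, hW.dim] at h1
    have h2 : q ^ 3 = q * q ^ (2 * 2 - 2) * ∑ c, mc c := by exact_mod_cast h1
    have : q ^ 3 * 1 = q ^ 3 * ∑ c, mc c := by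
      rw [mul_one]; refine h2.trans ?_; congr 1; ring
    exact (Nat.eq_of_mul_eq_mul_left (pow_pos Fintype.card_pos 3) this).symm
  have hns : ∀ c : F, c ≠ 0 → mc c = 0 := by
    intro c hc
    by_contra hne
    obtain ⟨l, hl0, hl⟩ := exists_unit_sq_ne hq
    have hne' : c * l ^ 2 ≠ c := fun e => hl (by
      rw [← pow_two]; exact mul_left_cancel₀ hc (by rw [e, mul_one]))
    have h2 := mval_sq hN h5 P Pe hconst c hl0
    rw [← hmcdef] at h2
    have h3 := Finset.sum_le_sum_of_subset (f := mc) (Finset.subset_univ ({c * l ^ 2, c} : Finset F))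
    rw [Finset.sum_pair hne', h2, hM] at h3
    omega
  have hm0 : mc 0 = 1 := by
    rw [← hM, Finset.sum_eq_single (0 : F) (fun c _ hc => hns c hc) (by simp)]
  have hmult0 : ∀ φ : Wsub Q v v₁, φ ≠ 0 → mult τ ψ φ ≠ 0 → Q (φ : V) = 0 ∧ mult τ ψ φ = 1 := by
    intro φ hφ hne
    rw [hmc φ hφ] at hne ⊢
    by_cases hQ : Q (φ : V) = 0
    · exact ⟨hQ, by rw [hQ, hm0]⟩
    · exact absurd (hns _ hQ) hne
  have htw : ∀ a b : Wsub Q v v₁, Q (a : V) = 0 → Q (b : V) = 0 → bil Q (a : V) (b : V) = 0 →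
      LinearIndependent F ![a, b] → ∀ φ : Wsub Q v v₁, φ ≠ 0 → mult τ ψ φ ≠ 0 → bil Q (a : V) (φ : V) = 0 →
      bil Q (b : V) (φ : V) = 0 → ∀ y ∈ wsp τ ψ φ, τ (sg Q (a : V) (b : V)) y = y :=
    fun a b ha hb hab hi φ hφ hne h1 h2 =>
      twist_torus hN h5 hq P (hmult0 φ hφ hne).2 ha hb hab hi h1 h2
  -- the root elements on the fixed vectors
  have hfd : ∀ {a a₁ : Wsub Q v v₁}, HP (QW Q v v₁) a a₁ → ∀ {b b₁ : Wsub (QW Q v v₁) a a₁},
      HP (QW (QW Q v v₁) a a₁) b b₁ → ∃ hmap : ∀ y ∈ wsp τ ψ (0 : Wsub Q v v₁),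
        τ (sg Q (a : V) (b : V)) y ∈ wsp τ ψ (0 : Wsub Q v v₁),
      (mult τ ψ (0 : Wsub Q v v₁) : ℂ) - LinearMap.trace ℂ _ ((τ (sg Q (a : V) (b : V))).restrict hmap) =
        (q : ℂ) := by
    intro a a₁ Pa b b₁ Pb
    have hab : bil Q (a : V) (b : V) = 0 := (mem_Wsub.1 b.2).1
    have hi := pair_indep Pa Pb.ne_zero
    have hi' : LinearIndependent F ![(a : V), (b : V)] := by
      rw [LinearIndependent.pair_iff] at hi ⊢
      exact fun s t hst => hi s t (Subtype.ext (by simpa using hst))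
    obtain ⟨hmap, he⟩ := fix_deficit (ρ := τ) hN hψ P mc hmc Pa Pb
      (fun φ hφ hne h1 h2 => htw a (b : Wsub Q v v₁) Pa.sing Pb.sing hab hi φ hφ hne h1 h2)
      (by rw [hD _ _ (show Q (a : V) = 0 from Pa.sing) (show Q ((b : Wsub Q v v₁) : V) = 0 from Pb.sing) hab hi', hW.dim, hM]; push_cast; ring)
    refine ⟨hmap, he.trans ?_⟩
    rw [hW.dim, hM]
    norm_num [hqdef]
  have hf0 : wsp τ ψ (0 : Wsub Q v v₁) ≠ ⊥ := by
    intro hbot
    obtain ⟨hmap, he⟩ := hfd Pe Pe'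
    have h0 : ((τ (sg Q (e : V) (e' : V))).restrict hmap) = 0 := LinearMap.ext fun y => Subtype.ext (by
      rw [(Submodule.eq_bot_iff _).1 hbot y.1 y.2 |> fun h => (Subtype.ext h : y = 0)]
      simp)
    have hm : mult τ ψ (0 : Wsub Q v v₁) = 0 := by rw [mult, hbot, finrank_bot]
    rw [hm, Nat.cast_zero, h0, map_zero, sub_zero] at he
    exact Nat.cast_ne_zero.2 Fintype.card_ne_zero he.symm
  obtain ⟨a, a₁, Pa, y, hy, hy0, hya⟩ : ∃ a a₁ : Wsub Q v v₁, HP (QW Q v v₁) a a₁ ∧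
      ∃ y ∈ wsp τ ψ (0 : Wsub Q v v₁), y ≠ 0 ∧
        ∀ x : Wsub (QW Q v v₁) a a₁, τ (sg Q (a : V) ((x : Wsub Q v v₁) : V)) y = y := by
    by_cases hfix : ∀ y : X, (∀ g, τ g y = y) → y = 0
    · refine exists_double_fix (ρ := τ) hN h5 hψ P (fun φ hφ => ?_) (fun a a₁ Pa => ?_)
        (fun φ x hφ hQ hx hφx hi y hy => ?_) hf0 hfix
      · by_contra hne
        exact hφ (hmult0 φ (fun e => hφ (by rw [e]; simp)) hne).1
      · have hA := Typ.descend (m := 1) hW Pa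
        obtain ⟨b, hb0, hb⟩ := hA.exists_singular (Or.inl ⟨rfl, le_rfl⟩)
        exact ⟨b, exists_HP hA.nondeg hb hb0⟩
      · have hne : mult τ ψ φ ≠ 0 := by rw [hmc φ hφ, hQ, hm0]; norm_num
        exact twist_torus hN h5 hq P (hmult0 φ hφ hne).2 hQ hx hφx hi (bil_self_of_singular hQ)
          ((bil_comm _ _).trans hφx) y hy
    · push Not at hfix
      obtain ⟨y, hy, hy0⟩ := hfix
      exact ⟨e, f, Pe, y, mem_wsp_zero.2 fun x => hy _, hy0, fun x => hy _⟩
  -- the fixed vectors under the radical of `a`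
  set A := Wsub (QW Q v v₁) a a₁
  have hA := Typ.descend (m := 1) hW Pa
  obtain ⟨b, hb0, hb⟩ := hA.exists_singular (Or.inl ⟨rfl, le_rfl⟩)
  obtain ⟨b₁, Pb⟩ := exists_HP hA.nondeg hb hb0
  set E := wsp τ ψ (0 : Wsub Q v v₁)
  let _ : Fintype A := Fintype.ofFinite A
  have hQa : Q (a : V) = 0 := Pa.sing
  have hperp : ∀ x : A, bil Q (a : V) ((x : Wsub Q v v₁) : V) = 0 := fun x => (mem_Wsub.1 x.2).1
  have hstab : ∀ (x : A), ∀ y ∈ E, τ (sg Q (a : V) ((x : Wsub Q v v₁) : V)) y ∈ E := fun x y hy =>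
    map_mem_wsp P (c := 1) one_ne_zero
      (by rw [one_smul, sg_fix hQa (hperp x) (mem_Wsub.1 a.2).1 (mem_Wsub.1 (x : Wsub Q v v₁).2).1])
      (by rw [inv_one, one_smul, sg_fix hQa (hperp x) (mem_Wsub.1 a.2).2 (mem_Wsub.1 (x : Wsub Q v v₁).2).2])
      (by simp) hy
  let op : A → E →ₗ[ℂ] E := fun x => (τ (sg Q (a : V) ((x : Wsub Q v v₁) : V))).restrict (hstab x)
  have hop : IsOp op := ⟨LinearMap.ext fun y => Subtype.ext (by
      show τ (sg Q (a : V) 0) y.1 = y.1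
      rw [sg_zero, map_one]; rfl), fun x z => LinearMap.ext fun y => Subtype.ext (by
      show τ (sg Q (a : V) (((x : Wsub Q v v₁) : V) + ((z : Wsub Q v v₁) : V))) y.1 =
        τ (sg Q (a : V) ((x : Wsub Q v v₁) : V)) (τ (sg Q (a : V) ((z : Wsub Q v v₁) : V)) y.1)
      rw [← sg_mul hQa (hperp x) (hperp z), map_mul]; rfl)⟩
  have hbij : Function.Bijective (wch ψ : A → AddChar A ℂ) := wch_bijective (Q := QW Q v v₁) hNW hψ Pa
  let m₂ : A → ℕ := fun φ => finrank ℂ (eigen op (wch ψ φ))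
  have hsum : ∑ φ, m₂ φ = mult τ ψ (0 : Wsub Q v v₁) := by
    rw [show mult τ ψ (0 : Wsub Q v v₁) = finrank ℂ E from rfl, ← sum_finrank_eigen hop]
    exact Fintype.sum_bijective _ hbij _ _ fun φ => rfl
  -- each non-zero coordinate occurs once
  have hP : ∀ {b b₁ : A}, HP (QW (QW Q v v₁) a a₁) b b₁ → ∀ β : F, β ≠ 0 →
      ∑ φ ∈ Finset.univ.filter (fun φ : A => bil (QW Q v v₁) (φ : Wsub Q v v₁) (b : Wsub Q v v₁) = β), m₂ φ = 1 := by
    intro b b₁ Pb β hβ
    have hid : ∀ t ∈ (Finset.univ : Finset F).erase 0,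
        ∑ φ : A, (m₂ φ : ℂ) * (1 - ψ (t * bil (QW Q v v₁) (φ : Wsub Q v v₁) (b : Wsub Q v v₁))) = (q : ℂ) := by
      intro t ht
      have ht0 := (Finset.mem_erase.1 ht).1
      have Pt : HP (QW (QW Q v v₁) a a₁) (t • b) (t⁻¹ • b₁) :=
        ⟨by rw [quad_smul_vec, Pb.sing, mul_zero], by rw [quad_smul_vec, Pb.sing₁, mul_zero],
          by simp [Pb.one, ht0]⟩
      obtain ⟨hmap, he⟩ := hfd Pa Pt
      rw [← he, show ((τ (sg Q (a : V) ((t • b : A) : V))).restrict hmap) = op (t • b) from rfl,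
        trace_eq_sum hop, show (mult τ ψ (0 : Wsub Q v v₁) : ℂ) = ∑ φ, (m₂ φ : ℂ) by
          rw [← Nat.cast_sum, hsum], ← Fintype.sum_bijective _ hbij _ _ fun φ => rfl, ← Finset.sum_sub_distrib]
      refine Finset.sum_congr rfl fun φ _ => ?_
      rw [trace_of_scalar hop _ _ (wch ψ φ (t • b)) fun y hy => mem_eigen.1 hy _, wch_apply, Submodule.coe_smul,
        LinearMap.map_smul, smul_eq_mul]
      show _ = (m₂ φ : ℂ) - _ * (m₂ φ : ℂ)
      ring
    have hsm : ∀ s : F, ∑ t ∈ (Finset.univ : Finset F).erase 0, ψ (t * s) = (if s = 0 then (q : ℂ) else 0) - 1 := by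
      intro s
      rw [Finset.sum_erase_eq_sub (Finset.mem_univ _), AddChar.sum_mulShift s hψ, zero_mul, AddChar.map_zero_eq_one]
      split_ifs <;> simp [q]
    have h3 : ∑ t ∈ (Finset.univ : Finset F).erase 0, ψ (t * -β) *
          ∑ φ : A, (m₂ φ : ℂ) * (1 - ψ (t * bil (QW Q v v₁) (φ : Wsub Q v v₁) (b : Wsub Q v v₁))) =
        ∑ t ∈ (Finset.univ : Finset F).erase 0, ψ (t * -β) * (q : ℂ) :=
      Finset.sum_congr rfl fun t ht => by rw [hid t ht]
    rw [← Finset.sum_mul, hsm, if_neg (neg_ne_zero.2 hβ)] at h3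
    simp only [Finset.mul_sum] at h3
    rw [Finset.sum_comm] at h3
    have h4 : ∀ φ : A, ∑ t ∈ (Finset.univ : Finset F).erase 0,
        ψ (t * -β) * ((m₂ φ : ℂ) * (1 - ψ (t * bil (QW Q v v₁) (φ : Wsub Q v v₁) (b : Wsub Q v v₁)))) =
        -((q : ℂ) * if bil (QW Q v v₁) (φ : Wsub Q v v₁) (b : Wsub Q v v₁) = β then (m₂ φ : ℂ) else 0) := by
      intro φ
      set s := bil (QW Q v v₁) (φ : Wsub Q v v₁) (b : Wsub Q v v₁)
      rw [Finset.sum_congr rfl fun t _ => show ψ (t * -β) * ((m₂ φ : ℂ) * (1 - ψ (t * s))) =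
          (m₂ φ : ℂ) * (ψ (t * -β) - ψ (t * (s - β))) by
        rw [show t * (s - β) = t * s + t * -β by ring, AddChar.map_add_eq_mul]; ring,
        ← Finset.mul_sum, Finset.sum_sub_distrib, hsm, hsm, if_neg (neg_ne_zero.2 hβ)]
      simp only [sub_eq_zero]
      split_ifs <;> ring
    rw [Finset.sum_congr rfl fun φ _ => h4 φ, Finset.sum_neg_distrib, ← Finset.mul_sum, ← Finset.sum_filter,
      zero_sub, neg_one_mul, neg_inj] at h3
    have h5' := mul_left_cancel₀ (Nat.cast_ne_zero.2 Fintype.card_ne_zero) (h3.trans (mul_one (q : ℂ)).symm)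
    exact_mod_cast h5'
  -- weights move under a torus
  have hmove : ∀ {b b₁ : A}, HP (QW (QW Q v v₁) a a₁) b b₁ → ∀ {l : F}, l ≠ 0 → ∀ α β : F,
      m₂ (α • b + β • b₁) ≠ 0 → m₂ (α • b + (β * (l ^ 2)⁻¹) • b₁) ≠ 0 := by
    intro b b₁ Pb l hl α β hne
    have Ha : HP Q (a : V) (a₁ : V) := ⟨Pa.sing, Pa.sing₁, Pa.one⟩
    have Hb : HP Q ((b : Wsub Q v v₁) : V) ((b₁ : Wsub Q v v₁) : V) := ⟨Pb.sing, Pb.sing₁, Pb.one⟩
    obtain ⟨ab, a₁b⟩ : bil Q (a : V) (b : V) = 0 ∧ bil Q (a₁ : V) (b : V) = 0 := mem_Wsub.1 b.2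
    obtain ⟨ab₁, a₁b₁⟩ : bil Q (a : V) (b₁ : V) = 0 ∧ bil Q (a₁ : V) (b₁ : V) = 0 := mem_Wsub.1 b₁.2
    have hQ : ∀ {x x₁ : V}, HP Q x x₁ → ∀ d : F, Q (x - d • x₁) = -d := fun {x x₁} Px d => by
      simp [quad_sub, quad_smul_vec, Px.sing, Px.sing₁, Px.one]
    have hfix : ∀ {c x : V} (hc : Q c ≠ 0), bil Q x c = 0 → orefl hc • x = x := fun hc hx => by
      simp [orefl_smul, hx]
    have na : Q ((a : V) - l⁻¹ • (a₁ : V)) ≠ 0 := by simp [hQ Ha, hl]
    have nb : Q ((b : V) - l⁻¹ • (b₁ : V)) ≠ 0 := by simp [hQ Hb, hl]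
    have na1 : Q ((a : V) - (1 : F) • (a₁ : V)) ≠ 0 := by rw [hQ Ha]; simp
    have nb1 : Q ((b : V) - (1 : F) • (b₁ : V)) ≠ 0 := by rw [hQ Hb]; simp
    let g : siegelGroup Q := ⟨orefl na * orefl nb * (orefl na1 * orefl nb1),
      mul_mem (orefl_mul_mem hN h5 na nb (by rw [hQ Ha, hQ Hb]))
        (orefl_mul_mem hN h5 na1 nb1 (by rw [hQ Ha, hQ Hb]))⟩
    have gact : ∀ x : V, g • x = orefl na • orefl nb • orefl na1 • orefl nb1 • x := fun x => by
      show (orefl na * orefl nb * (orefl na1 * orefl nb1)) • x = _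
      simp only [mul_smul]
    have pfix : ∀ (d : F) {x : V}, bil Q x (b : V) = 0 → bil Q x (b₁ : V) = 0 → ∀ h : Q ((b : V) - d • (b₁ : V)) ≠ 0,
        orefl h • x = x := fun d x e1 e2 h => hfix h (by simp [e1, e2])
    have qfix : ∀ (d : F) {x : V}, bil Q x (a : V) = 0 → bil Q x (a₁ : V) = 0 → ∀ h : Q ((a : V) - d • (a₁ : V)) ≠ 0,
        orefl h • x = x := fun d x e1 e2 h => hfix h (by simp [e1, e2])
    have ga : g • (a : V) = l • (a : V) := by
      rw [gact, pfix 1 ab ab₁, ((orefl_pair_smul Ha one_ne_zero na1).1.trans (one_smul F _)), pfix l⁻¹ a₁b a₁b₁,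
        (orefl_pair_smul Ha (inv_ne_zero hl) na).2, inv_inv]
    have gb : g • (b : V) = l • (b : V) := by
      rw [gact, ((orefl_pair_smul Hb one_ne_zero nb1).1.trans (one_smul F _)),
        qfix 1 ((bil_comm _ _).trans ab₁) ((bil_comm _ _).trans a₁b₁),
        (orefl_pair_smul Hb (inv_ne_zero hl) nb).2, inv_inv, smul_comm (orefl na),
        qfix l⁻¹ ((bil_comm _ _).trans ab) ((bil_comm _ _).trans a₁b)]
    have gb₁ : g • (b₁ : V) = l⁻¹ • (b₁ : V) := by
      rw [gact, ((orefl_pair_smul Hb one_ne_zero nb1).2.trans (by rw [inv_one, one_smul])),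
        qfix 1 ((bil_comm _ _).trans ab) ((bil_comm _ _).trans a₁b),
        (orefl_pair_smul Hb (inv_ne_zero hl) nb).1, smul_comm (orefl na),
        qfix l⁻¹ ((bil_comm _ _).trans ab₁) ((bil_comm _ _).trans a₁b₁)]
    have gfix : ∀ x : V, bil Q x (a : V) = 0 → bil Q x (a₁ : V) = 0 → bil Q x (b : V) = 0 →
        bil Q x (b₁ : V) = 0 → g • x = x := fun x e1 e2 e3 e4 => by
      rw [gact, pfix 1 e3 e4, qfix 1 e1 e2, pfix l⁻¹ e3 e4, qfix l⁻¹ e1 e2]
    have gv : g • v = v := gfix v (mem_Wsub.1 a.2).1 (mem_Wsub.1 a₁.2).1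
      (mem_Wsub.1 (b : Wsub Q v v₁).2).1 (mem_Wsub.1 (b₁ : Wsub Q v v₁).2).1
    have gv₁ : g • v₁ = v₁ := gfix v₁ (mem_Wsub.1 a.2).2 (mem_Wsub.1 a₁.2).2
      (mem_Wsub.1 (b : Wsub Q v v₁).2).2 (mem_Wsub.1 (b₁ : Wsub Q v v₁).2).2
    have hgE : ∀ y ∈ E, τ g y ∈ E := fun y hy => map_mem_wsp P (g := g) (c := 1) one_ne_zero
      (by rw [one_smul, gv]) (by rw [inv_one, one_smul, gv₁]) (by simp) hy
    obtain ⟨y, hy, hy0⟩ := Submodule.exists_mem_ne_zero_of_ne_bot (p := eigen op (wch ψ (α • b + β • b₁)))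
      fun hbot => hne (by show finrank ℂ _ = 0; rw [hbot, finrank_bot])
    intro hz
    refine hy0 (Subtype.ext (rep_injective (ρ := τ) g ?_))
    rw [ZeroMemClass.coe_zero, map_zero]
    suffices hmem : (⟨τ g y.1, hgE _ y.2⟩ : E) ∈ eigen op (wch ψ (α • b + (β * (l ^ 2)⁻¹) • b₁)) from
      congrArg Subtype.val ((Submodule.eq_bot_iff _).1 (Submodule.finrank_eq_zero.1 hz) _ hmem)
    rw [mem_eigen]
    intro x
    obtain ⟨p, rfl⟩ := Pb.splitEquiv.surjective x
    have hp0 : p.2 = 0 := (finrank_zero_iff_forall_zero.1 (Typ.descend (m := 0) hA Pb).dim) p.2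
    have hxV : ((Pb.splitEquiv p : A) : V) = p.1.1 • (b : V) + p.1.2 • (b₁ : V) := by
      show ((p.1.1 • b + p.1.2 • b₁ + (p.2 : A) : A) : V) = _
      simp [hp0]
    let x' : A := (p.1.1 * (l ^ 2)⁻¹) • b + p.1.2 • b₁
    have hx' : g • ((x' : Wsub Q v v₁) : V) = l⁻¹ • ((Pb.splitEquiv p : A) : V) := by
      rw [hxV]
      simp only [x', Submodule.coe_add, Submodule.coe_smul, smul_add, smul_comm g, gb, gb₁]
      match_scalars <;> field_simp
    have e : sg Q (a : V) ((Pb.splitEquiv p : A) : V) * g = g * sg Q (a : V) ((x' : Wsub Q v v₁) : V) := by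
      have e1 : sg Q (g • (a : V)) (g • ((x' : Wsub Q v v₁) : V)) = sg Q (a : V) ((Pb.splitEquiv p : A) : V) := by
        rw [ga, hx', sg_smul_left hQa (by simp [hperp]), smul_inv_smul₀ hl]
      rw [← e1, ← sg_conj, inv_mul_cancel_right]
    refine Subtype.ext ?_
    show τ (sg Q (a : V) ((Pb.splitEquiv p : A) : V)) (τ g y.1) = _
    have hy' := congrArg Subtype.val (mem_eigen.1 hy x')
    rw [← Module.End.mul_apply, ← map_mul, e, map_mul, Module.End.mul_apply]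
    refine ((congrArg (τ g) hy').trans (LinearMap.map_smul _ _ _)).trans ?_
    show wch ψ (α • b + β • b₁) x' • τ g y.1 = wch ψ (α • b + (β * (l ^ 2)⁻¹) • b₁) (Pb.splitEquiv p) • τ g y.1
    have hb0' : bil (QW Q v v₁) (b : Wsub Q v v₁) (b : Wsub Q v v₁) = 0 := bil_self_of_singular Pb.sing
    have hb1' : bil (QW Q v v₁) (b₁ : Wsub Q v v₁) (b₁ : Wsub Q v v₁) = 0 := bil_self_of_singular Pb.sing₁
    have hbb : bil (QW Q v v₁) (b : Wsub Q v v₁) (b₁ : Wsub Q v v₁) = 1 := Pb.one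
    congr 1
    rw [wch_apply, wch_apply]
    congr 1
    show bil (QW Q v v₁) _ _ = bil (QW Q v v₁) _ ((p.1.1 • b + p.1.2 • b₁ + (p.2 : A) : A) : Wsub Q v v₁)
    simp [x', hp0, hb0', hb1', hbb, (bil_comm (b₁ : Wsub Q v v₁) (b : Wsub Q v v₁)).trans hbb]
    ring
  have haxis : ∀ {b b₁ : A}, HP (QW (QW Q v v₁) a a₁) b b₁ → ∀ β : F, β ≠ 0 → m₂ (β • b₁) ≠ 0 := by
    intro b b₁ Pb β hβ
    have h1 := hP Pb β hβ
    obtain ⟨φ, hφ, hne⟩ := Finset.exists_ne_zero_of_sum_ne_zero (h1.trans_ne one_ne_zero)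
    rw [Finset.mem_filter] at hφ
    obtain ⟨p, rfl⟩ := Pb.splitEquiv.surjective φ
    have hp0 : p.2 = 0 := (finrank_zero_iff_forall_zero.1 (Typ.descend (m := 0) hA Pb).dim) p.2
    have hco : Pb.splitEquiv p = p.1.1 • b + p.1.2 • b₁ := by
      show p.1.1 • b + p.1.2 • b₁ + (p.2 : A) = _
      rw [hp0]; simp
    have hcoord : ∀ s t : F, bil (QW Q v v₁) ((s • b + t • b₁ : A) : Wsub Q v v₁) (b : Wsub Q v v₁) = t := by
      intro s t
      show bil (QW (QW Q v v₁) a a₁) (s • b + t • b₁) b = t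
      simp [bil_self_of_singular Pb.sing, Pb.symm.one]
    rw [hco] at hφ hne
    have hβ' : p.1.2 = β := (hcoord _ _).symm.trans hφ.2
    rw [hβ'] at hne
    rcases eq_or_ne p.1.1 0 with h0 | h0
    · rwa [h0, zero_smul, zero_add] at hne
    exfalso
    obtain ⟨l, hl0, hl⟩ := exists_unit_sq_ne hq
    have h2 := hmove Pb.symm hl0 β p.1.1 (by rwa [add_comm])
    rw [add_comm] at h2
    have hdiff : p.1.1 • b + β • b₁ ≠ (p.1.1 * (l ^ 2)⁻¹) • b + β • b₁ := by
      intro e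
      rw [add_left_inj] at e
      have e' := smul_left_injective F Pb.ne_zero e
      rw [eq_comm, mul_eq_left₀ h0, inv_eq_one] at e'
      exact hl (by rwa [← pow_two])
    have h3 := Finset.sum_le_sum_of_subset (f := m₂)
      (show ({p.1.1 • b + β • b₁, (p.1.1 * (l ^ 2)⁻¹) • b + β • b₁} : Finset A) ⊆
        Finset.univ.filter (fun φ : A => bil (QW Q v v₁) (φ : Wsub Q v v₁) (b : Wsub Q v v₁) = β) by
        intro x hx
        simp only [Finset.mem_insert, Finset.mem_singleton] at hx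
        rw [Finset.mem_filter]
        rcases hx with rfl | rfl <;> exact ⟨Finset.mem_univ _, hcoord _ _⟩)
    rw [Finset.sum_pair hdiff, h1] at h3
    omega
  have hm00 : m₂ 0 ≠ 0 := fun hz => hy0 (congrArg Subtype.val ((Submodule.eq_bot_iff _).1
    (Submodule.finrank_eq_zero.1 hz) (⟨y, hy⟩ : E) (mem_eigen.2 fun x => Subtype.ext (by
      show τ (sg Q (a : V) ((x : Wsub Q v v₁) : V)) y = wch ψ (0 : A) x • y
      rw [hya x, wch_apply]
      simp))))
  -- count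
  have hbb1 : ∀ {s t : F}, s • b = t • b₁ → t = 0 := fun {s t} e => by
    have h := congrArg (bil (QW (QW Q v v₁) a a₁) b) e
    simpa [bil_self_of_singular Pb.sing, Pb.one] using h.symm
  let C : Finset A := insert 0 ((((Finset.univ : Finset F).erase 0).image fun s => s • b₁) ∪
    (((Finset.univ : Finset F).erase 0).image fun s => s • b))
  have hC : C.card = 2 * q - 1 := by
    rw [Finset.card_insert_of_notMem, Finset.card_union_of_disjoint,
      Finset.card_image_of_injective _ (fun x y e => smul_left_injective F Pb.symm.ne_zero e),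
      Finset.card_image_of_injective _ (fun x y e => smul_left_injective F Pb.ne_zero e),
      Finset.card_erase_of_mem (Finset.mem_univ _), Finset.card_univ]
    · omega
    · rw [Finset.disjoint_left]
      intro x hx hx'
      obtain ⟨s, hs, rfl⟩ := Finset.mem_image.1 hx
      obtain ⟨t, -, e⟩ := Finset.mem_image.1 hx'
      exact (Finset.mem_erase.1 hs).1 (hbb1 e)
    · simp [Pb.ne_zero, Pb.symm.ne_zero]
  have hCle : C.card ≤ mult τ ψ (0 : Wsub Q v v₁) := by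
    rw [← hsum, Finset.card_eq_sum_ones]
    refine (Finset.sum_le_sum fun φ hφ => ?_).trans (Finset.sum_le_sum_of_subset (Finset.subset_univ C))
    rw [Nat.one_le_iff_ne_zero]
    simp only [C, Finset.mem_insert, Finset.mem_union, Finset.mem_image, Finset.mem_erase, Finset.mem_univ,
      and_true] at hφ
    rcases hφ with rfl | ⟨s, hs, rfl⟩ | ⟨s, hs, rfl⟩
    · exact hm00
    · exact haxis Pb s hs
    · exact haxis Pb.symm s hs
  have hdeg := finrank_eq_sum (ρ := τ) hN hψ P mc hmc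
  rw [Finset.sum_eq_single (0 : F) (fun c _ hc => by rw [hns c hc, zero_mul]) (by simp), hm0, one_mul] at hdeg
  have hns' : nsing (QW Q v v₁) + 1 = cnt (QW Q v v₁) 0 := nsing_add_one
  have hcard : Nat.card {φ : Wsub Q v v₁ // φ ≠ 0 ∧ Q (φ : V) = 0} = nsing (QW Q v v₁) := rfl
  rw [hcard] at hdeg
  have hz := hW.zeros
  rw [← hns'] at hz
  push_cast at hz
  have hS : (nsing (QW Q v v₁) : ℤ) + 1 = (q : ℤ) ^ 3 + (q : ℤ) ^ 2 - q :=
    mul_left_cancel₀ (show (q : ℤ) ≠ 0 by exact_mod_cast Fintype.card_ne_zero) (by linear_combination hz)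
  zify at hdeg ⊢
  have hCz : (2 * q : ℤ) - 1 ≤ mult τ ψ (0 : Wsub Q v v₁) := by omega
  linarith

end Cfsg.Agent.MinDegree.Orth
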