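import Cfsg.Agent.Lib.MinDeg.OrthStd

/-!
Counting vectors of given value in even-dimensional orthogonal spaces, and moving vectors by Siegel elements:
the numerical data of the type of a form and how it descends to the complement of a hyperbolic pair.
-/

set_option autoImplicit false
set_option linter.unusedSectionVars false

open Module

namespace Cfsg.Agent.MinDegree.Orth

open Cfsg.Agent.ClassicalSimple
open Cfsg.Agent.MinDeg.Orth

variable {F V : Type*} [Field F] [AddCommGroup V] [Module F V] {Q : QuadraticForm F V}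

/-- The number of vectors of value `c`. -/
noncomputable def cnt (Q : QuadraticForm F V) (c : F) : ℕ := Nat.card {x : V // Q x = c}

theorem cnt_congr {V' : Type*} [AddCommGroup V'] [Module F V'] {Q' : QuadraticForm F V'} (e : V ≃ₗ[F] V')
    (h : ∀ x, Q' (e x) = Q x) (c : F) : cnt Q c = cnt Q' c :=
  Nat.card_congr (e.toEquiv.subtypeEquiv fun x => by simp [h])

variable [Fintype F]

/-- The type of an even-dimensional form by its numbers of vectors of each value. -/
structure Typ (Q : QuadraticForm F V) (m : ℕ) (e : ℤ) : Prop where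
  nondeg : (bil Q).Nondegenerate
  dim : finrank F V = 2 * m
  sign : e = 1 ∨ e = -1
  zeros : (Fintype.card F : ℤ) * cnt Q 0 =
    Fintype.card F ^ (2 * m) + e * (Fintype.card F ^ (m + 1) - Fintype.card F ^ m)
  fibre : ∀ c : F, c ≠ 0 → (Fintype.card F : ℤ) * cnt Q c =
    Fintype.card F ^ (2 * m) - e * Fintype.card F ^ m

variable [FiniteDimensional F V]

theorem cnt_split {v v₁ : V} (P : HP Q v v₁) (c : F) :
    cnt Q c = Fintype.card F * cnt (QW Q v v₁) c +
      (Fintype.card F - 1) * Fintype.card F ^ finrank F (Wsub Q v v₁) := by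
  have : Finite (Wsub Q v v₁) := Module.finite_of_finite F
  rw [cnt, ← Nat.card_congr (P.splitEquiv.toEquiv.subtypeEquiv
    (p := fun p => Forms.hypExt (QW Q v v₁) p = c) fun p => by
      simp [Forms.hypExt_apply, QW_apply, P.quad_split]), card_fibre_hypExt,
    Module.natCard_eq_pow_finrank (K := F) (V := Wsub Q v v₁), Nat.card_eq_fintype_card (α := F)]
  rfl

theorem Typ.descend {m : ℕ} {e : ℤ} (h : Typ Q (m + 1) e) {v v₁ : V} (P : HP Q v v₁) :
    Typ (QW Q v v₁) m e := by
  have hk : finrank F (Wsub Q v v₁) = 2 * m := by have := P.finrank_W; have := h.dim; omega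
  have hq : 1 ≤ Fintype.card F := Fintype.card_pos
  have hq0 : (Fintype.card F : ℤ) ≠ 0 := by exact_mod_cast Fintype.card_ne_zero
  refine ⟨P.nondegenerate_QW h.nondeg, hk, h.sign, ?_, fun c hc => ?_⟩
  · have := h.zeros
    rw [cnt_split P, hk] at this
    push_cast [Nat.cast_sub hq] at this
    refine mul_left_cancel₀ hq0 ?_
    rw [show 2 * (m + 1) = 2 * m + 2 by ring] at this
    linear_combination this
  · have := h.fibre c hc
    rw [cnt_split P, hk] at this
    push_cast [Nat.cast_sub hq] at this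
    refine mul_left_cancel₀ hq0 ?_
    rw [show 2 * (m + 1) = 2 * m + 2 by ring] at this
    linear_combination this

theorem Typ.ascend {m : ℕ} {e : ℤ} {v v₁ : V} (P : HP Q v v₁) (hN : (bil Q).Nondegenerate)
    (h : Typ (QW Q v v₁) m e) : Typ Q (m + 1) e := by
  have hq : 1 ≤ Fintype.card F := Fintype.card_pos
  refine ⟨hN, by have := P.finrank_W; have := h.dim; omega, h.sign, ?_, fun c hc => ?_⟩
  · rw [cnt_split P, h.dim]
    push_cast [Nat.cast_sub hq]
    rw [show 2 * (m + 1) = 2 * m + 2 by ring]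
    linear_combination (Fintype.card F : ℤ) * h.zeros
  · rw [cnt_split P, h.dim]
    push_cast [Nat.cast_sub hq]
    rw [show 2 * (m + 1) = 2 * m + 2 by ring]
    linear_combination (Fintype.card F : ℤ) * h.fibre c hc

theorem finite_space (_Q : QuadraticForm F V) : Finite V := Module.finite_of_finite F

/-- A plus type form of positive dimension and a minus type form of dimension at least four are isotropic. -/
theorem Typ.exists_singular {m : ℕ} {e : ℤ} (h : Typ Q m e) (hm : e = 1 ∧ 1 ≤ m ∨ 2 ≤ m) :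
    ∃ s : V, s ≠ 0 ∧ Q s = 0 := by
  by_contra hc
  push Not at hc
  have h1 : cnt Q 0 = 1 := Nat.card_eq_one_iff_unique.2
    ⟨⟨fun x y => Subtype.ext (by
      have hx : x.1 = 0 := by_contra fun hne => hc _ hne x.2
      have hy : y.1 = 0 := by_contra fun hne => hc _ hne y.2
      rw [hx, hy])⟩, ⟨⟨0, QuadraticMap.map_zero _⟩⟩⟩
  have hz := h.zeros
  rw [h1, Nat.cast_one, mul_one] at hz
  have hq : (2 : ℤ) ≤ Fintype.card F := by exact_mod_cast Fintype.one_lt_card
  have hp : (1 : ℤ) ≤ (Fintype.card F : ℤ) ^ m := one_le_pow₀ (by linarith)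
  rw [show 2 * m = m + m by ring, pow_add, pow_succ] at hz
  rcases hm with ⟨rfl, hm⟩ | hm
  · have h2 : (Fintype.card F : ℤ) ≤ (Fintype.card F : ℤ) ^ m := le_self_pow₀ (by linarith) (by omega)
    nlinarith
  · have h2 : (Fintype.card F : ℤ) ^ 2 ≤ (Fintype.card F : ℤ) ^ m := pow_le_pow_right₀ (by linarith) hm
    rcases h.sign with rfl | rfl <;> nlinarith

/-- A minus type plane is anisotropic. -/
theorem Typ.aniso (h : Typ Q 1 (-1)) {x : V} (hx : Q x = 0) : x = 0 := by
  have : Finite V := finite_space Q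
  have hz := h.zeros
  have hq0 : (Fintype.card F : ℤ) ≠ 0 := by exact_mod_cast Fintype.card_ne_zero
  have h1 : (cnt Q 0 : ℤ) = 1 := mul_left_cancel₀ hq0 (by linear_combination hz)
  have h2 : cnt Q 0 = 1 := by exact_mod_cast h1
  have := (Nat.card_eq_one_iff_unique.1 h2).1
  exact congrArg Subtype.val (Subsingleton.elim (⟨x, hx⟩ : {y : V // Q y = 0}) ⟨0, QuadraticMap.map_zero _⟩)

section Vectors

variable (hN : (bil Q).Nondegenerate)
include hN

theorem card_bil_fibre {v v₁ : V} (P : HP Q v v₁) (c : F) {t : F} (ht : t ≠ 0) :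
    Nat.card {x : V // Q x = c ∧ bil Q v x = t} = Nat.card (Wsub Q v v₁) := by
  let f : Wsub Q v v₁ → V := fun w => P.splitEquiv (((c - Q (w : V)) / t, t), w)
  have hb : ∀ p, bil Q v (P.splitEquiv p) = p.1.2 := fun p => by
    obtain ⟨h1, -⟩ := mem_Wsub.1 p.2.2
    show bil Q v (p.1.1 • v + p.1.2 • v₁ + (p.2 : V)) = p.1.2
    simp [h1, P.one, bil_self_of_singular P.sing]
  refine (Nat.card_congr (Equiv.ofBijective
    (fun w => (⟨f w, by rw [P.quad_split, div_mul_cancel₀ _ ht, sub_add_cancel], hb _⟩ :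
      {x : V // Q x = c ∧ bil Q v x = t})) ⟨fun a b e => ?_, fun x => ?_⟩)).symm
  · have := P.splitEquiv.injective (congrArg Subtype.val e)
    exact (Prod.ext_iff.1 this).2
  · obtain ⟨p, hp⟩ := P.splitEquiv.surjective x.1
    refine ⟨p.2, Subtype.ext ?_⟩
    show P.splitEquiv _ = x.1
    have h1 : p.1.2 = t := by rw [← hb, hp]; exact x.2.2
    have h2 := x.2.1
    rw [← hp, P.quad_split, h1] at h2
    rw [← hp]
    refine congrArg P.splitEquiv (Prod.ext (Prod.ext ?_ h1.symm) rfl)
    show (c - Q (p.2 : V)) / t = p.1.1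
    rw [← h2, add_sub_cancel_right, mul_div_cancel_right₀ _ ht]

theorem card_bil_ne {v v₁ : V} (P : HP Q v v₁) (c : F) :
    Nat.card {x : V // Q x = c ∧ bil Q v x ≠ 0} = (Fintype.card F - 1) * Nat.card (Wsub Q v v₁) := by
  classical
  have : Finite V := finite_space Q
  let E : {x : V // Q x = c ∧ bil Q v x ≠ 0} ≃ Σ t : {t : F // t ≠ 0}, {x : V // Q x = c ∧ bil Q v x = t.1} :=
    { toFun := fun x => ⟨⟨_, x.2.2⟩, x.1, x.2.1, rfl⟩
      invFun := fun p => ⟨p.2.1, p.2.2.1, by rw [p.2.2.2]; exact p.1.2⟩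
      left_inv := fun _ => rfl
      right_inv := fun p => by
        obtain ⟨t, x, hx⟩ := p
        obtain ⟨t, ht⟩ := t
        obtain ⟨hx, ht'⟩ := hx
        simp only at ht'
        subst ht'
        rfl }
  rw [Nat.card_congr E, Nat.card_sigma, Finset.sum_congr rfl fun t _ => card_bil_fibre hN P c t.2,
    Finset.sum_const, smul_eq_mul, Finset.card_univ, Fintype.card_subtype_compl, Fintype.card_subtype_eq]

/-- The vectors of value `c` moved by the long root element of two orthogonal singular vectors. -/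
theorem card_moved {a a₁ : V} (P : HP Q a a₁) {b b₁ : Wsub Q a a₁} (P' : HP (QW Q a a₁) b b₁) (c : F) :
    Nat.card {x : V // Q x = c ∧ (bil Q a x ≠ 0 ∨ bil Q (b : V) x ≠ 0)} =
      (Fintype.card F - 1) *
        (Nat.card (Wsub Q a a₁) + Fintype.card F * Nat.card (Wsub (QW Q a a₁) b b₁)) := by
  classical
  have : Finite V := finite_space Q
  let A := {x : V // Q x = c ∧ bil Q a x ≠ 0}
  let B := {x : V // Q x = c ∧ bil Q a x = 0 ∧ bil Q (b : V) x ≠ 0}
  let E : {x : V // Q x = c ∧ (bil Q a x ≠ 0 ∨ bil Q (b : V) x ≠ 0)} ≃ A ⊕ B :=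
    { toFun := fun x => if h : bil Q a x.1 = 0 then .inr ⟨x.1, x.2.1, h, x.2.2.resolve_left (· h)⟩
        else .inl ⟨x.1, x.2.1, h⟩
      invFun := Sum.elim (fun x => ⟨x.1, x.2.1, Or.inl x.2.2⟩) (fun x => ⟨x.1, x.2.1, Or.inr x.2.2.2⟩)
      left_inv := fun x => by by_cases h : bil Q a x.1 = 0 <;> simp [h]
      right_inv := fun x => by
        rcases x with x | x
        · simp [x.2.2]
        · simp [x.2.2.1] }
  obtain ⟨b1, b2⟩ := mem_Wsub.1 b.2
  let f : F × {y : Wsub Q a a₁ // QW Q a a₁ y = c ∧ bil (QW Q a a₁) b y ≠ 0} → B := fun p =>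
    ⟨P.splitEquiv ((p.1, 0), p.2.1),
      by rw [P.quad_split, mul_zero, zero_add]; exact p.2.2.1, by
        obtain ⟨h1, -⟩ := mem_Wsub.1 p.2.1.2
        show bil Q a (p.1 • a + (0 : F) • a₁ + (p.2.1 : V)) = 0
        simp [h1, bil_self_of_singular P.sing], by
        show bil Q (b : V) (p.1 • a + (0 : F) • a₁ + (p.2.1 : V)) ≠ 0
        have := p.2.2.2
        rw [bil_QW] at this
        simp [bil_comm (b : V) a, b1, this]⟩
  have hf : Function.Bijective f := by
    refine ⟨fun p p' e => ?_, fun x => ?_⟩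
    · have := P.splitEquiv.injective (congrArg Subtype.val e)
      simp only [Prod.mk.injEq] at this
      exact Prod.ext this.1.1 (Subtype.ext this.2)
    · obtain ⟨p, hp⟩ := P.splitEquiv.surjective x.1
      obtain ⟨h1, -⟩ := mem_Wsub.1 p.2.2
      have hz : p.1.2 = 0 := by
        have := x.2.2.1
        rw [← hp] at this
        change bil Q a (p.1.1 • a + p.1.2 • a₁ + (p.2 : V)) = 0 at this
        simpa [h1, P.one, bil_self_of_singular P.sing] using this
      have hq := x.2.1
      have hb := x.2.2.2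
      rw [← hp, P.quad_split, hz, mul_zero, zero_add] at hq
      rw [← hp] at hb
      change bil Q (b : V) (p.1.1 • a + p.1.2 • a₁ + (p.2 : V)) ≠ 0 at hb
      simp [hz, bil_comm (b : V) a, b1] at hb
      refine ⟨(p.1.1, ⟨p.2, hq, hb⟩), Subtype.ext ?_⟩
      show P.splitEquiv ((p.1.1, 0), p.2) = x.1
      rw [← hp, ← hz]
  rw [Nat.card_congr E, Nat.card_sum, card_bil_ne hN P, ← Nat.card_eq_of_bijective f hf, Nat.card_prod,
    card_bil_ne (P.nondegenerate_QW hN) P', Nat.card_eq_fintype_card (α := F)]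
  ring

/-- A vector of the complement is a sum of singular vectors of the complement. -/
theorem mem_span_singular {e e₁ : V} (P : HP Q e e₁) (x : V) :
    x ∈ AddSubgroup.closure {y : V | Q y = 0} := by
  have hm : ∀ y, Q y = 0 → y ∈ AddSubgroup.closure {y : V | Q y = 0} := fun y h => AddSubgroup.subset_closure h
  obtain ⟨p, rfl⟩ := P.splitEquiv.surjective x
  obtain ⟨h1, h2⟩ := mem_Wsub.1 p.2.2
  show p.1.1 • e + p.1.2 • e₁ + (p.2 : V) ∈ _
  refine add_mem (add_mem (hm _ (by rw [quad_smul_vec, P.sing, mul_zero]))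
    (hm _ (by rw [quad_smul_vec, P.sing₁, mul_zero]))) ?_
  have h : Q ((p.2 : V) + e - Q (p.2 : V) • e₁) = 0 := by
    rw [quad_sub, quad_add, quad_smul_vec, map_smul, map_add, LinearMap.add_apply, P.sing, P.sing₁,
      P.one, bil_comm (p.2 : V) e, h1, bil_comm (p.2 : V) e₁, h2, smul_eq_mul]
    ring
  have := add_mem (sub_mem (hm _ h) (hm e P.sing))
    (hm (Q (p.2 : V) • e₁) (by rw [quad_smul_vec, P.sing₁, mul_zero]))
  convert this using 1
  module

end Vectors

end Cfsg.Agent.MinDegree.Orth
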