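import Cfsg.Agent.Lib.MinDegree.OrthMinDegree
import Cfsg.Agent.Lib.ClassicalSimple.OrthMatrix

/-!
The minimal degrees for the standard forms of plus and minus type.
-/

set_option autoImplicit false

open Module

namespace Cfsg.Agent.MinDegree.Orth

open Cfsg.Agent.ClassicalSimple
open Cfsg.Agent.MinDeg.Orth
open Cfsg.Agent

variable {F : Type*} [Field F] [Fintype F]

theorem typ_of_split {A B : Type*} [AddCommGroup A] [Module F A] [FiniteDimensional F A] [AddCommGroup B]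
    [Module F B] [FiniteDimensional F B] {R : QuadraticForm F A} {R' : QuadraticForm F B}
    (ε : A ≃ₗ[F] (F × F) × B) (hε : ∀ x, Forms.hypExt R' (ε x) = R x) (hN : (bil R).Nondegenerate) {m : ℕ}
    {e : ℤ} (h : Typ R' m e) : Typ R (m + 1) e := by
  have : Finite B := Module.finite_of_finite F
  have hc : ∀ c, cnt R c = Fintype.card F * cnt R' c + (Fintype.card F - 1) * Fintype.card F ^ finrank F B :=
    fun c => by
      rw [cnt, Nat.card_congr (ε.toEquiv.subtypeEquiv (q := fun p => Forms.hypExt R' p = c) fun x => by simp [hε]),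
        card_fibre_hypExt, Module.natCard_eq_pow_finrank (K := F) (V := B), Nat.card_eq_fintype_card (α := F)]
      rfl
  have hq : 1 ≤ Fintype.card F := Fintype.card_pos
  refine ⟨hN, ?_, h.sign, ?_, fun c hc' => ?_⟩
  · rw [ε.finrank_eq, Module.finrank_prod, Module.finrank_prod, Module.finrank_self, h.dim]
    ring
  · rw [hc, h.dim]
    push_cast [Nat.cast_sub hq]
    rw [show 2 * (m + 1) = 2 * m + 2 by ring]
    linear_combination (Fintype.card F : ℤ) * h.zeros
  · rw [hc, h.dim]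
    push_cast [Nat.cast_sub hq]
    rw [show 2 * (m + 1) = 2 * m + 2 by ring]
    linear_combination (Fintype.card F : ℤ) * h.fibre c hc'

theorem typ_plus : ∀ m, Typ (Forms.quadPlus m F) m 1
  | 0 => by
    have huniq : ∀ x : Fin 0 ⊕ Fin 0 → F, x = 0 := fun x => Subsingleton.elim _ _
    refine ⟨bil_nondegenerate _ (Forms.quadPlus_nondegenerate 0), by simp, Or.inl rfl, ?_, fun c hc => ?_⟩
    · have h1 : cnt (Forms.quadPlus 0 F) 0 = 1 := Nat.card_eq_one_iff_unique.2
        ⟨⟨fun a b => Subtype.ext ((huniq a.1).trans (huniq b.1).symm)⟩, ⟨⟨0, QuadraticMap.map_zero _⟩⟩⟩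
      rw [h1]
      ring
    · have : IsEmpty {x : Fin 0 ⊕ Fin 0 → F // Forms.quadPlus 0 F x = c} :=
        ⟨fun x => hc (by rw [← x.2, huniq x.1, QuadraticMap.map_zero])⟩
      rw [cnt, Nat.card_of_isEmpty]
      ring
  | m + 1 => typ_of_split (Forms.splitPair m F) Forms.quadPlus_succ
      (bil_nondegenerate _ (Forms.quadPlus_nondegenerate (m + 1))) (typ_plus m)

theorem typ_minus {a b : F} (hab : ∀ z₁ z₂ : F, z₁ ^ 2 + a * z₁ * z₂ + b * z₂ ^ 2 = 0 → z₁ = 0 ∧ z₂ = 0) :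
    ∀ m, Typ (Forms.quadMinus m F a b) (m + 1) (-1)
  | 0 => by
    have hc : ∀ c, cnt (Forms.quadMinus 0 F a b) c = Nat.card {z // Forms.binQ a b z = c} := fun c =>
      Nat.card_congr ((Forms.binCoord F).toEquiv.subtypeEquiv fun x => by simp [Forms.binQ_binCoord])
    refine ⟨bil_nondegenerate _ (Forms.quadMinus_nondegenerate 0 hab), by simp, Or.inr rfl, ?_, fun c hc' => ?_⟩
    · have h1 : Nat.card {z // Forms.binQ a b z = 0} = 1 := Nat.card_eq_one_iff_unique.2
        ⟨⟨fun x y => Subtype.ext ((Forms.binQ_eq_zero hab x.2).trans (Forms.binQ_eq_zero hab y.2).symm)⟩,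
          ⟨⟨0, QuadraticMap.map_zero _⟩⟩⟩
      rw [hc, h1]
      ring
    · rw [hc, Forms.card_binQ_fibre hab hc']
      push_cast
      ring
  | m + 1 => typ_of_split (Forms.splitMinus m F) Forms.quadMinus_succ
      (bil_nondegenerate _ (Forms.quadMinus_nondegenerate (m + 1) hab)) (typ_minus hab m)

/-- Transfer to the matrix group `Omega`. -/
theorem omega_bound {ι : Type} [Fintype ι] [DecidableEq ι] {Q' : QuadraticForm F (ι → F)} {e : ℤ} {j : ℕ}
    (he : e = 1 ∨ e = -1) (hqe : e = 1 → 4 ≤ Fintype.card F) (hT : Typ Q' (j + 4) e) (k : ℕ)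
    (ρ : Representation ℂ (Cfsg.Omega F ⇑Q') (Fin k → ℂ)) (hρ : ρ.IsIrreducible) (h2 : 2 ≤ k) :
    num (Fintype.card F) ((Fintype.card F : ℤ) ^ (j + 2)) e ≤ ((Fintype.card F : ℤ) ^ 2 - 1) * k := by
  have h5 : 5 ≤ finrank F (ι → F) := by rw [hT.dim]; omega
  let φ : Cfsg.Omega F ⇑Q' ≃* siegelGroup Q' :=
    ((isometryEquiv Q').subgroupMap _).trans
      (MulEquiv.subgroupCongr ((map_commutator_top (isometryEquiv Q')).trans
        (commutator_eq_siegelGroup hT.nondeg h5)))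
  let σ : Representation ℂ (siegelGroup Q') (Fin k → ℂ) := ρ.comp φ.symm.toMonoidHom
  have : σ.IsIrreducible := CharInt.irreducible_of_comp_surjective ρ φ.toMonoidHom φ.surjective σ
    (MonoidHom.ext fun g => by simp [σ])
  have h := orth_min_degree he hqe j Q' hT σ (by rw [Module.finrank_fin_fun]; exact h2)
  rwa [Module.finrank_fin_fun] at h

theorem nat_bound {q j k : ℕ} (hq : 2 ≤ q) {N : ℕ} {e : ℤ} (hN : (N : ℤ) = num q ((q : ℤ) ^ (j + 2)) e)
    (h : num q ((q : ℤ) ^ (j + 2)) e ≤ ((q : ℤ) ^ 2 - 1) * k) : N / (q ^ 2 - 1) ≤ k := by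
  have h1 : 1 ≤ q ^ 2 := Nat.one_le_pow _ _ (by omega)
  refine Nat.div_le_of_le_mul ?_
  zify [h1]
  rw [hN]
  exact h

theorem plus_bound (j : ℕ) (hq : 4 ≤ Fintype.card F) (k : ℕ)
    (ρ : Representation ℂ (Cfsg.Omega F (Cfsg.quadFormPlus (j + 4) F)) (Fin k → ℂ)) (hρ : ρ.IsIrreducible)
    (h2 : 2 ≤ k) :
    (Fintype.card F ^ (j + 4) - 1) * (Fintype.card F ^ (j + 3) + Fintype.card F) / (Fintype.card F ^ 2 - 1) ≤ k := by
  revert ρ
  rw [show Cfsg.quadFormPlus (j + 4) F = ⇑(Forms.quadPlus (j + 4) F) from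
    funext fun v => (Forms.quadPlus_apply v).symm]
  intro ρ hρ
  refine nat_bound (by omega) ?_ (omega_bound (Or.inl rfl) (fun _ => hq) (typ_plus _) k ρ hρ h2)
  rw [Nat.cast_mul, Nat.cast_sub (Nat.one_le_pow _ _ (by omega))]
  push_cast
  rw [num]
  ring

theorem minus_bound (j : ℕ) {a b : F}
    (hab : ∀ z₁ z₂ : F, z₁ ^ 2 + a * z₁ * z₂ + b * z₂ ^ 2 = 0 → z₁ = 0 ∧ z₂ = 0) (k : ℕ)
    (ρ : Representation ℂ (Cfsg.Omega F (Cfsg.quadFormMinus (j + 3) F a b)) (Fin k → ℂ)) (hρ : ρ.IsIrreducible)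
    (h2 : 2 ≤ k) :
    (Fintype.card F ^ (j + 4) + 1) * (Fintype.card F ^ (j + 3) - Fintype.card F) / (Fintype.card F ^ 2 - 1) ≤ k := by
  revert ρ
  rw [show Cfsg.quadFormMinus (j + 3) F a b = ⇑(Forms.quadMinus (j + 3) F a b) from
    funext fun v => (Forms.quadMinus_apply v).symm]
  intro ρ hρ
  have hq : 2 ≤ Fintype.card F := Fintype.one_lt_card
  refine nat_bound hq ?_ (omega_bound (Or.inr rfl) (fun h => by norm_num at h) (typ_minus hab _) k ρ hρ h2)
  rw [Nat.cast_mul, Nat.cast_sub (Nat.le_self_pow (by omega) _)]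
  push_cast
  rw [num]
  ring

end Cfsg.Agent.MinDegree.Orth
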