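import Cfsg.Agent.Lib.MinDegree.OrthTwist

/-!
One level of the argument: multiplicities depend on values only, their dependence on square classes, the degree as
a sum over values, conjugation of long root elements into the radical, and the existence of a vector fixed by the
radical and by the radical of a point in the Levi factor.
-/

set_option autoImplicit false
set_option linter.unusedSectionVars false

open Module

namespace Cfsg.Agent.MinDegree.Orth

open Cfsg.Agent.ClassicalSimple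
open Cfsg.Agent.MinDeg.Orth

variable {F V : Type*} [Field F] [Fintype F] [AddCommGroup V] [Module F V] [Finite V]
  [FiniteDimensional F V] {Q : QuadraticForm F V}

noncomputable local instance fintypeW' (v v₁ : V) : Fintype (Wsub Q v v₁) := Fintype.ofFinite _

variable {X : Type*} [AddCommGroup X] [Module ℂ X] [FiniteDimensional ℂ X]
  {ρ : Representation ℂ (siegelGroup Q) X} {ψ : AddChar F ℂ} {v v₁ : V}

open Classical in
/-- The multiplicity of some non-zero weight of value `c`. -/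
noncomputable def mval (ρ : Representation ℂ (siegelGroup Q) X) (ψ : AddChar F ℂ) (v v₁ : V) (c : F) : ℕ :=
  if h : ∃ φ : Wsub Q v v₁, φ ≠ 0 ∧ Q (φ : V) = c then mult ρ ψ h.choose else 0

theorem mult_eq_mval (hconst : ∀ φ φ' : Wsub Q v v₁, φ ≠ 0 → φ' ≠ 0 → Q (φ : V) = Q (φ' : V) →
    mult ρ ψ φ = mult ρ ψ φ') (φ : Wsub Q v v₁) (hφ : φ ≠ 0) :
    mult ρ ψ φ = mval ρ ψ v v₁ (Q (φ : V)) := by
  have h : ∃ φ' : Wsub Q v v₁, φ' ≠ 0 ∧ Q (φ' : V) = Q (φ : V) := ⟨φ, hφ, rfl⟩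
  rw [mval, dif_pos h]
  exact hconst _ _ hφ h.choose_spec.1 h.choose_spec.2.symm

variable (hN : (bil Q).Nondegenerate)
include hN

/-- In dimension at least five of the complement the Levi factor is transitive on each value. -/
theorem mult_eq_of_value (P : HP Q v v₁) (hk : 5 ≤ finrank F (Wsub Q v v₁)) (φ φ' : Wsub Q v v₁)
    (hφ : φ ≠ 0) (hφ' : φ' ≠ 0) (e : Q (φ : V) = Q (φ' : V)) : mult ρ ψ φ = mult ρ ψ φ' := by
  have hNW := P.nondegenerate_QW hN
  obtain ⟨g, hg, hgφ⟩ : ∃ g ∈ siegelGroup (QW Q v v₁), g • φ = φ' := by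
    by_cases h0 : Q (φ : V) = 0
    · exact siegel_trans hNW hk hφ hφ' h0 (e ▸ h0)
    · exact siegel_trans_norm hNW hk (b := φ) (b' := φ') h0 e
  obtain ⟨G, G1, G2, G3⟩ := HP.exists_lift hg
  exact mult_eq_of_map P (g := G) (c := 1) one_ne_zero (by rw [one_smul, G1]) (by rw [inv_one, one_smul, G2])
    (by rw [one_smul, G3, hgφ])

theorem exists_value (P : HP Q v v₁) {u u₁ : Wsub Q v v₁} (Pu : HP (QW Q v v₁) u u₁) (c : F) :
    ∃ φ : Wsub Q v v₁, φ ≠ 0 ∧ Q (φ : V) = c := by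
  have h := card_bil_fibre (P.nondegenerate_QW hN) Pu c (one_ne_zero (α := F))
  have hpos : 0 < Nat.card {x : Wsub Q v v₁ // QW Q v v₁ x = c ∧ bil (QW Q v v₁) u x = 1} := by
    rw [h]; exact Nat.card_pos
  obtain ⟨⟨x, hx, hb⟩⟩ := (Nat.card_pos_iff.1 hpos).1
  exact ⟨x, fun e => by simp [e] at hb, hx⟩

/-- The multiplicities are constant on square classes. -/
theorem mval_sq (h5 : 5 ≤ finrank F V) (P : HP Q v v₁) {u u₁ : Wsub Q v v₁} (Pu : HP (QW Q v v₁) u u₁)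
    (hconst : ∀ φ φ' : Wsub Q v v₁, φ ≠ 0 → φ' ≠ 0 → Q (φ : V) = Q (φ' : V) →
      mult ρ ψ φ = mult ρ ψ φ') (c : F) {l : F} (hl : l ≠ 0) :
    mval ρ ψ v v₁ (c * l ^ 2) = mval ρ ψ v v₁ c := by
  obtain ⟨φ, hφ, hc⟩ := exists_value hN P Pu (c * l ^ 2)
  obtain ⟨g, g1, g2⟩ := exists_scale hN h5 P hl
  obtain ⟨p1, p2⟩ := mem_Wsub.1 φ.2
  have m1 : bil Q v (g • (φ : V)) = 0 := by
    have h := bil_smul' g v (φ : V)
    rw [g1, LinearMap.map_smul, LinearMap.smul_apply, p1, smul_eq_mul] at h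
    exact (mul_eq_zero.1 h).resolve_left hl
  have m2 : bil Q v₁ (g • (φ : V)) = 0 := by
    have h := bil_smul' g v₁ (φ : V)
    rw [g2, LinearMap.map_smul, LinearMap.smul_apply, p2, smul_eq_mul] at h
    exact (mul_eq_zero.1 h).resolve_left (inv_ne_zero hl)
  let φ' : Wsub Q v v₁ := ⟨l⁻¹ • g • (φ : V), mem_Wsub.2 ⟨by simp [m1], by simp [m2]⟩⟩
  have hφ' : φ' ≠ 0 := fun e => hφ (Subtype.ext (by
    simpa [φ', hl, smul_eq_zero_iff_eq] using congrArg Subtype.val e))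
  have hQ : Q (φ' : V) = c := by
    show Q (l⁻¹ • g • (φ : V)) = c
    rw [quad_smul_vec, quad_smul', hc]
    field_simp
  have h := mult_eq_of_map (ρ := ρ) (ψ := ψ) P hl g1 g2 (φ := φ) (φ' := φ') (smul_inv_smul₀ hl _)
  rw [mult_eq_mval hconst φ hφ, mult_eq_mval hconst φ' hφ', hc, hQ] at h
  exact h

/-- Without weights the representation is trivial. -/
theorem trivial_of_mult_zero (h5 : 5 ≤ finrank F V) (hψ : ψ.IsPrimitive) (P : HP Q v v₁)
    (h : ∀ φ : Wsub Q v v₁, φ ≠ 0 → mult ρ ψ φ = 0) : ∀ g y, ρ g y = y := by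
  classical
  have htop : wsp ρ ψ (0 : Wsub Q v v₁) = ⊤ := by
    refine Submodule.eq_top_of_finrank_eq ?_
    rw [← sum_mult (ρ := ρ) hN hψ P, Finset.sum_eq_single (0 : Wsub Q v v₁) (fun φ _ hφ => h φ hφ) (by simp)]
    rfl
  have hrad : ∀ w, ∀ y, ρ (sg Q v w) y = y := by
    intro w y
    by_cases hw : bil Q v w = 0
    · rw [show w = MinDeg.Orth.proj Q v v₁ w + bil Q v₁ w • v by rw [MinDeg.Orth.proj, hw]; module,
        sg_add_self P.sing (mem_Wsub.1 (P.proj_mem w)).1]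
      exact mem_wsp_zero.1 (show y ∈ wsp ρ ψ (0 : Wsub Q v v₁) by rw [htop]; trivial) ⟨_, P.proj_mem w⟩
    · rw [sg_of_not fun h' => hw h'.2, map_one]
      rfl
  intro g y
  obtain ⟨g, hg⟩ := g
  induction hg using Subgroup.closure_induction generalizing y with
  | mem x hx =>
    obtain ⟨a, w, ha, hw, rfl⟩ := hx
    rw [show (⟨siegel ha hw, siegel_mem _ _⟩ : siegelGroup Q) = sg Q a w from Subtype.ext (sg_coe ha hw).symm]
    rcases eq_or_ne a 0 with rfl | ha0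
    · rw [sg_left_zero, map_one]
      rfl
    · obtain ⟨k, hk, e⟩ := siegel_trans hN h5 P.ne_zero ha0 P.sing ha
      have e' : sg Q a w = ⟨k, hk⟩ * sg Q v ((⟨k, hk⟩ : siegelGroup Q)⁻¹ • w) * ⟨k, hk⟩⁻¹ := by
        rw [sg_conj, smul_inv_smul]
        congr 1
        exact e.symm
      rw [e', map_mul, map_mul, Module.End.mul_apply, Module.End.mul_apply, hrad, ← Module.End.mul_apply,
        ← map_mul, mul_inv_cancel, map_one]
      rfl
  | one => exact LinearMap.congr_fun ρ.map_one y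
  | mul x z hx hz h1 h2 =>
    exact ((LinearMap.congr_fun (ρ.map_mul ⟨x, hx⟩ ⟨z, hz⟩) y).trans (by
      rw [Module.End.mul_apply, h2, h1]))
  | inv x hx h1 =>
    refine rep_injective (ρ := ρ) ⟨x, hx⟩ ?_
    rw [h1 y, ← Module.End.mul_apply, ← map_mul]
    exact LinearMap.congr_fun (show ρ (⟨x, hx⟩ * ⟨x, hx⟩⁻¹) = 1 by rw [mul_inv_cancel, map_one]) y

/-- The degree as a sum over the values. -/
theorem finrank_eq_sum (hψ : ψ.IsPrimitive) (P : HP Q v v₁) (mc : F → ℕ)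
    (hmc : ∀ φ : Wsub Q v v₁, φ ≠ 0 → mult ρ ψ φ = mc (Q (φ : V))) :
    finrank ℂ X = mult ρ ψ (0 : Wsub Q v v₁) +
      ∑ c, mc c * Nat.card {φ : Wsub Q v v₁ // φ ≠ 0 ∧ Q (φ : V) = c} := by
  classical
  rw [← sum_mult (ρ := ρ) hN hψ P, ← Finset.add_sum_erase _ _ (Finset.mem_univ (0 : Wsub Q v v₁))]
  congr 1
  rw [← Finset.sum_fiberwise ((Finset.univ : Finset (Wsub Q v v₁)).erase 0) (fun φ => Q (φ : V))]
  refine Finset.sum_congr rfl fun c _ => ?_
  rw [Finset.sum_congr rfl (g := fun _ => mc c) fun φ hφ => by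
    rw [Finset.mem_filter] at hφ; rw [hmc φ (Finset.mem_erase.1 hφ.1).1, hφ.2],
    Finset.sum_const, smul_eq_mul, mul_comm, Nat.card_eq_fintype_card, Fintype.card_subtype]
  congr 2
  ext φ
  simp

omit [FiniteDimensional ℂ X] in
/-- Long root elements are conjugate into the radical. -/
theorem conj_to_radical (h5 : 5 ≤ finrank F V) (P : HP Q v v₁) {a b : V} (ha : Q a = 0) (hb : Q b = 0)
    (hab : bil Q a b = 0) (hi : LinearIndependent F ![a, b]) :
    ∃ u : Wsub Q v v₁, u ≠ 0 ∧ Q (u : V) = 0 ∧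
      ∃ g : siegelGroup Q, g * sg Q a b * g⁻¹ = sg Q v (u : V) := by
  have ha0 : a ≠ 0 := hi.ne_zero 0
  obtain ⟨k, hk, e⟩ := siegel_trans hN h5 ha0 P.ne_zero ha P.sing
  set g : siegelGroup Q := ⟨k, hk⟩
  have ga : g • a = v := e
  have hbv : bil Q v (g • b) = 0 := by rw [← ga, bil_smul', hab]
  have hdec : g • b = MinDeg.Orth.proj Q v v₁ (g • b) + bil Q v₁ (g • b) • v := by
    rw [MinDeg.Orth.proj, hbv, zero_smul, sub_zero, sub_add_cancel]
  refine ⟨⟨_, P.proj_mem (g • b)⟩, fun h => ?_, ?_, g, ?_⟩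
  · have h0 : MinDeg.Orth.proj Q v v₁ (g • b) = 0 := congrArg Subtype.val h
    have h1 : g • b = bil Q v₁ (g • b) • (g • a) := by rw [ga]; rw [h0, zero_add] at hdec; exact hdec
    rw [smul_comm] at h1
    have h2 := MulAction.injective g h1
    exact ((LinearIndependent.pair_iff' ha0).1 hi _) h2.symm
  · have h1 : Q (g • b) = 0 := by rw [quad_smul', hb]
    obtain ⟨p1, -⟩ := mem_Wsub.1 (P.proj_mem (g • b))
    rw [hdec, quad_add, quad_smul_vec, P.sing, LinearMap.map_smul, bil_comm _ v, p1] at h1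
    simpa using h1
  · rw [sg_conj, ga, hdec, sg_add_self P.sing (mem_Wsub.1 (P.proj_mem (g • b))).1,
      ← hdec]

theorem trace_eq_radical (h5 : 5 ≤ finrank F V) (P : HP Q v v₁) {a b : V} (ha : Q a = 0) (hb : Q b = 0)
    (hab : bil Q a b = 0) (hi : LinearIndependent F ![a, b]) :
    ∃ u u₁ : Wsub Q v v₁, HP (QW Q v v₁) u u₁ ∧
      LinearMap.trace ℂ X (ρ (sg Q a b)) = LinearMap.trace ℂ X (ρ (sg Q v (u : V))) := by
  obtain ⟨u, hu0, hu, g, hg⟩ := conj_to_radical hN h5 P ha hb hab hi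
  obtain ⟨u₁, Pu⟩ := exists_HP (P.nondegenerate_QW hN) (v := u) hu hu0
  exact ⟨u, u₁, Pu, by rw [← hg, map_mul ρ, map_mul ρ, LinearMap.trace_mul_comm, ← mul_assoc, ← map_mul,
    inv_mul_cancel, map_one, one_mul]⟩

/-- If the weights are singular and long root elements are trivial on the lines they fix, then a vector fixed
by the radical is fixed by the radical of a point of the Levi factor. -/
theorem exists_double_fix (h5 : 5 ≤ finrank F V) (hψ : ψ.IsPrimitive) (P : HP Q v v₁)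
    (hns : ∀ φ : Wsub Q v v₁, Q (φ : V) ≠ 0 → mult ρ ψ φ = 0)
    (hH : ∀ a a₁ : Wsub Q v v₁, HP (QW Q v v₁) a a₁ → ∃ e e₁ : Wsub (QW Q v v₁) a a₁,
      HP (QW (QW Q v v₁) a a₁) e e₁)
    (htw : ∀ φ x : Wsub Q v v₁, φ ≠ 0 → Q (φ : V) = 0 → Q (x : V) = 0 → bil Q (φ : V) (x : V) = 0 →
      LinearIndependent F ![φ, x] → ∀ y ∈ wsp ρ ψ φ, ρ (sg Q (φ : V) (x : V)) y = y)
    (hne : wsp ρ ψ (0 : Wsub Q v v₁) ≠ ⊥) (hfix : ∀ y, (∀ g, ρ g y = y) → y = 0) :
    ∃ a a₁ : Wsub Q v v₁, HP (QW Q v v₁) a a₁ ∧ ∃ y ∈ wsp ρ ψ (0 : Wsub Q v v₁), y ≠ 0 ∧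
      ∀ x : Wsub (QW Q v v₁) a a₁, ρ (sg Q (a : V) ((x : Wsub Q v v₁) : V)) y = y := by
  classical
  by_contra hcon
  push Not at hcon
  have hNW := P.nondegenerate_QW hN
  obtain ⟨k, hk, k1, k2⟩ := siegel_trans_pair hN h5 P.sing P.sing₁ P.sing₁ P.sing P.one P.symm.one
  set g : siegelGroup Q := ⟨k, hk⟩
  have gv : g • v = v₁ := k1
  have gv₁ : g • v₁ = v := k2
  have gv' : g⁻¹ • v₁ = v := by rw [inv_smul_eq_iff, gv]
  have gv₁' : g⁻¹ • v = v₁ := by rw [inv_smul_eq_iff, gv₁]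
  obtain ⟨y₀, hy₀, hy₀0⟩ := Submodule.exists_mem_ne_zero_of_ne_bot hne
  have hmove : ∀ (y : X) (x : V), x ∈ Wsub Q v v₁ → g⁻¹ • x ∈ Wsub Q v v₁ := fun y x hx => by
    obtain ⟨h1, h2⟩ := mem_Wsub.1 hx
    exact mem_Wsub.2 ⟨by rw [← bil_smul' g, smul_inv_smul, gv, h2],
      by rw [← bil_smul' g, smul_inv_smul, gv₁, h1]⟩
  have hmove' : ∀ x : V, x ∈ Wsub Q v v₁ → g • x ∈ Wsub Q v v₁ := fun x hx => by
    obtain ⟨h1, h2⟩ := mem_Wsub.1 hx
    exact mem_Wsub.2 ⟨by rw [← gv₁, bil_smul', h2], by rw [← gv, bil_smul', h1]⟩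
  have hshift : ∀ {a b : V}, g • a = b → ∀ z : V, sg Q a z * g⁻¹ = g⁻¹ * sg Q b (g • z) := fun {a b} e z => by
    rw [← e, ← sg_conj g, ← mul_assoc, ← mul_assoc, inv_mul_cancel, one_mul]
  have hbil : ∀ a z : V, bil Q a (g • z) = bil Q (g⁻¹ • a) z := fun a z => by
    rw [← bil_smul' g (g⁻¹ • a), smul_inv_smul]
  -- a non-zero vector fixed by the opposite radical
  set y := ρ g y₀ with hydef
  have hy0 : y ≠ 0 := fun e => hy₀0 (rep_injective g (by rw [← hydef, e, map_zero]))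
  have hy : ∀ x ∈ Wsub Q v v₁, ρ (sg Q v₁ x) y = y := by
    intro x hx
    have e : sg Q v₁ x * g = g * sg Q v (g⁻¹ • x) := by
      rw [← gv', ← sg_conj g⁻¹, inv_inv, ← mul_assoc, mul_inv_cancel_left]
    rw [hydef, ← Module.End.mul_apply, ← map_mul, e, map_mul, Module.End.mul_apply,
      mem_wsp_zero.1 hy₀ ⟨_, hmove y x hx⟩]
  -- its components off the fixed vectors of the radical vanish
  have hproj : ∀ φ : Wsub Q v v₁, φ ≠ 0 → eigenProj (rop ρ v v₁) (wch ψ φ) y = 0 := by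
    intro φ hφ
    set π := eigenProj (rop ρ v v₁) (wch ψ φ) with hπ
    have hmem : ∀ z, π z ∈ wsp ρ ψ φ := fun z => eigenProj_apply_mem (isOp_rop P) _ z
    by_cases hQ : Q (φ : V) = 0
    swap
    · exact (Submodule.eq_bot_iff _).1 (Submodule.finrank_eq_zero.1 (hns φ hQ)) _ (hmem y)
    obtain ⟨φ₁, Pφ⟩ := exists_HP hNW (v := φ) hQ hφ
    obtain ⟨e, e₁, Pe⟩ := hH φ φ₁ Pφ
    let A := Wsub (QW Q v v₁) φ φ₁
    have hA : ∀ x : A, bil Q (φ : V) ((x : Wsub Q v v₁) : V) = 0 := fun x => (mem_Wsub.1 x.2).1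
    let h : A → siegelGroup Q := fun x => sg Q (φ : V) ((x : Wsub Q v v₁) : V)
    have hfv : ∀ x : A, h x • v = v := fun x => sg_fix hQ (hA x) (mem_Wsub.1 φ.2).1
      (mem_Wsub.1 (x : Wsub Q v v₁).2).1
    have hfv₁ : ∀ x : A, h x • v₁ = v₁ := fun x => sg_fix hQ (hA x) (mem_Wsub.1 φ.2).2
      (mem_Wsub.1 (x : Wsub Q v v₁).2).2
    have hadd : ∀ x x' : A, h (x + x') = h x * h x' := fun x x' => (sg_mul hQ (hA x) (hA x')).symm
    -- trivial on the line
    have htriv : ∀ x : A, ∀ z ∈ wsp ρ ψ φ, ρ (h x) z = z := by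
      intro x
      induction mem_span_singular (Pφ.nondegenerate_QW hNW) Pe x using AddSubgroup.closure_induction with
      | mem x hx =>
        intro z hz
        rcases eq_or_ne x 0 with rfl | hx0
        · rw [show h (0 : A) = 1 from sg_zero _, map_one]; rfl
        refine htw φ (x : Wsub Q v v₁) hφ hQ hx (hA x) ?_ z hz
        refine (LinearIndependent.pair_iff' hφ).2 fun c hc => hx0 (Subtype.ext ?_)
        have := congrArg (bil (QW Q v v₁) φ₁) hc
        rw [map_smul, Pφ.symm.one, smul_eq_mul, mul_one, (mem_Wsub.1 x.2).2] at this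
        rw [← hc, this, zero_smul]; rfl
      | zero => intro z hz; rw [show h (0 : A) = 1 from sg_zero _, map_one]; rfl
      | add x x' _ _ h1 h2 =>
        intro z hz
        rw [hadd, map_mul, Module.End.mul_apply, h2 z hz, h1 z hz]
      | neg x _ h1 =>
        intro z hz
        refine rep_injective (ρ := ρ) (h x) ?_
        rw [← Module.End.mul_apply, ← map_mul, ← hadd, add_neg_cancel, show h (0 : A) = 1 from sg_zero _,
          map_one, h1 z hz]
        rfl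
    -- the projection commutes
    have hcomm : ∀ (x : A) z, π (ρ (h x) z) = π z := by
      intro x z
      conv_lhs => rw [← sum_eigenProj (isOp_rop (ρ := ρ) P) z, map_sum, map_sum]
      rw [Finset.sum_eq_single (wch ψ φ) (fun χ _ hne => ?_) (by simp), ← hπ,
        htriv x _ (hmem z), hπ, eigenProj_of_mem (hmem z)]
      obtain ⟨φ', rfl⟩ := (wch_bijective hN hψ P).2 χ
      have hfix : h x • (φ : V) = φ := sg_fix hQ (hA x) (bil_self_of_singular hQ) (hA x)
      have hw := mem_W_fix (hfv x) (hfv₁ x) φ'.2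
      refine eigenProj_of_mem_ne (χ' := wch ψ ⟨_, hw⟩)
        (map_mem_wsp P (c := 1) one_ne_zero (by rw [one_smul, hfv]) (by rw [inv_one, one_smul, hfv₁])
          (by rw [one_smul]) (eigenProj_apply_mem (isOp_rop P) _ z)) fun e => hne ?_
      have e' : h x • (φ' : V) = h x • (φ : V) := by
        rw [hfix]; exact congrArg Subtype.val ((wch_bijective hN hψ P).1 e)
      rw [Subtype.ext (MulAction.injective (h x) e' : (φ' : V) = φ)]
    -- the sum over the radical of `φ`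
    let _ : Fintype A := Fintype.ofFinite A
    set S := ∑ x : A, ρ (h x) y with hS
    have hSfix : ∀ x ∈ Wsub Q v v₁, ρ (sg Q v₁ x) S = S := by
      intro x hx
      rw [hS, map_sum]
      refine Finset.sum_congr rfl fun a _ => ?_
      have hinv : (h a)⁻¹ • x ∈ Wsub Q v v₁ :=
        mem_W_fix (inv_smul_eq_iff.2 (hfv a).symm) (inv_smul_eq_iff.2 (hfv₁ a).symm) hx
      have e : sg Q v₁ x * h a = h a * sg Q v₁ ((h a)⁻¹ • x) := by
        conv_lhs => rw [← hfv₁ a, ← smul_inv_smul (h a) x, ← sg_conj, inv_mul_cancel_right]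
      rw [← Module.End.mul_apply, ← map_mul, e, map_mul, Module.End.mul_apply, hy _ hinv]
    have hS0 : S = 0 := by
      by_contra hne0
      -- move it back
      have hinvφ : g⁻¹ • (φ : V) ∈ Wsub Q v v₁ := hmove y _ φ.2
      have hinvφ₁ : g⁻¹ • (φ₁ : V) ∈ Wsub Q v v₁ := hmove y _ φ₁.2
      have P' : HP (QW Q v v₁) ⟨_, hinvφ⟩ ⟨_, hinvφ₁⟩ :=
        ⟨by show Q (g⁻¹ • (φ : V)) = 0; rw [quad_smul', hQ],
          by show Q (g⁻¹ • (φ₁ : V)) = 0; rw [quad_smul']; exact Pφ.sing₁,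
          by show bil Q (g⁻¹ • (φ : V)) (g⁻¹ • (φ₁ : V)) = 1; rw [bil_smul']; exact Pφ.one⟩
      have hz0 : ρ g⁻¹ S ≠ 0 := fun e => hne0 (rep_injective g⁻¹ (by rw [e, map_zero]))
      have hzmem : ρ g⁻¹ S ∈ wsp ρ ψ (0 : Wsub Q v v₁) := by
        refine mem_wsp_zero.2 fun x => ?_
        have hgx : g • (x : V) ∈ Wsub Q v v₁ := hmove' _ x.2
        have e : sg Q v (x : V) * g⁻¹ = g⁻¹ * sg Q v₁ (g • (x : V)) := hshift gv _
        rw [← Module.End.mul_apply, ← map_mul, e, map_mul, Module.End.mul_apply, hSfix _ hgx]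
      obtain ⟨x, hx⟩ := hcon _ _ P' _ hzmem hz0
      refine hx ?_
      have hgx : g • ((x : Wsub Q v v₁) : V) ∈ Wsub Q v v₁ := hmove' _ (x : Wsub Q v v₁).2
      let x' : A := ⟨⟨_, hgx⟩, mem_Wsub.2 ⟨by
          have := (mem_Wsub.1 x.2).1
          exact (hbil (φ : V) _).trans this, by
          have := (mem_Wsub.1 x.2).2
          exact (hbil (φ₁ : V) _).trans this⟩⟩
      have e : sg Q (g⁻¹ • (φ : V)) ((x : Wsub Q v v₁) : V) * g⁻¹ = g⁻¹ * h x' :=
        hshift (smul_inv_smul g (φ : V)) _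
      show ρ (sg Q (g⁻¹ • (φ : V)) ((x : Wsub Q v v₁) : V)) (ρ g⁻¹ S) = ρ g⁻¹ S
      rw [← Module.End.mul_apply, ← map_mul, e, map_mul, Module.End.mul_apply]
      congr 1
      rw [hS, map_sum]
      refine Fintype.sum_equiv (Equiv.addLeft x') _ _ fun a => ?_
      rw [Equiv.coe_addLeft, hadd, map_mul, Module.End.mul_apply]
    have h := congrArg π hS0
    rw [hS, map_sum, Finset.sum_congr rfl fun a _ => hcomm a y, Finset.sum_const, map_zero,
      ← Nat.cast_smul_eq_nsmul ℂ] at h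
    exact (smul_eq_zero.1 h).resolve_left (Nat.cast_ne_zero.2 Fintype.card_ne_zero)
  have hy' : y ∈ wsp ρ ψ (0 : Wsub Q v v₁) := by
    rw [← sum_eigenProj (isOp_rop (ρ := ρ) P) y]
    refine Submodule.sum_mem _ fun χ _ => ?_
    obtain ⟨φ, rfl⟩ := (wch_bijective hN hψ P).2 χ
    rcases eq_or_ne φ 0 with rfl | hφ
    · exact eigenProj_apply_mem (isOp_rop P) _ _
    · rw [hproj φ hφ]; exact Submodule.zero_mem _
  exact hy0 (hfix y (fixed_of_radicals hN P (fun x hx => mem_wsp_zero.1 hy' ⟨x, hx⟩) hy))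

end Cfsg.Agent.MinDegree.Orth
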