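import Cfsg.Agent.Lib.MinDegree.SLBasic

/-!
Irreducible representations of `SL_n(q)` or `GL_n(q)` and the points of projective space: the sum of all
transvections is a scalar, bounds from vectors fixed up to scalars by a point stabiliser, and their uniqueness.
-/

set_option autoImplicit false
set_option linter.unusedSectionVars false

open Matrix Module
open scoped MatrixGroups LinearAlgebra.Projectivization

namespace Cfsg.Agent.MinDegree

open Cfsg.Agent.MinDeg

variable {G : Type*} [Group G] {W : Type*} [AddCommGroup W] [Module ℂ W]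

/-- No invariant subspaces. -/
def Irred (ρ : Representation ℂ G W) : Prop :=
  ∀ U : Submodule ℂ W, (∀ g, ∀ y ∈ U, ρ g y ∈ U) → U = ⊥ ∨ U = ⊤

theorem irred_of_isIrreducible {ρ : Representation ℂ G W} (h : ρ.IsIrreducible) : Irred ρ := by
  intro U hU
  have := h
  rcases IsSimpleOrder.eq_bot_or_eq_top (⟨U, fun g _ hy => hU g _ hy⟩ : Subrepresentation ρ) with e | e
  · exact Or.inl (congrArg Subrepresentation.toSubmodule e)
  · exact Or.inr (congrArg Subrepresentation.toSubmodule e)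

theorem exists_scalar_of_commute [FiniteDimensional ℂ W] [Nontrivial W] {ρ : Representation ℂ G W}
    (h : Irred ρ) {A : W →ₗ[ℂ] W} (hA : ∀ g y, A (ρ g y) = ρ g (A y)) : ∃ c : ℂ, ∀ y, A y = c • y := by
  obtain ⟨c, hc⟩ := Module.End.exists_eigenvalue A
  refine ⟨c, fun y => ?_⟩
  have hinv : ∀ g, ∀ y ∈ Module.End.eigenspace A c, ρ g y ∈ Module.End.eigenspace A c := fun g y hy => by
    rw [Module.End.mem_eigenspace_iff] at hy ⊢
    rw [hA, hy, map_smul]
  rcases h _ hinv with e | e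
  · exact absurd e (Module.End.hasEigenvalue_iff.1 hc)
  · exact Module.End.mem_eigenspace_iff.1 (by rw [e]; exact Submodule.mem_top)

theorem span_orbit {ρ : Representation ℂ G W} (h : Irred ρ) {z : W} (hz : z ≠ 0) :
    Submodule.span ℂ (Set.range fun g => ρ g z) = ⊤ := by
  refine (h _ fun g y hy => ?_).resolve_left fun e => hz ?_
  · refine Submodule.span_induction (fun _ hw => ?_) (by simp) (fun a b _ _ ha hb => ?_)
      (fun a b _ hb => ?_) hy
    · obtain ⟨g', rfl⟩ := hw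
      exact Submodule.subset_span ⟨g * g', by simp⟩
    · rw [map_add]; exact Submodule.add_mem _ ha hb
    · rw [map_smul]; exact Submodule.smul_mem _ _ hb
  · have : z ∈ Submodule.span ℂ (Set.range fun g => ρ g z) := Submodule.subset_span ⟨1, by simp⟩
    rwa [e, Submodule.mem_bot] at this

variable {F : Type*} [Field F] {m : ℕ}

/-- The first basis vector. -/
def e₀ : Fin (m + 1) → F := Fin.cons 1 0

theorem e₀_ne_zero : (e₀ : Fin (m + 1) → F) ≠ 0 := fun e => one_ne_zero (congrFun e 0)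

theorem dot_e₀ (φ : Fin (m + 1) → F) : φ ⬝ᵥ e₀ = φ 0 := by
  simp [e₀, dotProduct, Fin.sum_univ_succ]

/-- `G` acts on the vectors through `π` and contains `SL` through `s`. -/
structure Emb (π : G →* GL (Fin (m + 1)) F) (s : SL(m + 1, F) →* G) : Prop where
  inj : Function.Injective π
  compat : ∀ t, π (s t) = SpecialLinearGroup.toGL t

namespace Emb

variable {π : G →* GL (Fin (m + 1)) F} {s : SL(m + 1, F) →* G}

theorem conj_tv (hE : Emb π s) (g : G) {c φ : Fin (m + 1) → F} (h : φ ⬝ᵥ c = 0) :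
    g * s (tv c φ) = s (tv ((π g).1 *ᵥ c) (φ ᵥ* (π g⁻¹).1)) * g := by
  have h' : (φ ᵥ* (π g⁻¹).1) ⬝ᵥ ((π g).1 *ᵥ c) = 0 := by
    rw [← dotProduct_mulVec, Matrix.mulVec_mulVec, ← Units.val_mul, ← map_mul, inv_mul_cancel, map_one,
      Units.val_one, one_mulVec, h]
  apply hE.inj
  rw [map_mul, map_mul, hE.compat, hE.compat]
  refine Units.ext ?_
  rw [Units.val_mul, Units.val_mul, coe_toGL, coe_toGL, tv_coe h, tv_coe h', mul_add, mul_one, add_mul, one_mul,
    mul_vecMulVec, vecMulVec_mul, vecMul_vecMul, ← Units.val_mul, ← map_mul, inv_mul_cancel, map_one,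
    Units.val_one, vecMul_one]

end Emb

variable [Fintype F]

open Classical in
/-- The sum of the transvections. -/
noncomputable def tsum (ρ : Representation ℂ SL(m + 1, F) W) : W →ₗ[ℂ] W :=
  ∑ c : Fin (m + 1) → F, ∑ φ : Fin (m + 1) → F,
    if c ≠ 0 ∧ φ ⬝ᵥ c = 0 then ρ (tv c φ) else 0

open Classical in
theorem tsum_apply (ρ : Representation ℂ SL(m + 1, F) W) (y : W) :
    tsum ρ y = ∑ c : Fin (m + 1) → F, ∑ φ : Fin (m + 1) → F,
      if c ≠ 0 ∧ φ ⬝ᵥ c = 0 then ρ (tv c φ) y else 0 := by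
  simp only [tsum, LinearMap.sum_apply]
  refine Finset.sum_congr rfl fun c _ => Finset.sum_congr rfl fun φ _ => ?_
  split_ifs <;> rfl

variable {π : G →* GL (Fin (m + 1)) F} {s : SL(m + 1, F) →* G} {ρ : Representation ℂ G W}

theorem tsum_comm (hE : Emb π s) (g : G) (y : W) :
    tsum (ρ.comp s) (ρ g y) = ρ g (tsum (ρ.comp s) y) := by
  classical
  rw [tsum_apply, tsum_apply, map_sum]
  simp only [map_sum]
  symm
  have hi : ∀ a : G, (π a⁻¹).1 * (π a).1 = 1 := fun a => by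
    rw [← Units.val_mul, ← map_mul, inv_mul_cancel, map_one, Units.val_one]
  have hi' : ∀ a : G, (π a).1 * (π a⁻¹).1 = 1 := fun a => by simp [← Units.val_mul]
  let ec : (Fin (m + 1) → F) ≃ (Fin (m + 1) → F) :=
    ⟨fun x => (π g).1 *ᵥ x, fun x => (π g⁻¹).1 *ᵥ x,
      fun x => by simp [Matrix.mulVec_mulVec], fun x => by simp [Matrix.mulVec_mulVec]⟩
  let ef : (Fin (m + 1) → F) ≃ (Fin (m + 1) → F) :=
    ⟨fun x => x ᵥ* (π g⁻¹).1, fun x => x ᵥ* (π g).1,
      fun x => by simp [Matrix.vecMul_vecMul], fun x => by simp [Matrix.vecMul_vecMul]⟩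
  refine Fintype.sum_equiv ec _ _ fun c => Fintype.sum_equiv ef _ _ fun φ => ?_
  have hd : ef φ ⬝ᵥ ec c = φ ⬝ᵥ c := by
    show (φ ᵥ* (π g⁻¹).1) ⬝ᵥ ((π g).1 *ᵥ c) = _
    rw [← dotProduct_mulVec, Matrix.mulVec_mulVec, hi, one_mulVec]
  have hc : ec c ≠ 0 ↔ c ≠ 0 := by
    rw [not_iff_not, ← ec.apply_eq_iff_eq (x := c) (y := 0)]
    simp [ec]
  simp only [hd, hc]
  split_ifs with h
  · show ρ g (ρ (s (tv c φ)) y) = ρ (s (tv (ec c) (ef φ))) (ρ g y)
    rw [← Module.End.mul_apply, ← map_mul, hE.conj_tv g h.2, map_mul]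
    rfl
  · rw [map_zero]

/-- The sum over the radical, as a multiple of a projection. -/
theorem sum_uSL_eq (ρ : Representation ℂ SL(m + 1, F) W) :
    ∑ f : Fin m → F, ρ (uSL f) = proj (op ρ) 1 := by
  refine LinearMap.ext fun x => ?_
  simp [proj_apply, op, LinearMap.sum_apply]

theorem trace_radical [FiniteDimensional ℂ W] (ρ : Representation ℂ SL(m + 1, F) W) :
    LinearMap.trace ℂ W (∑ f : Fin m → F, ρ (uSL f)) =
      (Fintype.card F : ℂ) ^ m * finrank ℂ (eigen (op ρ) 1) := by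
  have h := trace_of_scalar (isOp ρ) LinearMap.id (1 : AddChar (Fin m → F) ℂ) 1
    fun x _ => (one_smul ℂ x).symm
  rw [LinearMap.id_comp, eigenProj, map_smul, smul_eq_mul, one_mul,
    inv_mul_eq_iff_eq_mul₀ (Nat.cast_ne_zero.2 Fintype.card_ne_zero)] at h
  rw [sum_uSL_eq, h, Fintype.card_fun, Fintype.card_fin]
  push_cast
  rfl

open Classical in
/-- For a fixed centre the sum of the transvections is a conjugate of the sum over the radical. -/
theorem sum_centre (ρ : Representation ℂ SL(m + 1, F) W) {c : Fin (m + 1) → F} {g : SL(m + 1, F)}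
    (hg : g.1 *ᵥ e₀ = c) :
    ∑ φ : Fin (m + 1) → F, (if φ ⬝ᵥ c = 0 then ρ (tv c φ) else 0) =
      ρ g * (∑ f : Fin m → F, ρ (uSL f)) * ρ g⁻¹ := by
  rw [← Finset.sum_filter, Finset.mul_sum, Finset.sum_mul]
  symm
  refine Finset.sum_bij' (fun f _ => (Fin.cons 0 f : Fin (m + 1) → F) ᵥ* (g⁻¹).1)
    (fun φ _ => fun i => (φ ᵥ* g.1) i.succ) (fun f _ => Finset.mem_filter.2 ⟨Finset.mem_univ _, ?_⟩)
    (fun _ _ => Finset.mem_univ _) (fun f _ => ?_) (fun φ hφ => ?_) fun f _ => ?_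
  · rw [← hg, dot_conj]
    exact (dot_e₀ _).trans rfl
  · funext i
    rw [Matrix.vecMul_vecMul, ← coe_SL_mul, inv_mul_cancel]
    simp
  · have h0 : (φ ᵥ* g.1) 0 = 0 := by
      rw [← dot_e₀ (φ ᵥ* g.1), ← dotProduct_mulVec, hg, (Finset.mem_filter.1 hφ).2]
    show Fin.cons 0 (Fin.tail (φ ᵥ* g.1)) ᵥ* (g⁻¹).1 = φ
    rw [← h0, Fin.cons_self_tail, Matrix.vecMul_vecMul, ← coe_SL_mul, mul_inv_cancel]
    simp
  · rw [← map_mul, ← map_mul, uSL_eq_tv, tv_conj, ← hg]
    rfl

open Classical in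
theorem trace_tsum [FiniteDimensional ℂ W] (ρ : Representation ℂ SL(m + 1, F) W) (hm : 1 ≤ m) :
    LinearMap.trace ℂ W (tsum ρ) =
      (((Fintype.card F ^ (m + 1) - 1) * Fintype.card F ^ m : ℕ) : ℂ) * finrank ℂ (eigen (op ρ) 1) := by
  rw [tsum, map_sum, ← Finset.add_sum_erase _ _ (Finset.mem_univ (0 : Fin (m + 1) → F))]
  simp only [ne_eq, not_true_eq_false, false_and, if_false, Finset.sum_const_zero, map_zero, zero_add]
  rw [Finset.sum_congr rfl fun c hc => show LinearMap.trace ℂ W (∑ φ : Fin (m + 1) → F,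
      if ¬ c = 0 ∧ φ ⬝ᵥ c = 0 then ρ (tv c φ) else 0) =
      (Fintype.card F : ℂ) ^ m * finrank ℂ (eigen (op ρ) 1) by
    have hc0 : c ≠ 0 := by simpa using hc
    obtain ⟨g, hg⟩ := GL.exists_SL_mulVec_eq (by simp; omega) (e₀_ne_zero (F := F) (m := m)) hc0
    simp only [hc0, not_false_eq_true, true_and]
    rw [sum_centre ρ hg, LinearMap.trace_mul_comm, ← mul_assoc, ← map_mul, inv_mul_cancel, map_one,
      one_mul, trace_radical]]
  rw [Finset.sum_const, Finset.card_erase_of_mem (Finset.mem_univ _),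
    Finset.card_univ, Fintype.card_fun, Fintype.card_fin, nsmul_eq_mul]
  push_cast
  ring

/-- The sum of the transvections in an irreducible representation. -/
theorem tsum_coeff [FiniteDimensional ℂ W] [Nontrivial W] (hE : Emb π s) (hρ : Irred ρ) (hm : 1 ≤ m)
    (v : W) (μ : W →ₗ[ℂ] ℂ) :
    μ (tsum (ρ.comp s) v) * finrank ℂ W =
      (((Fintype.card F ^ (m + 1) - 1) * Fintype.card F ^ m : ℕ) : ℂ) *
        finrank ℂ (eigen (op (ρ.comp s)) 1) * μ v := by
  obtain ⟨ω, hω⟩ := exists_scalar_of_commute hρ (A := tsum (ρ.comp s)) fun g y => tsum_comm hE g y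
  have h := trace_tsum (ρ.comp s) hm
  rw [show tsum (ρ.comp s) = ω • (LinearMap.id : W →ₗ[ℂ] W) from LinearMap.ext hω, map_smul,
    LinearMap.trace_id, smul_eq_mul] at h
  rw [hω, map_smul, smul_eq_mul, ← h]
  ring

/-- A vector spanning an invariant line of a point stabiliser bounds the degree by the number of points. -/
theorem degree_le_points [FiniteDimensional ℂ W] (hE : Emb π s) (hρ : Irred ρ) (hm : 1 ≤ m) {z : W}
    (hz : z ≠ 0)
    (hstab : ∀ g, (∃ a : F, (π g).1 *ᵥ e₀ = a • e₀) → ρ g z ∈ Submodule.span ℂ {z}) :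
    (Fintype.card F - 1) * finrank ℂ W ≤ Fintype.card F ^ (m + 1) - 1 := by
  classical
  have hP : Fintype (ℙ F (Fin (m + 1) → F)) := Fintype.ofFinite _
  choose h hh using fun p : ℙ F (Fin (m + 1) → F) =>
    GL.exists_SL_mulVec_eq (F := F) (ι := Fin (m + 1)) (by simp; omega) e₀_ne_zero p.rep_nonzero
  have hspan : Submodule.span ℂ (Set.range fun p => ρ (s (h p)) z) = ⊤ := by
    rw [eq_top_iff, ← span_orbit hρ hz, Submodule.span_le]
    rintro _ ⟨g, rfl⟩
    have hne : (π g).1 *ᵥ e₀ ≠ 0 := fun e => e₀_ne_zero (F := F) (m := m) (by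
      have := congrArg (fun x => (π g⁻¹).1 *ᵥ x) e
      simpa [Matrix.mulVec_mulVec, ← Units.val_mul, ← map_mul] using this)
    obtain ⟨a, ha⟩ := (Projectivization.mk_eq_mk_iff' F _ _ hne
      (Projectivization.mk F _ hne).rep_nonzero).1 (Projectivization.mk_rep _).symm
    set p := Projectivization.mk F _ hne
    have hmem : ρ ((s (h p))⁻¹ * g) z ∈ Submodule.span ℂ {z} := hstab _ ⟨a, by
      rw [map_mul, Units.val_mul, ← Matrix.mulVec_mulVec, ← ha, ← hh p, map_inv, hE.compat,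
        Matrix.mulVec_smul, Matrix.mulVec_mulVec, ← coe_toGL (h p), ← Units.val_mul, inv_mul_cancel,
        Units.val_one, one_mulVec]⟩
    obtain ⟨b, hb⟩ := Submodule.mem_span_singleton.1 hmem
    show ρ g z ∈ _
    rw [show ρ g z = ρ (s (h p)) (ρ ((s (h p))⁻¹ * g) z) by
      rw [← Module.End.mul_apply, ← map_mul, mul_inv_cancel_left], ← hb, map_smul]
    exact Submodule.smul_mem _ _ (Submodule.subset_span ⟨p, rfl⟩)
  have h1 : finrank ℂ W ≤ Fintype.card (ℙ F (Fin (m + 1) → F)) := by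
    rw [← finrank_top ℂ W, ← hspan]
    exact finrank_range_le_card _
  refine (Nat.mul_le_mul_left _ h1).trans (le_of_eq ?_)
  rw [← Nat.card_eq_fintype_card (α := ℙ F (Fin (m + 1) → F)), GL.card_projectiveSpace, Fintype.card_fin,
    Nat.mul_div_cancel' (Nat.sub_dvd_pow_sub_pow _ 1 (m + 1) |>.trans (by rw [one_pow]))]

open Classical in
/-- A functional which is constant on the transvections moving the point and kills the vector kills everything. -/
theorem eq_zero_of_const [FiniteDimensional ℂ W] [Nontrivial W] (hE : Emb π s) (hρ : Irred ρ) (hm : 1 ≤ m)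
    {z : W} (hz : z ≠ 0) {μ : W →ₗ[ℂ] ℂ} (hμ : μ z = 0)
    (hstab : ∀ g, (∃ a : F, (π g).1 *ᵥ e₀ = a • e₀) → ρ g z ∈ Submodule.span ℂ {z}) (K : ℂ)
    (hK : ∀ c φ : Fin (m + 1) → F, c ≠ 0 → φ ⬝ᵥ c = 0 → φ 0 ≠ 0 → μ (ρ (s (tv c φ)) z) = K) :
    μ = 0 := by
  have hfix : ∀ g, (∃ a : F, (π g).1 *ᵥ e₀ = a • e₀) → μ (ρ g z) = 0 := fun g hg => by
    obtain ⟨b, hb⟩ := Submodule.mem_span_singleton.1 (hstab g hg)
    rw [← hb, map_smul, hμ, smul_zero]
  have hK0 : K = 0 := by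
    have h := tsum_coeff hE hρ hm z μ
    rw [hμ, mul_zero, mul_eq_zero, tsum_apply, map_sum] at h
    replace h := h.resolve_right (Nat.cast_ne_zero.2 (Module.finrank_pos).ne')
    simp only [map_sum, apply_ite μ, map_zero, MonoidHom.comp_apply] at h
    rw [Finset.sum_congr rfl fun c _ => Finset.sum_congr rfl fun φ _ =>
      show (if c ≠ 0 ∧ φ ⬝ᵥ c = 0 then μ (ρ (s (tv c φ)) z) else 0) =
        (if (c ≠ 0 ∧ φ ⬝ᵥ c = 0) ∧ φ 0 ≠ 0 then K else 0) by
        by_cases h1 : c ≠ 0 ∧ φ ⬝ᵥ c = 0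
        · by_cases h2 : φ 0 = 0
          · rw [if_pos h1, if_neg (fun e => e.2 h2)]
            refine hfix _ ⟨1, ?_⟩
            rw [hE.compat, coe_toGL, tv_mulVec h1.2, dot_e₀, h2, zero_smul, add_zero, one_smul]
          · rw [if_pos h1, if_pos ⟨h1, h2⟩]
            exact hK c φ h1.1 h1.2 h2
        · rw [if_neg h1, if_neg (fun e => h1 e.1)], ← Fintype.sum_prod_type', ← Finset.sum_filter,
      Finset.sum_const, smul_eq_zero] at h
    refine h.resolve_left fun e => ?_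
    have hmem : ((Fin.cons 0 (Pi.single ⟨0, hm⟩ 1), e₀) : (Fin (m + 1) → F) × (Fin (m + 1) → F)) ∈
        (Finset.univ.filter fun x : (Fin (m + 1) → F) × (Fin (m + 1) → F) =>
          (x.1 ≠ 0 ∧ x.2 ⬝ᵥ x.1 = 0) ∧ x.2 0 ≠ 0) := by
      refine Finset.mem_filter.2 ⟨Finset.mem_univ _, ⟨fun h0 => ?_, ?_⟩, ?_⟩
      · have h1 := congrFun h0 (Fin.succ ⟨0, hm⟩)
        simp only [Fin.cons_succ, Pi.single_eq_same, Pi.zero_apply] at h1
        exact one_ne_zero h1
      · rw [dotProduct_comm, dot_e₀]; rfl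
      · simp [e₀]
    rw [Finset.card_eq_zero] at e
    simp [e] at hmem
  refine LinearMap.ext fun y => ?_
  have hy : y ∈ Submodule.span ℂ (Set.range fun g => ρ g z) := by rw [span_orbit hρ hz]; trivial
  refine Submodule.span_induction (fun _ hw => ?_) (by simp) (fun a b _ _ ha hb => by simp [ha, hb])
    (fun a b _ hb => by simp [hb]) hy
  obtain ⟨g, rfl⟩ := hw
  show μ (ρ g z) = 0
  by_cases hg : ∃ a : F, (π g).1 *ᵥ e₀ = a • e₀
  · exact hfix g hg
  push Not at hg
  set y := (π g).1 *ᵥ e₀ with hy0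
  obtain ⟨j, hj⟩ : ∃ j : Fin m, y j.succ ≠ 0 := by
    by_contra hc
    push Not at hc
    refine hg (y 0) (funext fun i => ?_)
    induction i using Fin.cases <;> simp [e₀, hc]
  let φ : Fin (m + 1) → F := Fin.cons 1 (Pi.single j ((1 - y 0) / y j.succ))
  have hφy : φ ⬝ᵥ y = 1 := by
    rw [← Fin.cons_self_tail y, dot_cons, single_dotProduct]
    simp only [Fin.tail, one_mul]
    field_simp
    ring
  have hφc : φ ⬝ᵥ (y - e₀) = 0 := by rw [dotProduct_sub, hφy, dot_e₀]; simp [φ]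
  have hu : (π (s (tv (y - e₀) φ))).1 *ᵥ e₀ = y := by
    rw [hE.compat, coe_toGL, tv_mulVec hφc, dot_e₀]; simp [φ]
  have hu' : (π (s (tv (y - e₀) φ))⁻¹).1 *ᵥ y = e₀ := by
    have h1 := congrArg (fun x => (π (s (tv (y - e₀) φ))⁻¹).1 *ᵥ x) hu
    simp only [Matrix.mulVec_mulVec, ← Units.val_mul, ← map_mul, inv_mul_cancel, map_one, Units.val_one,
      one_mulVec] at h1
    exact h1.symm
  obtain ⟨b, hb⟩ := Submodule.mem_span_singleton.1 (hstab ((s (tv (y - e₀) φ))⁻¹ * g) ⟨1, by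
    rw [map_mul, Units.val_mul, ← Matrix.mulVec_mulVec, ← hy0, one_smul, hu']⟩)
  rw [show ρ g z = ρ (s (tv (y - e₀) φ)) (ρ ((s (tv (y - e₀) φ))⁻¹ * g) z) by
    rw [← Module.End.mul_apply, ← map_mul, mul_inv_cancel_left], ← hb, map_smul, map_smul,
    hK _ _ (sub_ne_zero.2 fun e => hg 1 (by rw [one_smul]; exact e)) hφc (by simp [φ]), hK0, smul_zero]

end Cfsg.Agent.MinDegree
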