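import Cfsg.Agent.Lib.MinDegree.OrthLevel
import Cfsg.Agent.Lib.CharInt.Central
import Cfsg.Agent.Lib.MinDegree.SLPoint

/-!
The Levi factor acting on the vectors fixed by the radical, and the irreducible constituent carrying a non-trivial
element.
-/

set_option autoImplicit false
set_option linter.unusedSectionVars false

open Module
open scoped commutatorElement

namespace Cfsg.Agent.MinDegree.Orth

open Cfsg.Agent.ClassicalSimple
open Cfsg.Agent.MinDeg.Orth

variable {F V : Type*} [Field F] [AddCommGroup V] [Module F V] [Finite V] {Q : QuadraticForm F V}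

/-- The element fixing a pair with given action on the complement. -/
noncomputable def liftHom {v v₁ : V} (P : HP Q v v₁) : siegelGroup (QW Q v v₁) →* siegelGroup Q where
  toFun g := (HP.exists_lift g.2).choose
  map_one' := by
    obtain ⟨h1, h2, h3⟩ := (HP.exists_lift (Q := Q) (v := v) (v₁ := v₁) (1 : siegelGroup (QW Q v v₁)).2).choose_spec
    exact ext_of P (by rw [h1, one_smul]) (by rw [h2, one_smul]) fun w => by rw [h3, one_smul]; simp
  map_mul' g h := by
    obtain ⟨a1, a2, a3⟩ := (HP.exists_lift (Q := Q) (v := v) (v₁ := v₁) g.2).choose_spec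
    obtain ⟨b1, b2, b3⟩ := (HP.exists_lift (Q := Q) (v := v) (v₁ := v₁) h.2).choose_spec
    obtain ⟨c1, c2, c3⟩ := (HP.exists_lift (Q := Q) (v := v) (v₁ := v₁) (g * h).2).choose_spec
    exact ext_of P (by rw [c1, mul_smul, b1, a1]) (by rw [c2, mul_smul, b2, a2]) fun w => by
      rw [c3, mul_smul, b3, a3, Subgroup.coe_mul, mul_smul]
where
  ext_of {v v₁ : V} (P : HP Q v v₁) {G H : siegelGroup Q} (e : G • v = H • v) (e₁ : G • v₁ = H • v₁)
      (e' : ∀ w : Wsub Q v v₁, G • (w : V) = H • (w : V)) : G = H := by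
    refine ext_act fun x => ?_
    obtain ⟨p, rfl⟩ := P.splitEquiv.surjective x
    show G • (p.1.1 • v + p.1.2 • v₁ + (p.2 : V)) = H • (p.1.1 • v + p.1.2 • v₁ + (p.2 : V))
    simp only [smul_add, smul_comm G, smul_comm H, e, e₁, e']

variable {v v₁ : V} (P : HP Q v v₁)

theorem liftHom_fix (g : siegelGroup (QW Q v v₁)) :
    liftHom P g • v = v ∧ liftHom P g • v₁ = v₁ ∧
      ∀ w : Wsub Q v v₁, liftHom P g • (w : V) = ((g : OQ (QW Q v v₁)) • w : Wsub Q v v₁) :=
  (HP.exists_lift g.2).choose_spec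

theorem liftHom_sg {a b : Wsub Q v v₁} (ha : Q (a : V) = 0) (hab : bil Q (a : V) (b : V) = 0) :
    liftHom P (sg (QW Q v v₁) a b) = sg Q (a : V) (b : V) := by
  obtain ⟨a1, a2⟩ := mem_Wsub.1 a.2
  obtain ⟨b1, b2⟩ := mem_Wsub.1 b.2
  obtain ⟨h1, h2, h3⟩ := liftHom_fix P (sg (QW Q v v₁) a b)
  refine liftHom.ext_of P (by rw [h1, sg_fix ha hab a1 b1]) (by rw [h2, sg_fix ha hab a2 b2]) fun w => ?_
  have ha' : QW Q v v₁ a = 0 := ha
  have hab' : bil (QW Q v v₁) a b = 0 := hab
  rw [h3, sg_coe ha' hab', siegel_smul, sg_act ha hab]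
  rfl

variable {X : Type*} [AddCommGroup X] [Module ℂ X] (ρ : Representation ℂ (siegelGroup Q) X) (ψ : AddChar F ℂ)

theorem lift_mem_wsp_zero (g : siegelGroup (QW Q v v₁)) {y : X} (hy : y ∈ wsp ρ ψ (0 : Wsub Q v v₁)) :
    ρ (liftHom P g) y ∈ wsp ρ ψ (0 : Wsub Q v v₁) := by
  obtain ⟨h1, h2, -⟩ := liftHom_fix P g
  exact map_mem_wsp P (g := liftHom P g) (c := 1) one_ne_zero (by rw [one_smul, h1])
    (by rw [inv_one, one_smul, h2]) (by simp) hy

/-- The Levi factor on the vectors fixed by the radical. -/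
noncomputable def fixW : Representation ℂ (siegelGroup (QW Q v v₁)) (wsp ρ ψ (0 : Wsub Q v v₁)) :=
  subRep (ρ.comp (liftHom P)) (wsp ρ ψ (0 : Wsub Q v v₁)) fun g _ hy => lift_mem_wsp_zero P ρ ψ g hy

theorem fixW_coe (g : siegelGroup (QW Q v v₁)) (y : wsp ρ ψ (0 : Wsub Q v v₁)) :
    (fixW P ρ ψ g y : X) = ρ (liftHom P g) y := rfl

theorem trace_fixW_sg {a b : Wsub Q v v₁} (ha : Q (a : V) = 0) (hab : bil Q (a : V) (b : V) = 0)
    (hmap : ∀ y ∈ wsp ρ ψ (0 : Wsub Q v v₁), ρ (sg Q (a : V) (b : V)) y ∈ wsp ρ ψ (0 : Wsub Q v v₁)) :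
    LinearMap.trace ℂ _ (fixW P ρ ψ (sg (QW Q v v₁) a b)) =
      LinearMap.trace ℂ _ ((ρ (sg Q (a : V) (b : V))).restrict hmap) := by
  refine congrArg _ (LinearMap.ext fun y => Subtype.ext ?_)
  rw [fixW_coe, liftHom_sg P ha hab]
  rfl

omit [Finite V] in
theorem isIrreducible_of_Irred {G : Type*} [Group G] {X : Type*} [AddCommGroup X] [Module ℂ X] [Nontrivial X]
    {σ : Representation ℂ G X} (h : Irred σ) : σ.IsIrreducible := by
  have : Nontrivial (Subrepresentation σ) := by
    refine ⟨⊥, ⊤, fun e => ?_⟩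
    have h' : (⊥ : Submodule ℂ X) = ⊤ := congrArg Subrepresentation.toSubmodule e
    exact bot_ne_top h'
  refine ⟨fun σ' => ?_⟩
  rcases h σ'.toSubmodule fun g y hy => σ'.apply_mem_toSubmodule g hy with h | h
  · exact Or.inl (Subrepresentation.toSubmodule_injective h)
  · exact Or.inr (Subrepresentation.toSubmodule_injective h)

omit [Finite V] in
/-- A perfect group acting non-trivially has an irreducible constituent of degree at least two. -/
theorem exists_constituent {G : Type*} [Group G] [Finite G] (hG : commutator G = ⊤) {X : Type*}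
    [AddCommGroup X] [Module ℂ X] [FiniteDimensional ℂ X] (σ : Representation ℂ G X) {g : G} (hg : σ g ≠ 1) :
    ∃ (U : Submodule ℂ X) (hU : ∀ g, ∀ y ∈ U, σ g y ∈ U),
      (subRep σ U hU).IsIrreducible ∧ 2 ≤ finrank ℂ U := by
  classical
  let _ : Fintype G := Fintype.ofFinite G
  -- the kernel of the sum of the operators
  set K := LinearMap.ker (∑ h, σ h : X →ₗ[ℂ] X) with hK
  have hsum : ∀ h y, (∑ k, σ k : X →ₗ[ℂ] X) (σ h y) = (∑ k, σ k : X →ₗ[ℂ] X) y := fun h y => by
    simp only [LinearMap.sum_apply]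
    exact Fintype.sum_equiv (Equiv.mulRight h) _ _ fun k => by simp [map_mul]
  have hKinv : ∀ h, ∀ y ∈ K, σ h y ∈ K := fun h y hy => by
    rw [hK, LinearMap.mem_ker] at hy ⊢
    rw [hsum, hy]
  have hfix : ∀ h y, y ∈ K → (∀ k, σ k y = y) → σ h y = y ∧ y = 0 := fun h y hy hk => by
    refine ⟨hk h, ?_⟩
    rw [hK, LinearMap.mem_ker, LinearMap.sum_apply, Finset.sum_congr rfl fun k _ => hk k, Finset.sum_const,
      ← Nat.cast_smul_eq_nsmul ℂ] at hy
    exact (smul_eq_zero.1 hy).resolve_left (Nat.cast_ne_zero.2 Fintype.card_ne_zero)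
  have hKne : K ≠ ⊥ := fun e => hg (LinearMap.ext fun y => by
    have h1 : σ g y - y ∈ K := by rw [hK, LinearMap.mem_ker, map_sub, hsum, sub_self]
    rw [e, Submodule.mem_bot, sub_eq_zero] at h1
    exact h1)
  -- a minimal invariant subspace
  have hex : ∃ d, ∃ U : Submodule ℂ X, U ≤ K ∧ U ≠ ⊥ ∧ (∀ h, ∀ y ∈ U, σ h y ∈ U) ∧ finrank ℂ U = d :=
    ⟨_, K, le_rfl, hKne, hKinv, rfl⟩
  obtain ⟨U, hUK, hU0, hU, hd⟩ := Nat.find_spec hex
  have : Nontrivial U := Submodule.nontrivial_iff_ne_bot.2 hU0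
  refine ⟨U, hU, isIrreducible_of_Irred fun U' hU' => ?_, ?_⟩
  · by_contra hc
    push Not at hc
    have hmap : U'.map U.subtype ≠ ⊥ := fun e => hc.1 ((Submodule.eq_bot_iff _).2 fun x hx => Subtype.ext
      ((Submodule.eq_bot_iff _).1 e _ (Submodule.mem_map.2 ⟨x, hx, rfl⟩)))
    have hlt : finrank ℂ (U'.map U.subtype) < Nat.find hex := by
      rw [← hd, Submodule.finrank_map_subtype_eq]
      exact Submodule.finrank_lt hc.2
    refine Nat.find_min hex hlt ⟨U'.map U.subtype, (Submodule.map_subtype_le U U').trans hUK, hmap,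
      fun h y hy => ?_, rfl⟩
    obtain ⟨z, hz, rfl⟩ := Submodule.mem_map.1 hy
    exact Submodule.mem_map.2 ⟨_, hU' h z hz, rfl⟩
  · by_contra hlt
    push Not at hlt
    have h1 : finrank ℂ U = 1 := by
      have := Module.finrank_pos (R := ℂ) (M := U)
      omega
    obtain ⟨y, hy⟩ := exists_ne (0 : U)
    have hscalar : ∀ h, ∃ c : ℂ, σ h y.1 = c • y.1 := fun h => by
      obtain ⟨c, hc⟩ := exists_smul_eq_of_finrank_eq_one h1 hy ⟨_, hU h _ y.2⟩
      exact ⟨c, (congrArg Subtype.val hc).symm⟩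
    let H : Subgroup G :=
      { carrier := {h | σ h y.1 = y.1}
        one_mem' := show σ 1 y.1 = y.1 by simp
        mul_mem' := fun {a b} ha hb => by
          show σ (a * b) y.1 = y.1
          rw [map_mul, Module.End.mul_apply, (hb : σ b y.1 = y.1), (ha : σ a y.1 = y.1)]
        inv_mem' := fun {a} ha => by
          have h := congrArg (σ a⁻¹) (ha : σ a y.1 = y.1)
          rw [← Module.End.mul_apply, ← map_mul, inv_mul_cancel, map_one] at h
          exact h.symm }
    have htop : H = ⊤ := by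
      rw [eq_top_iff, ← hG, commutator_def, Subgroup.commutator_le]
      intro a _ b _
      obtain ⟨ca, hca⟩ := hscalar a
      obtain ⟨cb, hcb⟩ := hscalar b
      have e : σ (a * b) y.1 = σ (b * a) y.1 := by
        rw [map_mul, map_mul, Module.End.mul_apply, Module.End.mul_apply, hcb, hca, map_smul, map_smul,
          hca, hcb, smul_comm]
      have h := congrArg (σ (b * a)⁻¹) e
      rw [← Module.End.mul_apply, ← map_mul, ← Module.End.mul_apply, ← map_mul, inv_mul_cancel, map_one] at h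
      show σ ⁅a, b⁆ y.1 = y.1
      obtain ⟨c, hc⟩ := hscalar ⁅a, b⁆
      have e2 : σ (⁅a, b⁆ * (b * a)) y.1 = σ (b * a) y.1 := by
        rw [show ⁅a, b⁆ * (b * a) = a * b by rw [commutatorElement_def]; group, e]
      have hba : σ (b * a) y.1 = (ca * cb) • y.1 := by
        rw [map_mul, Module.End.mul_apply, hca, map_smul, hcb, smul_smul]
      rw [map_mul, Module.End.mul_apply, hba, map_smul] at e2
      have hne : ca * cb ≠ 0 := fun h0 => hy (Subtype.ext (by
        have h' := congrArg (σ (b * a)⁻¹) hba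
        rwa [← Module.End.mul_apply, ← map_mul, inv_mul_cancel, map_one, h0, zero_smul, map_zero] at h'))
      exact smul_right_injective X hne e2
    exact hy (Subtype.ext (hfix 1 y.1 (hUK y.2) fun h => (htop.symm ▸ Subgroup.mem_top h : h ∈ H)).2)

end Cfsg.Agent.MinDegree.Orth
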