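import Cfsg.Agent.Lib.MinDegree.OrthArith
import Cfsg.Agent.Lib.MinDegree.OrthBase
import Cfsg.Agent.Lib.MinDegree.OrthLift
import Mathlib.NumberTheory.LegendreSymbol.Complex

/-!
The minimal degree of a non-trivial irreducible representation of an even-dimensional orthogonal group.
-/

set_option autoImplicit false
set_option linter.unusedSectionVars false

open Module

namespace Cfsg.Agent.MinDegree.Orth

open Cfsg.Agent.ClassicalSimple
open Cfsg.Agent.MinDeg.Orth

universe u w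

variable {F : Type*} [Field F] [Fintype F] {e : ℤ}

/-- The numerator of the bound, `P = q ^ (n - 2)`. -/
def num (q P e : ℤ) : ℤ := q ^ 3 * P ^ 2 + e * (q ^ 3 * P - q * P) - q

theorem exists_bound (q : ℤ) (he : e = 1 ∨ e = -1) : ∀ j : ℕ, ∃ T, (q ^ 2 - 1) * T = num q (q ^ (j + 2)) e
  | 0 => by
    rcases he with rfl | rfl
    · exact ⟨q ^ 5 + 2 * q ^ 3 + q, by rw [num]; ring⟩
    · exact ⟨q ^ 5 + q, by rw [num]; ring⟩
  | j + 1 => by
    obtain ⟨T, hT⟩ := exists_bound q he j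
    refine ⟨T + (q * (q ^ (j + 3)) ^ 2 + e * (q * q ^ (j + 3) - q ^ (j + 3)) - 1) + 1, ?_⟩
    rw [num] at hT ⊢
    rw [show q ^ (j + 1 + 2) = q * q ^ (j + 2) by rw [← pow_succ']]
    linear_combination hT

section

variable {V : Type u} [AddCommGroup V] [Module F V] [Finite V] [FiniteDimensional F V] {Q : QuadraticForm F V}

noncomputable local instance fintypeWm (v v₁ : V) : Fintype (Wsub Q v v₁) := Fintype.ofFinite _

omit [Fintype F] [Finite V] [FiniteDimensional F V] in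
theorem indep_coe {v v₁ : V} {a b : Wsub Q v v₁} (h : LinearIndependent F ![a, b]) :
    LinearIndependent F ![(a : V), (b : V)] := by
  rw [LinearIndependent.pair_iff] at h ⊢
  exact fun s t hst => h s t (Subtype.ext (by simpa using hst))

/-- The counts on the complement of a pair. -/
theorem counts {j : ℕ} (hT : Typ Q (j + 4) e) {v v₁ : V} (P : HP Q v v₁) :
    ((nsing Q : ℤ) = (Fintype.card F : ℤ) ^ 3 * ((Fintype.card F : ℤ) ^ (j + 2)) ^ 2 +
        e * ((Fintype.card F : ℤ) ^ 2 * (Fintype.card F : ℤ) ^ (j + 2) -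
          Fintype.card F * (Fintype.card F : ℤ) ^ (j + 2)) - 1) ∧
    ((nsing (QW Q v v₁) : ℤ) = Fintype.card F * ((Fintype.card F : ℤ) ^ (j + 2)) ^ 2 +
        e * (Fintype.card F * (Fintype.card F : ℤ) ^ (j + 2) - (Fintype.card F : ℤ) ^ (j + 2)) - 1) ∧
    ∀ c : F, c ≠ 0 → (Nat.card {φ : Wsub Q v v₁ // φ ≠ 0 ∧ Q (φ : V) = c} : ℤ) =
      Fintype.card F * ((Fintype.card F : ℤ) ^ (j + 2)) ^ 2 - e * (Fintype.card F : ℤ) ^ (j + 2) := by
  have hq0 : (Fintype.card F : ℤ) ≠ 0 := by exact_mod_cast Fintype.card_ne_zero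
  have hW := Typ.descend (m := j + 3) hT P
  refine ⟨?_, ?_, fun c hc => ?_⟩
  · have h := hT.zeros
    rw [← nsing_add_one] at h
    push_cast at h
    refine mul_left_cancel₀ hq0 ?_
    linear_combination h
  · have h := hW.zeros
    rw [← nsing_add_one] at h
    push_cast at h
    refine mul_left_cancel₀ hq0 ?_
    linear_combination h
  · have h := hW.fibre c hc
    have e1 : Nat.card {φ : Wsub Q v v₁ // φ ≠ 0 ∧ Q (φ : V) = c} = cnt (QW Q v v₁) c :=
      Nat.card_congr (Equiv.subtypeEquivRight fun φ => ⟨fun h => h.2, fun h => ⟨fun h0 => hc (by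
        rw [← h, h0, QuadraticMap.map_zero]), h⟩⟩)
    rw [e1]
    refine mul_left_cancel₀ hq0 ?_
    linear_combination h

set_option maxHeartbeats 1600000 in
/-- The step of the induction. -/
theorem step (he : e = 1 ∨ e = -1) (hqe : e = 1 → 4 ≤ Fintype.card F) {ψ : AddChar F ℂ} (hψ : ψ.IsPrimitive)
    {j : ℕ} (hT : Typ Q (j + 4) e) {X : Type w} [AddCommGroup X] [Module ℂ X] [FiniteDimensional ℂ X]
    (ρ : Representation ℂ (siegelGroup Q) X) [ρ.IsIrreducible] (h2 : 2 ≤ finrank ℂ X)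
    (IH : ∀ i, j = i + 1 → ∀ {v v₁ : V}, HP Q v v₁ → ∀ {U : Type w} [AddCommGroup U] [Module ℂ U]
      [FiniteDimensional ℂ U] (σ : Representation ℂ (siegelGroup (QW Q v v₁)) U) [σ.IsIrreducible],
      2 ≤ finrank ℂ U →
        num (Fintype.card F) ((Fintype.card F : ℤ) ^ (i + 2)) e ≤ ((Fintype.card F : ℤ) ^ 2 - 1) * finrank ℂ U) :
    num (Fintype.card F) ((Fintype.card F : ℤ) ^ (j + 2)) e ≤ ((Fintype.card F : ℤ) ^ 2 - 1) * finrank ℂ X := by
  classical
  have := finite_siegel Q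
  have hN := hT.nondeg
  have h5 : 5 ≤ finrank F V := by rw [hT.dim]; omega
  set q := Fintype.card F with hqdef
  have hq : 2 ≤ q := Fintype.one_lt_card
  have hqz : (2 : ℤ) ≤ q := by exact_mod_cast hq
  obtain ⟨v, hv0, hv⟩ := hT.exists_singular (Or.inr (by omega))
  obtain ⟨v₁, P⟩ := exists_HP hN hv hv0
  have hW := Typ.descend (m := j + 3) hT P
  have hk : finrank F (Wsub Q v v₁) = 2 * j + 6 := by rw [hW.dim]; ring
  have hk5 : 5 ≤ finrank F (Wsub Q v v₁) := by omega
  obtain ⟨u, hu0, hu⟩ := hW.exists_singular (Or.inr (by omega))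
  obtain ⟨u₁, Pu⟩ := exists_HP hW.nondeg hu hu0
  have hconst := mult_eq_of_value (ρ := ρ) (ψ := ψ) hN P hk5
  set mc := mval ρ ψ v v₁ with hmcdef
  have hmc : ∀ φ : Wsub Q v v₁, φ ≠ 0 → mult ρ ψ φ = mc (Q (φ : V)) := fun φ hφ => mult_eq_mval hconst φ hφ
  have hfix : ∀ y : X, (∀ g, ρ g y = y) → y = 0 := by
    intro y hy
    by_contra hy0
    have hirr := irred_of_isIrreducible (ρ := ρ) inferInstance
    rcases hirr (Submodule.span ℂ {y}) (fun g z hz => by
      obtain ⟨c, rfl⟩ := Submodule.mem_span_singleton.1 hz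
      rw [map_smul, hy]; exact hz) with h | h
    · exact hy0 (by simpa using h)
    · have := finrank_span_singleton (K := ℂ) hy0
      rw [h, finrank_top] at this
      omega
  have hdeg := finrank_eq_sum (ρ := ρ) hN hψ P mc hmc
  set N : F → ℕ := fun c => Nat.card {φ : Wsub Q v v₁ // φ ≠ 0 ∧ Q (φ : V) = c}
  obtain ⟨hZ, hS, hNc⟩ := counts hT P
  have hN0 : N 0 = nsing (QW Q v v₁) := rfl
  set R := ((q : ℤ) ^ (j + 2)) with hR
  have hR2 : (q : ℤ) ^ 2 ≤ R := pow_le_pow_right₀ (by linarith) (by omega)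
  have hRq : (q : ℤ) ≤ R := le_trans (by nlinarith) hR2
  have hq21 : (0 : ℤ) ≤ (q : ℤ) ^ 2 - 1 := by nlinarith
  -- no weights
  rcases Nat.lt_trichotomy (∑ c, mc c) 1 with hM | hM | hM
  · exfalso
    have hm0 : ∀ φ : Wsub Q v v₁, φ ≠ 0 → mult ρ ψ φ = 0 := fun φ hφ => by
      rw [hmc φ hφ]
      exact (Finset.sum_eq_zero_iff.1 (by omega : ∑ c, mc c = 0)) _ (Finset.mem_univ _)
    have htriv := trivial_of_mult_zero hN h5 hψ P hm0
    have : Nontrivial X := Module.nontrivial_of_finrank_pos (R := ℂ) (by omega)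
    obtain ⟨y, hy⟩ := exists_ne (0 : X)
    exact hy (hfix y fun g => htriv g y)
  swap
  · -- two or more
    set L : ℤ := if e = 1 then q * R ^ 2 - R else q * R ^ 2 - q * R + R - 1 with hL
    have hLe : ∀ c, L ≤ (N c : ℤ) := by
      intro c
      rcases eq_or_ne c 0 with rfl | hc
      · rw [hN0, hS, hL]
        rcases he with rfl | rfl
        · rw [if_pos rfl]; nlinarith
        · rw [if_neg (by norm_num)]; linarith
      · show L ≤ (Nat.card _ : ℤ)
        rw [hNc c hc, hL]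
        rcases he with rfl | rfl
        · rw [if_pos rfl]; linarith
        · rw [if_neg (by norm_num)]; nlinarith
    have hL0 : 0 ≤ L := by
      rw [hL]; split_ifs <;> nlinarith
    have h1 : 2 * L ≤ (finrank ℂ X : ℤ) := by
      rw [hdeg]
      push_cast
      calc 2 * L ≤ ((∑ c, mc c : ℕ) : ℤ) * L := mul_le_mul_of_nonneg_right (by exact_mod_cast hM) hL0
        _ = ∑ c, (mc c : ℤ) * L := by rw [Nat.cast_sum, Finset.sum_mul]
        _ ≤ ∑ c, (mc c : ℤ) * (N c : ℤ) :=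
          Finset.sum_le_sum fun c _ => mul_le_mul_of_nonneg_left (hLe c) (by positivity)
        _ ≤ _ := le_add_of_nonneg_left (by positivity)
    rw [hL] at h1
    rcases he with rfl | rfl
    · rw [if_pos rfl] at h1
      have := two_min_plus (q := (q : ℤ)) (P := R) (D := finrank ℂ X) (by exact_mod_cast hqe rfl) hR2 h1
      rw [num]; linarith
    · rw [if_neg (by norm_num)] at h1
      have := two_min_minus (q := (q : ℤ)) (P := R) (D := finrank ℂ X) hqz hR2 h1
      rw [num]; linarith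
  -- exactly one value
  obtain ⟨c₀, hc₀⟩ : ∃ c, mc c ≠ 0 := by
    by_contra hc
    push Not at hc
    simp [hc] at hM
  have hone : mc c₀ = 1 ∧ ∀ c, c ≠ c₀ → mc c = 0 := by
    have h1 := Finset.add_sum_erase Finset.univ mc (Finset.mem_univ c₀)
    rw [hM] at h1
    refine ⟨by omega, fun c hc => ?_⟩
    have h3 : ∑ x ∈ Finset.univ.erase c₀, mc x = 0 := by omega
    exact Finset.sum_eq_zero_iff.1 h3 c (Finset.mem_erase.2 ⟨hc, Finset.mem_univ _⟩)
  have hDeq : (finrank ℂ X : ℤ) = mult ρ ψ (0 : Wsub Q v v₁) + N c₀ := by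
    rw [hdeg, Finset.sum_eq_single c₀ (fun c _ hc => by rw [hone.2 c hc, zero_mul]) (by simp), hone.1, one_mul]
    push_cast
    rfl
  have hsmall : c₀ ≠ 0 → e = -1 := by
    intro hc
    rcases he with rfl | h
    · exfalso
      obtain ⟨l, hl0, hl⟩ := exists_unit_sq_ne (hqe rfl)
      have hne' : c₀ * l ^ 2 ≠ c₀ := fun e => hl (by
        rw [← pow_two]; exact mul_left_cancel₀ hc (by rw [e, mul_one]))
      have h2' := mval_sq hN h5 P Pu hconst c₀ hl0
      rw [← hmcdef, hone.2 _ hne', hone.1] at h2'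
      omega
    · exact h
  by_cases hj : j = 0 ∧ c₀ ≠ 0
  · obtain ⟨rfl, hc⟩ := hj
    obtain rfl := hsmall hc
    have h1 : (q : ℤ) * R ^ 2 + R ≤ finrank ℂ X := by
      rw [hDeq, show (N c₀ : ℤ) = _ from hNc c₀ hc]
      linarith [show (0 : ℤ) ≤ (mult ρ ψ (0 : Wsub Q v v₁) : ℤ) from by positivity]
    refine le_trans ?_ (mul_le_mul_of_nonneg_left h1 hq21)
    rw [num, hR]
    ring_nf
    nlinarith [mul_le_mul hqz hqz (by norm_num) (by linarith), pow_le_pow_left₀ (by linarith) hqz 3,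
      mul_nonneg (show (0 : ℤ) ≤ (q : ℤ) ^ 3 by positivity) (show (0 : ℤ) ≤ (q : ℤ) - 2 by linarith)]
  -- deficits
  have hdef : ∀ a b : V, Q a = 0 → Q b = 0 → bil Q a b = 0 → LinearIndependent F ![a, b] →
      (finrank ℂ X : ℂ) - LinearMap.trace ℂ X (ρ (sg Q a b)) = ((q ^ (2 * j + 5) : ℕ) : ℂ) := by
    intro a b ha hb hab hi
    obtain ⟨w, w₁, Pw, htr⟩ := trace_eq_radical (ρ := ρ) (X := X) hN h5 P ha hb hab hi
    rw [htr, deficit_singular (ρ := ρ) hN hψ P mc hmc Pw, hM, mul_one, card_Wsub Pw, hk, ← pow_succ',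
      show 2 * j + 6 - 2 + 1 = 2 * j + 5 by omega]
  have hfd : ∀ {a a₁ : Wsub Q v v₁}, HP (QW Q v v₁) a a₁ → ∀ {b b₁ : Wsub (QW Q v v₁) a a₁},
      HP (QW (QW Q v v₁) a a₁) b b₁ → ∃ hmap : ∀ y ∈ wsp ρ ψ (0 : Wsub Q v v₁),
        ρ (sg Q (a : V) (b : V)) y ∈ wsp ρ ψ (0 : Wsub Q v v₁),
      (mult ρ ψ (0 : Wsub Q v v₁) : ℂ) - LinearMap.trace ℂ _ ((ρ (sg Q (a : V) (b : V))).restrict hmap) =
        ((q ^ (2 * j + 3) : ℕ) : ℂ) := by
    intro a a₁ Pa b b₁ Pb
    have hQa : Q (a : V) = 0 := Pa.sing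
    have hQb : Q ((b : Wsub Q v v₁) : V) = 0 := Pb.sing
    have hab : bil Q (a : V) (b : V) = 0 := (mem_Wsub.1 b.2).1
    have hi := pair_indep Pa Pb.ne_zero
    have htw : ∀ φ : Wsub Q v v₁, φ ≠ 0 → mult ρ ψ φ ≠ 0 → bil Q (a : V) (φ : V) = 0 →
        bil Q (b : V) (φ : V) = 0 → ∀ y ∈ wsp ρ ψ φ, ρ (sg Q (a : V) (b : V)) y = y := by
      intro φ hφ hne h1 h2
      have hc : Q (φ : V) = c₀ := by
        by_contra hc
        rw [hmc φ hφ, hone.2 _ hc] at hne
        exact hne rfl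
      have hm1 : mult ρ ψ φ = 1 := by rw [hmc φ hφ, hc, hone.1]
      by_cases hq4 : 4 ≤ q
      · exact twist_torus hN h5 hq4 P hm1 hQa hQb hab hi h1 h2
      obtain rfl : e = -1 := he.resolve_left fun h => hq4 (hqe h)
      refine twist_comm hN P hm1 hQa hQb hab h1 h2 ?_
      rcases Nat.eq_zero_or_pos j with rfl | hjpos
      · push Not at hj
        have hc0 := hj rfl
        obtain ⟨w, w', hw, hne'⟩ := exists_nonorth hN P ({a, (b : Wsub Q v v₁)} : Finset (Wsub Q v v₁)) (by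
          refine lt_of_le_of_lt (Nat.mul_le_mul_left 2 Finset.card_le_two) ?_
          omega)
        refine ⟨w, w', fun s hs => ?_, hne'⟩
        simp only [Set.mem_insert_iff, Set.mem_singleton_iff] at hs
        rcases hs with rfl | rfl | rfl
        · exact hw _ (by simp)
        · exact hw _ (by simp)
        · have hWa := Typ.descend (m := 2) hW Pa
          have hWb := Typ.descend (m := 1) hWa Pb
          obtain ⟨p, hp⟩ := Pa.splitEquiv.surjective s
          obtain ⟨r, hr⟩ := Pb.splitEquiv.surjective p.2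
          have hQs : QW Q v v₁ s = 0 := hc.trans hc0
          have hβ : p.1.2 = 0 := by
            have h := show bil (QW Q v v₁) a s = 0 from h1
            rw [← hp] at h
            change bil (QW Q v v₁) a (p.1.1 • a + p.1.2 • a₁ + (p.2 : Wsub Q v v₁)) = 0 at h
            simpa [bil_self_of_singular Pa.sing, Pa.one, (mem_Wsub.1 p.2.2).1] using h
          have hbp : bil (QW (QW Q v v₁) a a₁) b p.2 = 0 := by
            have h := show bil (QW Q v v₁) (b : Wsub Q v v₁) s = 0 from h2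
            rw [← hp] at h
            change bil (QW Q v v₁) (b : Wsub Q v v₁) (p.1.1 • a + p.1.2 • a₁ + (p.2 : Wsub Q v v₁)) = 0 at h
            simpa [hβ, (bil_comm (b : V) (a : V)).trans hab, bil_QW] using h
          have hδ : r.1.2 = 0 := by
            rw [← hr] at hbp
            change bil (QW (QW Q v v₁) a a₁) b (r.1.1 • b + r.1.2 • b₁ +
              (r.2 : Wsub (QW Q v v₁) a a₁)) = 0 at hbp
            simpa [bil_self_of_singular Pb.sing, Pb.one, (mem_Wsub.1 r.2.2).1] using hbp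
          have hz : r.2 = 0 := hWb.aniso (by
            rw [← hp, Pa.quad_split, hβ, mul_zero, zero_add, ← QW_apply, ← hr, Pb.quad_split, hδ, mul_zero,
              zero_add] at hQs
            exact hQs)
          have hsab : (s : V) = p.1.1 • (a : V) + r.1.1 • ((b : Wsub Q v v₁) : V) := by
            rw [← hp]
            show ((p.1.1 • a + p.1.2 • a₁ + (p.2 : Wsub Q v v₁) : Wsub Q v v₁) : V) = _
            rw [← hr]
            show ((p.1.1 • a + p.1.2 • a₁ + ((r.1.1 • b + r.1.2 • b₁ + (r.2 : Wsub (QW Q v v₁) a a₁) :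
              Wsub (QW Q v v₁) a a₁) : Wsub Q v v₁) : Wsub Q v v₁) : V) = _
            simp [hβ, hδ, hz]
          obtain ⟨wa, wa'⟩ := hw a (by simp)
          obtain ⟨wb, wb'⟩ := hw (b : Wsub Q v v₁) (by simp)
          exact ⟨by simp [hsab, wa, wb], by simp [hsab, wa', wb']⟩
      · obtain ⟨w, w', hw, hne'⟩ := exists_nonorth hN P ({a, (b : Wsub Q v v₁), φ} : Finset (Wsub Q v v₁)) (by
          refine lt_of_le_of_lt (Nat.mul_le_mul_left 2 Finset.card_le_three) ?_
          omega)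
        exact ⟨w, w', fun s hs => hw s (by simpa using hs), hne'⟩
    obtain ⟨hmap, heq⟩ := fix_deficit (ρ := ρ) hN hψ P mc hmc Pa Pb htw
      (by rw [hdef _ _ hQa hQb hab (indep_coe hi), hM, mul_one, hk, show 2 * j + 6 - 1 = 2 * j + 5 by omega])
    refine ⟨hmap, heq.trans ?_⟩
    rw [hM, mul_one, hk, show 2 * j + 6 - 3 = 2 * j + 3 by omega]
  set τ := fixW P ρ ψ
  have hDτ : ∀ x z : Wsub Q v v₁, QW Q v v₁ x = 0 → QW Q v v₁ z = 0 → bil (QW Q v v₁) x z = 0 →
      LinearIndependent F ![x, z] →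
      (finrank ℂ (wsp ρ ψ (0 : Wsub Q v v₁)) : ℂ) - LinearMap.trace ℂ _ (τ (sg (QW Q v v₁) x z)) =
        ((q ^ (2 * j + 3) : ℕ) : ℂ) := by
    intro x z hx hz hxz hi
    obtain ⟨x₁, Px, hzx⟩ := exists_HP_perp hW.nondeg hx hxz hi
    let b : Wsub (QW Q v v₁) x x₁ := ⟨z, mem_Wsub.2 ⟨hxz, (bil_comm x₁ z).trans hzx⟩⟩
    obtain ⟨b₁, Pb⟩ := exists_HP (Px.nondegenerate_QW hW.nondeg) (v := b) hz
      (fun e => hi.ne_zero 1 (congrArg Subtype.val e))
    obtain ⟨hmap, heq⟩ := hfd Px Pb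
    rw [trace_fixW_sg P ρ ψ (a := x) (b := z) hx hxz hmap]
    exact heq
  obtain ⟨Tb, hTb⟩ := exists_bound (e := e) (q : ℤ) he j
  rw [← hR] at hTb
  -- the lower bound one short
  have hWu := Typ.descend (m := j + 2) hW Pu
  obtain ⟨u', hu'0, hu'⟩ := hWu.exists_singular (Or.inr (by omega))
  obtain ⟨u'₁, Pu'⟩ := exists_HP hWu.nondeg hu' hu'0
  have hnt : τ (sg (QW Q v v₁) u (u' : Wsub Q v v₁)) ≠ 1 := by
    intro h1
    have h := hDτ u (u' : Wsub Q v v₁) Pu.sing Pu'.sing (mem_Wsub.1 u'.2).1 (pair_indep Pu Pu'.ne_zero)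
    rw [h1, LinearMap.trace_one, sub_self] at h
    exact Nat.cast_ne_zero.2 (pow_ne_zero _ Fintype.card_ne_zero) h.symm
  have hlow : Tb ≤ finrank ℂ X + 1 ∨ (j = 0 ∧ e = 1 ∧ Tb ≤ finrank ℂ X + 3) := by
    rcases Nat.eq_zero_or_pos j with rfl | hjpos
    · push Not at hj
      have hc0 := hj rfl
      subst hc0
      rw [hN0, hS] at hDeq
      rcases he with rfl | rfl
      · refine Or.inr ⟨rfl, rfl, ?_⟩
        have h := plus_base (τ := τ) (ψ := ψ) (Q := QW Q v v₁) hW (hqe rfl) hψ fun x z => hDτ x z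
        zify at h
        have hTb' : Tb = (q : ℤ) ^ 5 + 2 * (q : ℤ) ^ 3 + q := by
          refine mul_left_cancel₀ (show (q : ℤ) ^ 2 - 1 ≠ 0 by nlinarith) ?_
          rw [hTb, num, hR]; ring
        rw [hTb', hDeq, hR]
        show _ ≤ (mult ρ ψ (0 : Wsub Q v v₁) : ℤ) + _ + 3
        simp only [mult, zero_add, hR] at *
        linarith
      · refine Or.inl ?_
        have htw : ∀ φ x : Wsub Q v v₁, φ ≠ 0 → Q (φ : V) = 0 → Q (x : V) = 0 → bil Q (φ : V) (x : V) = 0 →
            LinearIndependent F ![φ, x] → ∀ y ∈ wsp ρ ψ φ, ρ (sg Q (φ : V) (x : V)) y = y := by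
          intro φ x hφ hQ hx hφx hi y hy
          have hm1 : mult ρ ψ φ = 1 := by rw [hmc φ hφ, hQ, hone.1]
          by_cases hq4 : 4 ≤ q
          · exact twist_torus hN h5 hq4 P hm1 hQ hx hφx hi (bil_self_of_singular hQ)
              ((bil_comm _ _).trans hφx) y hy
          · obtain ⟨w, w', hw, hne'⟩ := exists_nonorth hN P ({φ, x} : Finset (Wsub Q v v₁)) (by
              refine lt_of_le_of_lt (Nat.mul_le_mul_left 2 Finset.card_le_two) ?_
              omega)
            exact twist_comm hN P hm1 hQ hx hφx (bil_self_of_singular hQ) ((bil_comm _ _).trans hφx)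
              ⟨w, w', fun s hs => hw s (by simp at hs ⊢; tauto), hne'⟩ y hy
        have hne0 : wsp ρ ψ (0 : Wsub Q v v₁) ≠ ⊥ := fun hbot => hnt (LinearMap.ext fun y => Subtype.ext (by
          have h0 : (y : X) = 0 := (Submodule.eq_bot_iff _).1 hbot y.1 y.2
          rw [fixW_coe, h0, map_zero]
          exact h0.symm))
        obtain ⟨a, a₁, Pa, y, hy, hy0, hya⟩ := exists_double_fix (ρ := ρ) hN h5 hψ P
          (fun φ hφ => by rw [hmc φ (fun e => hφ (by rw [e]; simp)), hone.2 _ hφ])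
          (fun a a₁ Pa => by
            have hA := Typ.descend (m := 2) hW Pa
            obtain ⟨b, hb0, hb⟩ := hA.exists_singular (Or.inr le_rfl)
            exact ⟨b, exists_HP hA.nondeg hb hb0⟩) htw hne0 hfix
        have h := minus_base (τ := τ) (ψ := ψ) (Q := QW Q v v₁) hW hψ Pa (fun x z => hDτ x z)
          (y := ⟨y, hy⟩) (fun e => hy0 (congrArg Subtype.val e)) fun x hx => Subtype.ext (by
            rw [fixW_coe, liftHom_sg P Pa.sing (mem_Wsub.1 hx).1]
            exact hya ⟨x, hx⟩)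
        zify at h
        have hTb' : Tb = (q : ℤ) ^ 5 + q := by
          refine mul_left_cancel₀ (show (q : ℤ) ^ 2 - 1 ≠ 0 by nlinarith) ?_
          rw [hTb, num, hR]; ring
        rw [hTb', hDeq, hR]
        show _ ≤ (mult ρ ψ (0 : Wsub Q v v₁) : ℤ) + _ + 1
        simp only [mult, zero_add, hR] at *
        linarith
    · obtain ⟨i, rfl⟩ : ∃ i, j = i + 1 := ⟨j - 1, by omega⟩
      refine Or.inl ?_
      have := finite_siegel (QW Q v v₁)
      obtain ⟨U, hU, hirr, hU2⟩ := exists_constituent (siegelGroup_perfect hW.nondeg hk5) τ hnt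
      have hIH := @IH i rfl v v₁ P U _ _ _ (subRep τ U hU) hirr hU2
      have hUle : (finrank ℂ U : ℤ) ≤ mult ρ ψ (0 : Wsub Q v v₁) := by exact_mod_cast Submodule.finrank_le U
      refine Int.le_of_mul_le_mul_left (a := (q : ℤ) ^ 2 - 1) ?_ (by nlinarith)
      rw [hTb, hDeq]
      have h1 := mul_le_mul_of_nonneg_left hUle hq21
      have hRi : R = q * (q : ℤ) ^ (i + 2) := by rw [hR, ← pow_succ']
      simp only [num] at hIH ⊢
      rw [hRi] at hS hNc ⊢
      rcases eq_or_ne c₀ 0 with rfl | hc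
      · rw [hN0, hS]
        linarith
      · obtain rfl := hsmall hc
        rw [show (N c₀ : ℤ) = _ from hNc c₀ hc]
        set A := (q : ℤ) ^ (i + 2)
        nlinarith [mul_nonneg (show (0 : ℤ) ≤ (q : ℤ) ^ 2 by positivity) (show (0 : ℤ) ≤ A by positivity),
          mul_nonneg (show (0 : ℤ) ≤ A by positivity) (show (0 : ℤ) ≤ (q : ℤ) ^ 2 - 1 from hq21)]
  -- the values just below
  by_cases hge : Tb ≤ (finrank ℂ X : ℤ)
  · rw [← hTb]
    exact mul_le_mul_of_nonneg_left hge hq21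
  exfalso
  have hcls := card_class hN h5 P Pu hk5
  have hd := hdef v (u : V) P.sing Pu.sing (mem_Wsub.1 u.2).1 (pair_indep P hu0)
  have hdvd := dvd_of_deficit hN h5 ρ hd
  rw [← hqdef] at hcls
  set C := Nat.card {h : siegelGroup Q // IsConj (sg Q v (u : V)) h}
  have hCz : ((q : ℤ) ^ 2 - 1) * C = (nsing Q : ℤ) * (nsing (QW Q v v₁) : ℤ) := by
    have h1 : 1 ≤ q ^ 2 := Nat.one_le_pow _ _ (by omega)
    have := congrArg (Nat.cast : ℕ → ℤ) hcls
    push_cast [Nat.cast_sub h1] at this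
    exact this
  have hdvdz : (finrank ℂ X : ℤ) ∣ (C : ℤ) * ((q : ℤ) * R ^ 2) := by
    have h := Int.natCast_dvd_natCast.2 hdvd
    push_cast at h
    rwa [hR, ← pow_mul, ← pow_succ', show (j + 2) * 2 + 1 = 2 * j + 5 by ring]
  have hee : e * e = 1 := by rcases he with rfl | rfl <;> norm_num
  have hC' : ((q : ℤ) ^ 2 - 1) * C = ((q : ℤ) ^ 2 * R - e) * (q * R + e) * ((q * R - e) * (R + e)) := by
    rw [hCz, hZ, hS]
    linear_combination (((q : ℤ) ^ 3 * R ^ 2 + e * ((q : ℤ) ^ 2 * R - q * R) - 1) +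
        ((q : ℤ) * R ^ 2 + e * (q * R - R) - e * e)) * hee
  by_cases hone' : Tb = (finrank ℂ X : ℤ) + 1
  · refine not_bound_sub_one hqz hR2 he (D := finrank ℂ X) (C := C) ?_ hC' hdvdz ⟨j + 2, rfl⟩
    rw [← hone', hTb, num]
    linear_combination ((q : ℤ)) * hee
  rcases hlow with h | ⟨rfl, rfl, h⟩
  · omega
  obtain ⟨d, hd23, hdd⟩ : ∃ d : ℕ, (d = 2 ∨ d = 3) ∧ (finrank ℂ X : ℤ) + d = Tb :=
    ⟨(Tb - finrank ℂ X).toNat, by omega, by omega⟩
  have hTb' : Tb = (q : ℤ) ^ 5 + 2 * (q : ℤ) ^ 3 + q := by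
    refine mul_left_cancel₀ (show (q : ℤ) ^ 2 - 1 ≠ 0 by nlinarith) ?_
    rw [hTb, num, hR]; ring
  refine not_plus_eight (q := q) (C := C) (d := d) (D := finrank ℂ X) (hqe rfl) hd23 ?_ ?_ hdvd
  · have : ((finrank ℂ X + d : ℕ) : ℤ) = ((q ^ 5 + 2 * q ^ 3 + q : ℕ) : ℤ) := by push_cast; rw [hdd, hTb']
    exact_mod_cast this
  · have : ((C + (q ^ 2 + 1) ^ 2 : ℕ) : ℤ) = (((q ^ 2 + 1) ^ 2 * q ^ 6 : ℕ) : ℤ) := by
      push_cast
      refine mul_left_cancel₀ (show (q : ℤ) ^ 2 - 1 ≠ 0 by nlinarith) ?_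
      rw [mul_add, hC', hR]
      ring
    exact_mod_cast this

end

/-- The bound for all dimensions at least eight. -/
theorem orth_min_degree (he : e = 1 ∨ e = -1) (hqe : e = 1 → 4 ≤ Fintype.card F) :
    ∀ (j : ℕ) {V : Type u} [AddCommGroup V] [Module F V] [Finite V] [FiniteDimensional F V]
      (Q : QuadraticForm F V), Typ Q (j + 4) e →
      ∀ {X : Type w} [AddCommGroup X] [Module ℂ X] [FiniteDimensional ℂ X]
        (ρ : Representation ℂ (siegelGroup Q) X) [ρ.IsIrreducible], 2 ≤ finrank ℂ X →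
        num (Fintype.card F) ((Fintype.card F : ℤ) ^ (j + 2)) e ≤ ((Fintype.card F : ℤ) ^ 2 - 1) * finrank ℂ X := by
  intro j
  have hψ : (AddChar.FiniteField.primitiveChar_to_Complex F).IsPrimitive :=
    AddChar.FiniteField.primitiveChar_to_Complex_isPrimitive F
  induction j with
  | zero =>
    intro V _ _ _ _ Q hT X _ _ _ ρ _ h2
    exact step he hqe hψ hT ρ h2 fun i hi => by omega
  | succ j ih =>
    intro V _ _ _ _ Q hT X _ _ _ ρ _ h2
    refine step he hqe hψ hT ρ h2 ?_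
    intro i hi v v₁ P U _ _ _ σ _ hU2
    obtain rfl : j = i := by omega
    exact ih (QW Q v v₁) (Typ.descend (m := j + 4) hT P) σ hU2

end Cfsg.Agent.MinDegree.Orth
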