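import Mathlib

/-!
Arithmetic for the minimal degree of an odd-dimensional orthogonal group.
-/

set_option autoImplicit false

namespace Cfsg.Agent.MinDegree.Orth

theorem exists_geom_sq (q : ℤ) : ∀ m : ℕ, ∃ S : ℤ, (q ^ 2 - 1) * S = q ^ (2 * m) - 1
  | 0 => ⟨0, by simp⟩
  | m + 1 => by
    obtain ⟨S, hS⟩ := exists_geom_sq q m
    exact ⟨1 + q ^ 2 * S, by rw [show 2 * (m + 1) = 2 * m + 2 by ring, pow_add]; linear_combination q ^ 2 * hS⟩

/-- The relation given by the projection identity. -/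
theorem proj_relation {q P S A M D k : ℂ} (hq : q ≠ 0) (hP : P ≠ 0) (hd : q ^ 2 - 1 ≠ 0)
    (hS : (q ^ 2 - 1) * S = P - 1) (hD : D = A + q ^ 2 * P - 1) (hk : k = 2 + q ^ 2 * S - A)
    (h : (q ^ 4 * P - 1) * A * (D - q ^ 2 * P) = D * ((q ^ 2 - 1) * A +
      ((q ^ 4 * P - 1) - (q ^ 2 - 1) - (q ^ 2 - 1) * (q ^ 2 * P)) * (A - P) +
      (q ^ 2 - 1) * (q ^ 2 * P) * M)) :
    q * k * A = D * (q * S - q * M) := by
  subst hD hk
  refine mul_left_cancel₀ (mul_ne_zero (mul_ne_zero hq hP) hd) ?_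
  linear_combination (-1 : ℂ) * h - q ^ 2 * (A * (A - 1) - (A + q ^ 2 * P - 1) * (A - P)) * hS

/-- The value one short does not divide. -/
theorem not_dvd_one {q P S A D : ℤ} (hq : 4 ≤ q) (hP : 1 ≤ P) (hS : (q ^ 2 - 1) * S = P - 1)
    (hD : D = A + q ^ 2 * P - 1) (hA : A = 1 + q ^ 2 * S) : ¬ D ∣ q * 1 * A := by
  rintro ⟨l, hl⟩
  have hA' : (q ^ 2 - 1) * A = q ^ 2 * P - 1 := by rw [hA]; linear_combination q ^ 2 * hS
  have hq2 : q < q ^ 2 := by nlinarith
  have h0 : 0 < A := by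
    by_contra h
    push Not at h
    nlinarith [mul_nonneg (show (0 : ℤ) ≤ q ^ 2 - 1 by linarith) (show 0 ≤ -A by linarith)]
  have hD0 : 0 < D := by nlinarith
  have hl0 : 1 ≤ l := by
    by_contra h
    push Not at h
    nlinarith [mul_nonneg hD0.le (show 0 ≤ -l by linarith), mul_pos (show (0 : ℤ) < q by linarith) h0]
  nlinarith [mul_le_mul_of_nonneg_left hl0 hD0.le, mul_lt_mul_of_pos_right hq2 h0]

/-- The values just below the bound in dimension seven. -/
theorem not_dvd_seven {q A D k : ℤ} (hq : 4 ≤ q) (hA : q * (q - 1) ≤ A) (hk : k = q ^ 2 + 2 - A) (hk1 : 1 ≤ k)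
    (hD : D = A + q ^ 4 - 1) : ¬ D ∣ q * k * A := by
  rintro ⟨l, hl⟩
  have hk2 : k ≤ q + 2 := by nlinarith
  have hA0 : 0 < A := by nlinarith
  have hD0 : 0 < D := by nlinarith [pow_pos (show (0 : ℤ) < q by linarith) 4]
  have hpos : 0 < q * k * A := by positivity
  have hub : q * k * A < 2 * D := by
    have h1 : q * k * A ≤ q * (q + 2) * (q ^ 2 + 1) :=
      mul_le_mul (mul_le_mul_of_nonneg_left hk2 (by linarith)) (by linarith) hA0.le (by nlinarith)
    nlinarith [pow_le_pow_left₀ (by norm_num) hq 3]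
  have hl1 : l = 1 := by
    have h1 : 0 < l := by
      by_contra h
      push Not at h
      nlinarith [mul_nonneg hD0.le (show 0 ≤ -l by linarith)]
    have h2 : l < 2 := by
      by_contra h
      push Not at h
      nlinarith [mul_le_mul_of_nonneg_left h hD0.le]
    omega
  rw [hl1, mul_one] at hl
  obtain rfl : A = q ^ 2 + 2 - k := by linarith
  subst hD
  rcases (by omega : k ≤ q - 1 ∨ k = q ∨ k = q + 1 ∨ k = q + 2) with h | rfl | rfl | rfl
  · have h1 : q * k * (q ^ 2 + 2 - k) ≤ q * (q - 1) * (q ^ 2 + 1) :=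
      mul_le_mul (mul_le_mul_of_nonneg_left h (by linarith)) (by linarith) hA0.le (by nlinarith)
    nlinarith [pow_le_pow_left₀ (by norm_num) hq 3]
  · nlinarith [pow_le_pow_left₀ (by norm_num) hq 3]
  · nlinarith
  · nlinarith [mul_le_mul_of_nonneg_left hq (show (0 : ℤ) ≤ q ^ 2 by positivity)]

end Cfsg.Agent.MinDegree.Orth
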