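import Cfsg.Agent.Lib.MinDegree.OrthFamilies

/-!
Counting vectors of given value in odd-dimensional orthogonal spaces.
-/

set_option autoImplicit false
set_option linter.unusedSectionVars false

open Module

namespace Cfsg.Agent.MinDegree.Orth

open Cfsg.Agent.ClassicalSimple
open Cfsg.Agent.MinDeg.Orth
open Cfsg.Agent

variable {F V : Type*} [Field F] [Fintype F] [AddCommGroup V] [Module F V] [FiniteDimensional F V]
  {Q : QuadraticForm F V}

/-- The numerical data of an odd-dimensional form: the exact number of zeros and a bound for the other fibres. -/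
structure OddTyp (Q : QuadraticForm F V) (m : ℕ) : Prop where
  nondeg : (bil Q).Nondegenerate
  dim : finrank F V = 2 * m + 1
  zeros : (cnt Q 0 : ℤ) = Fintype.card F ^ (2 * m)
  fibre : ∀ c : F, c ≠ 0 → (Fintype.card F : ℤ) ^ (2 * m) - Fintype.card F ^ m ≤ cnt Q c

theorem OddTyp.descend {m : ℕ} (h : OddTyp Q (m + 1)) {v v₁ : V} (P : HP Q v v₁) :
    OddTyp (QW Q v v₁) m := by
  have hk : finrank F (Wsub Q v v₁) = 2 * m + 1 := by have := P.finrank_W; have := h.dim; omega
  have hq : 1 ≤ Fintype.card F := Fintype.card_pos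
  have hq0 : (0 : ℤ) < Fintype.card F := by exact_mod_cast Fintype.card_pos
  refine ⟨P.nondegenerate_QW h.nondeg, hk, ?_, fun c hc => ?_⟩
  · have := h.zeros
    rw [cnt_split P, hk] at this
    push_cast [Nat.cast_sub hq] at this
    refine mul_left_cancel₀ hq0.ne' ?_
    rw [show 2 * (m + 1) = 2 * m + 2 by ring] at this
    linear_combination this
  · have := h.fibre c hc
    rw [cnt_split P, hk] at this
    push_cast [Nat.cast_sub hq] at this
    refine le_of_mul_le_mul_left ?_ hq0
    rw [show 2 * (m + 1) = 2 * m + 2 by ring] at this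
    simp only [pow_succ] at this
    linarith

/-- An odd-dimensional form of dimension at least three is isotropic. -/
theorem OddTyp.exists_singular {m : ℕ} (h : OddTyp Q m) (hm : 1 ≤ m) : ∃ s : V, s ≠ 0 ∧ Q s = 0 := by
  by_contra hc
  push Not at hc
  have h1 : cnt Q 0 = 1 := Nat.card_eq_one_iff_unique.2
    ⟨⟨fun x y => Subtype.ext (by
      have hx : x.1 = 0 := by_contra fun hne => hc _ hne x.2
      have hy : y.1 = 0 := by_contra fun hne => hc _ hne y.2
      rw [hx, hy])⟩, ⟨⟨0, QuadraticMap.map_zero _⟩⟩⟩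
  have hz := h.zeros
  rw [h1, Nat.cast_one] at hz
  exact (one_lt_pow₀ (show (1 : ℤ) < Fintype.card F by exact_mod_cast Fintype.one_lt_card)
    (show 2 * m ≠ 0 by omega)).ne hz

theorem oddTyp_quadOdd (h2 : (2 : F) ≠ 0) : ∀ m, OddTyp (Forms.quadOdd m F) m
  | 0 => by
    refine ⟨bil_nondegenerate _ (Forms.quadOdd_nondegenerate h2 0), by simp, ?_, fun c hc => by simp⟩
    have h1 : cnt (Forms.quadOdd 0 F) 0 = 1 := Nat.card_eq_one_iff_unique.2
      ⟨⟨fun a b => Subtype.ext (by
        have key : ∀ x : Unit ⊕ (Fin 0 ⊕ Fin 0) → F, Forms.quadOdd 0 F x = 0 → x = 0 := fun x hx => by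
          simp [Forms.quadOdd] at hx
          funext i
          rcases i with ⟨⟩ | i | i
          · simpa using hx
          · exact i.elim0
          · exact i.elim0
        rw [key _ a.2, key _ b.2])⟩, ⟨⟨0, QuadraticMap.map_zero _⟩⟩⟩
    rw [h1]
    simp
  | m + 1 => by
    have h := oddTyp_quadOdd h2 m
    have : Finite (Unit ⊕ (Fin m ⊕ Fin m) → F) := inferInstance
    have hc : ∀ c, cnt (Forms.quadOdd (m + 1) F) c = Fintype.card F * cnt (Forms.quadOdd m F) c +
        (Fintype.card F - 1) * Fintype.card F ^ (2 * m + 1) := fun c => by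
      rw [cnt, Nat.card_congr ((Forms.splitOdd m F).toEquiv.subtypeEquiv
        (q := fun p => Forms.hypExt (Forms.quadOdd m F) p = c) fun x => by simp [Forms.quadOdd_succ]),
        card_fibre_hypExt, Module.natCard_eq_pow_finrank (K := F) (V := Unit ⊕ (Fin m ⊕ Fin m) → F),
        Nat.card_eq_fintype_card (α := F), h.dim]
      rfl
    have hq : 1 ≤ Fintype.card F := Fintype.card_pos
    refine ⟨bil_nondegenerate _ (Forms.quadOdd_nondegenerate h2 (m + 1)), ?_, ?_, fun c hc' => ?_⟩
    · rw [Module.finrank_fintype_fun_eq_card]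
      simp only [Fintype.card_sum, Fintype.card_fin, Fintype.card_unit]
      ring
    · rw [hc]
      push_cast [Nat.cast_sub hq]
      rw [show 2 * (m + 1) = 2 * m + 2 by ring]
      linear_combination (Fintype.card F : ℤ) * h.zeros
    · rw [hc]
      push_cast [Nat.cast_sub hq]
      have h' := mul_le_mul_of_nonneg_left (h.fibre c hc') (show (0 : ℤ) ≤ Fintype.card F by positivity)
      rw [show 2 * (m + 1) = 2 * m + 2 by ring]
      simp only [pow_succ]
      linarith

end Cfsg.Agent.MinDegree.Orth
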