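import Cfsg.Agent.Lib.MinDegree.OrthClass
import Cfsg.Agent.Lib.MinDegree.OrthLift
import Cfsg.Agent.Lib.MinDegree.OrthBase
import Cfsg.Agent.Lib.CharInt.PermHecke

/-!
The projection onto the vectors fixed by the radical of a singular point: the traces of long root elements
composed with it and the identity between them coming from Schur's lemma.
-/

set_option autoImplicit false
set_option linter.unusedSectionVars false

open Module

namespace Cfsg.Agent.MinDegree.Orth

open Cfsg.Agent.ClassicalSimple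
open Cfsg.Agent.MinDeg.Orth

variable {F V : Type*} [Field F] [AddCommGroup V] [Module F V] [Finite V] {Q : QuadraticForm F V}

noncomputable local instance fintypeWp (v v₁ : V) : Fintype (Wsub Q v v₁) := Fintype.ofFinite _

/-- The Siegel element of a sum of two orthogonal singular vectors. -/
theorem sg_add_left {a b x : V} (ha : Q a = 0) (hb : Q b = 0) (hab : bil Q a b = 0)
    (hax : bil Q a x = 0) (hbx : bil Q b x = 0) :
    sg Q (a + b) x = sg Q a x * sg Q b x * sg Q a ((-Q x) • b) := by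
  have hba : bil Q b a = 0 := (bil_comm b a).trans hab
  refine ext_act fun z => ?_
  rw [mul_smul, mul_smul, sg_act (v := a + b) (w := x) (by rw [quad_add, ha, hb, hab]; simp) (by simp [hax, hbx]),
    sg_act ha hax, sg_act hb hbx, sg_act (v := a) (w := (-Q x) • b) ha (by simp [hab])]
  simp only [map_add, map_sub, map_smul, map_neg, LinearMap.add_apply, LinearMap.sub_apply,
    LinearMap.smul_apply, LinearMap.neg_apply, quad_smul_vec, hb, bil_self_of_singular ha,
    bil_self_of_singular hb, bil_self x, hab, hba, hax, hbx, bil_comm x a, bil_comm x b, smul_eq_mul, mul_zero]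
  match_scalars <;> ring

/-- A change of basis of determinant one does not change a long root element. -/
theorem sg_change {a b : V} (ha : Q a = 0) (hb : Q b = 0) (hab : bil Q a b = 0) {s : F} (hs : s ≠ 0) (t : F) :
    sg Q (s • a + t • b) (s⁻¹ • b) = sg Q a b := by
  have hba : bil Q b a = 0 := (bil_comm b a).trans hab
  rw [sg_swap (by simp [quad_add, quad_smul_vec, ha, hb, hab]) (by rw [quad_smul_vec, hb, mul_zero])
    (by simp [hab, bil_self_of_singular hb]), sg_smul_left hb (by simp [hba, bil_self_of_singular hb]),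
    sg_swap ha hb hab, show s⁻¹ • -(s • a + t • b) = -a + (-(s⁻¹ * t)) • b by
      match_scalars <;> field_simp, sg_add_self hb (by simp [hba])]

/-- A radical element given by an arbitrary orthogonal vector. -/
theorem sg_proj {v v₁ : V} (P : HP Q v v₁) {z : V} (hz : bil Q v z = 0) :
    sg Q v z = sg Q v (MinDeg.Orth.proj Q v v₁ z) := by
  conv_lhs => rw [show z = MinDeg.Orth.proj Q v v₁ z + bil Q v₁ z • v by rw [MinDeg.Orth.proj, hz]; module]
  exact sg_add_self P.sing (mem_Wsub.1 (P.proj_mem z)).1 _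

variable {X : Type*} [AddCommGroup X] [Module ℂ X] {ρ : Representation ℂ (siegelGroup Q) X} {v v₁ : V}

theorem wch_zero (ψ : AddChar F ℂ) : wch ψ (0 : Wsub Q v v₁) = 1 :=
  DFunLike.ext _ _ fun x => by simp [wch_apply]

/-- The projection onto the vectors fixed by the radical. -/
noncomputable def fixProj (ρ : Representation ℂ (siegelGroup Q) X) (v v₁ : V) : Module.End ℂ X :=
  eigenProj (rop ρ v v₁) 1

theorem fixProj_apply (y : X) :
    fixProj ρ v v₁ y = (Fintype.card (Wsub Q v v₁) : ℂ)⁻¹ • ∑ x : Wsub Q v v₁, ρ (sg Q v (x : V)) y := by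
  simp [fixProj, eigenProj, proj_apply, rop]

theorem radical_mul_fixProj (P : HP Q v v₁) {z : V} (hz : bil Q v z = 0) :
    ρ (sg Q v z) * fixProj ρ v v₁ = fixProj ρ v v₁ := by
  refine LinearMap.ext fun y => ?_
  have h := mem_eigen.1 (eigenProj_apply_mem (isOp_rop (ρ := ρ) P) 1 y) ⟨_, P.proj_mem z⟩
  rw [AddChar.one_apply, one_smul] at h
  rw [sg_proj P hz]
  exact h

/-- The stabiliser of the point commutes with the projection. -/
theorem fixProj_comm (P : HP Q v v₁) {k : siegelGroup Q} (hk : k • v = v) :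
    ρ k * fixProj ρ v v₁ = fixProj ρ v v₁ * ρ k := by
  refine LinearMap.ext fun y => ?_
  have hperp : ∀ x : Wsub Q v v₁, bil Q v (k • (x : V)) = 0 := fun x =>
    calc bil Q v (k • (x : V)) = bil Q (k • v) (k • (x : V)) := congrArg (fun z => bil Q z (k • (x : V))) hk.symm
      _ = _ := (bil_smul' k v (x : V)).trans (mem_Wsub.1 x.2).1
  let f : Wsub Q v v₁ → Wsub Q v v₁ := fun x => ⟨_, P.proj_mem (k • (x : V))⟩
  have hf : Function.Injective f := by
    intro a b e
    have e' := congrArg Subtype.val e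
    simp only [f, MinDeg.Orth.proj, hperp, zero_smul, sub_zero] at e'
    have hab : (a : V) - (b : V) = (bil Q v₁ (k • (a : V)) - bil Q v₁ (k • (b : V))) • v := by
      refine MulAction.injective k ?_
      show k • ((a : V) - (b : V)) = k • ((bil Q v₁ (k • (a : V)) - bil Q v₁ (k • (b : V))) • v)
      rw [smul_sub, smul_comm k, hk]
      rw [sub_smul, sub_eq_sub_iff_sub_eq_sub]
      exact e'
    have h := congrArg (bil Q v₁) hab
    rw [map_sub, (mem_Wsub.1 a.2).2, (mem_Wsub.1 b.2).2, sub_zero, map_smul, P.symm.one, smul_eq_mul,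
      mul_one] at h
    rw [← h, zero_smul, sub_eq_zero] at hab
    exact Subtype.ext hab
  rw [Module.End.mul_apply, Module.End.mul_apply, fixProj_apply, fixProj_apply, map_smul, map_sum]
  congr 1
  refine Fintype.sum_bijective f (Finite.injective_iff_bijective.1 hf) _ _ fun x => ?_
  have e : k * sg Q v (x : V) = sg Q v (f x : V) * k := by
    rw [← sg_proj P (hperp x)]
    calc k * sg Q v (x : V) = k * sg Q v (x : V) * k⁻¹ * k := (inv_mul_cancel_right _ k).symm
      _ = sg Q (k • v) (k • (x : V)) * k := congrArg (· * k) (sg_conj k v x)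
      _ = _ := congrArg (fun z => sg Q z (k • (x : V)) * k) hk
  rw [← Module.End.mul_apply, ← map_mul, e, map_mul, Module.End.mul_apply]

variable [FiniteDimensional ℂ X]

theorem trace_conj_fixProj (P : HP Q v v₁) {k : siegelGroup Q} (hk : k • v = v) (g : siegelGroup Q) :
    LinearMap.trace ℂ X (ρ (k * g * k⁻¹) * fixProj ρ v v₁) =
      LinearMap.trace ℂ X (ρ g * fixProj ρ v v₁) := by
  rw [map_mul ρ, map_mul ρ, mul_assoc, fixProj_comm P (inv_smul_eq_iff.2 hk.symm), ← mul_assoc,
    LinearMap.trace_mul_comm, ← mul_assoc, ← mul_assoc, ← map_mul ρ, inv_mul_cancel, map_one, one_mul]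

theorem trace_fixProj (P : HP Q v v₁) (ψ : AddChar F ℂ) :
    LinearMap.trace ℂ X (fixProj ρ v v₁) = mult ρ ψ (0 : Wsub Q v v₁) := by
  have h := trace_of_scalar (isOp_rop (ρ := ρ) P) (1 : X →ₗ[ℂ] X) 1 1 fun x _ => by simp
  rw [one_mul] at h
  rw [mult, wsp, wch_zero]
  exact h

omit [Finite V] in
/-- The trace of a finite order operator composed with a projection onto an invariant subspace. -/
theorem isIntegral_trace_comp (Y : Submodule ℂ X) {g p : Module.End ℂ X} {n : ℕ} (hn : n ≠ 0) (hgn : g ^ n = 1)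
    (hg : ∀ y ∈ Y, g y ∈ Y) (hpm : ∀ y, p y ∈ Y) (hpf : ∀ y ∈ Y, p y = y) :
    IsIntegral ℤ (LinearMap.trace ℂ X (g * p)) := by
  let p' : X →ₗ[ℂ] Y := LinearMap.codRestrict Y p hpm
  have e1 : g * p = (Y.subtype ∘ₗ g.restrict hg) ∘ₗ p' := LinearMap.ext fun x => rfl
  have e2 : p' ∘ₗ (Y.subtype ∘ₗ g.restrict hg) = g.restrict hg :=
    LinearMap.ext fun x => Subtype.ext (hpf _ (hg x.1 x.2))
  rw [e1, LinearMap.trace_comp_comm' p' (Y.subtype ∘ₗ g.restrict hg), e2]
  refine CharInt.PermHecke.isIntegral_trace (p := Polynomial.X ^ n - 1) (Polynomial.monic_X_pow_sub_C 1 hn) ?_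
  rw [map_sub, map_pow, Polynomial.aeval_X, map_one, sub_eq_zero]
  refine LinearMap.ext fun x => Subtype.ext ?_
  rw [Module.End.pow_restrict n]
  show (g ^ n) x.1 = _
  rw [hgn]
  rfl

variable [Fintype F] [FiniteDimensional F V]

/-- An opposite long root element composed with the projection: `q` times the trace is integral. -/
theorem isIntegral_opposite (P : HP Q v v₁) {u u₁ : Wsub Q v v₁} (Pu : HP (QW Q v v₁) u u₁) :
    IsIntegral ℤ ((Fintype.card F : ℂ) *
      LinearMap.trace ℂ X (ρ (sg Q v₁ (u : V)) * fixProj ρ v v₁)) := by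
  classical
  have := finite_siegel Q
  set e := fixProj ρ v v₁ with he
  set q : ℂ := (Fintype.card F : ℂ)
  obtain ⟨u1, u2⟩ := mem_Wsub.1 u.2
  obtain ⟨w1, w2⟩ := mem_Wsub.1 u₁.2
  have hu : Q (u : V) = 0 := Pu.sing
  have huu₁ : bil Q (u : V) (u₁ : V) = 1 := Pu.one
  let K0 : Submodule F (Wsub Q v v₁) := LinearMap.ker (bil (QW Q v v₁) u)
  let A := Wsub (QW Q v v₁) u u₁
  let _ : Fintype K0 := Fintype.ofFinite _
  let _ : Fintype A := Fintype.ofFinite _
  have hK0 : ∀ x : Wsub Q v v₁, x ∈ K0 ↔ bil Q (u : V) (x : V) = 0 := fun x => Iff.rfl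
  have hA : ∀ z : A, bil Q (u : V) ((z : Wsub Q v v₁) : V) = 0 := fun z => (mem_Wsub.1 z.2).1
  let op1 : K0 → X →ₗ[ℂ] X := fun x => ρ (sg Q v ((x : Wsub Q v v₁) : V))
  let op2 : A → X →ₗ[ℂ] X := fun z => ρ (sg Q (u : V) ((z : Wsub Q v v₁) : V))
  have h1 : IsOp op1 := ⟨by simp [op1, sg_zero], fun x y => by
    simp only [op1]
    rw [← map_mul, sg_mul P.sing (mem_Wsub.1 x.1.2).1 (mem_Wsub.1 y.1.2).1]; rfl⟩
  have h2 : IsOp op2 := ⟨by simp [op2, sg_zero], fun x y => by
    simp only [op2]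
    rw [← map_mul, sg_mul hu (hA x) (hA y)]; rfl⟩
  set K : Module.End ℂ X := eigenProj op1 1 with hK
  set E : Module.End ℂ X := eigenProj op2 1 with hE
  let r : F → siegelGroup Q := fun t => sg Q v (t • (u₁ : V))
  set y := sg Q v₁ (u : V) with hy
  have hy' : y = sg Q (u : V) (-v₁) := sg_swap P.sing₁ hu u2
  -- splitting the radical
  have hsplit : q • e = ∑ t, ρ (r t) * K := by
    let Φ : F × K0 ≃ Wsub Q v v₁ :=
      { toFun := fun p => p.1 • u₁ + (p.2 : Wsub Q v v₁)
        invFun := fun w => (bil Q (u : V) (w : V), ⟨w - bil Q (u : V) (w : V) • u₁, by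
          rw [hK0]
          simp [huu₁]⟩)
        left_inv := fun p => by
          have h := (hK0 _).1 p.2.2
          have h' : bil Q (u : V) ((p.1 • u₁ + (p.2 : Wsub Q v v₁) : Wsub Q v v₁) : V) = p.1 := by
            simp [h, huu₁]
          refine Prod.ext h' (Subtype.ext ?_)
          show p.1 • u₁ + (p.2 : Wsub Q v v₁) - _ • u₁ = (p.2 : Wsub Q v v₁)
          rw [h', add_sub_cancel_left]
        right_inv := fun w => add_sub_cancel _ _ }
    refine LinearMap.ext fun z => ?_
    rw [LinearMap.smul_apply, he, fixProj_apply, LinearMap.sum_apply, ← Fintype.card_congr Φ,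
      Fintype.card_prod, smul_smul, ← Φ.sum_comp, Fintype.sum_prod_type, Finset.smul_sum]
    refine Finset.sum_congr rfl fun t _ => ?_
    rw [Module.End.mul_apply, hK, eigenProj, LinearMap.smul_apply, proj_apply, map_smul, map_sum, Nat.cast_mul,
      mul_inv, ← mul_assoc, mul_inv_cancel₀ (Nat.cast_ne_zero.2 Fintype.card_ne_zero), one_mul]
    congr 1
    refine Finset.sum_congr rfl fun x _ => ?_
    rw [AddChar.one_apply, one_smul]
    show ρ (sg Q v ((t • u₁ + (x : Wsub Q v v₁) : Wsub Q v v₁) : V)) z =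
      ρ (sg Q v (t • (u₁ : V))) (ρ (sg Q v ((x : Wsub Q v v₁) : V)) z)
    rw [← Module.End.mul_apply, ← map_mul,
      sg_mul P.sing (by simp [w1]) (mem_Wsub.1 (x : Wsub Q v v₁).2).1]
    rfl
  -- inserting the second projection
  have hins : LinearMap.trace ℂ X (ρ y * e) = LinearMap.trace ℂ X (ρ y * E * e) := by
    have hone : ∀ z : A, LinearMap.trace ℂ X (ρ y * op2 z * e) = LinearMap.trace ℂ X (ρ y * e) := by
      intro z
      obtain ⟨z1, z2⟩ := mem_Wsub.1 (z : Wsub Q v v₁).2
      have hz := hA z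
      set z' : V := ((z : Wsub Q v v₁) : V)
      set k := sg Q v (-z')
      have kv : k • v = v :=
        sg_fix P.sing (by simp [z1]) (bil_self_of_singular P.sing) (by simp [z1])
      have ku : k • (u : V) = u :=
        sg_fix P.sing (by simp [z1]) ((bil_comm _ _).trans u1) (by simp [hz])
      have kv₁ : k • v₁ = v₁ - z' - Q z' • v := by
        rw [sg_act P.sing (by simp [z1]), P.symm.one, map_neg, z2, QuadraticMap.map_neg]
        module
      have e1 : k * y * k⁻¹ = y * sg Q (u : V) z' * sg Q v ((-Q z') • (u : V)) := by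
        have hw : Q (v₁ - z' - Q z' • v) = 0 := by rw [← kv₁, quad_smul', P.sing₁]
        have hwu : bil Q (v₁ - z' - Q z' • v) (u : V) = 0 := by rw [← kv₁, ← ku, bil_smul', u2]
        have huv : bil Q (u : V) v = 0 := (bil_comm _ _).trans u1
        have huv₁ : bil Q (u : V) v₁ = 0 := (bil_comm _ _).trans u2
        rw [hy, sg_conj, kv₁, ku, sg_swap hw hu hwu, ← hy, hy',
          show -(v₁ - z' - Q z' • v) = -v₁ + z' + Q z' • v by module,
          ← sg_mul hu (w := -v₁ + z') (by simp [huv₁, hz]) (by simp [huv]),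
          ← sg_mul hu (w := -v₁) (by simp [huv₁]) hz]
        congr 1
        rw [sg_swap (a := v) (b := (-Q z') • (u : V)) P.sing (by simp [quad_smul_vec, hu]) (by simp [u1]),
          sg_smul_left hu (by simp [huv])]
        congr 1
        module
      have h := trace_conj_fixProj (ρ := ρ) P kv y
      rw [e1, map_mul ρ, map_mul ρ, mul_assoc, radical_mul_fixProj P (by simp [u1])] at h
      exact h
    rw [hE, eigenProj, mul_smul_comm, smul_mul_assoc, map_smul, Cfsg.Agent.MinDegree.proj, Finset.mul_sum,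
      Finset.sum_mul, map_sum]
    simp only [AddChar.one_apply, one_smul, hone, Finset.sum_const, Finset.card_univ, smul_eq_mul]
    rw [nsmul_eq_mul, ← mul_assoc, inv_mul_cancel₀ (Nat.cast_ne_zero.2 Fintype.card_ne_zero), one_mul]
  -- the common fixed vectors
  let Y : Submodule ℂ X := eigen op1 1 ⊓ eigen op2 1
  have hY : ∀ z, z ∈ Y ↔ (∀ x, op1 x z = z) ∧ (∀ x, op2 x z = z) := fun z => by
    simp [Y, Submodule.mem_inf, mem_eigen]
  have rad : ∀ {z : X}, z ∈ Y → ∀ x ∈ Wsub Q v v₁, bil Q (u : V) x = 0 → ρ (sg Q v x) z = z :=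
    fun hz x hx hx' => ((hY _).1 hz).1 ⟨⟨x, hx⟩, hx'⟩
  have radu : ∀ {z : X}, z ∈ Y → ∀ x ∈ Wsub Q v v₁, bil Q (u : V) x = 0 → ρ (sg Q (u : V) x) z = z := by
    intro z hz x hx hx'
    let x' : Wsub Q v v₁ := ⟨x, hx⟩
    have hxA : MinDeg.Orth.proj (QW Q v v₁) u u₁ x' ∈ A := Pu.proj_mem x'
    have e : x = ((MinDeg.Orth.proj (QW Q v v₁) u u₁ x' : Wsub Q v v₁) : V) +
        bil Q (u₁ : V) x • (u : V) := by
      simp [MinDeg.Orth.proj, bil_QW, x', hx']
    rw [e, sg_add_self hu (hA ⟨_, hxA⟩)]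
    exact ((hY _).1 hz).2 ⟨_, hxA⟩
  have hPm : ∀ z, (E * K) z ∈ Y := by
    intro z
    refine ⟨mem_eigen.2 fun x => ?_, eigenProj_apply_mem h2 1 _⟩
    have hKz : ∀ x : K0, op1 x (K z) = K z := fun x => by
      have h := mem_eigen.1 (eigenProj_apply_mem h1 1 z) x
      rwa [AddChar.one_apply, one_smul] at h
    rw [AddChar.one_apply, one_smul, Module.End.mul_apply]
    show op1 x (eigenProj op2 1 (K z)) = eigenProj op2 1 (K z)
    rw [eigenProj, LinearMap.smul_apply, proj_apply, map_smul, map_sum]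
    congr 1
    refine Finset.sum_congr rfl fun a _ => ?_
    rw [map_smul]
    congr 1
    set h := sg Q (u : V) ((a : Wsub Q v v₁) : V)
    obtain ⟨a1, a2⟩ := mem_Wsub.1 (a : Wsub Q v v₁).2
    have hv : h • v = v := sg_fix hu (hA a) u1 a1
    have hv₁ : h • v₁ = v₁ := sg_fix hu (hA a) u2 a2
    have hmem : h⁻¹ • ((x : Wsub Q v v₁) : V) ∈ Wsub Q v v₁ :=
      mem_W_fix (inv_smul_eq_iff.2 hv.symm) (inv_smul_eq_iff.2 hv₁.symm) (x : Wsub Q v v₁).2
    have hu' : h • (u : V) = u :=
      sg_fix hu (hA a) (bil_self_of_singular hu) (hA a)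
    have hperp : bil Q (u : V) (h⁻¹ • ((x : Wsub Q v v₁) : V)) = 0 := by
      rw [← bil_smul' h, smul_inv_smul, hu']; exact x.2
    have e : sg Q v ((x : Wsub Q v v₁) : V) * h = h * sg Q v (h⁻¹ • ((x : Wsub Q v v₁) : V)) := by
        calc sg Q v ((x : Wsub Q v v₁) : V) * h
          = sg Q (h • v) (h • h⁻¹ • ((x : Wsub Q v v₁) : V)) * h :=
            congrArg₂ (fun a b => sg Q a b * h) hv.symm (smul_inv_smul h _).symm
        _ = h * sg Q v (h⁻¹ • ((x : Wsub Q v v₁) : V)) * h⁻¹ * h := congrArg (· * h) (sg_conj h _ _).symm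
        _ = _ := inv_mul_cancel_right _ h
    show ρ (sg Q v ((x : Wsub Q v v₁) : V)) (ρ h (K z)) = ρ h (K z)
    rw [← Module.End.mul_apply, ← map_mul, e, map_mul, Module.End.mul_apply]
    exact congrArg _ (hKz ⟨⟨_, hmem⟩, hperp⟩)
  have hPf : ∀ z ∈ Y, (E * K) z = z := fun z hz => by
    rw [Module.End.mul_apply, hK, eigenProj_of_mem hz.1, hE, eigenProj_of_mem hz.2]
  have pull : ∀ (g : siegelGroup Q) {z : X}, z ∈ Y →
      (∀ x : K0, ρ (g⁻¹ * sg Q v ((x : Wsub Q v v₁) : V) * g) z = z) →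
      (∀ a : A, ρ (g⁻¹ * sg Q (u : V) ((a : Wsub Q v v₁) : V) * g) z = z) → ρ g z ∈ Y := by
    intro g z _ ha hb
    refine (hY _).2 ⟨fun x => ?_, fun a => ?_⟩
    · show ρ _ (ρ g z) = ρ g z
      conv_rhs => rw [← ha x]
      rw [← Module.End.mul_apply, ← Module.End.mul_apply, ← map_mul, ← map_mul]
      congr 2
      group
    · show ρ _ (ρ g z) = ρ g z
      conv_rhs => rw [← hb a]
      rw [← Module.End.mul_apply, ← Module.End.mul_apply, ← map_mul, ← map_mul]
      congr 2
      group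
  have cj : ∀ (g : siegelGroup Q) (a b : V), g⁻¹ * sg Q a b * g = sg Q (g⁻¹ • a) (g⁻¹ • b) := fun g a b => by
    have h := sg_conj g⁻¹ a b
    rwa [inv_inv] at h
  have hyY : ∀ z ∈ Y, ρ y z ∈ Y := by
    intro z hz
    refine pull y hz (fun x => ?_) (fun a => ?_)
    · obtain ⟨x1, x2⟩ := mem_Wsub.1 (x : Wsub Q v v₁).2
      have hx : bil Q (u : V) ((x : Wsub Q v v₁) : V) = 0 := x.2
      set x' : V := ((x : Wsub Q v v₁) : V)
      have hinv : y⁻¹ = sg Q v₁ (-(u : V)) := inv_eq_of_mul_eq_one_right (by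
        rw [hy, sg_mul P.sing₁ u2 (by simp [u2]), add_neg_cancel, sg_zero])
      have e1 : y⁻¹ • v = v + -(u : V) := by
        rw [hinv, sg_act P.sing₁ (by simp [u2]), P.one, map_neg, u1, QuadraticMap.map_neg, hu]
        module
      have e2 : y⁻¹ • x' = x' := by
        rw [hinv]
        exact sg_fix P.sing₁ (by simp [u2]) ((bil_comm _ _).trans x2) (by simp [bil_comm x' (u : V), hx])
      rw [cj, e1, e2, sg_add_left P.sing (by simp [hu]) (by simp [u1]) x1 (by simp [hx]), map_mul, map_mul,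
        Module.End.mul_apply, Module.End.mul_apply]
      have s3 : ρ (sg Q v ((-Q x') • -(u : V))) z = z :=
        rad hz _ (Submodule.smul_mem _ _ (Submodule.neg_mem _ u.2)) (by simp [bil_self_of_singular hu])
      have s2 : ρ (sg Q (-(u : V)) x') z = z := by
        rw [← neg_one_smul F (u : V), sg_smul_left hu hx]
        exact radu hz _ (Submodule.smul_mem _ _ (x : Wsub Q v v₁).2) (by simp [hx])
      rw [s3, s2]
      exact rad hz _ (x : Wsub Q v v₁).2 hx
    · have hc : y⁻¹ * sg Q (u : V) ((a : Wsub Q v v₁) : V) * y = sg Q (u : V) ((a : Wsub Q v v₁) : V) := by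
        rw [mul_assoc, hy', sg_mul hu (hA a) (by simp [bil_comm (u : V) v₁, u2]), add_comm,
          ← sg_mul hu (by simp [bil_comm (u : V) v₁, u2]) (hA a), inv_mul_cancel_left]
      rw [hc]
      exact ((hY _).1 hz).2 a
  have hrY : ∀ t, ∀ z ∈ Y, ρ (r t) z ∈ Y := by
    intro t z hz
    refine pull (r t) hz (fun x => ?_) (fun a => ?_)
    · have x1 := (mem_Wsub.1 (x : Wsub Q v v₁).2).1
      have hc : (r t)⁻¹ * sg Q v ((x : Wsub Q v v₁) : V) * r t = sg Q v ((x : Wsub Q v v₁) : V) := by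
        rw [mul_assoc, sg_mul P.sing x1 (by simp [w1]), add_comm, ← sg_mul P.sing (by simp [w1]) x1,
          inv_mul_cancel_left]
      rw [hc]
      exact ((hY _).1 hz).1 x
    · obtain ⟨a1, a2⟩ := mem_Wsub.1 (a : Wsub Q v v₁).2
      have ha := hA a
      have hu₁a : bil Q (u₁ : V) ((a : Wsub Q v v₁) : V) = 0 := (mem_Wsub.1 a.2).2
      set a' : V := ((a : Wsub Q v v₁) : V)
      have hinv : (r t)⁻¹ = sg Q v (-(t • (u₁ : V))) := inv_eq_of_mul_eq_one_right (by
        rw [sg_mul P.sing (by simp [w1]) (by simp [w1]), add_neg_cancel, sg_zero])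
      have e1 : (r t)⁻¹ • (u : V) = (u : V) + t • v := by
        rw [hinv, sg_act P.sing (by simp [w1]), bil_comm (u : V) v, u1, map_neg, map_smul, huu₁, smul_eq_mul]
        module
      have e2 : (r t)⁻¹ • a' = a' := by
        rw [hinv]
        exact sg_fix P.sing (by simp [w1]) ((bil_comm _ _).trans a1)
          (by simp [bil_comm a' (u₁ : V), hu₁a])
      rw [cj, e1, e2, sg_add_left hu (by simp [quad_smul_vec, P.sing]) (by simp [bil_comm (u : V) v, u1]) ha
        (by simp [a1]), map_mul, map_mul, Module.End.mul_apply, Module.End.mul_apply]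
      have s3 : ρ (sg Q (u : V) ((-Q a') • t • v)) z = z := by
        rw [sg_swap hu (by simp [quad_smul_vec, P.sing]) (by simp [bil_comm (u : V) v, u1]), smul_smul,
          sg_smul_left P.sing (by simp [u1])]
        exact rad hz _ (Submodule.smul_mem _ _ (Submodule.neg_mem _ u.2)) (by simp [bil_self_of_singular hu])
      have s2 : ρ (sg Q (t • v) a') z = z := by
        rw [sg_smul_left P.sing a1]
        exact rad hz _ (Submodule.smul_mem _ _ (a : Wsub Q v v₁).2) (by simp [ha])
      rw [s3, s2]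
      exact radu hz _ (a : Wsub Q v v₁).2 ha
  -- assembly
  have hKr : ∀ t, K * ρ (r t) = ρ (r t) * K := fun t => LinearMap.ext fun z => by
    simp only [Module.End.mul_apply, hK, eigenProj, LinearMap.smul_apply, proj_apply, map_smul, map_sum]
    congr 1
    refine Finset.sum_congr rfl fun x _ => ?_
    congr 1
    have x1 := (mem_Wsub.1 (x : Wsub Q v v₁).2).1
    show ρ (sg Q v ((x : Wsub Q v v₁) : V)) (ρ (r t) z) = ρ (r t) (ρ (sg Q v ((x : Wsub Q v v₁) : V)) z)
    rw [← Module.End.mul_apply, ← Module.End.mul_apply, ← map_mul, ← map_mul,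
      sg_mul P.sing x1 (by simp [w1]), sg_mul P.sing (by simp [w1]) x1, add_comm]
  have hsum : q * LinearMap.trace ℂ X (ρ y * e) = ∑ t, LinearMap.trace ℂ X (ρ (r t * y) * (E * K)) := by
    rw [hins, ← smul_eq_mul, ← map_smul, ← mul_smul_comm, hsplit, Finset.mul_sum, map_sum]
    refine Finset.sum_congr rfl fun t _ => ?_
    rw [← hKr, ← mul_assoc, LinearMap.trace_mul_comm, map_mul ρ]
    simp only [mul_assoc]
  rw [hsum]
  refine IsIntegral.sum _ fun t _ => ?_
  refine isIntegral_trace_comp Y (n := Nat.card (siegelGroup Q)) Nat.card_pos.ne' ?_ (fun z hz => ?_) hPm hPf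
  · rw [← map_pow, pow_card_eq_one', map_one]
  · rw [map_mul, Module.End.mul_apply]
    exact hrY t _ (hyY z hz)

section Identity

variable (hN : (bil Q).Nondegenerate) (h5 : 5 ≤ finrank F V)
include hN h5

/-- A long root element moving the point is conjugate to an opposite one. -/
theorem trace_opposite (P : HP Q v v₁) (hk : 5 ≤ finrank F (Wsub Q v v₁)) {u : Wsub Q v v₁} (hu0 : u ≠ 0)
    (hu : Q (u : V) = 0) {a b : V} (ha : Q a = 0) (hb : Q b = 0) (hab : bil Q a b = 0)
    (hi : LinearIndependent F ![a, b]) (hne : bil Q v a ≠ 0 ∨ bil Q v b ≠ 0) :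
    LinearMap.trace ℂ X (ρ (sg Q a b) * fixProj ρ v v₁) =
      LinearMap.trace ℂ X (ρ (sg Q v₁ (u : V)) * fixProj ρ v v₁) := by
  wlog hβ : bil Q v b ≠ 0 generalizing a b with H
  · rw [not_not] at hβ
    rw [sg_swap ha hb hab]
    refine H hb (by rw [QuadraticMap.map_neg, ha]) (by simp [bil_comm b a, hab]) ?_ ?_ ?_
    · rw [LinearIndependent.pair_iff] at hi ⊢
      intro s t hst
      obtain ⟨e1, e2⟩ := hi (-t) s (by rw [← hst]; module)
      exact ⟨e2, neg_eq_zero.1 e1⟩
    · exact Or.inr (by simpa [hβ] using hne)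
    · simpa [hβ] using hne
  set β := bil Q v b
  set α := bil Q v a
  rw [← sg_change ha hb hab hβ (-α)]
  set a' := β • a + (-α) • b with ha'
  set b' := β⁻¹ • b with hb'
  have qa : Q a' = 0 := by simp [ha', quad_add, quad_smul_vec, ha, hb, hab]
  have qb : Q b' = 0 := by simp [hb', quad_smul_vec, hb]
  have hva : bil Q v a' = 0 := by simp [ha', α, β]; ring
  have hvb : bil Q v b' = 1 := by simp [hb', β]; exact inv_mul_cancel₀ hβ
  have hab' : bil Q a' b' = 0 := by simp [ha', hb', hab, bil_self_of_singular hb]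
  have a0 : a' ≠ 0 := fun e => hβ ((LinearIndependent.pair_iff.1 hi) β (-α) e).1
  obtain ⟨k, hk', kv, kb⟩ := siegel_trans_pair hN h5 P.sing qb P.sing P.sing₁ hvb P.one
  set k' : siegelGroup Q := ⟨k, hk'⟩
  have kv' : k' • v = v := kv
  have kb' : k' • b' = v₁ := kb
  rw [← trace_conj_fixProj (ρ := ρ) P kv', sg_conj, kb']
  let w : Wsub Q v v₁ := ⟨k' • a', mem_Wsub.2 ⟨by
      conv_lhs => rw [← kv']
      rw [bil_smul', hva], by
      conv_lhs => rw [← kb']
      rw [bil_smul', bil_comm, hab']⟩⟩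
  have hw : Q (w : V) = 0 := (quad_smul' k' a').trans qa
  have hw0 : -w ≠ 0 := neg_ne_zero.2 fun e =>
    a0 ((smul_eq_zero_iff_eq k').1 (congrArg Subtype.val e))
  obtain ⟨l, hl, el⟩ := siegel_trans (P.nondegenerate_QW hN) hk hw0 hu0
    (show QW Q v v₁ (-w) = 0 by rw [QuadraticMap.map_neg]; exact hw) hu
  obtain ⟨G, G1, G2, G3⟩ := HP.exists_lift hl
  show LinearMap.trace ℂ X (ρ (sg Q (w : V) v₁) * _) = _
  rw [sg_swap hw P.sing₁ ((bil_comm _ _).trans (mem_Wsub.1 w.2).2), ← trace_conj_fixProj (ρ := ρ) P G1,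
    sg_conj, G2, show -(w : V) = ((-w : Wsub Q v v₁) : V) from rfl, G3, el]

/-- The identity from Schur's lemma applied to the sum of a class of long root elements. -/
theorem proj_identity [ρ.IsIrreducible] (ψ : AddChar F ℂ) (P : HP Q v v₁)
    (hk : 5 ≤ finrank F (Wsub Q v v₁)) {u u₁ : Wsub Q v v₁} (Pu : HP (QW Q v v₁) u u₁) {δ : ℂ}
    (hlevi : ∀ x z : Wsub Q v v₁, Q (x : V) = 0 → Q (z : V) = 0 → bil Q (x : V) (z : V) = 0 →
      LinearIndependent F ![x, z] →
      LinearMap.trace ℂ X (ρ (sg Q (x : V) (z : V)) * fixProj ρ v v₁) =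
        (mult ρ ψ (0 : Wsub Q v v₁) : ℂ) - δ) :
    (nsing Q : ℂ) * (mult ρ ψ (0 : Wsub Q v v₁) : ℂ) * LinearMap.trace ℂ X (ρ (sg Q v (u : V))) =
      (finrank ℂ X : ℂ) * (((Fintype.card F : ℂ) ^ 2 - 1) * (mult ρ ψ (0 : Wsub Q v v₁) : ℂ) +
        ((nsing Q : ℂ) - ((Fintype.card F : ℂ) ^ 2 - 1) - (((Fintype.card F - 1) *
          (Nat.card (Wsub Q v v₁) + Fintype.card F * Nat.card (Wsub (QW Q v v₁) u u₁)) : ℕ) : ℂ)) *
          ((mult ρ ψ (0 : Wsub Q v v₁) : ℂ) - δ) +
        (((Fintype.card F - 1) *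
          (Nat.card (Wsub Q v v₁) + Fintype.card F * Nat.card (Wsub (QW Q v v₁) u u₁)) : ℕ) : ℂ) *
          LinearMap.trace ℂ X (ρ (sg Q v₁ (u : V)) * fixProj ρ v v₁)) := by
  classical
  have := finite_siegel Q
  let _ : Fintype V := Fintype.ofFinite V
  let _ : Fintype (siegelGroup Q) := Fintype.ofFinite _
  set e := fixProj ρ v v₁ with he
  set A0 : ℂ := (mult ρ ψ (0 : Wsub Q v v₁) : ℂ)
  set M := LinearMap.trace ℂ X (ρ (sg Q v₁ (u : V)) * e)
  set x := sg Q v (u : V) with hx
  set q := Fintype.card F with hq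
  have hu : Q (u : V) = 0 := Pu.sing
  obtain ⟨u1, u2⟩ := mem_Wsub.1 u.2
  have hind := pair_indep P Pu.ne_zero
  set S := Submodule.span F ({v, (u : V)} : Set V)
  let moved : V → Prop := fun w => bil Q v w ≠ 0 ∨ bil Q (u : V) w ≠ 0
  let f : V → ℂ := fun w => if w ∈ S then A0 else if moved w then M else A0 - δ
  have hS : ∀ w ∈ S, ¬ moved w := by
    intro w hw
    obtain ⟨s, t, rfl⟩ := Submodule.mem_span_pair.1 hw
    simp [moved, bil_self_of_singular P.sing, bil_self_of_singular hu, u1, bil_comm (u : V) v]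
  -- the value on a conjugate
  have hval : ∀ g : siegelGroup Q, LinearMap.trace ℂ X (ρ (g * x * g⁻¹) * e) = f (g⁻¹ • v) := by
    intro g
    rw [hx, sg_conj]
    set a := g • v with ha
    set b := g • (u : V) with hb
    have qa : Q a = 0 := by rw [ha, quad_smul', P.sing]
    have qb : Q b = 0 := by rw [hb, quad_smul', hu]
    have hab : bil Q a b = 0 := by rw [ha, hb, bil_smul', u1]
    have hba : bil Q b a = 0 := (bil_comm _ _).trans hab
    have hi : LinearIndependent F ![a, b] := by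
      rw [LinearIndependent.pair_iff] at hind ⊢
      intro s t hst
      rw [ha, hb, ← smul_comm g, ← smul_comm g, ← smul_add, smul_eq_zero_iff_eq] at hst
      exact hind s t hst
    have hbv : ∀ z : V, bil Q z (g⁻¹ • v) = bil Q (g • z) v := fun z => by
      rw [← bil_smul' g, smul_inv_smul]
    by_cases hs : g⁻¹ • v ∈ S
    · -- in the radical
      simp only [f, if_pos hs]
      obtain ⟨s, t, hst⟩ := Submodule.mem_span_pair.1 hs
      have hv' : v = s • a + t • b := by
        rw [ha, hb, ← smul_comm g, ← smul_comm g, ← smul_add, hst, smul_inv_smul]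
      have hrad : ∃ z, bil Q v z = 0 ∧ sg Q a b = sg Q v z := by
        rcases eq_or_ne s 0 with rfl | hs0
        · have ht : t ≠ 0 := fun h0 => P.ne_zero (by rw [hv', h0]; simp)
          refine ⟨t⁻¹ • -a, by rw [hv']; simp [hba], ?_⟩
          rw [sg_swap qa qb hab, ← sg_change qb (by rw [QuadraticMap.map_neg, qa]) (by simp [hba]) ht 0]
          congr 1
          rw [hv']; simp
        · exact ⟨s⁻¹ • b, by rw [hv']; simp [hab, bil_self_of_singular qb],
            by rw [← sg_change qa qb hab hs0 t, ← hv']⟩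
      obtain ⟨z, hz, ez⟩ := hrad
      rw [ez, he, radical_mul_fixProj P hz]
      exact trace_fixProj P ψ
    · simp only [f, if_neg hs]
      by_cases hm : moved (g⁻¹ • v)
      · rw [if_pos hm]
        refine trace_opposite hN h5 P hk Pu.ne_zero hu qa qb hab hi ?_
        simp only [moved, hbv] at hm
        rwa [bil_comm a v, bil_comm b v] at hm
      · rw [if_neg hm]
        simp only [moved, hbv, not_or, not_not] at hm
        obtain ⟨t, ht1, ht2⟩ := exists_bil_sep hN (S := Submodule.span F {a, b}) (x := v) (fun hv => hs (by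
          obtain ⟨s, t, hst⟩ := Submodule.mem_span_pair.1 hv
          refine Submodule.mem_span_pair.2 ⟨s, t, ?_⟩
          rw [eq_inv_smul_iff, smul_add, smul_comm g, smul_comm g]
          exact hst))
        have hat : bil Q a (t - Q t • v) = 0 := by
          simp [ht2 a (Submodule.subset_span (by simp)), show bil Q a v = 0 from hm.1]
        have hbt : bil Q b (t - Q t • v) = 0 := by
          simp [ht2 b (Submodule.subset_span (by simp)), show bil Q b v = 0 from hm.2]
        have P' : HP Q v (t - Q t • v) := by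
          refine ⟨P.sing, ?_, by simp [ht1, bil_self_of_singular P.sing]⟩
          rw [quad_sub, quad_smul_vec, P.sing, map_smul, bil_comm t, ht1, smul_eq_mul]
          ring
        obtain ⟨k, hk', kv, kt⟩ := siegel_trans_pair hN h5 P.sing P'.sing₁ P.sing P.sing₁ P'.one P.one
        set k' : siegelGroup Q := ⟨k, hk'⟩
        have kv' : k' • v = v := kv
        have kt' : k' • (t - Q t • v) = v₁ := kt
        have hmem : ∀ c : V, bil Q c v = 0 → bil Q c (t - Q t • v) = 0 → k' • c ∈ Wsub Q v v₁ := by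
          intro c h1 h2
          refine mem_Wsub.2 ⟨?_, ?_⟩
          · conv_lhs => rw [← kv']
            rw [bil_smul', bil_comm, h1]
          · conv_lhs => rw [← kt']
            rw [bil_smul', bil_comm, h2]
        rw [← trace_conj_fixProj (ρ := ρ) P kv', sg_conj]
        refine hlevi ⟨_, hmem a hm.1 hat⟩ ⟨_, hmem b hm.2 hbt⟩ ((quad_smul' k' a).trans qa)
          ((quad_smul' k' b).trans qb) ((bil_smul' k' a b).trans hab) ?_
        rw [LinearIndependent.pair_iff] at hi ⊢
        intro s t' hst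
        refine hi s t' ((smul_eq_zero_iff_eq k').1 ?_)
        have h := congrArg Subtype.val hst
        simp only [Submodule.coe_add, Submodule.coe_smul, ZeroMemClass.coe_zero] at h
        rw [smul_add, smul_comm k' s a, smul_comm k' t' b]
        exact h
  -- Schur's lemma
  obtain ⟨c, hc⟩ := CharInt.exists_eq_smul_one_of_commute ρ (∑ g : siegelGroup Q, ρ (g * x * g⁻¹)) fun h => by
    rw [Finset.sum_mul, Finset.mul_sum]
    refine Fintype.sum_equiv (Equiv.mulLeft h⁻¹) _ _ fun g => ?_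
    rw [← map_mul, ← map_mul, Equiv.coe_mulLeft]
    congr 1
    group
  have hc1 : (Nat.card (siegelGroup Q) : ℂ) * LinearMap.trace ℂ X (ρ x) = c * (finrank ℂ X : ℂ) := by
    have h := congrArg (LinearMap.trace ℂ X) hc
    rw [map_sum, map_smul, LinearMap.trace_one, smul_eq_mul, Finset.sum_congr rfl fun g _ => by
      rw [map_mul ρ, map_mul ρ, LinearMap.trace_mul_comm, ← mul_assoc, ← map_mul ρ, inv_mul_cancel, map_one,
        one_mul]] at h
    rw [Finset.sum_const, Finset.card_univ, nsmul_eq_mul, ← Nat.card_eq_fintype_card] at h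
    exact h
  have hc2 : ∑ g : siegelGroup Q, f (g⁻¹ • v) = c * A0 := by
    rw [← Finset.sum_congr rfl fun g _ => hval g, ← map_sum, ← Finset.sum_mul, hc, smul_mul_assoc, one_mul,
      map_smul, smul_eq_mul, he, trace_fixProj P ψ]
  -- fibres
  let π : siegelGroup Q → {w : V // w ≠ 0 ∧ Q w = 0} := fun g =>
    ⟨g⁻¹ • v, fun h => P.ne_zero ((smul_eq_zero_iff_eq g⁻¹).1 h), by rw [quad_smul', P.sing]⟩
  set N := Nat.card {g : siegelGroup Q // g⁻¹ • v = v}
  have hfib : ∀ w, Nat.card {g : siegelGroup Q // π g = w} = N := by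
    rintro ⟨w, hw0, hw⟩
    obtain ⟨k, hk', ek⟩ := siegel_trans hN h5 P.ne_zero hw0 P.sing hw
    set k' : siegelGroup Q := ⟨k, hk'⟩
    have ek' : k' • v = w := ek
    refine Nat.card_congr ((Equiv.mulRight k').subtypeEquiv fun g => ?_)
    rw [Equiv.coe_mulRight, Subtype.ext_iff]
    show g⁻¹ • v = w ↔ (g * k')⁻¹ • v = v
    rw [mul_inv_rev, mul_smul, ← ek']
    exact (inv_smul_eq_iff (g := k')).symm
  have hG : Nat.card (siegelGroup Q) = nsing Q * N := by
    rw [← Nat.card_congr (Equiv.sigmaFiberEquiv π), Nat.card_sigma, Finset.sum_congr rfl fun w _ => hfib w,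
      Finset.sum_const, smul_eq_mul, Finset.card_univ, ← Nat.card_eq_fintype_card]
    rfl
  have hsum : ∑ g : siegelGroup Q, f (g⁻¹ • v) = (N : ℂ) * ∑ w : {w : V // w ≠ 0 ∧ Q w = 0}, f w.1 := by
    rw [← Finset.sum_fiberwise Finset.univ π, Finset.mul_sum]
    refine Finset.sum_congr rfl fun w _ => ?_
    rw [Finset.sum_congr rfl (g := fun _ => f w.1) fun g hg => by
      rw [Finset.mem_filter] at hg
      rw [← hg.2], Finset.sum_const, ← Fintype.card_subtype, ← Nat.card_eq_fintype_card, hfib, nsmul_eq_mul]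
  -- the three counts
  set nC := (q - 1) * (Nat.card (Wsub Q v v₁) + q * Nat.card (Wsub (QW Q v v₁) u u₁)) with hnC
  have hcM : Nat.card {w : {w : V // w ≠ 0 ∧ Q w = 0} // moved w.1} = nC := by
    rw [hnC, hq, ← card_moved hN P Pu (0 : F)]
    refine Nat.card_congr ((Equiv.subtypeSubtypeEquivSubtypeInter (fun w : V => w ≠ 0 ∧ Q w = 0) moved).trans
      (Equiv.subtypeEquivRight fun w => ⟨fun h => ⟨h.1.2, h.2⟩, fun h => ⟨⟨fun h0 => ?_, h.1⟩, h.2⟩⟩))
    rcases h.2 with h2 | h2 <;> simp [h0] at h2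
  have hcS : (Nat.card {w : {w : V // w ≠ 0 ∧ Q w = 0} // w.1 ∈ S} : ℂ) = (q : ℂ) ^ 2 - 1 := by
    have hone : Nat.card {p : F × F // p ≠ 0} + 1 = q ^ 2 := by
      rw [Nat.card_eq_fintype_card, Fintype.card_subtype_compl, Fintype.card_subtype_eq, Fintype.card_prod,
        ← hq, sq, Nat.sub_add_cancel (Nat.one_le_iff_ne_zero.2 (by positivity))]
    have hmem : ∀ p : F × F, p ≠ 0 → p.1 • v + p.2 • (u : V) ≠ 0 := fun p hp h => hp
      (Prod.ext ((LinearIndependent.pair_iff.1 hind) _ _ h).1 ((LinearIndependent.pair_iff.1 hind) _ _ h).2)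
    let ι : {p : F × F // p ≠ 0} → {w : {w : V // w ≠ 0 ∧ Q w = 0} // w.1 ∈ S} := fun p =>
      ⟨⟨p.1.1 • v + p.1.2 • (u : V), hmem _ p.2, by simp [quad_add, quad_smul_vec, P.sing, hu, u1]⟩,
        Submodule.mem_span_pair.2 ⟨_, _, rfl⟩⟩
    rw [← Nat.card_eq_of_bijective ι ⟨fun p p' h => ?_, fun w => ?_⟩, eq_sub_iff_add_eq]
    · exact_mod_cast hone
    · have h' := congrArg (fun w : {w : {w : V // w ≠ 0 ∧ Q w = 0} // w.1 ∈ S} => w.1.1) h
      simp only [ι] at h'
      obtain ⟨e1, e2⟩ := (LinearIndependent.pair_iff.1 hind) (p.1.1 - p'.1.1) (p.1.2 - p'.1.2)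
        (by linear_combination (norm := module) h')
      exact Subtype.ext (Prod.ext (sub_eq_zero.1 e1) (sub_eq_zero.1 e2))
    · obtain ⟨s, t, hst⟩ := Submodule.mem_span_pair.1 w.2
      refine ⟨⟨(s, t), fun h => w.1.2.1 ?_⟩, Subtype.ext (Subtype.ext hst)⟩
      rw [Prod.mk_eq_zero] at h
      rw [← hst, h.1, h.2]; simp
  have hfsum : ∑ w : {w : V // w ≠ 0 ∧ Q w = 0}, f w.1 =
      ((q : ℂ) ^ 2 - 1) * A0 + ((nsing Q : ℂ) - ((q : ℂ) ^ 2 - 1) - (nC : ℂ)) * (A0 - δ) + (nC : ℂ) * M := by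
    have hpt : ∀ w : {w : V // w ≠ 0 ∧ Q w = 0}, f w.1 =
        (A0 - δ) + (if w.1 ∈ S then δ else 0) + (if moved w.1 then M - (A0 - δ) else 0) := by
      intro w
      by_cases hs : w.1 ∈ S
      · simp only [f, if_pos hs, if_neg (hS _ hs)]; ring
      · by_cases hm : moved w.1
        · simp only [f, if_neg hs, if_pos hm]; ring
        · simp only [f, if_neg hs, if_neg hm]; ring
    rw [Finset.sum_congr rfl fun w _ => hpt w, Finset.sum_add_distrib, Finset.sum_add_distrib,
      ← Finset.sum_filter, ← Finset.sum_filter, Finset.sum_const, Finset.sum_const, Finset.sum_const,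
      ← Fintype.card_subtype, ← Fintype.card_subtype, Finset.card_univ, ← Nat.card_eq_fintype_card,
      ← Nat.card_eq_fintype_card, ← Nat.card_eq_fintype_card, nsmul_eq_mul, nsmul_eq_mul, nsmul_eq_mul,
      hcS, hcM, show Nat.card {w : V // w ≠ 0 ∧ Q w = 0} = nsing Q from rfl]
    ring
  rw [hsum, hfsum] at hc2
  rw [hG, Nat.cast_mul] at hc1
  have hN0 : (N : ℂ) ≠ 0 := by
    have : Nonempty {g : siegelGroup Q // g⁻¹ • v = v} := ⟨⟨1, by simp⟩⟩
    exact Nat.cast_ne_zero.2 Nat.card_pos.ne'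
  refine mul_left_cancel₀ hN0 ?_
  linear_combination A0 * hc1 - (finrank ℂ X : ℂ) * hc2

end Identity

end Cfsg.Agent.MinDegree.Orth
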