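import Cfsg.Agent.Lib.MinDegree.OrthOddArith
import Cfsg.Agent.Lib.MinDegree.OrthOddCount
import Cfsg.Agent.Lib.MinDegree.OrthProjTrace

/-!
The minimal degree of a non-trivial irreducible representation of an odd-dimensional orthogonal group.
-/

set_option autoImplicit false
set_option linter.unusedSectionVars false

open Module

namespace Cfsg.Agent.MinDegree.Orth

open Cfsg.Agent.ClassicalSimple
open Cfsg.Agent.MinDeg.Orth

universe u w

variable {F : Type*} [Field F] [Fintype F]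

section

variable {V : Type u} [AddCommGroup V] [Module F V] [Finite V] [FiniteDimensional F V] {Q : QuadraticForm F V}

noncomputable local instance fintypeWo (v v₁ : V) : Fintype (Wsub Q v v₁) := Fintype.ofFinite _

omit [Finite V] in
/-- The fixed vectors of a line of long root elements bound the degree from below. -/
theorem line_bound {Y : Type*} [AddCommGroup Y] [Module ℂ Y] [FiniteDimensional ℂ Y]
    (τ : Representation ℂ (siegelGroup Q) Y) {a b : V} (ha : Q a = 0) (hab : bil Q a b = 0) {δ : ℕ}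
    (h : ∀ t : F, t ≠ 0 → (finrank ℂ Y : ℂ) - LinearMap.trace ℂ Y (τ (sg Q a (t • b))) = (δ : ℂ)) :
    ((Fintype.card F : ℤ) - 1) * δ ≤ (Fintype.card F : ℤ) * finrank ℂ Y := by
  classical
  let op : F → Y →ₗ[ℂ] Y := fun t => τ (sg Q a (t • b))
  have hop : IsOp op := ⟨by simp [op, sg_zero], fun s t => by
    simp only [op]
    rw [← map_mul, sg_mul ha (by simp [hab]) (by simp [hab]), add_smul]⟩
  have h1 := trace_of_scalar hop (1 : Y →ₗ[ℂ] Y) 1 1 fun x _ => by simp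
  rw [one_mul] at h1
  set f := finrank ℂ (eigen op 1)
  have h2 : LinearMap.trace ℂ Y (eigenProj op 1) = (f : ℂ) := h1
  rw [eigenProj, map_smul, Cfsg.Agent.MinDegree.proj, map_sum, smul_eq_mul] at h2
  simp only [AddChar.one_apply, one_smul] at h2
  rw [← Finset.add_sum_erase _ _ (Finset.mem_univ (0 : F)), hop.zero, LinearMap.trace_one,
    Finset.sum_congr rfl (g := fun _ => (finrank ℂ Y : ℂ) - (δ : ℂ)) fun t ht => by
      rw [← h t (Finset.mem_erase.1 ht).1, sub_sub_cancel],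
    Finset.sum_const, Finset.card_erase_of_mem (Finset.mem_univ _), Finset.card_univ, nsmul_eq_mul,
    inv_mul_eq_iff_eq_mul₀ (Nat.cast_ne_zero.2 Fintype.card_ne_zero)] at h2
  have h3 : (Fintype.card F : ℂ) * finrank ℂ Y =
      ((Fintype.card F : ℂ) - 1) * δ + Fintype.card F * f := by
    rw [Nat.cast_sub Fintype.card_pos, Nat.cast_one] at h2
    linear_combination h2
  have h4 : (Fintype.card F : ℤ) * finrank ℂ Y =
      ((Fintype.card F : ℤ) - 1) * δ + Fintype.card F * f := by exact_mod_cast h3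
  rw [h4]
  exact le_add_of_nonneg_right (by positivity)

set_option maxHeartbeats 1600000 in
/-- The step of the induction. -/
theorem odd_step (hq : 4 ≤ Fintype.card F) {ψ : AddChar F ℂ} (hψ : ψ.IsPrimitive)
    {j : ℕ} (hT : OddTyp Q (j + 3)) {X : Type w} [AddCommGroup X] [Module ℂ X] [FiniteDimensional ℂ X]
    (ρ : Representation ℂ (siegelGroup Q) X) [ρ.IsIrreducible] (h2 : 2 ≤ finrank ℂ X)
    (IH : ∀ i, j = i + 1 → ∀ {v v₁ : V}, HP Q v v₁ → ∀ {U : Type w} [AddCommGroup U] [Module ℂ U]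
      [FiniteDimensional ℂ U] (σ : Representation ℂ (siegelGroup (QW Q v v₁)) U) [σ.IsIrreducible],
      2 ≤ finrank ℂ U →
        (Fintype.card F : ℤ) ^ (2 * i + 6) - 1 ≤ ((Fintype.card F : ℤ) ^ 2 - 1) * finrank ℂ U) :
    (Fintype.card F : ℤ) ^ (2 * j + 6) - 1 ≤ ((Fintype.card F : ℤ) ^ 2 - 1) * finrank ℂ X := by
  classical
  have := finite_siegel Q
  have hN := hT.nondeg
  have hV : finrank F V = 2 * j + 7 := by rw [hT.dim]; ring
  have h5 : 5 ≤ finrank F V := by omega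
  set q := Fintype.card F with hqdef
  have hqz : (4 : ℤ) ≤ q := by exact_mod_cast hq
  have hq1 : 1 ≤ q := by omega
  obtain ⟨v, hv0, hv⟩ := hT.exists_singular (by omega)
  obtain ⟨v₁, P⟩ := exists_HP hN hv hv0
  have hW := OddTyp.descend (m := j + 2) hT P
  have hk : finrank F (Wsub Q v v₁) = 2 * j + 5 := by rw [hW.dim]; ring
  have hk5 : 5 ≤ finrank F (Wsub Q v v₁) := by omega
  obtain ⟨u, hu0, hu⟩ := hW.exists_singular (by omega)
  obtain ⟨u₁, Pu⟩ := exists_HP hW.nondeg hu hu0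
  have hWu := OddTyp.descend (m := j + 1) hW Pu
  have hconst := mult_eq_of_value (ρ := ρ) (ψ := ψ) hN P hk5
  set mc := mval ρ ψ v v₁ with hmcdef
  have hmc : ∀ φ : Wsub Q v v₁, φ ≠ 0 → mult ρ ψ φ = mc (Q (φ : V)) := fun φ hφ => mult_eq_mval hconst φ hφ
  have hfix : ∀ y : X, (∀ g, ρ g y = y) → y = 0 := by
    intro y hy
    by_contra hy0
    have hirr := irred_of_isIrreducible (ρ := ρ) inferInstance
    rcases hirr (Submodule.span ℂ {y}) (fun g z hz => by
      obtain ⟨c, rfl⟩ := Submodule.mem_span_singleton.1 hz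
      rw [map_smul, hy]; exact hz) with h | h
    · exact hy0 (by simpa using h)
    · have := finrank_span_singleton (K := ℂ) hy0
      rw [h, finrank_top] at this
      omega
  have hdeg := finrank_eq_sum (ρ := ρ) hN hψ P mc hmc
  set N : F → ℕ := fun c => Nat.card {φ : Wsub Q v v₁ // φ ≠ 0 ∧ Q (φ : V) = c}
  have hN0 : (N 0 : ℤ) = (q : ℤ) ^ (2 * j + 4) - 1 := by
    show (nsing (QW Q v v₁) : ℤ) = _
    have h := hW.zeros
    rw [← nsing_add_one] at h
    push_cast at h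
    rw [show 2 * (j + 2) = 2 * j + 4 by ring] at h
    linarith
  have hNV : (nsing Q : ℤ) = (q : ℤ) ^ (2 * j + 6) - 1 := by
    have h := hT.zeros
    rw [← nsing_add_one] at h
    push_cast at h
    rw [show 2 * (j + 3) = 2 * j + 6 by ring] at h
    linarith
  have hq21 : (0 : ℤ) < (q : ℤ) ^ 2 - 1 := by nlinarith
  rcases Nat.lt_trichotomy (∑ c, mc c) 1 with hM | hM | hM
  · exfalso
    have hm0 : ∀ φ : Wsub Q v v₁, φ ≠ 0 → mult ρ ψ φ = 0 := fun φ hφ => by
      rw [hmc φ hφ]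
      exact (Finset.sum_eq_zero_iff.1 (by omega : ∑ c, mc c = 0)) _ (Finset.mem_univ _)
    have htriv := trivial_of_mult_zero hN h5 hψ P hm0
    have : Nontrivial X := Module.nontrivial_of_finrank_pos (R := ℂ) (by omega)
    obtain ⟨y, hy⟩ := exists_ne (0 : X)
    exact hy (hfix y fun g => htriv g y)
  swap
  · -- two or more
    set R := (q : ℤ) ^ (j + 2) with hR
    have hR2 : (q : ℤ) ^ 2 ≤ R := pow_le_pow_right₀ (by linarith) (by omega)
    have hR4 : (q : ℤ) ^ (2 * j + 4) = R ^ 2 := by rw [hR, ← pow_mul]; ring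
    have hLe : ∀ c, R ^ 2 - R ≤ (N c : ℤ) := by
      intro c
      rcases eq_or_ne c 0 with rfl | hc
      · rw [hN0, hR4]; nlinarith
      · have e : N c = cnt (QW Q v v₁) c := Nat.card_congr (Equiv.subtypeEquivRight fun φ =>
          ⟨fun h => h.2, fun h => ⟨fun h0 => hc (by rw [← h, h0, QuadraticMap.map_zero]), h⟩⟩)
        have h := hW.fibre c hc
        rw [← e, show 2 * (j + 2) = 2 * j + 4 by ring, hR4] at h
        exact h
    have hL0 : 0 ≤ R ^ 2 - R := by nlinarith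
    have h1 : 2 * (R ^ 2 - R) ≤ (finrank ℂ X : ℤ) := by
      rw [hdeg]
      push_cast
      calc 2 * (R ^ 2 - R) ≤ ((∑ c, mc c : ℕ) : ℤ) * (R ^ 2 - R) :=
            mul_le_mul_of_nonneg_right (by exact_mod_cast hM) hL0
        _ = ∑ c, (mc c : ℤ) * (R ^ 2 - R) := by rw [Nat.cast_sum, Finset.sum_mul]
        _ ≤ ∑ c, (mc c : ℤ) * (N c : ℤ) :=
          Finset.sum_le_sum fun c _ => mul_le_mul_of_nonneg_left (hLe c) (by positivity)
        _ ≤ _ := le_add_of_nonneg_left (by positivity)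
    refine le_trans ?_ (mul_le_mul_of_nonneg_left h1 hq21.le)
    rw [show 2 * j + 6 = 2 * j + 4 + 2 by ring, pow_add, hR4]
    have hR16 : (16 : ℤ) ≤ R := le_trans (by nlinarith) hR2
    have h3 : 8 * (R ^ 2 - R) ≥ 7 * R ^ 2 := by nlinarith
    nlinarith [mul_le_mul_of_nonneg_left h3 hq21.le,
      mul_nonneg (sq_nonneg R) (show (0 : ℤ) ≤ (q : ℤ) ^ 2 - 16 by nlinarith)]
  -- exactly one value, and it is zero
  have hzero : ∀ c, c ≠ 0 → mc c = 0 := by
    intro c hc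
    by_contra h
    obtain ⟨l, hl0, hl⟩ := exists_unit_sq_ne (F := F) hq
    have hne' : c * l ^ 2 ≠ c := fun e => hl (by
      rw [← pow_two]; exact mul_left_cancel₀ hc (by rw [e, mul_one]))
    have h2' := mval_sq hN h5 P Pu hconst c hl0
    rw [← hmcdef] at h2'
    have h3 := Finset.add_le_sum (fun _ _ => Nat.zero_le _) (Finset.mem_univ (c * l ^ 2)) (Finset.mem_univ c)
      hne' (f := mc)
    omega
  have hc0 : mc 0 = 1 := by rw [← hM, Finset.sum_eq_single (0 : F) (fun c _ hc => hzero c hc) (by simp)]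
  set A := mult ρ ψ (0 : Wsub Q v v₁) with hA
  have hDeq : (finrank ℂ X : ℤ) = A + (q : ℤ) ^ (2 * j + 4) - 1 := by
    rw [hdeg, Finset.sum_eq_single (0 : F) (fun c _ hc => by rw [hzero c hc, zero_mul]) (by simp), hc0, one_mul]
    push_cast
    rw [show (N 0 : ℤ) = _ from hN0]
    ring
  -- deficits
  have hdef : ∀ a b : V, Q a = 0 → Q b = 0 → bil Q a b = 0 → LinearIndependent F ![a, b] →
      (finrank ℂ X : ℂ) - LinearMap.trace ℂ X (ρ (sg Q a b)) = ((q ^ (2 * j + 4) : ℕ) : ℂ) := by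
    intro a b ha hb hab hi
    obtain ⟨w, w₁, Pw, htr⟩ := trace_eq_radical (ρ := ρ) (X := X) hN h5 P ha hb hab hi
    rw [htr, deficit_singular (ρ := ρ) hN hψ P mc hmc Pw, hM, mul_one, card_Wsub Pw, hk, ← pow_succ',
      show 2 * j + 5 - 2 + 1 = 2 * j + 4 by omega]
  have hlev : ∀ x z : Wsub Q v v₁, Q (x : V) = 0 → Q (z : V) = 0 → bil Q (x : V) (z : V) = 0 →
      LinearIndependent F ![x, z] → ∃ hmap : ∀ y ∈ wsp ρ ψ (0 : Wsub Q v v₁),
        ρ (sg Q (x : V) (z : V)) y ∈ wsp ρ ψ (0 : Wsub Q v v₁),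
      (A : ℂ) - LinearMap.trace ℂ _ ((ρ (sg Q (x : V) (z : V))).restrict hmap) =
        ((q ^ (2 * j + 2) : ℕ) : ℂ) := by
    intro x z hx hz hxz hi
    obtain ⟨x₁, Px, hzx⟩ := exists_HP_perp hW.nondeg (show QW Q v v₁ x = 0 from hx)
      (show bil (QW Q v v₁) x z = 0 from hxz) hi
    let b : Wsub (QW Q v v₁) x x₁ := ⟨z, mem_Wsub.2 ⟨hxz, (bil_comm x₁ z).trans hzx⟩⟩
    obtain ⟨b₁, Pb⟩ := exists_HP (Px.nondegenerate_QW hW.nondeg) (v := b) hz
      (fun e => hi.ne_zero 1 (congrArg Subtype.val e))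
    have htw : ∀ φ : Wsub Q v v₁, φ ≠ 0 → mult ρ ψ φ ≠ 0 → bil Q (x : V) (φ : V) = 0 →
        bil Q (z : V) (φ : V) = 0 → ∀ y ∈ wsp ρ ψ φ, ρ (sg Q (x : V) (z : V)) y = y := by
      intro φ hφ hne h1 h2
      have hc : Q (φ : V) = 0 := by
        by_contra hc
        rw [hmc φ hφ, hzero _ hc] at hne
        exact hne rfl
      exact twist_torus hN h5 hq P (by rw [hmc φ hφ, hc, hc0]) hx hz hxz hi h1 h2
    obtain ⟨hmap, heq⟩ := fix_deficit (ρ := ρ) hN hψ P mc hmc Px Pb htw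
      (by rw [hdef _ _ hx hz hxz (indep_coe hi), hM, mul_one, hk, show 2 * j + 5 - 1 = 2 * j + 4 by omega])
    refine ⟨hmap, heq.trans ?_⟩
    rw [hM, mul_one, hk, show 2 * j + 5 - 3 = 2 * j + 2 by omega]
  set τ := fixW P ρ ψ
  have hDτ : ∀ x z : Wsub Q v v₁, QW Q v v₁ x = 0 → QW Q v v₁ z = 0 → bil (QW Q v v₁) x z = 0 →
      LinearIndependent F ![x, z] →
      (finrank ℂ (wsp ρ ψ (0 : Wsub Q v v₁)) : ℂ) - LinearMap.trace ℂ _ (τ (sg (QW Q v v₁) x z)) =
        ((q ^ (2 * j + 2) : ℕ) : ℂ) := by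
    intro x z hx hz hxz hi
    obtain ⟨hmap, heq⟩ := hlev x z hx hz hxz hi
    rw [trace_fixW_sg P ρ ψ (a := x) (b := z) hx hxz hmap]
    exact heq
  have hlevi : ∀ x z : Wsub Q v v₁, Q (x : V) = 0 → Q (z : V) = 0 → bil Q (x : V) (z : V) = 0 →
      LinearIndependent F ![x, z] → LinearMap.trace ℂ X (ρ (sg Q (x : V) (z : V)) * fixProj ρ v v₁) =
        (A : ℂ) - ((q ^ (2 * j + 2) : ℕ) : ℂ) := by
    intro x z hx hz hxz hi
    obtain ⟨hmap, heq⟩ := hlev x z hx hz hxz hi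
    rw [fixProj, ← wch_zero (Q := Q) (v := v) (v₁ := v₁) ψ]
    refine (trace_restrict_eigen (isOp_rop (ρ := ρ) P) (ρ (sg Q (x : V) (z : V))) _ hmap).trans ?_
    rw [← heq]
    exact (sub_sub_cancel _ _).symm
  obtain ⟨S, hS⟩ := exists_geom_sq (q : ℤ) (j + 1)
  rw [show 2 * (j + 1) = 2 * j + 2 by ring] at hS
  set Pw := (q : ℤ) ^ (2 * j + 2) with hPw
  have hP4 : (q : ℤ) ^ (2 * j + 4) = (q : ℤ) ^ 2 * Pw := by
    rw [hPw, ← pow_add]; ring
  have hP6 : (q : ℤ) ^ (2 * j + 6) = (q : ℤ) ^ 4 * Pw := by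
    rw [hPw, ← pow_add]; ring
  rw [hP4] at hDeq
  by_cases hge : (A : ℤ) ≥ 2 + (q : ℤ) ^ 2 * S
  · rw [hP6, hDeq]
    have := mul_le_mul_of_nonneg_left hge hq21.le
    nlinarith
  exfalso
  push Not at hge
  set k := 2 + (q : ℤ) ^ 2 * S - A with hkdef
  have hk1 : 1 ≤ k := by omega
  -- the divisibility
  have hdvd : (finrank ℂ X : ℤ) ∣ (q : ℤ) * k * A := by
    refine CharInt.dvd_of_isIntegral_div (by omega) ?_
    set M := LinearMap.trace ℂ X (ρ (sg Q v₁ (u : V)) * fixProj ρ v v₁)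
    have hid := proj_identity hN h5 ψ P hk5 Pu hlevi
    have hCard : (((q - 1) * (Nat.card (Wsub Q v v₁) + q * Nat.card (Wsub (QW Q v v₁) u u₁)) : ℕ) : ℂ) =
        ((q : ℂ) ^ 2 - 1) * ((q : ℂ) ^ 2 * (q : ℂ) ^ (2 * j + 2)) := by
      rw [card_Wsub P, card_Wsub Pu, hV, hk, ← hqdef, show 2 * j + 7 - 2 = 2 * j + 2 + 3 by omega,
        show 2 * j + 5 - 2 = 2 * j + 2 + 1 by omega]
      push_cast [Nat.cast_sub hq1]
      ring
    have hNVc : (nsing Q : ℂ) = (q : ℂ) ^ 4 * (q : ℂ) ^ (2 * j + 2) - 1 := by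
      have h := congrArg (Int.cast : ℤ → ℂ) hNV
      push_cast at h
      rw [h, ← pow_add, show 4 + (2 * j + 2) = 2 * j + 6 by ring]
    have hDc : (finrank ℂ X : ℂ) = (A : ℂ) + (q : ℂ) ^ 2 * (q : ℂ) ^ (2 * j + 2) - 1 := by
      have h := congrArg (Int.cast : ℤ → ℂ) hDeq
      rw [hPw] at h
      push_cast at h
      exact h
    have htr : LinearMap.trace ℂ X (ρ (sg Q v (u : V))) =
        (finrank ℂ X : ℂ) - (q : ℂ) ^ 2 * (q : ℂ) ^ (2 * j + 2) := by
      have h := hdef v (u : V) P.sing Pu.sing (mem_Wsub.1 u.2).1 (pair_indep P hu0)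
      push_cast at h
      rw [← pow_add, show 2 + (2 * j + 2) = 2 * j + 4 by ring]
      linear_combination -h
    rw [hCard, hNVc, htr, ← hA] at hid
    push_cast at hid
    have hq0 : (q : ℂ) ≠ 0 := Nat.cast_ne_zero.2 (by omega)
    have hd0 : (q : ℂ) ^ 2 - 1 ≠ 0 := by
      intro h
      have : ((q : ℤ) ^ 2 - 1 : ℤ) = 0 := by exact_mod_cast h
      omega
    have hSc : ((q : ℂ) ^ 2 - 1) * (S : ℂ) = (q : ℂ) ^ (2 * j + 2) - 1 := by
      rw [hPw] at hS
      exact_mod_cast hS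
    have hrel := proj_relation hq0 (pow_ne_zero _ hq0) hd0 hSc hDc (k := (k : ℂ))
      (by rw [hkdef]; push_cast; ring) hid
    have hint := (CharInt.isIntegral_intCast ((q : ℤ) * S)).sub
      (isIntegral_opposite (ρ := ρ) P Pu)
    have hD0 : (finrank ℂ X : ℂ) ≠ 0 := Nat.cast_ne_zero.2 (by omega)
    push_cast at hint ⊢
    rw [← hqdef] at hint
    rwa [hrel, mul_div_cancel_left₀ _ hD0]
  -- the lower bounds
  have hnt : τ ≠ 1 := by
    intro h1
    obtain ⟨u', hu'0, hu'⟩ := hWu.exists_singular (by omega)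
    obtain ⟨u'₁, Pu'⟩ := exists_HP hWu.nondeg hu' hu'0
    have h := hDτ u (u' : Wsub Q v v₁) Pu.sing Pu'.sing (mem_Wsub.1 u'.2).1 (pair_indep Pu Pu'.ne_zero)
    rw [h1, MonoidHom.one_apply, LinearMap.trace_one, sub_self] at h
    exact Nat.cast_ne_zero.2 (pow_ne_zero _ Fintype.card_ne_zero) h.symm
  rcases Nat.eq_zero_or_pos j with rfl | hjpos
  · obtain ⟨u', hu'0, hu'⟩ := hWu.exists_singular (by omega)
    obtain ⟨u'₁, Pu'⟩ := exists_HP hWu.nondeg hu' hu'0
    have hb : bil (QW Q v v₁) u (u' : Wsub Q v v₁) = 0 := (mem_Wsub.1 u'.2).1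
    have h := line_bound τ (a := u) (b := (u' : Wsub Q v v₁)) Pu.sing hb (δ := q ^ (2 * 0 + 2)) fun t ht =>
      hDτ u (t • (u' : Wsub Q v v₁)) Pu.sing
        (by rw [quad_smul_vec, show QW Q v v₁ (u' : Wsub Q v v₁) = 0 from Pu'.sing, mul_zero])
        (by rw [map_smul, hb, smul_zero])
        (by
          have hi := pair_indep Pu Pu'.ne_zero
          rw [LinearIndependent.pair_iff] at hi ⊢
          intro a b hab
          obtain ⟨e1, e2⟩ := hi a (b * t) (by rw [← hab]; module)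
          exact ⟨e1, (mul_eq_zero.1 e2).resolve_right ht⟩)
    change ((q : ℤ) - 1) * ((q ^ (2 * 0 + 2) : ℕ) : ℤ) ≤ (q : ℤ) * (A : ℤ) at h
    have hS1 : S = 1 := mul_left_cancel₀ hq21.ne' (by rw [hS, hPw]; ring)
    subst hS1
    refine not_dvd_seven hqz ?_ (by rw [hkdef, mul_one]; ring) hk1 ?_ hdvd
    · refine le_of_mul_le_mul_left (a := (q : ℤ)) ?_ (by linarith)
      push_cast at h
      nlinarith
    · rw [hDeq, hPw]; ring
  · obtain ⟨i, rfl⟩ : ∃ i, j = i + 1 := ⟨j - 1, by omega⟩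
    have := finite_siegel (QW Q v v₁)
    obtain ⟨g, hg⟩ : ∃ g, τ g ≠ 1 := by
      by_contra hc
      push Not at hc
      exact hnt (MonoidHom.ext hc)
    obtain ⟨U, hU, hirr, hU2⟩ := exists_constituent (siegelGroup_perfect hW.nondeg hk5) τ hg
    have hIH := @IH i rfl v v₁ P U _ _ _ (subRep τ U hU) hirr hU2
    have hUle : (finrank ℂ U : ℤ) ≤ (A : ℤ) := by rw [hA, mult]; exact_mod_cast Submodule.finrank_le U
    have hAlow : 1 + (q : ℤ) ^ 2 * S ≤ A := by
      refine le_of_mul_le_mul_left (le_trans ?_ (mul_le_mul_of_nonneg_left hUle hq21.le)) hq21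
      refine le_trans (le_of_eq ?_) hIH
      rw [show 2 * i + 6 = 2 * (i + 1) + 2 + 2 by ring, pow_add, ← hPw]
      linear_combination (q : ℤ) ^ 2 * hS
    have hk' : k = 1 := by omega
    rw [hk'] at hdvd
    exact not_dvd_one hqz (one_le_pow₀ (by linarith)) hS hDeq (by omega) hdvd

end

/-- The bound for all dimensions at least seven. -/
theorem orth_odd_min_degree (hq : 4 ≤ Fintype.card F) :
    ∀ (j : ℕ) {V : Type u} [AddCommGroup V] [Module F V] [Finite V] [FiniteDimensional F V]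
      (Q : QuadraticForm F V), OddTyp Q (j + 3) →
      ∀ {X : Type w} [AddCommGroup X] [Module ℂ X] [FiniteDimensional ℂ X]
        (ρ : Representation ℂ (siegelGroup Q) X) [ρ.IsIrreducible], 2 ≤ finrank ℂ X →
        (Fintype.card F : ℤ) ^ (2 * j + 6) - 1 ≤ ((Fintype.card F : ℤ) ^ 2 - 1) * finrank ℂ X := by
  intro j
  have hψ : (AddChar.FiniteField.primitiveChar_to_Complex F).IsPrimitive :=
    AddChar.FiniteField.primitiveChar_to_Complex_isPrimitive F
  induction j with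
  | zero =>
    intro V _ _ _ _ Q hT X _ _ _ ρ _ h2
    exact odd_step hq hψ hT ρ h2 fun i hi => by omega
  | succ j ih =>
    intro V _ _ _ _ Q hT X _ _ _ ρ _ h2
    refine odd_step hq hψ hT ρ h2 ?_
    intro i hi v v₁ P U _ _ _ σ _ hU2
    obtain rfl : j = i := by omega
    exact ih (QW Q v v₁) (OddTyp.descend (m := j + 3) hT P) σ hU2

/-- Transfer to the matrix group `Omega`. -/
theorem odd_omega_bound {ι : Type} [Fintype ι] [DecidableEq ι] {Q' : QuadraticForm F (ι → F)} {j : ℕ}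
    (hq : 4 ≤ Fintype.card F) (hT : OddTyp Q' (j + 3)) (k : ℕ)
    (ρ : Representation ℂ (Cfsg.Omega F ⇑Q') (Fin k → ℂ)) (hρ : ρ.IsIrreducible) (h2 : 2 ≤ k) :
    (Fintype.card F : ℤ) ^ (2 * j + 6) - 1 ≤ ((Fintype.card F : ℤ) ^ 2 - 1) * k := by
  have h5 : 5 ≤ finrank F (ι → F) := by rw [hT.dim]; omega
  let φ : Cfsg.Omega F ⇑Q' ≃* siegelGroup Q' :=
    ((isometryEquiv Q').subgroupMap _).trans
      (MulEquiv.subgroupCongr ((map_commutator_top (isometryEquiv Q')).trans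
        (commutator_eq_siegelGroup hT.nondeg h5)))
  let σ : Representation ℂ (siegelGroup Q') (Fin k → ℂ) := ρ.comp φ.symm.toMonoidHom
  have : σ.IsIrreducible := CharInt.irreducible_of_comp_surjective ρ φ.toMonoidHom φ.surjective σ
    (MonoidHom.ext fun g => by simp [σ])
  have h := orth_odd_min_degree hq j Q' hT σ (by rw [Module.finrank_fin_fun]; exact h2)
  rwa [Module.finrank_fin_fun] at h

/-- The statement for the standard form and the matrix group. -/
theorem odd_bound (n : ℕ) (hn : 3 ≤ n) (hodd : Odd (Fintype.card F)) (h3 : 3 < Fintype.card F) (k : ℕ)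
    (ρ : Representation ℂ (Cfsg.Omega F (Cfsg.quadFormOdd n F)) (Fin k → ℂ)) (hρ : ρ.IsIrreducible)
    (h2 : 2 ≤ k) :
    (Fintype.card F ^ (2 * n) - 1) / (Fintype.card F ^ 2 - 1) ≤ k := by
  obtain ⟨j, rfl⟩ : ∃ j, n = j + 3 := ⟨n - 3, by omega⟩
  have h2F : (2 : F) ≠ 0 := by
    refine Ring.two_ne_zero fun h => ?_
    have := (FiniteField.even_card_iff_char_two (F := F)).1 h
    exact (Nat.not_even_iff_odd.2 hodd) (Nat.even_iff.2 this)
  revert ρ
  rw [show Cfsg.quadFormOdd (j + 3) F = ⇑(Forms.quadOdd (j + 3) F) from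
    funext fun v => (Forms.quadOdd_apply v).symm]
  intro ρ hρ
  have h := odd_omega_bound (by omega) (oddTyp_quadOdd h2F (j + 3)) k ρ hρ h2
  refine Nat.div_le_of_le_mul ?_
  zify [Nat.one_le_pow (2 * (j + 3)) (Fintype.card F) (by omega), Nat.one_le_pow 2 (Fintype.card F) (by omega)]
  rw [show 2 * (j + 3) = 2 * j + 6 by ring]
  exact h

end Cfsg.Agent.MinDegree.Orth
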