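import Cfsg.Agent.Lib.MinDegree.OrthCount
import Cfsg.Agent.Lib.MinDegree.WeightTrace

/-!
The radical of the stabiliser of a singular point in an orthogonal group and its weights in a representation:
how the Levi factor permutes them, the character on singular elements of the radical, and generation by two
opposite radicals.
-/

set_option autoImplicit false
set_option linter.unusedSectionVars false

open Module

namespace Cfsg.Agent.MinDegree.Orth

open Cfsg.Agent.ClassicalSimple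
open Cfsg.Agent.MinDeg.Orth

variable {F V : Type*} [Field F] [AddCommGroup V] [Module F V] [Finite V] {Q : QuadraticForm F V}

noncomputable local instance fintypeWsub (v v₁ : V) : Fintype (Wsub Q v v₁) := Fintype.ofFinite _

variable {X : Type*} [AddCommGroup X] [Module ℂ X]

/-- The operators of the radical at the pair `(v, v₁)`. -/
noncomputable def rop (ρ : Representation ℂ (siegelGroup Q) X) (v v₁ : V) (x : Wsub Q v v₁) :
    X →ₗ[ℂ] X := ρ (sg Q v (x : V))

/-- The character `x ↦ ψ (φ, x)` of the complement of a pair. -/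
noncomputable def wch (ψ : AddChar F ℂ) {v v₁ : V} (φ : Wsub Q v v₁) : AddChar (Wsub Q v v₁) ℂ :=
  ψ.compAddMonoidHom ((bil Q (φ : V)).toAddMonoidHom.comp (Wsub Q v v₁).subtype.toAddMonoidHom)

theorem wch_apply (ψ : AddChar F ℂ) {v v₁ : V} (φ x : Wsub Q v v₁) :
    wch ψ φ x = ψ (bil Q (φ : V) (x : V)) := rfl

/-- The weight space of `φ`. -/
noncomputable def wsp (ρ : Representation ℂ (siegelGroup Q) X) (ψ : AddChar F ℂ) {v v₁ : V}
    (φ : Wsub Q v v₁) : Submodule ℂ X := eigen (rop ρ v v₁) (wch ψ φ)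

theorem mem_wsp {ρ : Representation ℂ (siegelGroup Q) X} {ψ : AddChar F ℂ} {v v₁ : V}
    {φ : Wsub Q v v₁} {y : X} :
    y ∈ wsp ρ ψ φ ↔ ∀ x : Wsub Q v v₁, ρ (sg Q v (x : V)) y = ψ (bil Q (φ : V) (x : V)) • y := mem_eigen

theorem mem_wsp_zero {ρ : Representation ℂ (siegelGroup Q) X} {ψ : AddChar F ℂ} {v v₁ : V} {y : X} :
    y ∈ wsp ρ ψ (0 : Wsub Q v v₁) ↔ ∀ x : Wsub Q v v₁, ρ (sg Q v (x : V)) y = y := by
  simp [mem_wsp]

/-- The multiplicity of `φ`. -/
noncomputable def mult (ρ : Representation ℂ (siegelGroup Q) X) (ψ : AddChar F ℂ) {v v₁ : V}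
    (φ : Wsub Q v v₁) : ℕ := finrank ℂ (wsp ρ ψ φ)

variable {ρ : Representation ℂ (siegelGroup Q) X} {v v₁ : V}

theorem isOp_rop (P : HP Q v v₁) : IsOp (rop ρ v v₁) :=
  ⟨by simp [rop, sg_zero], fun x y => by
    rw [rop, rop, rop, ← map_mul, sg_mul P.sing (mem_Wsub.1 x.2).1 (mem_Wsub.1 y.2).1]; rfl⟩

/-- A map scaling the pair carries weight spaces to weight spaces. -/
theorem map_mem_wsp {ψ : AddChar F ℂ} (P : HP Q v v₁) {g : siegelGroup Q} {c : F} (hc : c ≠ 0)
    (h1 : g • v = c • v) (h2 : g • v₁ = c⁻¹ • v₁) {φ φ' : Wsub Q v v₁}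
    (hφ : c • (φ' : V) = g • (φ : V)) {y : X} (hy : y ∈ wsp ρ ψ φ) : ρ g y ∈ wsp ρ ψ φ' := by
  rw [mem_wsp] at hy ⊢
  intro x
  obtain ⟨x1, x2⟩ := mem_Wsub.1 x.2
  have e1 : g⁻¹ • v = c⁻¹ • v := by rw [inv_smul_eq_iff, smul_comm g, h1, inv_smul_smul₀ hc]
  have e2 : g⁻¹ • v₁ = c • v₁ := by rw [inv_smul_eq_iff, smul_comm g, h2, smul_inv_smul₀ hc]
  have b1 : bil Q v (g⁻¹ • (x : V)) = 0 := by
    rw [← bil_smul' g, smul_inv_smul, h1, map_smul, LinearMap.smul_apply, x1, smul_zero]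
  have b2 : bil Q v₁ (g⁻¹ • (x : V)) = 0 := by
    rw [← bil_smul' g, smul_inv_smul, h2, map_smul, LinearMap.smul_apply, x2, smul_zero]
  let x' : Wsub Q v v₁ := ⟨c⁻¹ • g⁻¹ • (x : V), mem_Wsub.2 ⟨by simp [b1], by simp [b2]⟩⟩
  have e : sg Q v (x : V) * g = g * sg Q v (x' : V) := by
    rw [← sg_smul_left P.sing b1, ← e1, ← sg_conj g⁻¹, inv_inv, ← mul_assoc, mul_inv_cancel_left]
  rw [← Module.End.mul_apply, ← map_mul, e, map_mul, Module.End.mul_apply, hy x', map_smul]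
  congr 2
  show bil Q (φ : V) (c⁻¹ • g⁻¹ • (x : V)) = _
  rw [map_smul, ← bil_smul' g, smul_inv_smul, ← hφ, map_smul, LinearMap.smul_apply, smul_eq_mul,
    smul_eq_mul, inv_mul_cancel_left₀ hc]

theorem sg_left_zero (w : V) : sg Q (0 : V) w = 1 := ext_act fun x => by
  rw [sg_act (QuadraticMap.map_zero _) (by simp), one_smul]
  simp

theorem rep_injective (g : siegelGroup Q) : Function.Injective (ρ g) := fun a b e => by
  have h := congrArg (ρ g⁻¹) e
  rwa [← Module.End.mul_apply, ← Module.End.mul_apply, ← map_mul, inv_mul_cancel, map_one] at h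

variable [FiniteDimensional ℂ X]

theorem mult_eq_of_map {ψ : AddChar F ℂ} (P : HP Q v v₁) {g : siegelGroup Q} {c : F} (hc : c ≠ 0)
    (h1 : g • v = c • v) (h2 : g • v₁ = c⁻¹ • v₁) {φ φ' : Wsub Q v v₁}
    (hφ : c • (φ' : V) = g • (φ : V)) : mult ρ ψ φ = mult ρ ψ φ' := by
  refine le_antisymm ?_ ?_
  · refine LinearMap.finrank_le_finrank_of_injective
      (f := (ρ g).restrict fun y hy => map_mem_wsp P hc h1 h2 hφ hy) fun a b e => ?_
    exact Subtype.ext (rep_injective g (congrArg Subtype.val e))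
  · have e1 : g⁻¹ • v = c⁻¹ • v := by rw [inv_smul_eq_iff, smul_comm g, h1, inv_smul_smul₀ hc]
    have e2 : g⁻¹ • v₁ = c⁻¹⁻¹ • v₁ := by rw [inv_inv, inv_smul_eq_iff, smul_comm g, h2, smul_inv_smul₀ hc]
    have e3 : c⁻¹ • (φ : V) = g⁻¹ • (φ' : V) := by
      rw [eq_inv_smul_iff, smul_comm g, ← hφ, inv_smul_smul₀ hc]
    refine LinearMap.finrank_le_finrank_of_injective
      (f := (ρ g⁻¹).restrict fun y hy => map_mem_wsp P (inv_ne_zero hc) e1 e2 e3 hy) fun a b e => ?_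
    exact Subtype.ext (rep_injective g⁻¹ (congrArg Subtype.val e))

variable [Fintype F] [FiniteDimensional F V] (hN : (bil Q).Nondegenerate)
include hN

theorem wch_bijective {ψ : AddChar F ℂ} (hψ : ψ.IsPrimitive) (P : HP Q v v₁) :
    Function.Bijective (wch ψ : Wsub Q v v₁ → AddChar (Wsub Q v v₁) ℂ) := by
  refine (Fintype.bijective_iff_injective_and_card _).2 ⟨fun φ φ' e => ?_, (AddChar.card_eq).symm⟩
  by_contra hne
  obtain ⟨y, hy⟩ := orth_exists_ne_zero (P.nondegenerate_QW hN) (sub_ne_zero.2 hne)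
  rw [bil_QW] at hy
  refine hψ hy (DFunLike.ext _ _ fun t => ?_)
  rw [AddChar.mulShift_apply, AddChar.one_apply]
  have h := DFunLike.congr_fun e (t • y)
  simp only [wch_apply, Submodule.coe_smul, map_smul, smul_eq_mul] at h
  have : bil Q ((φ - φ' : Wsub Q v v₁) : V) (y : V) * t =
      t * bil Q (φ : V) (y : V) - t * bil Q (φ' : V) (y : V) := by
    rw [AddSubgroupClass.coe_sub, map_sub, LinearMap.sub_apply]; ring
  have hne0 : ψ (t * bil Q (φ' : V) (y : V)) ≠ 0 := fun h0 => by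
    have := ψ.map_add_eq_mul (t * bil Q (φ' : V) (y : V)) (-(t * bil Q (φ' : V) (y : V)))
    rw [add_neg_cancel, AddChar.map_zero_eq_one, h0, zero_mul] at this
    exact one_ne_zero this
  rw [this]
  refine mul_right_cancel₀ hne0 ?_
  rw [one_mul, ← AddChar.map_add_eq_mul, sub_add_cancel, h]

theorem trace_eq_sum_wsp {ψ : AddChar F ℂ} (hψ : ψ.IsPrimitive) (P : HP Q v v₁) (g : X →ₗ[ℂ] X) :
    LinearMap.trace ℂ X g =
      ∑ φ : Wsub Q v v₁, LinearMap.trace ℂ X (g ∘ₗ eigenProj (rop ρ v v₁) (wch ψ φ)) := by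
  rw [trace_eq_sum (isOp_rop (ρ := ρ) P) g]
  exact (Fintype.sum_bijective _ (wch_bijective hN hψ P) _ _ fun φ => rfl).symm

theorem sum_mult {ψ : AddChar F ℂ} (hψ : ψ.IsPrimitive) (P : HP Q v v₁) :
    ∑ φ : Wsub Q v v₁, mult ρ ψ φ = finrank ℂ X := by
  rw [← sum_finrank_eigen (isOp_rop (ρ := ρ) P)]
  exact Fintype.sum_bijective _ (wch_bijective hN hψ P) _ _ fun φ => rfl

theorem deficit_eq_sum {ψ : AddChar F ℂ} (hψ : ψ.IsPrimitive) (P : HP Q v v₁) (x : Wsub Q v v₁) :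
    (finrank ℂ X : ℂ) - LinearMap.trace ℂ X (ρ (sg Q v (x : V))) =
      ∑ φ : Wsub Q v v₁, (mult ρ ψ φ : ℂ) * (1 - ψ (bil Q (φ : V) (x : V))) := by
  rw [trace_eq_sum_wsp (ρ := ρ) hN hψ P, ← sum_mult (ρ := ρ) hN hψ P, Nat.cast_sum, ← Finset.sum_sub_distrib]
  refine Finset.sum_congr rfl fun φ _ => ?_
  rw [trace_of_scalar (isOp_rop (ρ := ρ) P) _ _ (ψ (bil Q (φ : V) (x : V))) fun y hy => mem_eigen.1 hy x]
  show _ - _ * (mult ρ ψ φ : ℂ) = _
  ring

/-- The character on a singular element of the radical, when the multiplicities depend only on the value. -/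
theorem deficit_singular {ψ : AddChar F ℂ} (hψ : ψ.IsPrimitive) (P : HP Q v v₁) (mc : F → ℕ)
    (hmc : ∀ φ : Wsub Q v v₁, φ ≠ 0 → mult ρ ψ φ = mc (Q (φ : V))) {u u₁ : Wsub Q v v₁}
    (P' : HP (QW Q v v₁) u u₁) :
    (finrank ℂ X : ℂ) - LinearMap.trace ℂ X (ρ (sg Q v (u : V))) =
      ((Fintype.card F * Nat.card (Wsub (QW Q v v₁) u u₁) * ∑ c, mc c : ℕ) : ℂ) := by
  classical
  rw [deficit_eq_sum (ρ := ρ) hN hψ P u]
  rw [← Finset.sum_fiberwise Finset.univ
    (fun φ : Wsub Q v v₁ => (QW Q v v₁ φ, bil (QW Q v v₁) u φ))]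
  have hone : ∑ t : F, (1 - ψ t) = (Fintype.card F : ℂ) := by
    rw [Finset.sum_sub_distrib, AddChar.sum_eq_zero_of_ne_one (fun e => ?_), sub_zero, Finset.sum_const,
      Finset.card_univ, nsmul_eq_mul, mul_one]
    exact hψ one_ne_zero (by rw [AddChar.mulShift_one]; exact e)
  have hterm : ∀ p : F × F, ∑ φ ∈ Finset.univ.filter
      (fun φ : Wsub Q v v₁ => (QW Q v v₁ φ, bil (QW Q v v₁) u φ) = p),
        (mult ρ ψ φ : ℂ) * (1 - ψ (bil Q (φ : V) (u : V))) =
      (mc p.1 : ℂ) * ((Nat.card (Wsub (QW Q v v₁) u u₁) : ℂ) * (1 - ψ p.2)) := by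
    rintro ⟨c, t⟩
    rcases eq_or_ne t 0 with rfl | ht
    · rw [AddChar.map_zero_eq_one, sub_self, mul_zero, mul_zero]
      refine Finset.sum_eq_zero fun φ hφ => ?_
      rw [Finset.mem_filter, Prod.mk.injEq, bil_QW] at hφ
      rw [bil_comm, hφ.2.2, AddChar.map_zero_eq_one, sub_self, mul_zero]
    · rw [Finset.sum_congr rfl (g := fun _ => (mc c : ℂ) * (1 - ψ t)) fun φ hφ => ?_, Finset.sum_const,
        ← Fintype.card_subtype, ← Nat.card_eq_fintype_card,
        Nat.card_congr (Equiv.subtypeEquivRight fun φ => Prod.mk_inj),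
        card_bil_fibre (P.nondegenerate_QW hN) P' c ht, nsmul_eq_mul]
      · ring
      · rw [Finset.mem_filter, Prod.mk.injEq, bil_QW, QW_apply] at hφ
        obtain ⟨-, hc, ht'⟩ := hφ
        have hne : φ ≠ 0 := by
          rintro rfl
          exact ht (by simpa using ht'.symm)
        rw [hmc φ hne, hc, bil_comm, ht']
  rw [Finset.sum_congr rfl fun p _ => hterm p, Fintype.sum_prod_type]
  simp only [← Finset.mul_sum, hone]
  rw [← Finset.sum_mul]
  push_cast
  ring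

omit [FiniteDimensional ℂ X] in
/-- Vectors fixed by two opposite radicals are fixed by the whole group. -/
theorem fixed_of_radicals (P : HP Q v v₁) {y : X} (hv : ∀ x ∈ Wsub Q v v₁, ρ (sg Q v x) y = y)
    (hv₁ : ∀ x ∈ Wsub Q v v₁, ρ (sg Q v₁ x) y = y) : ∀ g, ρ g y = y := by
  let H : Subgroup (siegelGroup Q) :=
    { carrier := {g | ρ g y = y}
      one_mem' := show ρ 1 y = y by simp
      mul_mem' := fun {a b} ha hb => by
        show ρ (a * b) y = y
        rw [map_mul, Module.End.mul_apply, (hb : ρ b y = y), (ha : ρ a y = y)]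
      inv_mem' := fun {a} ha => rep_injective a (by
        rw [← Module.End.mul_apply, ← map_mul, mul_inv_cancel, map_one, (ha : ρ a y = y)]; rfl) }
  have mem : ∀ g, g ∈ H ↔ ρ g y = y := fun g => Iff.rfl
  have all : ∀ {a a₁ : V}, HP Q a a₁ → (∀ x ∈ Wsub Q a a₁, sg Q a x ∈ H) → ∀ w, sg Q a w ∈ H := by
    intro a a₁ Pa ha w
    by_cases h : bil Q a w = 0
    · have e : w = MinDeg.Orth.proj Q a a₁ w + bil Q a₁ w • a := by rw [MinDeg.Orth.proj, h]; module
      rw [e, sg_add_self Pa.sing (mem_Wsub.1 (Pa.proj_mem w)).1]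
      exact ha _ (Pa.proj_mem w)
    · rw [sg_of_not fun h' => h h'.2]
      exact one_mem _
  have step : ∀ {a a₁ : V}, HP Q a a₁ → (∀ w, sg Q a w ∈ H) → (∀ w, sg Q a₁ w ∈ H) →
      ∀ x, Q x = 0 → bil Q a x ≠ 0 → ∀ w, sg Q x w ∈ H := by
    intro a a₁ Pa ha ha₁ x hx hb w
    obtain ⟨x', hx', hb', hscale⟩ : ∃ x', Q x' = 0 ∧ bil Q a x' = 1 ∧ bil Q a x • x' = x :=
      ⟨(bil Q a x)⁻¹ • x, by rw [quad_smul_vec, hx, mul_zero],
        by rw [map_smul, smul_eq_mul, inv_mul_cancel₀ hb], smul_inv_smul₀ hb x⟩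
    by_cases hw : bil Q x w = 0
    swap
    · rw [sg_of_not fun h' => hw h'.2]
      exact one_mem _
    rw [← hscale, sg_smul_left hx' (by rw [← hscale] at hw; simpa [hb] using hw)]
    set w' := bil Q a x • w
    set z := MinDeg.Orth.proj Q a a₁ x' with hz
    obtain ⟨z1, z2⟩ := mem_Wsub.1 (Pa.proj_mem x')
    have hxz : x' = bil Q a₁ x' • a + a₁ + z := by rw [hz, MinDeg.Orth.proj, hb']; module
    have hval : Q z = -bil Q a₁ x' := by
      have h := congrArg Q hxz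
      simp only [hx', quad_add, quad_smul_vec, map_add, map_smul, LinearMap.add_apply, LinearMap.smul_apply,
        Pa.sing, Pa.sing₁, Pa.one, smul_eq_mul] at h
      rw [← hz] at z1 z2
      simp only [z1, z2] at h
      linear_combination -h
    have e : sg Q a z • a₁ = x' := by
      rw [sg_act Pa.sing z1, bil_comm a₁ a, Pa.one, z2, hval]
      conv_rhs => rw [hxz]
      module
    have e2 : sg Q x' w' = sg Q a z * sg Q a₁ ((sg Q a z)⁻¹ • w') * (sg Q a z)⁻¹ := by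
      rw [sg_conj, e, smul_inv_smul]
    rw [e2]
    exact mul_mem (mul_mem (ha z) (ha₁ _)) (inv_mem (ha z))
  have hHv : ∀ w, sg Q v w ∈ H := all P fun x hx => hv x hx
  have hHv₁ : ∀ w, sg Q v₁ w ∈ H :=
    all P.symm fun x hx => hv₁ x (mem_Wsub.2 ⟨(mem_Wsub.1 hx).2, (mem_Wsub.1 hx).1⟩)
  have gen : ∀ x, Q x = 0 → ∀ w, sg Q x w ∈ H := by
    intro x hx w
    by_cases hb : bil Q v x = 0
    swap
    · exact step P hHv hHv₁ x hx hb w
    by_cases hb₁ : bil Q v₁ x = 0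
    swap
    · exact step P.symm hHv₁ hHv x hx hb₁ w
    by_cases hx0 : x = 0
    · subst hx0
      rw [sg_left_zero]
      exact one_mem _
    let xW : Wsub Q v v₁ := ⟨x, mem_Wsub.2 ⟨hb, hb₁⟩⟩
    obtain ⟨s, hs⟩ := orth_exists_ne_zero (P.nondegenerate_QW hN) (v := xW)
      (fun e => hx0 (congrArg Subtype.val e))
    rw [bil_QW] at hs
    obtain ⟨s1, s2⟩ := mem_Wsub.1 s.2
    set h := sg Q v (s : V)
    have hmem : h ∈ H := hHv _
    have hb' : bil Q v₁ (h • x) ≠ 0 := by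
      rw [sg_act P.sing s1, bil_comm x v, hb, zero_smul, add_zero, mul_zero, add_zero, map_sub, map_smul,
        hb₁, P.symm.one, smul_eq_mul, mul_one, zero_sub]
      exact neg_ne_zero.2 hs
    have hmem' := step P.symm hHv₁ hHv (h • x) (by rw [quad_smul', hx]) hb' (h • w)
    rw [← sg_conj] at hmem'
    simpa [mul_assoc] using mul_mem (mul_mem (inv_mem hmem) hmem') hmem
  intro g
  rw [← mem]
  obtain ⟨g, hg⟩ := g
  induction hg using Subgroup.closure_induction with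
  | mem x hx =>
    obtain ⟨a, w, ha, hw, rfl⟩ := hx
    have := gen a ha w
    rwa [show sg Q a w = ⟨siegel ha hw, siegel_mem _ _⟩ from Subtype.ext (sg_coe ha hw)] at this
  | one => exact H.one_mem
  | mul x y hx hy h1 h2 => exact H.mul_mem h1 h2
  | inv x hx h1 => exact H.inv_mem h1

end Cfsg.Agent.MinDegree.Orth
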