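import Cfsg.Agent.Lib.MinDegree.SLInduction
import Mathlib.NumberTheory.LegendreSymbol.Complex

/-!
The first step: an irreducible nontrivial representation of `SL_n(q)` of degree below the bound satisfies the
standing hypotheses, so the bound `(q ^ n - q) / (q - 1)` holds.
-/

set_option autoImplicit false
set_option linter.unusedSectionVars false

open Matrix Module
open scoped MatrixGroups

namespace Cfsg.Agent.MinDegree

open Cfsg.Agent.MinDeg

universe u

variable {F : Type*} [Field F] [Fintype F] [DecidableEq F]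

/-- Elements preserving a line commute on it. -/
theorem comm_on_line {G : Type*} [Group G] {W : Type*} [AddCommGroup W] [Module ℂ W]
    {ρ : Representation ℂ G W} {L : Submodule ℂ W} (h1 : finrank ℂ L = 1) {t g h : G}
    (hg : ∀ y ∈ L, ρ g y ∈ L) (hh : ∀ y ∈ L, ρ h y ∈ L) (e : g * h = t * (h * g)) :
    ∀ y ∈ L, ρ t y = y := by
  have := Module.nontrivial_of_finrank_pos (R := ℂ) (show 0 < finrank ℂ L by omega)
  obtain ⟨x, hx⟩ := exists_ne (0 : L)
  obtain ⟨a, ha⟩ := exists_smul_eq_of_finrank_eq_one h1 hx ⟨_, hg x x.2⟩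
  obtain ⟨b, hb⟩ := exists_smul_eq_of_finrank_eq_one h1 hx ⟨_, hh x x.2⟩
  have ha' : ρ g x.1 = a • x.1 := (congrArg Subtype.val ha).symm
  have hb' : ρ h x.1 = b • x.1 := (congrArg Subtype.val hb).symm
  have hgh : ρ (g * h) x.1 = (b * a) • x.1 := by
    rw [map_mul, Module.End.mul_apply, hb', map_smul, ha', smul_smul]
  have hhg : ρ (h * g) x.1 = (b * a) • x.1 := by
    rw [map_mul, Module.End.mul_apply, ha', map_smul, hb', smul_smul, mul_comm]
  have hne : b * a ≠ 0 := fun h0 => hx (Subtype.ext (by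
    have := congrArg (ρ (g * h)⁻¹) hgh
    rwa [h0, zero_smul, map_zero, ← Module.End.mul_apply, ← map_mul, inv_mul_cancel, map_one] at this))
  have hfix : ρ t x.1 = x.1 := by
    rw [e, map_mul, Module.End.mul_apply, hhg, map_smul] at hgh
    exact smul_right_injective W hne hgh
  intro y hy
  obtain ⟨c, hc⟩ := exists_smul_eq_of_finrank_eq_one h1 hx ⟨y, hy⟩
  have hc' : c • x.1 = y := congrArg Subtype.val hc
  rw [← hc', map_smul, hfix]

theorem toGL_tv_mulVec {m : ℕ} {c φ : Fin m → F} (h : φ ⬝ᵥ c = 0) (x : Fin m → F) :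
    (SpecialLinearGroup.toGL (tv c φ)).1 *ᵥ x = x + (φ ⬝ᵥ x) • c := by
  rw [coe_toGL, tv_mulVec h]

theorem gl_ext {m : ℕ} {A B : GL (Fin m) F} (h : ∀ x, A.1 *ᵥ x = B.1 *ᵥ x) : A = B :=
  Units.ext (Matrix.ext_of_mulVec_single fun _ => h _)

/-- `t₀` is a commutator in the stabiliser of a weight, by two transvections. -/
theorem comm_tv {j : ℕ} {w φ : Fin (j + 2) → F} {l : Fin (j + 2)} (hl0 : l ≠ 0) (hl1 : l ≠ 1)
    (hφ0 : φ 0 = 0) (hφw : φ ⬝ᵥ w = 0) (hφl : φ l = 1) (hw1 : w 1 = 0) :
    ∃ X Y : GL (Fin (j + 2)) F, X.1.det • (X.1 *ᵥ w) = w ∧ Y.1.det • (Y.1 *ᵥ w) = w ∧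
      X * Y = SpecialLinearGroup.toGL (t₀ F j) * (Y * X) := by
  have hd : φ ⬝ᵥ Pi.single 0 1 = 0 := by simp [hφ0]
  have hd' : (Pi.single 1 1 : Fin (j + 2) → F) ⬝ᵥ Pi.single l 1 = 0 := by simp [hl1.symm]
  refine ⟨SpecialLinearGroup.toGL (tv (Pi.single 0 1) φ),
    SpecialLinearGroup.toGL (tv (Pi.single l 1) (Pi.single 1 1)), ?_, ?_, gl_ext fun x => ?_⟩
  · rw [toGL_tv_mulVec hd, coe_toGL, (tv _ _).2, hφw, one_smul, zero_smul, add_zero]
  · rw [toGL_tv_mulVec hd', coe_toGL, (tv _ _).2, single_dotProduct, hw1, mul_zero, one_smul, zero_smul,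
      add_zero]
  · simp only [Units.val_mul, coe_toGL, ← Matrix.mulVec_mulVec, tv_mulVec hd, tv_mulVec hd',
      t₀_mulVec, dotProduct_add, dotProduct_smul, dotProduct_single_one, single_dotProduct, one_mul,
      Pi.add_apply, Pi.smul_apply, smul_eq_mul, hφl]
    ext a
    simp [hl1.symm, hl0]
    ring

theorem exists_unit_sq_ne (hq : 4 ≤ Fintype.card F) : ∃ a : F, a ≠ 0 ∧ a * a ≠ 1 := by
  by_contra h
  push Not at h
  have : (Finset.univ : Finset F) ⊆ {0, 1, -1} := fun a _ => by
    rcases eq_or_ne a 0 with h0 | h0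
    · simp [h0]
    · rcases mul_self_eq_one_iff.1 (h a h0) with h1 | h1 <;> simp [h1]
  have := (Finset.card_le_card this).trans Finset.card_le_three
  rw [Finset.card_univ] at this
  omega

theorem exists_unit_cube_ne (h2 : Fintype.card F ≠ 2) (h4 : Fintype.card F ≠ 4) :
    ∃ a : F, a ≠ 0 ∧ a * a * a ≠ 1 := by
  have h1 : 1 < Fintype.card F := Fintype.one_lt_card
  obtain ⟨u, hu⟩ := IsCyclic.exists_generator (α := Fˣ)
  refine ⟨(u : F), u.ne_zero, fun e => ?_⟩
  have e3 : u ^ 3 = 1 := Units.ext (by rw [Units.val_pow_eq_pow_val, pow_succ, pow_two, Units.val_one, e])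
  have ho : orderOf u = Fintype.card F - 1 := by
    rw [orderOf_eq_card_of_forall_mem_zpowers hu, Nat.card_eq_fintype_card, Fintype.card_units]
  have hd := orderOf_dvd_of_pow_eq_one e3
  rw [ho] at hd
  rcases (Nat.dvd_prime Nat.prime_three).1 hd with h | h <;> omega

/-- In the stabiliser of a weight fixed by `t₀`, that transvection is a commutator. -/
theorem exists_comm_t₀ {j : ℕ} (hex : 2 ≤ j ∨ j = 1 ∧ 4 ≤ Fintype.card F ∨
      j = 0 ∧ Fintype.card F ≠ 2 ∧ Fintype.card F ≠ 4)
    {w : Fin (j + 2) → F} (hw1 : w 1 = 0) :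
    ∃ X Y : GL (Fin (j + 2)) F, X.1.det • (X.1 *ᵥ w) = w ∧ Y.1.det • (Y.1 *ᵥ w) = w ∧
      X * Y = SpecialLinearGroup.toGL (t₀ F j) * (Y * X) := by
  classical
  by_cases hk : ∃ k : Fin (j + 2), k ≠ 0 ∧ k ≠ 1 ∧ w k ≠ 0
  · obtain ⟨k, hk0, hk1, hwk⟩ := hk
    by_cases hl : ∃ l : Fin (j + 2), l ≠ 0 ∧ l ≠ 1 ∧ l ≠ k
    · obtain ⟨l, hl0, hl1, hlk⟩ := hl
      refine comm_tv (φ := Pi.single l 1 - Pi.single k (w l / w k)) hl0 hl1 ?_ ?_ ?_ hw1
      · simp [hl0.symm, hk0.symm]
      · rw [sub_dotProduct, single_dotProduct, single_dotProduct, one_mul, div_mul_cancel₀ _ hwk, sub_self]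
      · simp [hlk]
    · push Not at hl
      have hj : j = 1 := by
        rcases Nat.lt_trichotomy j 1 with h | h | h
        · exfalso
          have hk2 := k.2
          have : (k : ℕ) ≠ 0 := fun e => hk0 (Fin.ext e)
          have : (k : ℕ) ≠ 1 := fun e => hk1 (Fin.ext (e.trans (Fin.val_one j).symm))
          omega
        · exact h
        · have a := hl ⟨2, by omega⟩ (by simp [Fin.ext_iff]) (by simp [Fin.ext_iff])
          have b := hl ⟨3, by omega⟩ (by simp [Fin.ext_iff]) (by simp [Fin.ext_iff])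
          exact absurd (a.trans b.symm) (by simp)
      obtain ⟨a, ha0, ha2⟩ := exists_unit_sq_ne (F := F) (by rcases hex with h | h | h <;> omega)
      set d : Fin (j + 2) → Fˣ :=
        fun x => if x = 0 then Units.mk0 a ha0 else if x = 1 then (Units.mk0 a ha0)⁻¹ else 1 with hd
      set r := w 0 * (1 - a) / (a * w k) with hr
      have hdr : (Pi.single k 1 : Fin (j + 2) → F) ⬝ᵥ Pi.single 0 r = 0 := by simp [hk0.symm]
      set s := a⁻¹ / (a - a⁻¹) with hs
      have hds : (Pi.single 1 s : Fin (j + 2) → F) ⬝ᵥ Pi.single 0 1 = 0 := by simp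
      refine ⟨GL.diagHom d * SpecialLinearGroup.toGL (tv (Pi.single 0 r) (Pi.single k 1)),
        SpecialLinearGroup.toGL (tv (Pi.single 0 1) (Pi.single 1 s)), ?_, ?_, gl_ext fun x => ?_⟩
      · have hdet : (GL.diagHom d).1.det = 1 := by
          rw [GL.coe_diagHom, Matrix.det_diagonal]
          rw [← Finset.mul_prod_erase _ _ (Finset.mem_univ (0 : Fin (j + 2))),
            ← Finset.mul_prod_erase _ _ (Finset.mem_erase.2 ⟨one_ne_zero, Finset.mem_univ (1 : Fin (j + 2))⟩),
            Finset.prod_eq_one fun x hx => ?_]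
          · simp [hd, ha0]
          · simp only [Finset.mem_erase] at hx
            simp [hd, hx.1, hx.2.1]
        rw [Units.val_mul, Matrix.det_mul, hdet, coe_toGL, (tv _ _).2, mul_one, one_smul,
          ← Matrix.mulVec_mulVec, tv_mulVec hdr, single_dotProduct, one_mul, GL.coe_diagHom]
        ext x
        rw [Matrix.mulVec_diagonal]
        rcases eq_or_ne x 0 with rfl | hx0
        · simp only [hd, if_true, Units.val_mk0, Pi.add_apply, Pi.smul_apply, Pi.single_eq_same, smul_eq_mul, hr]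
          field_simp
          ring
        · rcases eq_or_ne x 1 with rfl | hx1
          · simp [hd, hw1]
          · simp [hd, hx0, hx1]
      · rw [toGL_tv_mulVec hds, coe_toGL, (tv _ _).2, single_dotProduct, hw1, mul_zero, one_smul, zero_smul,
          add_zero]
      · have hne : a - a⁻¹ ≠ 0 := fun e => ha2 (by
          have := sub_eq_zero.1 e
          calc a * a = a * a⁻¹ := by rw [← this]
            _ = 1 := mul_inv_cancel₀ ha0)
        have hs' : a * s = s * a⁻¹ + a⁻¹ := by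
          have h0 : s * (a - a⁻¹) = a⁻¹ := div_mul_cancel₀ _ hne
          linear_combination h0
        simp only [Units.val_mul, coe_toGL, ← Matrix.mulVec_mulVec, tv_mulVec hds, tv_mulVec hdr,
          t₀_mulVec, GL.coe_diagHom]
        ext b
        rcases eq_or_ne b 0 with rfl | hb0
        · simp [Matrix.mulVec_diagonal, hd, hk1.symm, hk0, hk0.symm, hk1]
          linear_combination x 1 * hs'
        · rcases eq_or_ne b 1 with rfl | hb1
          · simp [Matrix.mulVec_diagonal, hd]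
          · simp [Matrix.mulVec_diagonal, hd, hb0, hb1]
  · push Not at hk
    by_cases hj : j = 0
    · subst hj
      obtain ⟨-, h2, h4⟩ := (hex.resolve_left (by omega)).resolve_left (by omega)
      obtain ⟨a, ha0, ha3⟩ := exists_unit_cube_ne h2 h4
      have hane : a - (a * a)⁻¹ ≠ 0 := fun e => ha3 (by
        rw [sub_eq_zero] at e
        calc a * a * a = a * a * (a * a)⁻¹ := by rw [← e]
          _ = 1 := mul_inv_cancel₀ (mul_ne_zero ha0 ha0))
      set s := (a * a)⁻¹ / (a - (a * a)⁻¹) with hs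
      have hs' : a * s = s * (a * a)⁻¹ + (a * a)⁻¹ := by
        have h0 : s * (a - (a * a)⁻¹) = (a * a)⁻¹ := div_mul_cancel₀ _ hane
        linear_combination h0
      set d : Fin 2 → Fˣ := fun x =>
        if x = 0 then Units.mk0 a ha0 else (Units.mk0 a ha0 * Units.mk0 a ha0)⁻¹ with hd
      have hds : (Pi.single 1 s : Fin 2 → F) ⬝ᵥ Pi.single 0 1 = 0 := by simp
      refine ⟨GL.diagHom d, SpecialLinearGroup.toGL (tv (Pi.single 0 1) (Pi.single 1 s)), ?_, ?_,
        gl_ext fun x => ?_⟩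
      · rw [GL.coe_diagHom, Matrix.det_diagonal, Fin.prod_univ_two]
        ext b
        obtain rfl | rfl : b = 0 ∨ b = 1 := Fin.exists_fin_two.1 ⟨b, rfl⟩
        · simp [Matrix.mulVec_diagonal, hd]
          field_simp
        · simp [Matrix.mulVec_diagonal, hd, hw1]
      · rw [toGL_tv_mulVec hds, coe_toGL, (tv _ _).2, single_dotProduct, hw1, mul_zero, one_smul, zero_smul,
          add_zero]
      · simp only [Units.val_mul, coe_toGL, ← Matrix.mulVec_mulVec, tv_mulVec hds, t₀_mulVec,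
          GL.coe_diagHom]
        ext b
        obtain rfl | rfl : b = 0 ∨ b = 1 := Fin.exists_fin_two.1 ⟨b, rfl⟩
        · simp [Matrix.mulVec_diagonal, hd, Matrix.vecHead]
          simp only [mul_inv] at hs'
          linear_combination x 1 * hs'
        · simp [Matrix.mulVec_diagonal, hd, Matrix.vecHead, Matrix.vecTail]
    · refine comm_tv (φ := Pi.single ⟨2, by omega⟩ 1) (l := ⟨2, by omega⟩) (by simp [Fin.ext_iff])
        (by simp [Fin.ext_iff]) ?_ ?_ (Pi.single_eq_same _ _) hw1
      · simp [Pi.single_apply, Fin.ext_iff]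
      · rw [single_dotProduct, hk ⟨2, by omega⟩ (by simp [Fin.ext_iff]) (by simp [Fin.ext_iff]), mul_zero]

/-- The degree of a nontrivial irreducible representation of `SL_n(q)`. -/
theorem sl_min_degree {j : ℕ} {W : Type u} [AddCommGroup W] [Module ℂ W] [FiniteDimensional ℂ W]
    (ρ : Representation ℂ SL(j + 3, F) W) (hρ : Irred ρ) (h2 : 2 ≤ finrank ℂ W)
    (hex : 2 ≤ j ∨ j = 1 ∧ 4 ≤ Fintype.card F ∨ j = 0 ∧ Fintype.card F ≠ 2 ∧ Fintype.card F ≠ 4) :
    Fintype.card F ^ (j + 3) ≤ (Fintype.card F - 1) * finrank ℂ W + Fintype.card F := by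
  classical
  have hψ : (AddChar.FiniteField.primitiveChar_to_Complex F).IsPrimitive :=
    AddChar.FiniteField.primitiveChar_to_Complex_isPrimitive F
  set ψ := AddChar.FiniteField.primitiveChar_to_Complex F
  have hq : 2 ≤ Fintype.card F := Fintype.one_lt_card
  let w₀ : Fin (j + 2) → F := Pi.single 0 1
  have hle : ∀ v v' : Fin (j + 2) → F, v ≠ 0 → v' ≠ 0 →
      finrank ℂ (wt ρ ψ v) ≤ finrank ℂ (wt ρ ψ v') := by
    intro v v' hv hv'
    obtain ⟨A, hA⟩ := GL.exists_SL_mulVec_eq (by simp) hv hv'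
    have hmem : ∀ y ∈ wt ρ ψ v, ρ (levi (SpecialLinearGroup.toGL A)) y ∈ wt ρ ψ v' := fun y hy => by
      have := levi_mem_wt hy (SpecialLinearGroup.toGL A)
      rwa [coe_toGL, A.2, one_smul, hA] at this
    refine LinearMap.finrank_le_finrank_of_injective
      (f := (ρ (levi (SpecialLinearGroup.toGL A))).restrict hmem) fun a b e => ?_
    have h := congrArg (fun x => ρ (levi (SpecialLinearGroup.toGL A))⁻¹ x) (congrArg Subtype.val e)
    simp only [LinearMap.coe_restrict_apply, ← Module.End.mul_apply, ← map_mul, inv_mul_cancel, map_one,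
      Module.End.one_apply] at h
    exact Subtype.ext h
  have hw₀ : w₀ ≠ 0 := by simp [w₀]
  have heq : ∀ w : Fin (j + 2) → F, w ≠ 0 → finrank ℂ (wt ρ ψ w) = finrank ℂ (wt ρ ψ w₀) :=
    fun w hw => le_antisymm (hle _ _ hw hw₀) (hle _ _ hw₀ hw)
  have hD := finrank_eq_of_wt hψ ρ heq
  rcases Nat.lt_trichotomy (finrank ℂ (wt ρ ψ w₀)) 1 with h | h | h
  · -- no weights: trivial
    exfalso
    have h0 : finrank ℂ (wt ρ ψ w₀) = 0 := by omega
    rw [h0, mul_zero, add_zero, ← Fix_eq_wt] at hD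
    have htop : Fix ρ = ⊤ := Submodule.eq_top_of_finrank_eq hD.symm
    have hall := fixed_of_radical (m := j + 2) (by omega) ρ (U' := ⊤) (fun _ _ _ => trivial)
      (fun f y _ => mem_Fix.1 (show y ∈ Fix ρ by rw [htop]; trivial) f)
    have := Module.nontrivial_of_finrank_pos (R := ℂ) (show 0 < finrank ℂ W by omega)
    obtain ⟨x, hx⟩ := exists_ne (0 : W)
    rcases hρ (Submodule.span ℂ {x}) (fun g y hy => by rw [hall g y trivial]; exact hy) with e | e
    · exact hx (by simpa using e)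
    · have := finrank_span_singleton (K := ℂ) hx
      rw [e, finrank_top] at this
      omega
  · -- multiplicity one
    exact (main_std hψ j ρ hρ ⟨fun w hw => (heq w hw).trans h, fun w hw hw1 => by
      obtain ⟨X, Y, hX, hY, hXY⟩ := exists_comm_t₀ hex hw1
      refine comm_on_line ((heq w hw).trans h) (g := levi X) (h := levi Y) (fun y hy => ?_) (fun y hy => ?_) ?_
      · have := levi_mem_wt hy X
        rwa [hX] at this
      · have := levi_mem_wt hy Y
        rwa [hY] at this
      · rw [← map_mul, ← map_mul, ← map_mul, hXY]⟩).2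
  · -- larger multiplicity
    have h1 : 2 * (Fintype.card F ^ (j + 2) - 1) ≤ finrank ℂ W := by
      rw [hD, mul_comm 2]
      exact le_add_left (Nat.mul_le_mul_left _ h)
    have hP : 1 ≤ Fintype.card F ^ (j + 2) := Nat.one_le_pow _ _ (by omega)
    have hpow : Fintype.card F ^ (j + 3) = Fintype.card F ^ (j + 2) * Fintype.card F := pow_succ _ _
    rw [hpow]
    generalize Fintype.card F ^ (j + 2) = P at *
    generalize finrank ℂ W = D at *
    obtain ⟨a, ha⟩ : ∃ a, Fintype.card F = a + 2 := ⟨Fintype.card F - 2, by omega⟩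
    rw [ha, show a + 2 - 1 = a + 1 by omega]
    obtain ⟨b, rfl⟩ : ∃ b, P = b + 1 := ⟨P - 1, by omega⟩
    have h3 := Nat.mul_le_mul_left (a + 1) h1
    simp only [Nat.add_sub_cancel] at h3
    nlinarith

end Cfsg.Agent.MinDegree
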