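import Cfsg.Agent.Lib.MinDegree.OrthRadical
import Cfsg.Agent.Lib.MinDegree.SLTop

/-!
Long root elements of the Levi factor act trivially on the weight lines they fix, and the resulting character of
these elements on the vectors fixed by the radical.
-/

set_option autoImplicit false
set_option linter.unusedSectionVars false

open Module

namespace Cfsg.Agent.MinDegree.Orth

open Cfsg.Agent.ClassicalSimple
open Cfsg.Agent.MinDeg.Orth

variable {F V : Type*} [Field F] [Fintype F] [AddCommGroup V] [Module F V] [Finite V]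
  [FiniteDimensional F V] {Q : QuadraticForm F V}

theorem card_Wsub {v v₁ : V} (P : HP Q v v₁) :
    Nat.card (Wsub Q v v₁) = Fintype.card F ^ (finrank F V - 2) := by
  rw [Module.natCard_eq_pow_finrank (K := F) (V := Wsub Q v v₁), Nat.card_eq_fintype_card (α := F)]
  congr 1
  have := P.finrank_W
  omega

variable (hN : (bil Q).Nondegenerate)
include hN

/-- A vector outside a subspace pairs to one with a vector orthogonal to it. -/
theorem exists_bil_sep {S : Submodule F V} {x : V} (hx : x ∉ S) :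
    ∃ t, bil Q x t = 1 ∧ ∀ s ∈ S, bil Q s t = 0 := by
  obtain ⟨f, hfx, hf⟩ := Submodule.exists_dual_map_eq_bot_of_notMem hx inferInstance
  obtain ⟨t, ht⟩ := (LinearMap.injective_iff_surjective_of_finrank_eq_finrank
    Subspace.dual_finrank_eq.symm (f := bil Q)).1
    (LinearMap.ker_eq_bot.1 (LinearMap.ker_eq_bot'.2 fun m hm => hN.1 m fun y => by rw [hm]; rfl)) f
  refine ⟨(f x)⁻¹ • t, ?_, fun s hs => ?_⟩
  · rw [map_smul, smul_eq_mul, bil_comm x t, ht, inv_mul_cancel₀ hfx]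
  · rw [map_smul, smul_eq_mul, bil_comm s t, ht, (Submodule.eq_bot_iff _).1 hf _ ⟨s, hs, rfl⟩, mul_zero]

variable {X : Type*} [AddCommGroup X] [Module ℂ X] [FiniteDimensional ℂ X]
  {ρ : Representation ℂ (siegelGroup Q) X} {ψ : AddChar F ℂ} {v v₁ : V}

omit hN in
theorem twist_of_comm (P : HP Q v v₁) {φ : Wsub Q v v₁} (h1 : mult ρ ψ φ = 1) {r g h : siegelGroup Q}
    (gv : g • v = v) (gv₁ : g • v₁ = v₁) (gφ : g • (φ : V) = φ) (hv : h • v = v) (hv₁ : h • v₁ = v₁)
    (hφ : h • (φ : V) = φ) (e : g * h = r * (h * g)) : ∀ y ∈ wsp ρ ψ φ, ρ r y = y := by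
  refine comm_on_line h1 (g := g) (h := h) (fun y hy => ?_) (fun y hy => ?_) e
  · exact map_mem_wsp P (c := 1) one_ne_zero (by rw [one_smul, gv]) (by rw [inv_one, one_smul, gv₁])
      (by rw [one_smul, gφ]) hy
  · exact map_mem_wsp P (c := 1) one_ne_zero (by rw [one_smul, hv]) (by rw [inv_one, one_smul, hv₁])
      (by rw [one_smul, hφ]) hy

/-- Twisting by a torus: `q ≥ 4`. -/
theorem twist_torus (h5 : 5 ≤ finrank F V) (hq : 4 ≤ Fintype.card F) (P : HP Q v v₁)
    {φ a b : Wsub Q v v₁} (h1 : mult ρ ψ φ = 1) (ha : Q (a : V) = 0) (hb : Q (b : V) = 0)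
    (hab : bil Q (a : V) (b : V) = 0) (hi : LinearIndependent F ![a, b])
    (hφa : bil Q (a : V) (φ : V) = 0) (hφb : bil Q (b : V) (φ : V) = 0) :
    ∀ y ∈ wsp ρ ψ φ, ρ (sg Q (a : V) (b : V)) y = y := by
  classical
  have hNW := P.nondegenerate_QW hN
  obtain ⟨x, y, hx, hy, hxy, hxφ, hyφ, hr, hout⟩ : ∃ x y : Wsub Q v v₁, Q (x : V) = 0 ∧ Q (y : V) = 0 ∧
      bil Q (x : V) (y : V) = 0 ∧ bil Q (x : V) (φ : V) = 0 ∧ bil Q (y : V) (φ : V) = 0 ∧
      sg Q (x : V) (y : V) = sg Q (a : V) (b : V) ∧ x ∉ Submodule.span F {y, φ} := by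
    by_cases hsp : φ ∈ Submodule.span F {a, b}
    · obtain ⟨α, β, hαβ⟩ := Submodule.mem_span_pair.1 hsp
      rw [LinearIndependent.pair_iff] at hi
      rcases eq_or_ne β 0 with rfl | hβ
      · refine ⟨b, -a, hb, by simpa using ha, by simp [bil_comm (b : V) (a : V), hab], hφb,
          by simp [hφa], (sg_swap ha hb hab).symm, fun hm => ?_⟩
        obtain ⟨s, t, hst⟩ := Submodule.mem_span_pair.1 hm
        rw [← hαβ] at hst
        have := (hi (-s + t * α) (-1) (by rw [← sub_eq_zero] at hst; rw [← hst]; module)).2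
        simp at this
      · refine ⟨a, β⁻¹ • φ, ha, ?_, by simp [hφa], hφa, ?_, ?_, fun hm => ?_⟩
        · rw [Submodule.coe_smul, ← hαβ]
          simp [quad_smul_vec, quad_add, ha, hb, hab]
        · rw [Submodule.coe_smul, ← hαβ]
          simp [bil_self_of_singular ha, bil_self_of_singular hb, hab, bil_comm (b : V) (a : V)]
        · have e : ((β⁻¹ • φ : Wsub Q v v₁) : V) = (b : V) + (β⁻¹ * α) • (a : V) := by
            rw [← hαβ]
            simp only [Submodule.coe_smul, Submodule.coe_add]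
            match_scalars <;> field_simp
          rw [e, sg_add_self ha hab]
        · obtain ⟨s, t, hst⟩ := Submodule.mem_span_pair.1 hm
          rw [← hαβ] at hst
          obtain ⟨e1, e2⟩ := hi ((s * β⁻¹ + t) * α - 1) ((s * β⁻¹ + t) * β)
            (by rw [← sub_eq_zero] at hst; rw [← hst]; module)
          rcases mul_eq_zero.1 e2 with h | h
          · rw [h] at e1; simp at e1
          · exact hβ h
    · refine ⟨a, b, ha, hb, hab, hφa, hφb, rfl, fun hm => ?_⟩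
      obtain ⟨s, t, hst⟩ := Submodule.mem_span_pair.1 hm
      rw [LinearIndependent.pair_iff] at hi
      rcases eq_or_ne t 0 with rfl | ht
      · exact one_ne_zero (hi 1 (-s) (by rw [← sub_eq_zero] at hst; rw [← neg_eq_zero, ← hst]; module)).1
      · refine hsp (Submodule.mem_span_pair.2 ⟨t⁻¹, -(t⁻¹ * s), ?_⟩)
        rw [← hst]
        match_scalars <;> field_simp <;> ring
  obtain ⟨w, hw1, hw0⟩ := exists_bil_sep hNW hout
  rw [bil_QW] at hw1
  have hwy : bil Q (y : V) (w : V) = 0 := hw0 y (Submodule.subset_span (by simp))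
  have hwφ : bil Q (φ : V) (w : V) = 0 := hw0 φ (Submodule.subset_span (by simp))
  obtain ⟨w1, w2⟩ := mem_Wsub.1 w.2
  obtain ⟨x1, x2⟩ := mem_Wsub.1 x.2
  obtain ⟨y1, y2⟩ := mem_Wsub.1 y.2
  set x' : V := (w : V) - Q (w : V) • (x : V) with hx'
  have Px : HP Q (x : V) x' := by
    refine ⟨hx, ?_, ?_⟩
    · rw [hx', quad_sub, quad_smul_vec, hx, map_smul, bil_comm (w : V), hw1, smul_eq_mul]
      ring
    · simp [hx', hw1, bil_self_of_singular hx]
  obtain ⟨l, hl0, hl⟩ := exists_unit_sq_ne hq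
  obtain ⟨g, g1, -, g3⟩ := exists_torus hN h5 Px hl0
  have fixg : ∀ z : V, bil Q (x : V) z = 0 → bil Q (w : V) z = 0 → g • z = z := fun z z1 z2 =>
    g3 z (mem_Wsub.2 ⟨z1, by simp [hx', z1, z2]⟩)
  have gy : g • (y : V) = y := fixg _ hxy ((bil_comm _ _).trans hwy)
  have hne : l ^ 2 - 1 ≠ 0 := fun e => hl (by rw [sq] at e; exact sub_eq_zero.1 e)
  set s := (l ^ 2 - 1)⁻¹
  have hsy : bil Q (x : V) (s • (y : V)) = 0 := by simp [hxy]
  refine twist_of_comm P h1 (g := g) (h := sg Q (x : V) (s • (y : V))) ?_ ?_ ?_ ?_ ?_ ?_ ?_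
  · exact fixg v ((bil_comm _ _).trans x1) ((bil_comm _ _).trans w1)
  · exact fixg v₁ ((bil_comm _ _).trans x2) ((bil_comm _ _).trans w2)
  · exact fixg _ hxφ ((bil_comm _ _).trans hwφ)
  · exact sg_fix hx hsy x1 (by simp [y1])
  · exact sg_fix hx hsy x2 (by simp [y2])
  · exact sg_fix hx hsy ((bil_comm _ _).trans hxφ) (by simp [bil_comm (φ : V) (y : V), hyφ])
  · have e : g * sg Q (x : V) (s • (y : V)) * g⁻¹ = sg Q (a : V) (b : V) * sg Q (x : V) (s • (y : V)) := by
      rw [sg_conj, g1, smul_comm g, gy, sg_smul_left hx hsy, ← hr, sg_mul hx hxy hsy]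
      congr 1
      match_scalars
      have : s * (l ^ 2 - 1) = 1 := inv_mul_cancel₀ hne
      linear_combination this
    rw [← mul_assoc, ← e, inv_mul_cancel_right]

/-- Twisting by a commutator: two vectors orthogonal to `a`, `b`, `φ` are not orthogonal. -/
theorem twist_comm (P : HP Q v v₁) {φ a b : Wsub Q v v₁} (h1 : mult ρ ψ φ = 1) (ha : Q (a : V) = 0)
    (hb : Q (b : V) = 0) (hab : bil Q (a : V) (b : V) = 0) (hφa : bil Q (a : V) (φ : V) = 0)
    (hφb : bil Q (b : V) (φ : V) = 0)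
    (hw : ∃ w w' : Wsub Q v v₁, (∀ s ∈ ({a, b, φ} : Set (Wsub Q v v₁)), bil Q (s : V) (w : V) = 0 ∧
      bil Q (s : V) (w' : V) = 0) ∧ bil Q (w' : V) (w : V) ≠ 0) :
    ∀ y ∈ wsp ρ ψ φ, ρ (sg Q (a : V) (b : V)) y = y := by
  obtain ⟨w, w', hs, hne⟩ := hw
  obtain ⟨aw, aw'⟩ := hs a (by simp)
  obtain ⟨bw, bw'⟩ := hs b (by simp)
  obtain ⟨φw, φw'⟩ := hs φ (by simp)
  obtain ⟨w1, w2⟩ := mem_Wsub.1 w.2
  obtain ⟨w1', w2'⟩ := mem_Wsub.1 w'.2
  obtain ⟨a1, a2⟩ := mem_Wsub.1 a.2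
  obtain ⟨b1, b2⟩ := mem_Wsub.1 b.2
  set u : V := (bil Q (w' : V) (w : V))⁻¹ • (w : V) with hu
  have hu0 : bil Q (a : V) u = 0 := by simp [hu, aw]
  have key := sg_commutator ha hb hab hu0 bw' (by simp [hu, bw]) aw'
  rw [show bil Q (w' : V) u = 1 by simp [hu, hne], neg_smul, one_smul, ← sg_swap ha hb hab] at key
  refine twist_of_comm P h1 (g := sg Q (a : V) u) (h := sg Q (b : V) (w' : V)) ?_ ?_ ?_ ?_ ?_ ?_ ?_
  · exact sg_fix ha hu0 a1 (by simp [hu, w1])
  · exact sg_fix ha hu0 a2 (by simp [hu, w2])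
  · exact sg_fix ha hu0 ((bil_comm _ _).trans hφa) (by simp [hu, φw])
  · exact sg_fix hb bw' b1 w1'
  · exact sg_fix hb bw' b2 w2'
  · exact sg_fix hb bw' ((bil_comm _ _).trans hφb) φw'
  · have hc : sg Q (b : V) (w' : V) * sg Q (a : V) (b : V) = sg Q (a : V) (b : V) * sg Q (b : V) (w' : V) := by
      have hba : bil Q (b : V) (-(a : V)) = 0 := by simp [bil_comm (b : V) (a : V), hab]
      rw [sg_swap ha hb hab, sg_mul hb bw' hba, sg_mul hb hba bw', add_comm]
    rw [← mul_assoc, ← hc, ← key, inv_mul_cancel_right]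

omit [FiniteDimensional ℂ X] in
/-- In large dimension the commutator twist always applies. -/
theorem exists_nonorth (P : HP Q v v₁) (L : Finset (Wsub Q v v₁))
    (hL : 2 * L.card < finrank F (Wsub Q v v₁)) :
    ∃ w w' : Wsub Q v v₁, (∀ s ∈ L, bil Q (s : V) (w : V) = 0 ∧ bil Q (s : V) (w' : V) = 0) ∧
      bil Q (w' : V) (w : V) ≠ 0 := by
  classical
  by_contra hc
  push Not at hc
  let T : Wsub Q v v₁ →ₗ[F] (L → F) := LinearMap.pi fun s => bil (QW Q v v₁) (s : Wsub Q v v₁)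
  have hsub : LinearMap.ker T ≤ Submodule.span F (L : Set (Wsub Q v v₁)) := by
    intro w hw
    by_contra hns
    obtain ⟨t, ht, ht0⟩ := exists_bil_sep (P.nondegenerate_QW hN) hns
    rw [bil_QW] at ht
    refine one_ne_zero (ht.symm.trans (hc t w fun s hs => ⟨ht0 s (Submodule.subset_span hs), ?_⟩))
    exact congrFun (LinearMap.mem_ker.1 hw) ⟨s, hs⟩
  have h1 := LinearMap.finrank_range_add_finrank_ker T
  have h2 : finrank F (LinearMap.range T) ≤ L.card := by
    refine (Submodule.finrank_le _).trans ?_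
    rw [Module.finrank_fintype_fun_eq_card, Fintype.card_coe]
  have h3 := (Submodule.finrank_mono hsub).trans (finrank_span_finset_le_card L)
  omega

noncomputable local instance fintypeW (v v₁ : V) : Fintype (Wsub Q v v₁) := Fintype.ofFinite _

omit hN in
theorem mem_W_fix {g : siegelGroup Q} {v v₁ x : V} (e : g • v = v) (e₁ : g • v₁ = v₁) (hx : x ∈ Wsub Q v v₁) :
    g • x ∈ Wsub Q v v₁ := by
  obtain ⟨h1, h2⟩ := mem_Wsub.1 hx
  refine mem_Wsub.2 ⟨?_, ?_⟩
  · rw [← e, bil_smul', h1]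
  · rw [← e₁, bil_smul', h2]

/-- The character of a long root element of the Levi factor on the vectors fixed by the radical. -/
theorem fix_deficit (hψ : ψ.IsPrimitive) (P : HP Q v v₁) (mc : F → ℕ)
    (hmc : ∀ φ : Wsub Q v v₁, φ ≠ 0 → mult ρ ψ φ = mc (Q (φ : V)))
    {a a₁ : Wsub Q v v₁} (Pa : HP (QW Q v v₁) a a₁) {b b₁ : Wsub (QW Q v v₁) a a₁}
    (Pb : HP (QW (QW Q v v₁) a a₁) b b₁)
    (htw : ∀ φ : Wsub Q v v₁, φ ≠ 0 → mult ρ ψ φ ≠ 0 → bil Q (a : V) (φ : V) = 0 →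
      bil Q (b : V) (φ : V) = 0 → ∀ y ∈ wsp ρ ψ φ, ρ (sg Q (a : V) (b : V)) y = y)
    (hD : (finrank ℂ X : ℂ) - LinearMap.trace ℂ X (ρ (sg Q (a : V) (b : V))) =
      ((Fintype.card F ^ (finrank F (Wsub Q v v₁) - 1) * ∑ c, mc c : ℕ) : ℂ)) :
    ∃ hmap : ∀ y ∈ wsp ρ ψ (0 : Wsub Q v v₁), ρ (sg Q (a : V) (b : V)) y ∈ wsp ρ ψ (0 : Wsub Q v v₁),
      (mult ρ ψ (0 : Wsub Q v v₁) : ℂ) - LinearMap.trace ℂ _ ((ρ (sg Q (a : V) (b : V))).restrict hmap) =
        ((Fintype.card F ^ (finrank F (Wsub Q v v₁) - 3) * ∑ c, mc c : ℕ) : ℂ) := by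
  classical
  obtain ⟨a1, a2⟩ := mem_Wsub.1 a.2
  obtain ⟨b1, b2⟩ := mem_Wsub.1 (b : Wsub Q v v₁).2
  have hab : bil Q (a : V) (b : V) = 0 := (mem_Wsub.1 b.2).1
  set r := sg Q (a : V) (b : V) with hrdef
  have hQa : Q (a : V) = 0 := Pa.sing
  have hv : r • v = v := sg_fix hQa hab a1 b1
  have hv₁ : r • v₁ = v₁ := sg_fix hQa hab a2 b2
  have hmap : ∀ y ∈ wsp ρ ψ (0 : Wsub Q v v₁), ρ r y ∈ wsp ρ ψ (0 : Wsub Q v v₁) := fun y hy =>
    map_mem_wsp P (c := 1) one_ne_zero (by rw [one_smul, hv]) (by rw [inv_one, one_smul, hv₁]) (by simp) hy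
  refine ⟨hmap, ?_⟩
  -- the moved weights
  let moved : Wsub Q v v₁ → Prop := fun φ => bil Q (a : V) (φ : V) ≠ 0 ∨ bil Q (b : V) (φ : V) ≠ 0
  have hterm : ∀ φ : Wsub Q v v₁, φ ≠ 0 →
      (mult ρ ψ φ : ℂ) - LinearMap.trace ℂ X (ρ r ∘ₗ eigenProj (rop ρ v v₁) (wch ψ φ)) =
        if moved φ then (mc (Q (φ : V)) : ℂ) else 0 := by
    intro φ hφ0
    by_cases hm : moved φ
    · have hr : r • (φ : V) ∈ Wsub Q v v₁ := mem_W_fix hv hv₁ φ.2
      have hne : r • (φ : V) ≠ φ := by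
        intro e
        rw [sg_act hQa hab, show Q ((b : Wsub Q v v₁) : V) = 0 from Pb.sing, zero_mul, add_zero,
          add_sub_assoc, add_eq_left] at e
        obtain ⟨-, hb2⟩ := mem_Wsub.1 b.2
        have h1 : bil Q (φ : V) (b : V) = 0 := by
          have h1 := congrArg (bil Q (a₁ : V)) e
          rw [map_sub, map_smul, map_smul, map_zero, show bil Q (a₁ : V) (b : V) = 0 from hb2,
            show bil Q (a₁ : V) (a : V) = 1 from Pa.symm.one, smul_zero, zero_sub, neg_eq_zero,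
            smul_eq_mul, mul_one] at h1
          exact h1
        rw [h1, zero_smul, sub_zero, smul_eq_zero] at e
        rcases hm with h | h
        · rcases e with e | e
          · exact h ((bil_comm _ _).trans e)
          · exact Pb.ne_zero (Subtype.ext (Subtype.ext e))
        · exact h ((bil_comm _ _).trans h1)
      rw [trace_of_move (isOp_rop P) (ρ r) (χ' := wch ψ ⟨_, hr⟩) (fun e => hne ?_) fun y hy => ?_, sub_zero,
        if_pos hm, hmc φ hφ0]
      · exact congrArg Subtype.val ((wch_bijective hN hψ P).1 e)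
      · exact map_mem_wsp P (c := 1) one_ne_zero (by rw [one_smul, hv]) (by rw [inv_one, one_smul, hv₁])
          (by rw [one_smul]) hy
    · rw [if_neg hm]
      simp only [moved, ne_eq, not_or, not_not] at hm
      rw [trace_of_scalar (isOp_rop P) _ _ 1 fun y hy => ?_, one_mul]
      · exact sub_self _
      · rcases eq_or_ne (mult ρ ψ φ) 0 with h0 | h0
        · rw [show y = 0 from (Submodule.eq_bot_iff _).1 (Submodule.finrank_eq_zero.1 h0) y hy]
          simp
        · rw [one_smul, htw φ hφ0 h0 hm.1 hm.2 y hy]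
  rw [trace_eq_sum_wsp (ρ := ρ) hN hψ P (ρ r), ← sum_mult (ρ := ρ) hN hψ P, Nat.cast_sum,
    ← Finset.sum_sub_distrib, ← Finset.add_sum_erase _ _ (Finset.mem_univ (0 : Wsub Q v v₁)),
    Finset.sum_congr rfl fun φ hφ => hterm φ (Finset.mem_erase.1 hφ).1] at hD
  have h0 : ¬ moved 0 := by simp [moved]
  rw [Finset.sum_erase _ (by rw [if_neg h0]), trace_restrict_eigen (isOp_rop P) (ρ r) _ hmap] at hD
  have hcount : ∑ φ : Wsub Q v v₁, (if moved φ then (mc (Q (φ : V)) : ℂ) else 0) =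
      (((Fintype.card F - 1) * (Fintype.card F ^ (finrank F (Wsub Q v v₁) - 2) +
        Fintype.card F ^ (finrank F (Wsub Q v v₁) - 3)) * ∑ c, mc c : ℕ) : ℂ) := by
    rw [← Finset.sum_fiberwise Finset.univ (fun φ : Wsub Q v v₁ => QW Q v v₁ φ), Finset.mul_sum, Nat.cast_sum]
    refine Finset.sum_congr rfl fun c _ => ?_
    rw [Finset.sum_congr rfl (g := fun φ => if moved φ then (mc c : ℂ) else 0) fun φ hφ => by
      rw [Finset.mem_filter, QW_apply] at hφ; rw [hφ.2], ← Finset.sum_filter, Finset.sum_const,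
      Finset.filter_filter, ← Fintype.card_subtype, ← Nat.card_eq_fintype_card, nsmul_eq_mul, Nat.cast_mul]
    congr 2
    have hk : 4 ≤ finrank F (Wsub Q v v₁) := by
      have := Pa.finrank_W; have := Pb.finrank_W; omega
    show Nat.card {x // QW Q v v₁ x = c ∧ (bil (QW Q v v₁) a x ≠ 0 ∨ bil (QW Q v v₁) (b : Wsub Q v v₁) x ≠ 0)} = _
    rw [card_moved (P.nondegenerate_QW hN) Pa Pb c, card_Wsub Pa, card_Wsub Pb,
      show finrank F (Wsub (QW Q v v₁) a a₁) - 2 = finrank F (Wsub Q v v₁) - 4 by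
        have := Pa.finrank_W; omega]
    congr 2
    rw [← pow_succ']
    congr 1
    omega
  rw [hcount] at hD
  have hk : 4 ≤ finrank F (Wsub Q v v₁) := by
    have := Pa.finrank_W; have := Pb.finrank_W; omega
  obtain ⟨j, hj⟩ : ∃ j, finrank F (Wsub Q v v₁) = j + 3 := ⟨finrank F (Wsub Q v v₁) - 3, by omega⟩
  rw [hj] at hD ⊢
  simp only [Nat.add_sub_cancel, show j + 3 - 1 = j + 2 by omega, show j + 3 - 2 = j + 1 by omega] at hD ⊢
  push_cast [Nat.cast_sub (Fintype.card_pos (α := F))] at hD ⊢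
  have key : ∀ m t M : ℂ, m - t + ((Fintype.card F : ℂ) - 1) * ((Fintype.card F : ℂ) ^ (j + 1) +
      (Fintype.card F : ℂ) ^ j) * M = (Fintype.card F : ℂ) ^ (j + 2) * M →
      m - t = (Fintype.card F : ℂ) ^ j * M := fun m t M h => by linear_combination h
  exact key _ _ _ hD

end Cfsg.Agent.MinDegree.Orth
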