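import Cfsg.Agent.Lib.GL.Basic
import Cfsg.Agent.Lib.ClassicalSimple.Linear

/-!
Orbits of quadratic maps with nonzero polar form over a field of characteristic two: every orbit under the linear
group has at least `(q ^ n - 1) (q ^ n - q) / (2 (q + 1))` elements.
-/

set_option autoImplicit false
set_option linter.unusedSectionVars false

open Module

namespace Cfsg.Agent.MinDegree.QuadOrbit

variable {F : Type*} [Field F] [Fintype F] [CharP F 2] {V : Type*} [AddCommGroup V] [Module F V]
  [FiniteDimensional F V]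

/-! ### Moving pairs -/

theorem exists_dual_vectors {l m : Module.Dual F V} (hlm : LinearIndependent F ![l, m]) :
    ∃ e f, l e = 1 ∧ m e = 0 ∧ l f = 0 ∧ m f = 1 := by
  obtain ⟨e, he⟩ := ClassicalSimple.exists_eval_eq _ hlm ![1, 0]
  obtain ⟨f, hf⟩ := ClassicalSimple.exists_eval_eq _ hlm ![0, 1]
  exact ⟨e, f, he 0, he 1, hf 0, hf 1⟩

theorem exists_move_pair {l m l' m' : Module.Dual F V} {e f e' f' : V}
    (hle : l e = 1) (hme : m e = 0) (hlf : l f = 0) (hmf : m f = 1)
    (hle' : l' e' = 1) (hme' : m' e' = 0) (hlf' : l' f' = 0) (hmf' : m' f' = 1) :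
    ∃ A : V ≃ₗ[F] V, A e = e' ∧ A f = f' ∧ (∀ x, l' (A x) = l x) ∧ (∀ x, m' (A x) = m x) := by
  have hker : ∀ {l m : Module.Dual F V} {e f : V}, l e = 1 → m e = 0 → l f = 0 → m f = 1 →
      finrank F (LinearMap.ker (l.prod m)) + 2 = finrank F V := by
    intro l m e f h1 h2 h3 h4
    have hr : LinearMap.range (l.prod m) = ⊤ := by
      refine eq_top_iff.2 fun p _ => ⟨p.1 • e + p.2 • f, ?_⟩
      simp [h1, h2, h3, h4]
    have := LinearMap.finrank_range_add_finrank_ker (l.prod m)
    rw [hr, finrank_top, Module.finrank_prod, Module.finrank_self] at this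
    omega
  have hdim : finrank F (LinearMap.ker (l.prod m)) = finrank F (LinearMap.ker (l'.prod m')) := by
    have := hker hle hme hlf hmf
    have := hker hle' hme' hlf' hmf'
    omega
  let φ := LinearEquiv.ofFinrankEq _ _ hdim
  let p : V →ₗ[F] LinearMap.ker (l.prod m) :=
    LinearMap.codRestrict _ (LinearMap.id - l.smulRight e - m.smulRight f) fun x => by
      simp [hle, hme, hlf, hmf]
  let A₀ : V →ₗ[F] V :=
    (LinearMap.ker (l'.prod m')).subtype ∘ₗ φ.toLinearMap ∘ₗ p + l.smulRight e' + m.smulRight f'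
  have hA : ∀ x, A₀ x = (φ (p x) : V) + l x • e' + m x • f' := fun x => rfl
  have hzero : ∀ x, l' (φ (p x) : V) = 0 ∧ m' (φ (p x) : V) = 0 := fun x => by
    have := LinearMap.mem_ker.1 (φ (p x)).2
    exact ⟨congrArg Prod.fst this, congrArg Prod.snd this⟩
  have hl : ∀ x, l' (A₀ x) = l x := fun x => by simp [hA, (hzero x).1, hle', hlf']
  have hm : ∀ x, m' (A₀ x) = m x := fun x => by simp [hA, (hzero x).2, hme', hmf']
  have hp : ∀ x, (p x : V) = x - l x • e - m x • f := fun x => rfl
  have hinj : Function.Injective A₀ := by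
    rw [injective_iff_map_eq_zero]
    intro x hx
    have h1 : l x = 0 := by rw [← hl, hx, map_zero]
    have h2 : m x = 0 := by rw [← hm, hx, map_zero]
    rw [hA, h1, h2, zero_smul, zero_smul, add_zero, add_zero, ZeroMemClass.coe_eq_zero,
      LinearEquiv.map_eq_zero_iff] at hx
    have := hp x
    rw [hx, h1, h2, zero_smul, zero_smul, sub_zero, sub_zero, ZeroMemClass.coe_zero] at this
    exact this.symm
  have hpe : p e = 0 := Subtype.ext (by simp [hp, hle, hme])
  have hpf : p f = 0 := Subtype.ext (by simp [hp, hlf, hmf])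
  refine ⟨LinearEquiv.ofInjectiveEndo A₀ hinj, ?_, ?_, hl, hm⟩
  · show A₀ e = e'
    rw [hA, hpe, map_zero, hle, hme]
    simp
  · show A₀ f = f'
    rw [hA, hpf, map_zero, hlf, hmf]
    simp

theorem neg_eq_self (a : F) : -a = a := CharTwo.neg_eq a

/-! ### The scalars `s ^ 2 + s` -/

/-- `{s * s + s}`. -/
def AS (F : Type*) [Field F] : Set F := Set.range fun s : F => s * s + s

theorem card_AS : 2 * Nat.card (AS F) = Fintype.card F := by
  let f : F →+ F := AddMonoidHom.mk' (fun s => s * s + s) fun a b => by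
    have := CharTwo.two_eq_zero (R := F)
    linear_combination a * b * this
  have hker : Nat.card f.ker = 2 := by
    have e : (f.ker : Set F) = {0, 1} := by
      ext x
      show x * x + x = 0 ↔ x = 0 ∨ x = 1
      constructor
      · intro hx
        rcases mul_eq_zero.1 (show x * (x + 1) = 0 by linear_combination hx) with h | h
        · exact Or.inl h
        · exact Or.inr (by linear_combination h - CharTwo.two_eq_zero (R := F))
      · rintro (rfl | rfl)
        · ring
        · linear_combination CharTwo.two_eq_zero (R := F)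
    show Nat.card (f.ker : Set F) = 2
    rw [e, Nat.card_coe_set_eq, Set.ncard_pair zero_ne_one]
  have h := AddSubgroup.card_mul_index f.ker
  rw [AddSubgroup.index_ker, hker, Nat.card_eq_fintype_card (α := F)] at h
  exact h

/-! ### Quadratic maps -/

/-- A quadratic map with a given nonzero alternating polar form. -/
structure Datum (F V : Type*) [Field F] [AddCommGroup V] [Module F V] where
  Q : V → F
  B : V →ₗ[F] V →ₗ[F] F
  smul : ∀ (a : F) x, Q (a • x) = a * a * Q x
  add : ∀ x y, Q (x + y) = Q x + Q y + B x y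
  alt : ∀ x, B x x = 0
  ne : B ≠ 0

variable (D : Datum F V)

theorem Datum.symm (x y : V) : D.B x y = D.B y x := by
  have := D.alt (x + y)
  simp only [map_add, LinearMap.add_apply, D.alt, zero_add, add_zero] at this
  rw [← neg_eq_self (D.B y x)]
  linear_combination this

/-- The orbit. -/
def Datum.orbit : Set (V → F) := {R | ∃ A : V ≃ₗ[F] V, R = fun x => D.Q (A x)}

/-- The orbit of the polar form. -/
def Datum.polarOrbit : Set (V → V → F) := {P | ∃ A : V ≃ₗ[F] V, P = fun x y => D.B (A x) (A y)}

/-- The maps with the same polar form obtained from the isometries. -/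
def Datum.fibre : Set (V → F) :=
  {R | ∃ T : V ≃ₗ[F] V, (∀ x y, D.B (T x) (T y) = D.B x y) ∧ R = fun x => D.Q (T x)}

theorem card_orbit_ge : Nat.card D.polarOrbit * Nat.card D.fibre ≤ Nat.card D.orbit := by
  have : Finite V := Module.finite_of_finite F
  choose A hA using fun P : D.polarOrbit => P.2
  choose T hT hR using fun R : D.fibre => R.2
  have key : ∀ (P : D.polarOrbit) (R : D.fibre) x y,
      R.1 (A P (x + y)) - R.1 (A P x) - R.1 (A P y) = P.1 x y := by
    intro P R x y
    rw [congrFun (congrFun (hA P) x) y, hR R]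
    simp only [map_add, D.add, hT]
    ring
  rw [← Nat.card_prod]
  refine Nat.card_le_card_of_injective
    (fun p => (⟨fun x => p.2.1 (A p.1 x), (A p.1).trans (T p.2),
      funext fun x => by rw [hR p.2]; rfl⟩ : D.orbit)) ?_
  rintro ⟨P, R⟩ ⟨P', R'⟩ e
  have e' := congrArg Subtype.val e
  simp only at e'
  have hP : P = P' := Subtype.ext (funext fun x => funext fun y => by
    rw [← key P R x y, ← key P' R' x y, congrFun e' (x + y), congrFun e' x, congrFun e' y])
  subst hP
  refine Prod.ext rfl (Subtype.ext (funext fun y => ?_))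
  obtain ⟨x, rfl⟩ := (A P).surjective y
  exact congrFun e' x

/-- The transvection along `w` with `a ^ 2 Q w + a = 1`. -/
theorem shift_mem_fibre (w : V) (hw : D.Q w ∈ AS F) : (fun x => D.Q x + D.B x w * D.B x w) ∈ D.fibre := by
  obtain ⟨s, hs⟩ := hw
  obtain ⟨a, ha⟩ : ∃ a : F, a * a * D.Q w + a = 1 := by
    by_cases h0 : D.Q w = 0
    · exact ⟨1, by rw [h0]; ring⟩
    · refine ⟨s / D.Q w, ?_⟩
      field_simp
      linear_combination hs
  let T₀ : V →ₗ[F] V := LinearMap.id + (a • D.B.flip w).smulRight w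
  have hT : ∀ x, T₀ x = x + (a * D.B x w) • w := fun x => rfl
  have hinj : Function.Injective T₀ := by
    rw [injective_iff_map_eq_zero]
    intro x hx
    have h1 := congrArg (fun y => D.B y w) hx
    simp only [hT, map_add, map_smul, LinearMap.add_apply, LinearMap.smul_apply, D.alt, smul_eq_mul, mul_zero,
      add_zero, map_zero, LinearMap.zero_apply] at h1
    rw [hT, h1, mul_zero, zero_smul, add_zero] at hx
    exact hx
  refine ⟨LinearEquiv.ofInjectiveEndo T₀ hinj, fun x y => ?_, funext fun x => ?_⟩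
  · show D.B (T₀ x) (T₀ y) = _
    simp only [hT, map_add, map_smul, LinearMap.add_apply, LinearMap.smul_apply, D.alt, smul_eq_mul, mul_zero,
      add_zero, D.symm w y]
    linear_combination a * D.B x w * D.B y w * CharTwo.two_eq_zero (R := F)
  · show _ = D.Q (T₀ x)
    rw [hT, D.add, D.smul, map_smul, smul_eq_mul]
    linear_combination -(D.B x w * D.B x w) * ha

theorem card_fibre_ge (P : Submodule F V) (hP : ∀ w ∈ P, (∀ x, D.B x w = 0) → w = 0) :
    Nat.card {w : P // D.Q w.1 ∈ AS F} ≤ Nat.card D.fibre := by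
  have : Finite V := Module.finite_of_finite F
  refine Nat.card_le_card_of_injective
    (fun w : {w : P // D.Q w.1 ∈ AS F} => (⟨_, shift_mem_fibre D w.1.1 w.2⟩ : D.fibre)) ?_
  intro w w' e
  have h1 : ∀ x, D.B x (w.1.1 - w'.1.1) = 0 := fun x => by
    have h2 := congrFun (congrArg Subtype.val e) x
    simp only [add_right_inj] at h2
    rw [map_sub, sub_eq_zero]
    exact CharTwo.sq_injective (R := F) (by simpa [sq] using h2)
  exact Subtype.ext (Subtype.ext (sub_eq_zero.1 (hP _ (P.sub_mem w.1.2 w'.1.2) h1)))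

/-- Scaling shows that enough vectors of a subspace have value in `AS`. -/
theorem card_good_ge (P : Submodule F V) :
    (Fintype.card F ^ finrank F P - 1) * (Fintype.card F - 2) + 2 * (Fintype.card F - 1) ≤
      2 * (Fintype.card F - 1) * Nat.card {w : P // D.Q w.1 ∈ AS F} := by
  classical
  have : Finite V := Module.finite_of_finite F
  have := Fintype.ofFinite P
  have h0 : D.Q 0 = 0 := by
    have := D.smul 0 0
    simpa using this
  have hAS0 : (0 : F) ∈ AS F := ⟨0, by simp⟩
  set G := Finset.univ.filter fun w : P => D.Q w.1 ∈ AS F with hG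
  have hG0 : (0 : P) ∈ G := Finset.mem_filter.2 ⟨Finset.mem_univ _, by rw [ZeroMemClass.coe_zero, h0]; exact hAS0⟩
  have hGc : Nat.card {w : P // D.Q w.1 ∈ AS F} = (G.erase 0).card + 1 := by
    rw [Nat.card_eq_fintype_card, Fintype.card_subtype, ← hG, Finset.card_erase_add_one hG0]
  -- pairs `(w, a)` with `a • w` good
  let U := ((Finset.univ : Finset P).erase 0) ×ˢ ((Finset.univ : Finset F).erase 0)
  let S := U.filter fun x => D.Q (x.2 • x.1.1) ∈ AS F
  have hup : S.card ≤ (Fintype.card F - 1) * (G.erase 0).card := by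
    refine (Finset.card_le_mul_card_image (f := fun x => x.2 • x.1) S (Fintype.card F - 1) ?_).trans
      (Nat.mul_le_mul_left _ (Finset.card_le_card fun w hw => ?_))
    · intro w _
      refine le_trans (Finset.card_le_card_of_injOn (fun x => x.2) (t := (Finset.univ : Finset F).erase 0)
        (fun x hx => ?_) ?_) (le_of_eq (by rw [Finset.card_erase_of_mem (Finset.mem_univ _), Finset.card_univ]))
      · exact (Finset.mem_product.1 (Finset.mem_filter.1 (Finset.mem_filter.1 hx).1).1).2
      · intro x hx y hy e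
        simp only [Finset.coe_filter, Set.mem_ofPred_eq] at hx hy
        refine Prod.ext ?_ e
        have hne := (Finset.mem_erase.1 (Finset.mem_product.1 (Finset.mem_filter.1 hx.1).1).2).1
        have h2 : x.2 • x.1 = y.2 • y.1 := hx.2.trans hy.2.symm
        rw [show y.2 = x.2 from e.symm] at h2
        exact smul_right_injective P hne h2
    · obtain ⟨x, hx, rfl⟩ := Finset.mem_image.1 hw
      obtain ⟨h1, h2⟩ := Finset.mem_filter.1 hx
      obtain ⟨h3, h4⟩ := Finset.mem_product.1 h1
      exact Finset.mem_erase.2 ⟨smul_ne_zero (Finset.mem_erase.1 h4).1 (Finset.mem_erase.1 h3).1,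
        Finset.mem_filter.2 ⟨Finset.mem_univ _, h2⟩⟩
  have hlow : ((Finset.univ : Finset P).erase 0).card * (Fintype.card F - 2) ≤ 2 * S.card := by
    have hsum : S.card = ∑ w ∈ (Finset.univ : Finset P).erase 0,
        (((Finset.univ : Finset F).erase 0).filter fun a => D.Q (a • w.1) ∈ AS F).card := by
      simp only [Finset.card_filter, S, U]
      exact Finset.sum_product _ _ _
    rw [hsum, Finset.mul_sum, ← smul_eq_mul]
    refine Finset.card_nsmul_le_sum _ _ _ fun w _ => ?_
    have hA := card_AS (F := F)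
    rcases eq_or_ne (D.Q w.1) 0 with hz | hz
    · rw [Finset.filter_true_of_mem fun a _ => by rw [D.smul, hz, mul_zero]; exact hAS0,
        Finset.card_erase_of_mem (Finset.mem_univ _), Finset.card_univ]
      omega
    · have hbij : Nat.card {a : F // D.Q (a • w.1) ∈ AS F} = Nat.card (AS F) := by
        refine Nat.card_congr (Equiv.ofBijective
          (fun a => (⟨D.Q (a.1 • w.1), a.2⟩ : AS F)) ⟨fun a b e => ?_, fun c => ?_⟩)
        · have := congrArg Subtype.val e
          simp only [D.smul] at this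
          exact Subtype.ext (CharTwo.sq_injective (R := F) (by simpa [sq] using mul_right_cancel₀ hz this))
        · obtain ⟨r, hr⟩ := FiniteField.isSquare_of_char_two (ringChar.eq F 2) (c.1 / D.Q w.1)
          refine ⟨⟨r, ?_⟩, Subtype.ext ?_⟩
          · rw [D.smul, ← hr, div_mul_cancel₀ _ hz]; exact c.2
          · show D.Q (r • w.1) = c
            rw [D.smul, ← hr, div_mul_cancel₀ _ hz]
      rw [Nat.card_eq_fintype_card, Fintype.card_subtype] at hbij
      rw [Finset.filter_erase, Finset.card_erase_of_mem (Finset.mem_filter.2 ⟨Finset.mem_univ _,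
        by rw [zero_smul, h0]; exact hAS0⟩), hbij]
      omega
  rw [Finset.card_erase_of_mem (Finset.mem_univ _), Finset.card_univ, Module.card_eq_pow_finrank (K := F) (V := P)]
    at hlow
  rw [hGc]
  rw [Nat.mul_add, Nat.mul_one]
  refine Nat.add_le_add_right (hlow.trans ?_) _
  rw [mul_assoc]
  exact Nat.mul_le_mul_left _ hup

/-- `(q ^ n - 1) (q ^ n - q) ≤ 2 (q + 1) |orbit|`. -/
theorem card_orbit (hn : 2 ≤ finrank F V) :
    (Fintype.card F ^ finrank F V - 1) * (Fintype.card F ^ finrank F V - Fintype.card F) ≤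
      2 * (Fintype.card F + 1) * Nat.card D.orbit := by
  classical
  have : Finite V := Module.finite_of_finite F
  have hV2 : Finite (Module.Dual F V) := Module.finite_of_finite F
  have hq : 2 ≤ Fintype.card F := Fintype.one_lt_card
  have hOR := card_orbit_ge D
  obtain ⟨f₁, f₀, hf0⟩ : ∃ x y, D.B x y ≠ 0 := by
    by_contra hc
    push Not at hc
    exact D.ne (LinearMap.ext₂ hc)
  obtain ⟨f₂, h12⟩ : ∃ f₂, D.B f₁ f₂ = 1 := ⟨(D.B f₁ f₀)⁻¹ • f₀, by simp [hf0]⟩
  have h21 : D.B f₂ f₁ = 1 := by rw [D.symm, h12]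
  let l₀ : Module.Dual F V := D.B.flip f₂
  let m₀ : Module.Dual F V := D.B f₁
  have hl1 : l₀ f₁ = 1 := h12
  have hl2 : l₀ f₂ = 0 := D.alt f₂
  have hm1 : m₀ f₁ = 0 := D.alt f₁
  have hm2 : m₀ f₂ = 1 := h12
  by_cases hcase : ∀ x y, D.B x y = l₀ x * m₀ y + l₀ y * m₀ x
  · -- the polar form has rank two
    let Pairs := {s : Fin 2 → Module.Dual F V // LinearIndependent F s}
    have := Fintype.ofFinite Pairs
    have := Fintype.ofFinite D.polarOrbit
    have hcp : Nat.card Pairs = (Fintype.card F ^ finrank F V - 1) * (Fintype.card F ^ finrank F V - Fintype.card F) := by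
      rw [card_linearIndependent (K := F) (V := Module.Dual F V) (by rw [Subspace.dual_finrank_eq]; exact hn),
        Fin.prod_univ_two, Subspace.dual_finrank_eq]
      simp
    have hex : ∀ s : Pairs, ∃ P : D.polarOrbit, ∀ x y, P.1 x y = s.1 0 x * s.1 1 y + s.1 0 y * s.1 1 x := by
      intro s
      obtain ⟨e, f, h1, h2, h3, h4⟩ := exists_dual_vectors (l := s.1 0) (m := s.1 1)
        (by convert s.2 using 1; ext i; fin_cases i <;> rfl)
      obtain ⟨A, -, -, hA1, hA2⟩ := exists_move_pair h1 h2 h3 h4 hl1 hm1 hl2 hm2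
      exact ⟨⟨_, A, rfl⟩, fun x y => by show D.B (A x) (A y) = _; rw [hcase, hA1, hA1, hA2, hA2]⟩
    choose π hπ using hex
    have hfib : ∀ P ∈ (Finset.univ : Finset Pairs).image π,
        ((Finset.univ : Finset Pairs).filter fun s => π s = P).card ≤ Fintype.card F * (Fintype.card F ^ 2 - 1) := by
      intro P hP
      obtain ⟨s₀, -, rfl⟩ := Finset.mem_image.1 hP
      rw [← GL.card_SL2 (F := F), ← Fintype.card_subtype, ← Nat.card_eq_fintype_card]
      have hM : ∀ s : {s : Pairs // π s = π s₀}, ∃ M : Matrix.SpecialLinearGroup (Fin 2) F,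
          (∀ x, s.1.1 0 x = M.1 0 0 * s₀.1 0 x + M.1 0 1 * s₀.1 1 x) ∧
          ∀ x, s.1.1 1 x = M.1 1 0 * s₀.1 0 x + M.1 1 1 * s₀.1 1 x := by
        rintro ⟨s, hs⟩
        obtain ⟨e, f, h1, h2, h3, h4⟩ := exists_dual_vectors (l := s.1 0) (m := s.1 1)
          (by convert s.2 using 1; ext i; fin_cases i <;> rfl)
        have heq : ∀ x y, s.1 0 x * s.1 1 y + s.1 0 y * s.1 1 x =
            s₀.1 0 x * s₀.1 1 y + s₀.1 0 y * s₀.1 1 x := fun x y => by rw [← hπ, ← hπ, hs]
        refine ⟨⟨!![s₀.1 1 f, s₀.1 0 f; s₀.1 1 e, s₀.1 0 e], ?_⟩, fun x => ?_, fun x => ?_⟩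
        · rw [Matrix.det_fin_two_of]
          have h := heq e f
          rw [h1, h2, h3, h4] at h
          linear_combination -h - s₀.1 0 f * s₀.1 1 e * CharTwo.two_eq_zero (R := F)
        · have h := heq f x
          rw [h3, h4] at h
          simp only [Matrix.of_apply, Matrix.cons_val_zero, Matrix.cons_val_one, Matrix.cons_val']
          linear_combination h
        · have h := heq e x
          rw [h1, h2] at h
          simp only [Matrix.of_apply, Matrix.cons_val_zero, Matrix.cons_val_one, Matrix.cons_val']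
          linear_combination h
      choose M hM0 hM1 using hM
      refine Nat.card_le_card_of_injective M fun s s' e => Subtype.ext (Subtype.ext (funext fun i => ?_))
      fin_cases i
      · exact LinearMap.ext fun x => by show s.1.1 0 x = s'.1.1 0 x; rw [hM0, hM0, e]
      · exact LinearMap.ext fun x => by show s.1.1 1 x = s'.1.1 1 x; rw [hM1, hM1, e]
    have h1 := Finset.card_le_mul_card_image (s := (Finset.univ : Finset Pairs)) (f := π) _ hfib
    rw [Finset.card_univ, ← Nat.card_eq_fintype_card, hcp] at h1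
    have h2 : ((Finset.univ : Finset Pairs).image π).card ≤ Nat.card D.polarOrbit := by
      rw [Nat.card_eq_fintype_card]; exact Finset.card_le_univ _
    -- the plane `⟨f₁, f₂⟩`
    let P := Submodule.span F (Set.range ![f₁, f₂])
    have hli : LinearIndependent F ![f₁, f₂] := by
      rw [LinearIndependent.pair_iff]
      intro a b hab
      have e1 := congrArg l₀ hab
      have e2 := congrArg m₀ hab
      simp [hl1, hl2, hm1, hm2] at e1 e2
      exact ⟨e1, e2⟩
    have hP : ∀ w ∈ P, (∀ x, D.B x w = 0) → w = 0 := by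
      intro w hw hwx
      simp only [P, Matrix.range_cons_cons_empty, Submodule.mem_span_pair] at hw
      obtain ⟨a, b, rfl⟩ := hw
      have e1 := hwx f₁
      have e2 := hwx f₂
      simp [h12, h21, D.alt] at e1 e2
      simp [e1, e2]
    have hg := card_good_ge D P
    rw [show finrank F P = 2 by rw [finrank_span_eq_card hli]; simp] at hg
    have hF := card_fibre_ge D P hP
    generalize Fintype.card F = q at *
    generalize Nat.card {w : P // D.Q w.1 ∈ AS F} = g at *
    obtain ⟨a, rfl⟩ : ∃ a, q = a + 2 := ⟨q - 2, by omega⟩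
    have e0 : a + 2 - 1 = a + 1 := by omega
    have e1 : a + 2 - 2 = a := by omega
    have e2 : (a + 2) ^ 2 - 1 = (a + 1) * (a + 3) := by
      have : (a + 2) ^ 2 = (a + 1) * (a + 3) + 1 := by ring
      omega
    rw [e0, e1, e2] at hg
    rw [e2] at h1
    have hg2 : (a + 2) * (a + 1) ≤ 2 * g := by
      refine Nat.le_of_mul_le_mul_left ?_ (show 0 < a + 1 by omega)
      calc (a + 1) * ((a + 2) * (a + 1)) = (a + 1) * (a + 3) * a + 2 * (a + 1) := by ring
        _ ≤ 2 * (a + 1) * g := hg
        _ = _ := by ring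
    calc _ ≤ (a + 2) * ((a + 1) * (a + 3)) * Nat.card D.polarOrbit := h1.trans (Nat.mul_le_mul_left _ h2)
      _ = (a + 3) * Nat.card D.polarOrbit * ((a + 2) * (a + 1)) := by ring
      _ ≤ (a + 3) * Nat.card D.polarOrbit * (2 * g) := Nat.mul_le_mul_left _ hg2
      _ ≤ (a + 3) * Nat.card D.polarOrbit * (2 * Nat.card D.fibre) :=
          Nat.mul_le_mul_left _ (Nat.mul_le_mul_left _ hF)
      _ = 2 * (a + 2 + 1) * (Nat.card D.polarOrbit * Nat.card D.fibre) := by ring
      _ ≤ _ := Nat.mul_le_mul_left _ hOR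
  · -- the polar form has rank at least four
    push Not at hcase
    obtain ⟨x₀, y₀, hxy⟩ := hcase
    let h := x₀ + l₀ x₀ • f₁ + m₀ x₀ • f₂
    have hh1 : D.B f₁ h = 0 := by
      simp only [h, map_add, map_smul, D.alt, h12, smul_eq_mul, mul_zero, mul_one, add_zero]
      exact CharTwo.add_self_eq_zero _
    have hh2 : D.B f₂ h = 0 := by
      simp only [h, map_add, map_smul, D.alt, h21, smul_eq_mul, mul_zero, mul_one, add_zero]
      show D.B f₂ x₀ + D.B x₀ f₂ = 0
      rw [D.symm]; exact CharTwo.add_self_eq_zero _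
    have hhy : D.B h y₀ ≠ 0 := by
      intro h0
      apply hxy
      simp only [h, map_add, map_smul, LinearMap.add_apply, LinearMap.smul_apply, smul_eq_mul] at h0
      show _ = _ + D.B y₀ f₂ * _
      rw [D.symm y₀ f₂]
      linear_combination h0 - (l₀ x₀ * m₀ y₀ + D.B f₂ y₀ * m₀ x₀) * CharTwo.two_eq_zero (R := F)
    -- the count of polar forms
    let R := {p : Module.Dual F V // p ≠ 0 ∧ p f₁ = 0}
    have hsel : ∀ r : R, ∃ f : V, r.1 f = 1 := fun r => by
      obtain ⟨y, hy⟩ : ∃ y, r.1 y ≠ 0 := by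
        by_contra hc
        push Not at hc
        exact r.2.1 (LinearMap.ext hc)
      exact ⟨(r.1 y)⁻¹ • y, by simp [hy]⟩
    choose sel hsel using hsel
    let T := Σ r : R, {l : Module.Dual F V // l f₁ = 0 ∧ l (sel r) = 0}
    have hf1 : f₁ ≠ 0 := fun e => one_ne_zero (α := F) (by rw [← hl1, e, map_zero])
    have hindep : ∀ r : R, LinearIndependent F ![f₁, sel r] := fun r => by
      rw [LinearIndependent.pair_iff]
      intro a b hab
      have e2 := congrArg r.1 hab
      simp [r.2.2, hsel r] at e2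
      subst e2
      simp [hf1] at hab
      exact ⟨hab, rfl⟩
    have hann : ∀ r : R, Nat.card {l : Module.Dual F V // l f₁ = 0 ∧ l (sel r) = 0} =
        Fintype.card F ^ (finrank F V - 2) := by
      intro r
      let W := Submodule.span F (Set.range ![f₁, sel r])
      have hW : finrank F W = 2 := by rw [finrank_span_eq_card (hindep r)]; simp
      have h1 := Subspace.finrank_add_finrank_dualAnnihilator_eq W
      rw [hW] at h1
      rw [show finrank F V - 2 = finrank F W.dualAnnihilator by omega, ← Nat.card_eq_fintype_card (α := F),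
        ← Module.natCard_eq_pow_finrank (K := F) (V := W.dualAnnihilator)]
      refine Nat.card_congr (Equiv.subtypeEquivRight fun l => ?_)
      rw [Submodule.mem_dualAnnihilator]
      constructor
      · rintro ⟨a, b⟩ w hw
        simp only [W, Matrix.range_cons_cons_empty, Submodule.mem_span_pair] at hw
        obtain ⟨c, d, rfl⟩ := hw
        simp [a, b]
      · intro hl
        exact ⟨hl _ (Submodule.subset_span ⟨0, rfl⟩), hl _ (Submodule.subset_span ⟨1, rfl⟩)⟩
    have hR : Nat.card R = Fintype.card F ^ (finrank F V - 1) - 1 := by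
      let W := Submodule.span F {f₁}
      have h1 := Subspace.finrank_add_finrank_dualAnnihilator_eq W
      rw [show finrank F W = 1 from finrank_span_singleton hf1] at h1
      have h3 : Nat.card W.dualAnnihilator = Fintype.card F ^ (finrank F V - 1) := by
        rw [Module.natCard_eq_pow_finrank (K := F), Nat.card_eq_fintype_card,
          show finrank F V - 1 = finrank F W.dualAnnihilator by omega]
      have := Fintype.ofFinite W.dualAnnihilator
      have e : R ≃ {w : W.dualAnnihilator // w ≠ 0} :=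
        { toFun := fun r => ⟨⟨r.1, (Submodule.mem_dualAnnihilator _).2 fun w hw => by
            obtain ⟨c, rfl⟩ := Submodule.mem_span_singleton.1 hw
            simp [r.2.2]⟩, fun e => r.2.1 (congrArg Subtype.val e)⟩
          invFun := fun w => ⟨w.1.1, fun e => w.2 (Subtype.ext e),
            (Submodule.mem_dualAnnihilator _).1 w.1.2 f₁ (Submodule.mem_span_singleton_self _)⟩
          left_inv := fun r => rfl
          right_inv := fun w => rfl }
      rw [Nat.card_congr e, Nat.card_eq_fintype_card, Fintype.card_subtype_compl, Fintype.card_subtype_eq,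
        ← Nat.card_eq_fintype_card, h3]
    have hA₀ : ∀ r : R, ∃ A : V ≃ₗ[F] V, A f₁ = f₁ ∧ A (sel r) = f₂ ∧ ∀ y, m₀ (A y) = r.1 y := by
      intro r
      have hev : LinearIndependent F ![Module.Dual.eval F V f₁, Module.Dual.eval F V (sel r)] := by
        rw [LinearIndependent.pair_iff]
        intro a b hab
        refine LinearIndependent.pair_iff.1 (hindep r) a b (Module.eval_apply_injective F (V := V) ?_)
        rw [map_add, map_smul, map_smul, map_zero]
        exact hab
      obtain ⟨s, hs⟩ := ClassicalSimple.exists_eval_eq _ hev ![1, 0]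
      obtain ⟨A, h1, h2, -, h4⟩ := exists_move_pair (l := s) (m := r.1) (e := f₁) (f := sel r)
        (hs 0) r.2.2 (hs 1) (hsel r) hl1 hm1 hl2 hm2
      exact ⟨A, h1, h2, h4⟩
    choose A₀ hA1 hA2 hA3 using hA₀
    have hforms : ∀ t : T, ∃ P : D.polarOrbit, (∀ y, P.1 f₁ y = t.1.1 y) ∧
        ∀ y, P.1 (sel t.1) y = D.B f₂ (A₀ t.1 y) + t.2.1 y := by
      rintro ⟨r, l, hl, hlf⟩
      let C₀ : V →ₗ[F] V := LinearMap.id + l.smulRight f₁
      have hC : ∀ y, C₀ y = y + l y • f₁ := fun y => rfl
      have hinj : Function.Injective C₀ := by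
        rw [injective_iff_map_eq_zero]
        intro y hy
        have h1 := congrArg l hy
        simp [hC, hl] at h1
        simpa [hC, h1] using hy
      let C := LinearEquiv.ofInjectiveEndo C₀ hinj
      have hC' : ∀ y, C y = y + l y • f₁ := fun y => rfl
      refine ⟨⟨_, C.trans (A₀ r), rfl⟩, fun y => ?_, fun y => ?_⟩
      · show D.B (A₀ r (C f₁)) (A₀ r (C y)) = r.1 y
        rw [hC', hC', hl, zero_smul, add_zero, hA1, map_add, map_smul, map_add, map_smul, hA1, D.alt,
          smul_zero, add_zero]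
        exact hA3 r y
      · show D.B (A₀ r (C (sel r))) (A₀ r (C y)) = D.B f₂ (A₀ r y) + l y
        rw [hC', hC', hlf, zero_smul, add_zero, hA2, map_add, map_smul, map_add, map_smul, hA1, h21,
          smul_eq_mul, mul_one]
    choose π hπ1 hπ2 using hforms
    have hinjT : Function.Injective π := by
      rintro ⟨r, l⟩ ⟨r', l'⟩ e
      have hr : r = r' := Subtype.ext (LinearMap.ext fun y => by rw [← hπ1 ⟨r, l⟩ y, e, hπ1 ⟨r', l'⟩ y])
      subst hr
      refine congrArg (Sigma.mk r) (Subtype.ext (LinearMap.ext fun y => ?_))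
      have h1 := hπ2 ⟨r, l⟩ y
      rw [e, hπ2 ⟨r, l'⟩ y] at h1
      exact (add_left_cancel h1).symm
    have := Fintype.ofFinite R
    have hT : Nat.card T = (Fintype.card F ^ (finrank F V - 1) - 1) * Fintype.card F ^ (finrank F V - 2) := by
      rw [Nat.card_sigma, Finset.sum_congr rfl fun r _ => hann r, Finset.sum_const, smul_eq_mul, Finset.card_univ,
        ← Nat.card_eq_fintype_card, hR]
    have hOB := Nat.card_le_card_of_injective π hinjT
    rw [hT] at hOB
    -- the space `⟨f₁, f₂, h⟩`
    let P := Submodule.span F (Set.range ![f₁, f₂, h])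
    have hPw : ∀ a b c : F, (∀ x, D.B x (a • f₁ + b • f₂ + c • h) = 0) → a = 0 ∧ b = 0 ∧ c = 0 := by
      intro a b c hx
      have e1 := hx f₁
      have e2 := hx f₂
      have e3 := hx y₀
      simp [h12, h21, D.alt, hh1, hh2] at e1 e2
      subst e1 e2
      simp [D.symm y₀ h, hhy] at e3
      exact ⟨rfl, rfl, e3⟩
    have hrange : ∀ w ∈ P, ∃ a b c : F, w = a • f₁ + b • f₂ + c • h := by
      intro w hw
      obtain ⟨c, hc⟩ := (Submodule.mem_span_range_iff_exists_fun F).1 hw
      exact ⟨c 0, c 1, c 2, by rw [← hc, Fin.sum_univ_three]; rfl⟩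
    have hP : ∀ w ∈ P, (∀ x, D.B x w = 0) → w = 0 := by
      intro w hw hwx
      obtain ⟨a, b, c, rfl⟩ := hrange w hw
      obtain ⟨rfl, rfl, rfl⟩ := hPw a b c hwx
      simp
    have hli : LinearIndependent F ![f₁, f₂, h] := by
      rw [Fintype.linearIndependent_iff]
      intro g hg i
      rw [Fin.sum_univ_three] at hg
      obtain ⟨a, b, c⟩ := hPw (g 0) (g 1) (g 2) fun x => by
        rw [show g 0 • f₁ + g 1 • f₂ + g 2 • h = 0 from hg, map_zero]
      fin_cases i <;> assumption
    have hg := card_good_ge D P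
    rw [show finrank F P = 3 by rw [finrank_span_eq_card hli]; simp] at hg
    have hF := card_fibre_ge D P hP
    -- a singular vector
    have hg2 : 2 ≤ Nat.card {w : P // D.Q w.1 ∈ AS F} := by
      have hc2 : ringChar F = 2 := ringChar.eq F 2
      obtain ⟨r, hr⟩ := FiniteField.isSquare_of_char_two hc2 (D.Q h)
      obtain ⟨t, ht⟩ := FiniteField.isSquare_of_char_two hc2 (D.Q f₁)
      have h0 : D.Q 0 = 0 := by
        have := D.smul 0 0
        simpa using this
      have hm1' : f₁ ∈ P := Submodule.subset_span ⟨0, rfl⟩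
      have hm3' : h ∈ P := Submodule.subset_span ⟨2, rfl⟩
      obtain ⟨w, hw0, hwP, hwQ⟩ : ∃ w, w ≠ 0 ∧ w ∈ P ∧ D.Q w = 0 := by
        by_cases hq1 : D.Q f₁ = 0
        · exact ⟨f₁, hf1, hm1', hq1⟩
        · refine ⟨r • f₁ + t • h, fun e => hq1 ?_, P.add_mem (P.smul_mem _ hm1') (P.smul_mem _ hm3'), ?_⟩
          · obtain ⟨-, -, ht0⟩ := hPw r 0 t fun x => by rw [zero_smul, add_zero, e, map_zero]
            rw [ht, ht0, mul_zero]
          · rw [D.add, D.smul, D.smul, map_smul, map_smul, LinearMap.smul_apply, hh1, ← hr, ht, smul_zero,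
              smul_zero, add_zero]
            linear_combination D.Q h * t * t * CharTwo.two_eq_zero (R := F)
      refine le_trans (by norm_num) (Finite.one_lt_card_iff_nontrivial.2
        ⟨⟨⟨⟨w, hwP⟩, by show D.Q w ∈ AS F; rw [hwQ]; exact ⟨0, by simp⟩⟩,
          ⟨0, by show D.Q ((0 : P) : V) ∈ AS F; rw [ZeroMemClass.coe_zero, h0]; exact ⟨0, by simp⟩⟩,
          fun e => hw0 (congrArg (fun z : {z : P // D.Q z.1 ∈ AS F} => (z.1 : V)) e)⟩⟩)
    generalize finrank F V = N at *
    generalize Fintype.card F = q at *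
    generalize Nat.card {w : P // D.Q w.1 ∈ AS F} = g at *
    have hg3 : q * (q - 1) ≤ g := by
      rcases Nat.lt_or_ge q 3 with h3 | h3
      · obtain rfl : q = 2 := by omega
        simpa using hg2
      · obtain ⟨a, rfl⟩ : ∃ a, q = a + 3 := ⟨q - 3, by omega⟩
        rw [show a + 3 - 1 = a + 2 by omega] at hg ⊢
        rw [show a + 3 - 2 = a + 1 by omega] at hg
        have e3 : (a + 3) ^ 3 - 1 = (a + 2) * ((a + 3) * (a + 3) + (a + 3) + 1) := by
          have : (a + 3) ^ 3 = (a + 2) * ((a + 3) * (a + 3) + (a + 3) + 1) + 1 := by ring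
          omega
        rw [e3] at hg
        have h4 : ((a + 3) * (a + 3) + (a + 3) + 1) * (a + 1) + 2 ≤ 2 * g := by
          refine Nat.le_of_mul_le_mul_left ?_ (show 0 < a + 2 by omega)
          calc (a + 2) * (((a + 3) * (a + 3) + (a + 3) + 1) * (a + 1) + 2) =
                (a + 2) * ((a + 3) * (a + 3) + (a + 3) + 1) * (a + 1) + 2 * (a + 2) := by ring
            _ ≤ 2 * (a + 2) * g := hg
            _ = _ := by ring
        nlinarith
    obtain ⟨M, rfl⟩ : ∃ M, N = M + 2 := ⟨N - 2, by omega⟩
    rw [show M + 2 - 1 = M + 1 by omega, Nat.add_sub_cancel] at hOB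
    obtain ⟨a, rfl⟩ : ∃ a, q = a + 2 := ⟨q - 2, by omega⟩
    rw [show a + 2 - 1 = a + 1 by omega] at hg3
    have e4 : (a + 2) ^ (M + 2) - (a + 2) = (a + 2) * ((a + 2) ^ (M + 1) - 1) := by
      rw [Nat.mul_sub, mul_one, ← pow_succ']
    have e5 : (a + 2) ^ (M + 2) - 1 ≤ 2 * (a + 3) * (a + 1) * (a + 2) ^ M := by
      refine (Nat.sub_le _ _).trans ?_
      rw [pow_add, mul_comm]
      exact Nat.mul_le_mul_right _ (by nlinarith)
    calc _ = ((a + 2) ^ (M + 2) - 1) * ((a + 2) * ((a + 2) ^ (M + 1) - 1)) := by rw [e4]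
      _ ≤ 2 * (a + 3) * (a + 1) * (a + 2) ^ M * ((a + 2) * ((a + 2) ^ (M + 1) - 1)) := Nat.mul_le_mul_right _ e5
      _ = 2 * (a + 3) * ((((a + 2) ^ (M + 1) - 1) * (a + 2) ^ M) * ((a + 2) * (a + 1))) := by ring
      _ ≤ 2 * (a + 3) * (Nat.card D.polarOrbit * Nat.card D.fibre) :=
          Nat.mul_le_mul_left _ (Nat.mul_le_mul hOB (hg3.trans hF))
      _ ≤ _ := Nat.mul_le_mul_left _ hOR

end Cfsg.Agent.MinDegree.QuadOrbit
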