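import Cfsg.Agent.Lib.MinDegree.WeightTrace
import Cfsg.Agent.Lib.MinDeg.Transvection
import Cfsg.Agent.Lib.GL.Action

/-!
The parabolic subgroup fixing the line of the first basis vector in `SL_{m+1}(q)`: the radical `uSL f` and the
Levi factor `levi A`, and the weights of a representation on the radical.
-/

set_option autoImplicit false
set_option linter.unusedSectionVars false

open Matrix Module
open scoped MatrixGroups

namespace Cfsg.Agent.MinDegree

open Cfsg.Agent.MinDeg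

variable {F : Type*} [Field F] {m : ℕ}

/-- The matrix with first row `(a, f)` and lower block `A`. -/
def blk (a : F) (f : Fin m → F) (A : Matrix (Fin m) (Fin m) F) :
    Matrix (Fin (m + 1)) (Fin (m + 1)) F :=
  Matrix.of (Fin.cons (Fin.cons a f) fun i => Fin.cons 0 (A i))

theorem blk_mul (a b : F) (f g : Fin m → F) (A B : Matrix (Fin m) (Fin m) F) :
    blk a f A * blk b g B = blk (a * b) (a • g + f ᵥ* B) (A * B) := by
  ext i j
  induction i using Fin.cases <;> induction j using Fin.cases <;>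
    simp [blk, Matrix.mul_apply, Fin.sum_univ_succ, vecMul, dotProduct]

theorem blk_one : blk (1 : F) 0 (1 : Matrix (Fin m) (Fin m) F) = 1 := by
  ext i j
  induction i using Fin.cases <;> induction j using Fin.cases <;>
    simp [blk, Matrix.one_apply, Fin.succ_ne_zero, (Fin.succ_ne_zero _).symm]

theorem det_blk (a : F) (f : Fin m → F) (A : Matrix (Fin m) (Fin m) F) :
    (blk a f A).det = a * A.det := by
  rw [Matrix.det_succ_column_zero, Fin.sum_univ_succ]
  simp [blk, Matrix.submatrix, show (Matrix.of fun i j => A i j) = A from rfl]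

theorem blk_mulVec (a : F) (f : Fin m → F) (A : Matrix (Fin m) (Fin m) F) (s : F) (x : Fin m → F) :
    blk a f A *ᵥ Fin.cons s x = Fin.cons (a * s + f ⬝ᵥ x) (A *ᵥ x) := by
  ext i
  induction i using Fin.cases <;> simp [blk, mulVec, dotProduct, Fin.sum_univ_succ]

theorem vecMul_blk (a : F) (f : Fin m → F) (A : Matrix (Fin m) (Fin m) F) (s : F) (x : Fin m → F) :
    Fin.cons s x ᵥ* blk a f A = Fin.cons (s * a) (s • f + x ᵥ* A) := by
  ext i
  induction i using Fin.cases <;> simp [blk, vecMul, dotProduct, Fin.sum_univ_succ]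

theorem dot_cons (a b : F) (x y : Fin m → F) :
    (Fin.cons a x : Fin (m + 1) → F) ⬝ᵥ Fin.cons b y = a * b + x ⬝ᵥ y := by
  simp [dotProduct, Fin.sum_univ_succ]

/-- The radical. -/
def uSL (f : Fin m → F) : SL(m + 1, F) := ⟨blk 1 f 1, by rw [det_blk, Matrix.det_one, mul_one]⟩

theorem uSL_add (f g : Fin m → F) : uSL (f + g) = uSL f * uSL g := by
  refine Subtype.ext ?_
  show blk 1 (f + g) 1 = blk 1 f 1 * blk 1 g 1
  rw [blk_mul, one_mul, mul_one, one_smul, vecMul_one, add_comm f g]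

theorem uSL_zero : uSL (0 : Fin m → F) = 1 := Subtype.ext blk_one

theorem uSL_eq_tv (f : Fin m → F) :
    uSL f = tv (Fin.cons 1 0) (Fin.cons 0 f) := by
  refine Subtype.ext ?_
  show blk 1 f 1 = (tv _ _ : SL(m + 1, F)).1
  rw [tv_coe (by rw [dot_cons]; simp)]
  ext i j
  induction i using Fin.cases <;> induction j using Fin.cases <;>
    simp [blk, vecMulVec_apply, Matrix.one_apply, Fin.succ_ne_zero, (Fin.succ_ne_zero _).symm]

/-- The Levi factor. -/
noncomputable def levi : GL (Fin m) F →* SL(m + 1, F) where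
  toFun A := ⟨blk (A.1.det)⁻¹ 0 A.1, by
    rw [det_blk, inv_mul_cancel₀]
    exact ((Matrix.isUnit_iff_isUnit_det _).1 A.isUnit).ne_zero⟩
  map_one' := Subtype.ext (by simp [blk_one])
  map_mul' A B := Subtype.ext (by
    show blk ((A.1 * B.1).det)⁻¹ 0 (A.1 * B.1) = blk (A.1.det)⁻¹ 0 A.1 * blk (B.1.det)⁻¹ 0 B.1
    rw [blk_mul, Matrix.det_mul, mul_inv, smul_zero, zero_vecMul, add_zero])

theorem levi_mul_uSL (A : GL (Fin m) F) (f : Fin m → F) :
    uSL f * levi A = levi A * uSL (A.1.det • (f ᵥ* A.1)) := by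
  refine Subtype.ext ?_
  show blk 1 f 1 * blk (A.1.det)⁻¹ 0 A.1 = blk (A.1.det)⁻¹ 0 A.1 * blk 1 _ 1
  rw [blk_mul, blk_mul, smul_zero, zero_add, one_mul, mul_one, one_mul, zero_vecMul, add_zero, mul_one,
    smul_smul, inv_mul_cancel₀ ((Matrix.isUnit_iff_isUnit_det _).1 A.isUnit).ne_zero, one_smul]

theorem coe_toGL (t : SL(m, F)) : (SpecialLinearGroup.toGL t).1 = t.1 := rfl

theorem levi_tv {c φ : Fin m → F} (h : φ ⬝ᵥ c = 0) :
    levi (SpecialLinearGroup.toGL (tv c φ)) = tv (Fin.cons 0 c) (Fin.cons 0 φ) := by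
  refine Subtype.ext ?_
  show blk ((tv c φ).1.det)⁻¹ 0 (tv c φ).1 = (tv _ _ : SL(m + 1, F)).1
  rw [(tv c φ).2, inv_one, tv_coe h, tv_coe (by rw [dot_cons, h]; simp)]
  ext i j
  induction i using Fin.cases <;> induction j using Fin.cases <;>
    simp [blk, vecMulVec_apply, Matrix.one_apply, Fin.succ_ne_zero, (Fin.succ_ne_zero _).symm]

theorem coe_SL_mul (g h : SL(m, F)) : (g * h).1 = g.1 * h.1 := rfl

/-! ### Weights -/

variable [Fintype F] {W : Type*} [AddCommGroup W] [Module ℂ W]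

/-- The operators of the radical. -/
def op (ρ : Representation ℂ SL(m + 1, F) W) (f : Fin m → F) : W →ₗ[ℂ] W := ρ (uSL f)

theorem isOp (ρ : Representation ℂ SL(m + 1, F) W) : IsOp (op ρ) :=
  ⟨by simp [op, uSL_zero], fun f g => by simp [op, uSL_add]⟩

/-- The character `f ↦ ψ (f ⬝ w)`. -/
def wchar (ψ : AddChar F ℂ) (w : Fin m → F) : AddChar (Fin m → F) ℂ :=
  ψ.compAddMonoidHom (AddMonoidHom.mk' (fun f => f ⬝ᵥ w) fun f g => add_dotProduct f g w)

theorem wchar_apply (ψ : AddChar F ℂ) (w f : Fin m → F) : wchar ψ w f = ψ (f ⬝ᵥ w) := rfl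

theorem wchar_zero (ψ : AddChar F ℂ) : wchar ψ (0 : Fin m → F) = 1 := by
  ext f; simp [wchar_apply]

theorem wchar_bijective {ψ : AddChar F ℂ} (hψ : ψ.IsPrimitive) :
    Function.Bijective (wchar ψ : (Fin m → F) → AddChar (Fin m → F) ℂ) := by
  classical
  refine (Fintype.bijective_iff_injective_and_card _).2 ⟨fun v w e => funext fun i => ?_,
    AddChar.card_eq.symm⟩
  refine AddChar.to_mulShift_inj_of_isPrimitive hψ (DFunLike.ext _ _ fun c => ?_)
  show ψ (v i * c) = ψ (w i * c)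
  have := DFunLike.congr_fun e (Pi.single i c)
  simpa [wchar_apply, mul_comm] using this

theorem sum_wchar {ψ : AddChar F ℂ} (hψ : ψ.IsPrimitive) {f : Fin m → F} (hf : f ≠ 0) :
    ∑ w : Fin m → F, wchar ψ w f = 0 := by
  classical
  rw [Fintype.sum_bijective (wchar ψ) (wchar_bijective hψ) _ (fun χ => χ f) fun _ => rfl,
    AddChar.sum_apply_eq_ite, if_neg hf]

/-- The weight space. -/
def wt (ρ : Representation ℂ SL(m + 1, F) W) (ψ : AddChar F ℂ) (w : Fin m → F) : Submodule ℂ W :=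
  eigen (op ρ) (wchar ψ w)

theorem mem_wt {ρ : Representation ℂ SL(m + 1, F) W} {ψ : AddChar F ℂ} {w : Fin m → F} {y : W} :
    y ∈ wt ρ ψ w ↔ ∀ f, ρ (uSL f) y = ψ (f ⬝ᵥ w) • y := mem_eigen

theorem levi_mem_wt {ρ : Representation ℂ SL(m + 1, F) W} {ψ : AddChar F ℂ} {w : Fin m → F} {y : W}
    (hy : y ∈ wt ρ ψ w) (A : GL (Fin m) F) :
    ρ (levi A) y ∈ wt ρ ψ (A.1.det • (A.1 *ᵥ w)) := by
  refine mem_wt.2 fun f => ?_
  rw [← Module.End.mul_apply, ← map_mul, levi_mul_uSL, map_mul, Module.End.mul_apply, mem_wt.1 hy,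
    map_smul, smul_dotProduct, dotProduct_smul, dotProduct_mulVec]

theorem trace_eq_sum_wt [FiniteDimensional ℂ W] (ρ : Representation ℂ SL(m + 1, F) W) {ψ : AddChar F ℂ}
    (hψ : ψ.IsPrimitive) (g : W →ₗ[ℂ] W) :
    LinearMap.trace ℂ W g =
      ∑ w : Fin m → F, LinearMap.trace ℂ W (g ∘ₗ eigenProj (op ρ) (wchar ψ w)) := by
  classical
  rw [trace_eq_sum (isOp ρ) g]
  exact (Fintype.sum_bijective (wchar ψ) (wchar_bijective hψ) _ _ fun _ => rfl).symm

theorem sum_finrank_wt [FiniteDimensional ℂ W] (ρ : Representation ℂ SL(m + 1, F) W) {ψ : AddChar F ℂ}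
    (hψ : ψ.IsPrimitive) : ∑ w : Fin m → F, finrank ℂ (wt ρ ψ w) = finrank ℂ W := by
  classical
  rw [← sum_finrank_eigen (isOp ρ)]
  exact Fintype.sum_bijective (wchar ψ) (wchar_bijective hψ) _ _ fun _ => rfl

end Cfsg.Agent.MinDegree
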