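import Cfsg.Agent.Lib.MinDegree.SLSums

/-!
When the Levi factor is irreducible on the fixed vectors of the radical and fixes a flag vector, the scalar by
which the sum of all transvections acts is impossible.
-/

set_option autoImplicit false
set_option linter.unusedSectionVars false

open Matrix Module
open scoped MatrixGroups

namespace Cfsg.Agent.MinDegree

open Cfsg.Agent.MinDeg

variable {F : Type*} [Field F] {j : ℕ}

theorem sl_ext {n : ℕ} {A B : SL(n, F)} (h : ∀ x, A.1 *ᵥ x = B.1 *ᵥ x) : A = B :=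
  Subtype.ext (Matrix.ext fun a b => by simpa using congrFun (h (Pi.single b 1)) a)

theorem exists_cons₂ {i : ℕ} (x : Fin (i + 2) → F) :
    ∃ a b r, x = Fin.cons a (Fin.cons b r) :=
  ⟨x 0, (Fin.tail x) 0, Fin.tail (Fin.tail x), by rw [Fin.cons_self_tail, Fin.cons_self_tail]⟩

theorem exists_swap' (i : ℕ) : ∃ g : SL(i + 2, F), ∀ (a b : F) (r : Fin i → F),
    g.1 *ᵥ Fin.cons a (Fin.cons b r) = Fin.cons (-b) (Fin.cons a r) ∧
    Fin.cons a (Fin.cons b r) ᵥ* g.1 = Fin.cons b (Fin.cons (-a) r) := by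
  let x : SL(i + 2, F) := tv (Pi.single 0 (-1)) (Pi.single 1 1)
  let y : SL(i + 2, F) := tv (Pi.single 1 1) (Pi.single 0 1)
  refine ⟨x * y * x, fun a b r => ⟨?_, ?_⟩⟩
  · rw [coe_SL_mul, coe_SL_mul, ← Matrix.mulVec_mulVec, ← Matrix.mulVec_mulVec]
    simp only [x, y]
    rw [tv_mulVec (by simp), tv_mulVec (by simp), tv_mulVec (by simp)]
    ext l
    induction l using Fin.cases with
    | zero => simp
    | succ l => induction l using Fin.cases <;> simp [Fin.succ_ne_zero, Fin.ext_iff]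
  · rw [coe_SL_mul, coe_SL_mul, ← Matrix.vecMul_vecMul, ← Matrix.vecMul_vecMul]
    simp only [x, y]
    rw [vecMul_tv (by simp), vecMul_tv (by simp), vecMul_tv (by simp)]
    ext l
    induction l using Fin.cases with
    | zero => simp
    | succ l => induction l using Fin.cases <;> simp [Fin.succ_ne_zero, Fin.ext_iff]

theorem levi_mulVec {m : ℕ} (A : GL (Fin m) F) (a : F) (x : Fin m → F) :
    (levi A).1 *ᵥ Fin.cons a x = Fin.cons ((A.1.det)⁻¹ * a) (A.1 *ᵥ x) := by
  show blk (A.1.det)⁻¹ 0 A.1 *ᵥ _ = _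
  rw [blk_mulVec]; simp

theorem uSL_mulVec {m : ℕ} (f : Fin m → F) (a : F) (x : Fin m → F) :
    (uSL f).1 *ᵥ Fin.cons a x = Fin.cons (a + f ⬝ᵥ x) x := by
  show blk 1 f 1 *ᵥ _ = _
  rw [blk_mulVec]; simp

variable [Fintype F] {W : Type*} [AddCommGroup W] [Module ℂ W] [FiniteDimensional ℂ W] {ψ : AddChar F ℂ}

theorem par_mulVec {m : ℕ} (p : Fˣ × GL (Fin m) F) (a : F) (x : Fin m → F) :
    (par p).1 *ᵥ Fin.cons a x = Fin.cons ((p.1 : F) * a) (p.2.1 *ᵥ x) := by
  rw [coe_par, blk_mulVec]; simp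

theorem det_par {m : ℕ} (p : Fˣ × GL (Fin m) F) : (par p).1.det = (p.1 : F) * p.2.1.det := by
  rw [coe_par, det_blk]

/-- The torus element `diag(r⁻¹, r, 1, …)`. -/
noncomputable def hT (j : ℕ) (r : Fˣ) : SL(j + 3, F) := levi (par (r, (1 : GL (Fin (j + 1)) F)))

theorem hT_mulVec (r : Fˣ) (a b : F) (x : Fin (j + 1) → F) :
    (hT j r).1 *ᵥ Fin.cons a (Fin.cons b x) = Fin.cons ((r : F)⁻¹ * a) (Fin.cons ((r : F) * b) x) := by
  rw [hT, levi_mulVec, par_mulVec, det_par]
  simp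

theorem radical_sum_comm {m : ℕ} (ρ : Representation ℂ SL(m + 1, F) W) (A : GL (Fin m) F) (y : W) :
    (∑ f : Fin m → F, ρ (uSL f)) (ρ (levi A) y) = ρ (levi A) ((∑ f : Fin m → F, ρ (uSL f)) y) := by
  rw [LinearMap.sum_apply, LinearMap.sum_apply, map_sum]
  have hinj : Function.Injective fun f : Fin m → F => A.1.det • (f ᵥ* A.1) :=
    (smul_right_injective _ ((Matrix.isUnit_iff_isUnit_det _).1 A.isUnit).ne_zero).comp
      (Matrix.vecMul_injective_iff_isUnit.2 A.isUnit)
  refine Fintype.sum_bijective _ (Finite.injective_iff_bijective.1 hinj) _ _ fun f => ?_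
  rw [← Module.End.mul_apply, ← map_mul, levi_mul_uSL, map_mul]
  rfl

theorem radical_sum_mem {m : ℕ} (ρ : Representation ℂ SL(m + 1, F) W) (y : W) :
    (∑ f : Fin m → F, ρ (uSL f)) y ∈ Fix ρ := by
  rw [sum_uSL_eq]
  exact proj_mem_eigen (isOp ρ) 1 y

theorem radical_sum_of_Fix {m : ℕ} (ρ : Representation ℂ SL(m + 1, F) W) {y : W} (hy : y ∈ Fix ρ) :
    (∑ f : Fin m → F, ρ (uSL f)) y = (Fintype.card F : ℂ) ^ m • y := by
  rw [LinearMap.sum_apply, Finset.sum_congr rfl fun f _ => mem_Fix.1 hy f, Finset.sum_const,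
    Finset.card_univ, Fintype.card_fun, Fintype.card_fin, ← Nat.cast_smul_eq_nsmul ℂ, Nat.cast_pow]

/-- On the flag vectors the moving part is a fixed multiple. -/
theorem moving_eq {k : ℕ} (hk : 1 ≤ k) {σ : Representation ℂ (GL (Fin (k + 1)) F) W} [Nontrivial W]
    (hσ : Irred σ) {y : W} (hy : y ∈ lineFix σ) (μ : W →ₗ[ℂ] ℂ) :
    ((((Fintype.card F : ℂ) - 1) * (Fintype.card F : ℂ) ^ k +
      ((Fintype.card F : ℂ) ^ k - 1) * (Fintype.card F : ℂ) ^ k) * μ y + moving σ μ y) * finrank ℂ W =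
      (((Fintype.card F : ℂ) ^ (k + 1) - 1) * (Fintype.card F : ℂ) ^ k) *
        finrank ℂ (Fix (σ.comp SpecialLinearGroup.toGL)) * μ y := by
  rw [← tsum_split σ hk hy μ, tsum_coeff emb_toGL hσ hk y μ,
    Nat.cast_mul, Nat.cast_sub (Nat.one_le_pow _ _ Fintype.card_pos)]
  push_cast
  rfl

variable {ρ : Representation ℂ SL(j + 3, F) W}

/-- `λ (g U g⁻¹ v)`. -/
noncomputable def flagSum (ρ : Representation ℂ SL(j + 3, F) W) (g : SL(j + 3, F)) (l : W →ₗ[ℂ] ℂ)
    (v : W) : ℂ :=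
  l (ρ g ((∑ f : Fin (j + 2) → F, ρ (uSL f)) (ρ g⁻¹ v)))

theorem swap_inv_mulVec {g : SL(j + 3, F)}
    (hg : ∀ (a b : F) (r : Fin (j + 1) → F),
      g.1 *ᵥ Fin.cons a (Fin.cons b r) = Fin.cons (-b) (Fin.cons a r) ∧
      Fin.cons a (Fin.cons b r) ᵥ* g.1 = Fin.cons b (Fin.cons (-a) r))
    (a b : F) (r : Fin (j + 1) → F) :
    (g⁻¹).1 *ᵥ Fin.cons a (Fin.cons b r) = Fin.cons b (Fin.cons (-a) r) := by
  have h := congrArg (fun x => (g⁻¹).1 *ᵥ x) (hg b (-a) r).1
  simp only [inv_mulVec_mulVec, neg_neg] at h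
  exact h.symm

/-- The image of a flag vector under `U g⁻¹` is a flag vector. -/
theorem flag_image_mem {g : SL(j + 3, F)}
    (hg : ∀ (a b : F) (r : Fin (j + 1) → F),
      g.1 *ᵥ Fin.cons a (Fin.cons b r) = Fin.cons (-b) (Fin.cons a r) ∧
      Fin.cons a (Fin.cons b r) ᵥ* g.1 = Fin.cons b (Fin.cons (-a) r))
    {v : Fix ρ} (hv : v ∈ lineFix (fixRep ρ)) :
    (⟨_, radical_sum_mem ρ (ρ g⁻¹ v.1)⟩ : Fix ρ) ∈ lineFix (fixRep ρ) := by
  rw [mem_lineFix] at hv ⊢
  constructor
  · intro t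
    refine Subtype.ext ?_
    show ρ (levi (par (1, SpecialLinearGroup.toGL t))) ((∑ f : Fin (j + 2) → F, ρ (uSL f)) (ρ g⁻¹ v.1)) = _
    have hc : g⁻¹ * levi (par ((1 : Fˣ), SpecialLinearGroup.toGL t)) =
        levi (par ((1 : Fˣ), SpecialLinearGroup.toGL t)) * g⁻¹ := by
      refine sl_ext fun x => ?_
      obtain ⟨a, b, r, rfl⟩ := exists_cons₂ x
      simp only [coe_SL_mul, ← Matrix.mulVec_mulVec, levi_mulVec, par_mulVec, det_par,
        swap_inv_mulVec hg, coe_toGL, t.2, Units.val_one, one_mul, inv_one]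
    rw [← radical_sum_comm, ← Module.End.mul_apply (ρ _) (ρ _), ← map_mul, ← hc, map_mul, Module.End.mul_apply]
    exact congrArg _ (congrArg _ (congrArg Subtype.val (hv.1 t)))
  · intro h
    refine Subtype.ext ?_
    show ρ (levi (SpecialLinearGroup.toGL (uSL h))) ((∑ f : Fin (j + 2) → F, ρ (uSL f)) (ρ g⁻¹ v.1)) = _
    have hc : levi (SpecialLinearGroup.toGL (uSL h)) * g⁻¹ = g⁻¹ * uSL (-Fin.cons 0 h) := by
      refine sl_ext fun x => ?_
      obtain ⟨a, b, r, rfl⟩ := exists_cons₂ x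
      simp only [coe_SL_mul, ← Matrix.mulVec_mulVec, levi_mulVec, uSL_mulVec, swap_inv_mulVec hg, coe_toGL,
        (uSL h).2, inv_one, one_mul, neg_dotProduct, dot_cons, zero_mul, zero_add]
      congr 2
      ring
    rw [← radical_sum_comm, ← Module.End.mul_apply (ρ _) (ρ _), ← map_mul, hc, map_mul, Module.End.mul_apply,
      mem_Fix.1 v.2]

open Classical in
theorem moving_top {g : SL(j + 3, F)}
    (hg : ∀ (a b : F) (r : Fin (j + 1) → F),
      g.1 *ᵥ Fin.cons a (Fin.cons b r) = Fin.cons (-b) (Fin.cons a r) ∧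
      Fin.cons a (Fin.cons b r) ᵥ* g.1 = Fin.cons b (Fin.cons (-a) r))
    {v : Fix ρ} (hv : v ∈ lineFix (fixRep ρ)) {l : W →ₗ[ℂ] ℂ}
    (hlU : ∀ f y, l (ρ (uSL f) y) = l y)
    (hlU' : ∀ h y, l (ρ (levi (SpecialLinearGroup.toGL (uSL h))) y) = l y) :
    (Fintype.card F : ℂ) ^ (j + 2) * (∑ c0 : F, ∑ c1 : F, ∑ ct : Fin (j + 1) → F,
        ∑ f0 : F, ∑ f1 : F, ∑ ft : Fin (j + 1) → F,
          if ct ≠ 0 ∧ f0 ≠ 0 ∧ f0 * c0 + (f1 * c1 + ft ⬝ᵥ ct) = 0 then
            l (ρ (tv (Fin.cons c0 (Fin.cons c1 ct)) (Fin.cons f0 (Fin.cons f1 ft))) v) else 0) =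
      (Fintype.card F : ℂ) ^ 2 * moving (fixRep ρ) ((l.comp (ρ g)).comp (Fix ρ).subtype)
        ⟨_, radical_sum_mem ρ (ρ g⁻¹ v.1)⟩ := by
  set q := (Fintype.card F : ℂ) with hq
  set μ := (l.comp (ρ g)).comp (Fix ρ).subtype with hμ
  set ξ : Fix ρ := ⟨_, radical_sum_mem ρ (ρ g⁻¹ v.1)⟩ with hξ
  let γ := fun (c0 c1 : F) (ct : Fin (j + 1) → F) (f0 : F) (ft : Fin (j + 1) → F) =>
    if ct ≠ 0 ∧ f0 ≠ 0 ∧ f0 * c0 + ft ⬝ᵥ ct = 0 then
      l (ρ (tv (Fin.cons c0 (Fin.cons c1 ct)) (Fin.cons f0 (Fin.cons 0 ft))) v) else 0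
  have hshift : ∀ (c1 : F) (ct : Fin (j + 1) → F) (f0 f1 : F) (ft : Fin (j + 1) → F),
      ∑ c0 : F, (if ct ≠ 0 ∧ f0 ≠ 0 ∧ f0 * c0 + (f1 * c1 + ft ⬝ᵥ ct) = 0 then
        l (ρ (tv (Fin.cons c0 (Fin.cons c1 ct)) (Fin.cons f0 (Fin.cons f1 ft))) v) else 0) =
      ∑ c0 : F, γ c0 c1 ct f0 ft := by
    intro c1 ct f0 f1 ft
    by_cases hf0 : f0 = 0
    · simp [γ, hf0]
    set s := f1 / f0 with hs
    refine Fintype.sum_equiv (Equiv.addRight (s * c1)) _ _ fun c0 => ?_
    have hiff : f0 * (c0 + s * c1) + ft ⬝ᵥ ct = f0 * c0 + (f1 * c1 + ft ⬝ᵥ ct) := by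
      rw [hs]; field_simp; ring
    simp only [γ, Equiv.coe_addRight, hiff]
    split_ifs with h
    · have h0 : (Fin.cons f0 (Fin.cons f1 ft) : Fin (j + 3) → F) ⬝ᵥ Fin.cons c0 (Fin.cons c1 ct) = 0 := by
        rw [dot_cons, dot_cons]; exact h.2.2
      have hc := tv_conj (uSL (Pi.single 0 s)) (Fin.cons c0 (Fin.cons c1 ct) : Fin (j + 3) → F)
        (Fin.cons f0 (Fin.cons f1 ft))
      have e1 : (uSL (Pi.single 0 s)).1 *ᵥ (Fin.cons c0 (Fin.cons c1 ct) : Fin (j + 3) → F) =
          Fin.cons (c0 + s * c1) (Fin.cons c1 ct) := by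
        rw [uSL_mulVec, single_dotProduct]; simp
      have e2 : (Fin.cons f0 (Fin.cons f1 ft) : Fin (j + 3) → F) ᵥ* ((uSL (Pi.single 0 s))⁻¹).1 =
          Fin.cons f0 (Fin.cons 0 ft) := by
        have hinv : (uSL (Pi.single (0 : Fin (j + 2)) s))⁻¹ = uSL (-Pi.single 0 s) :=
          inv_eq_of_mul_eq_one_right (by rw [← uSL_add, add_neg_cancel, uSL_zero])
        rw [hinv]
        show _ ᵥ* blk 1 _ 1 = _
        rw [vecMul_blk, mul_one, vecMul_one]
        congr 1
        ext a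
        induction a using Fin.cases with
        | zero => simp [hs]; field_simp; ring
        | succ a => simp [Fin.succ_ne_zero]
      rw [e1, e2] at hc
      rw [← hc, map_mul, map_mul, Module.End.mul_apply, Module.End.mul_apply, hlU,
        ← inv_inv (uSL (Pi.single 0 s)), inv_inv]
      have hfix : ρ (uSL (Pi.single 0 s))⁻¹ v.1 = v.1 := by
        conv_lhs => rw [← mem_Fix.1 v.2 (Pi.single 0 s)]
        rw [← Module.End.mul_apply, ← map_mul, inv_mul_cancel, map_one, Module.End.one_apply]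
      rw [hfix]
    · rfl
  have hγ : ∀ c0 c1 ct f0 ft, q ^ (j + 2) * γ c0 c1 ct f0 ft =
      if ct ≠ 0 ∧ -f0 ≠ 0 ∧ -f0 * -c0 + ft ⬝ᵥ ct = 0 then
        μ (fixRep ρ (SpecialLinearGroup.toGL (tv (Fin.cons (-c0) ct) (Fin.cons (-f0) ft))) ξ) else 0 := by
    intro c0 c1 ct f0 ft
    simp only [γ, neg_mul_neg, neg_ne_zero]
    split_ifs with h
    swap
    · rw [mul_zero]
    obtain ⟨hct, hf0, hd⟩ := h
    set c : Fin (j + 3) → F := Fin.cons c0 (Fin.cons c1 ct) with hcdef
    set φ : Fin (j + 3) → F := Fin.cons f0 (Fin.cons 0 ft) with hφdef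
    have hφc : φ ⬝ᵥ c = 0 := by rw [hcdef, hφdef, dot_cons, dot_cons]; simp [hd]
    set E1 : Fin (j + 3) → F := Fin.cons 0 (Fin.cons 1 0) with hE1
    have hge : g.1 *ᵥ (e₀ : Fin (j + 3) → F) = E1 := by
      rw [e₀, hE1, show (0 : Fin (j + 2) → F) = Fin.cons 0 0 from (Matrix.cons_zero_zero).symm, (hg 1 0 0).1]
      simp
    have hue : (tv c φ * g).1 *ᵥ (e₀ : Fin (j + 3) → F) = E1 := by
      rw [coe_SL_mul, ← Matrix.mulVec_mulVec, hge, tv_mulVec hφc, hφdef, hE1, dot_cons, dot_cons]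
      simp
    -- every term of the sum over the centre `E1` has the same value
    have hterm : ∀ φ' : Fin (j + 3) → F, φ' ⬝ᵥ E1 = 0 →
        l (ρ (tv E1 φ') (ρ (tv c φ) v)) = l (ρ (tv c φ) v) := by
      intro φ' h'
      obtain ⟨a, b, r, rfl⟩ := exists_cons₂ φ'
      rw [hE1, dot_cons, dot_cons] at h'
      simp at h'
      subst h'
      obtain ⟨i, hi⟩ : ∃ i, ct i ≠ 0 := by
        by_contra hc; push Not at hc; exact hct (funext hc)
      set rz : Fin (j + 1) → F := Pi.single i ((-(a / f0) - a * c0) / ct i) with hrz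
      set z : Fin (j + 3) → F := Fin.cons a (Fin.cons 0 rz) with hz
      set yv : Fin (j + 3) → F := Fin.cons 0 (Fin.cons 0 (r - rz)) with hyv
      have hzE : z ⬝ᵥ E1 = 0 := by rw [hz, hE1, dot_cons, dot_cons]; simp
      have hyE : yv ⬝ᵥ E1 = 0 := by rw [hyv, hE1, dot_cons, dot_cons]; simp
      have hsplit : (Fin.cons a (Fin.cons 0 r) : Fin (j + 3) → F) = yv + z := by
        rw [hyv, hz]
        ext x
        induction x using Fin.cases with
        | zero => simp
        | succ x => induction x using Fin.cases <;> simp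
      rw [hsplit, tv_add_right hyE hzE, map_mul, Module.End.mul_apply]
      have hY : tv E1 yv = levi (SpecialLinearGroup.toGL (uSL (r - rz))) := by
        rw [uSL_eq_tv, levi_tv (by rw [dot_cons]; simp), hE1, hyv]
      rw [hY, hlU']
      -- `z` moves `v` trivially after conjugation
      have hzc : a + (z ⬝ᵥ c) * f0 = 0 := by
        rw [hz, hcdef, dot_cons, dot_cons, hrz, single_dotProduct]
        field_simp
        ring
      have hcz : tv E1 z * tv c φ = tv c φ * tv E1 (z + (z ⬝ᵥ c) • φ) := by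
        have e1 : (tv c φ).1 *ᵥ E1 = E1 := by
          rw [tv_mulVec hφc, hφdef, hE1, dot_cons, dot_cons]; simp
        have e2 : (z + (z ⬝ᵥ c) • φ) ᵥ* ((tv c φ)⁻¹).1 = z := by
          rw [← tv_neg_left hφc, vecMul_tv (by rw [dotProduct_neg, hφc, neg_zero])]
          simp [dotProduct_neg, add_dotProduct, smul_dotProduct, hφc]
        have h3 := tv_conj (tv c φ) E1 (z + (z ⬝ᵥ c) • φ)
        rw [e1, e2] at h3
        rw [← h3, inv_mul_cancel_right]
      rw [← Module.End.mul_apply, ← map_mul, hcz, map_mul, Module.End.mul_apply]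
      have hz' : z + (z ⬝ᵥ c) • φ = Fin.cons 0 (Fin.cons 0 (rz + (z ⬝ᵥ c) • ft)) := by
        generalize z ⬝ᵥ c = e at hzc
        rw [hz, hφdef]
        ext x
        induction x using Fin.cases with
        | zero => simpa using hzc
        | succ x => induction x using Fin.cases <;> simp
      rw [hz', hE1, show (Fin.cons 1 0 : Fin (j + 2) → F) = e₀ from rfl,
        tv_act_Fix 0 (by rw [dot_e₀]; rfl) v.2, e₀, ← uSL_eq_tv]
      exact congrArg (fun y => l (ρ (tv c φ) y)) (congrArg Subtype.val ((mem_lineFix.1 hv).2 _))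
    have hS := congrArg l (LinearMap.congr_fun (sum_centre ρ hue) (ρ (tv c φ) v.1))
    rw [LinearMap.sum_apply, map_sum, Finset.sum_congr rfl fun φ' _ => show
        l ((if φ' ⬝ᵥ E1 = 0 then ρ (tv E1 φ') else 0) (ρ (tv c φ) v.1)) =
          if φ' ⬝ᵥ E1 = 0 then l (ρ (tv c φ) v.1) else 0 by
        split_ifs with h'
        · exact hterm φ' h'
        · simp, sum_dot_eq (fun e => by
        have := congrFun e (Fin.succ 0); simp [hE1] at this), show j + 3 - 1 = j + 2 from rfl] at hS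
    rw [hq, hS, Module.End.mul_apply, Module.End.mul_apply, ← Module.End.mul_apply (ρ _) (ρ _), ← map_mul,
      _root_.mul_inv_rev, inv_mul_cancel_right, map_mul, Module.End.mul_apply]
    have hconj : tv c φ * g = g * tv (Fin.cons c1 (Fin.cons (-c0) ct)) (Fin.cons 0 (Fin.cons (-f0) ft)) := by
      have h3 := tv_conj g⁻¹ c φ
      rw [inv_inv, hcdef, hφdef, swap_inv_mulVec hg, (hg f0 0 ft).2] at h3
      rw [← h3, ← mul_assoc, ← mul_assoc, mul_inv_cancel, one_mul]
    rw [← Module.End.mul_apply, ← map_mul, hconj, map_mul, Module.End.mul_apply,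
      tv_act_Fix c1 (by rw [dot_cons]; simp [hd]) ξ.2]
    rfl
  rw [Finset.sum_congr rfl fun c0 _ => Finset.sum_congr rfl fun c1 _ => Finset.sum_congr rfl fun ct _ =>
    Finset.sum_congr rfl fun f0 _ => Finset.sum_comm]
  -- move `c0` inside
  rw [Finset.sum_comm, Finset.sum_congr rfl fun c1 _ => by
    rw [Finset.sum_comm, Finset.sum_congr rfl fun ct _ => by
      rw [Finset.sum_comm, Finset.sum_congr rfl fun f0 _ => by
        rw [Finset.sum_comm, Finset.sum_congr rfl fun ft _ => by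
          rw [Finset.sum_comm, Finset.sum_congr rfl fun f1 _ => hshift c1 ct f0 f1 ft, Finset.sum_const,
            Finset.card_univ, nsmul_eq_mul, ← hq]]]]]
  simp only [← Finset.mul_sum]
  rw [mul_left_comm, Finset.mul_sum]
  have hc1 : ∀ c1 : F, q ^ (j + 2) * (∑ ct, ∑ f0, ∑ ft, ∑ c0, γ c0 c1 ct f0 ft) =
      moving (fixRep ρ) μ ξ := by
    intro c1
    simp only [Finset.mul_sum, hγ]
    rw [moving]
    symm
    rw [Finset.sum_comm]
    refine Finset.sum_congr rfl fun ct _ => ?_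
    rw [Finset.sum_comm]
    refine Fintype.sum_equiv (Equiv.neg F) _ _ fun f0 => ?_
    rw [Finset.sum_comm]
    refine Finset.sum_congr rfl fun ft _ => Fintype.sum_equiv (Equiv.neg F) _ _ fun a => ?_
    simp only [Equiv.neg_apply, neg_neg]
  rw [Finset.sum_congr rfl fun c1 _ => hc1 c1, Finset.sum_const, Finset.card_univ, nsmul_eq_mul, ← hq]
  ring

open Classical in
/-- The sum of all transvections at a flag vector. -/
theorem tsum_flag {g : SL(j + 3, F)}
    (hg : ∀ (a b : F) (r : Fin (j + 1) → F),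
      g.1 *ᵥ Fin.cons a (Fin.cons b r) = Fin.cons (-b) (Fin.cons a r) ∧
      Fin.cons a (Fin.cons b r) ᵥ* g.1 = Fin.cons b (Fin.cons (-a) r))
    {v : Fix ρ} (hv : v ∈ lineFix (fixRep ρ)) {l : W →ₗ[ℂ] ℂ}
    (hlU : ∀ f y, l (ρ (uSL f) y) = l y)
    (hlU' : ∀ h y, l (ρ (levi (SpecialLinearGroup.toGL (uSL h))) y) = l y) :
    (Fintype.card F : ℂ) ^ (j + 2) * l (tsum ρ v) =
      (Fintype.card F : ℂ) ^ (j + 2) * (((Fintype.card F : ℂ) - 1) * (Fintype.card F : ℂ) ^ (j + 2) * l v +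
        (Fintype.card F : ℂ) * (l.comp (Fix ρ).subtype) (tsum (fixSL ρ) v) +
        ((Fintype.card F : ℂ) ^ 2 - Fintype.card F) *
          (flagSum ρ g l v - (Fintype.card F : ℂ) ^ (j + 1) * l v)) +
      (Fintype.card F : ℂ) ^ 2 * moving (fixRep ρ) ((l.comp (ρ g)).comp (Fix ρ).subtype)
        ⟨_, radical_sum_mem ρ (ρ g⁻¹ v.1)⟩ := by
  rw [← moving_top hg hv hlU hlU', ← mul_add]
  congr 1
  set q := (Fintype.card F : ℂ) with hq
  set A := flagSum ρ g l v with hA
  let val := fun (c φ : Fin (j + 3) → F) => if c ≠ 0 ∧ φ ⬝ᵥ c = 0 then l (ρ (tv c φ) v) else 0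
  let N := fun (c0 : F) (cb : Fin (j + 2) → F) =>
    ∑ f0 ∈ (Finset.univ : Finset F).erase 0, ∑ fb : Fin (j + 2) → F, val (Fin.cons c0 cb) (Fin.cons f0 fb)
  let P := fun (c0 : F) (cb : Fin (j + 2) → F) =>
    ∑ fb : Fin (j + 2) → F, val (Fin.cons c0 cb) (Fin.cons 0 fb)
  have hsum : l (tsum ρ v) = ∑ c0, ∑ cb, (P c0 cb + N c0 cb) := by
    rw [tsum_apply, map_sum, sum_cons]
    refine Finset.sum_congr rfl fun c0 _ => Finset.sum_congr rfl fun cb _ => ?_
    rw [map_sum, sum_cons, ← Finset.add_sum_erase _ _ (Finset.mem_univ (0 : F))]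
    simp only [P, N, val, apply_ite l, map_zero]
  have hP : ∑ c0, ∑ cb, P c0 cb =
      (q - 1) * q ^ (j + 2) * l v + q * (l.comp (Fix ρ).subtype) (tsum (fixSL ρ) v) := by
    have h0 : ∀ (c0 : F) (cb : Fin (j + 2) → F), P c0 cb =
        (if cb = 0 ∧ c0 ≠ 0 then q ^ (j + 2) * l v else 0) + ∑ fb : Fin (j + 2) → F,
          (if cb ≠ 0 ∧ fb ⬝ᵥ cb = 0 then (l.comp (Fix ρ).subtype) (fixSL ρ (tv cb fb) v) else 0) := by
      intro c0 cb
      simp only [P, val, dot_cons, zero_mul, zero_add]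
      by_cases hcb : cb = 0
      · by_cases hc0 : c0 = 0
        · simp [hcb, hc0, cons_eq_zero]
        · simp only [hcb, hc0, true_and, ne_eq, not_true_eq_false, not_false_eq_true, false_and, if_false,
            if_true, Finset.sum_const_zero, add_zero]
          rw [Finset.sum_congr rfl fun fb _ => show _ = l v by
            rw [if_pos ⟨fun e => hc0 (cons_eq_zero.1 e).1, dotProduct_zero _⟩,
              tv_cons_zero c0 (dotProduct_zero fb), show (Fin.cons 0 0 : Fin (j + 3) → F) = 0 from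
                Matrix.cons_zero_zero, tv_zero_left, mul_one, mem_Fix.1 v.2]]
          simp [hq]
      · rw [if_neg (fun e => hcb e.1), zero_add]
        refine Finset.sum_congr rfl fun fb _ => ?_
        by_cases h : fb ⬝ᵥ cb = 0
        · rw [if_pos ⟨fun e => hcb (cons_eq_zero.1 e).2, h⟩, if_pos ⟨hcb, h⟩, tv_act_Fix c0 h v.2]
          rfl
        · rw [if_neg fun e => h e.2, if_neg fun e => h e.2]
    simp only [h0, Finset.sum_add_distrib]
    congr 1
    · simp only [ite_and, Finset.sum_ite_eq', Finset.mem_univ, if_true]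
      rw [← Finset.sum_filter, Finset.sum_const, Finset.filter_ne', Finset.card_erase_of_mem (Finset.mem_univ _),
        Finset.card_univ, nsmul_eq_mul, Nat.cast_sub Fintype.card_pos, Nat.cast_one, ← hq]
      ring
    · rw [Finset.sum_const, Finset.card_univ, nsmul_eq_mul, ← hq]
      congr 1
      rw [tsum_apply, map_sum]
      refine Finset.sum_congr rfl fun cb _ => ?_
      rw [map_sum]
      refine Finset.sum_congr rfl fun fb _ => ?_
      rw [apply_ite (l.comp (Fix ρ).subtype), map_zero]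
  have hN0 : ∀ c0 c1 : F, N c0 (Fin.cons c1 0) = if c1 = 0 then 0 else A - q ^ (j + 1) * l v := by
    intro c0 c1
    split_ifs with hc1
    · refine Finset.sum_eq_zero fun f0 hf0 => Finset.sum_eq_zero fun fb _ => if_neg fun h => ?_
      subst hc1
      obtain ⟨h1, h2⟩ := h
      rw [show (Fin.cons 0 0 : Fin (j + 2) → F) = 0 from Matrix.cons_zero_zero] at h1 h2
      rw [dot_cons, dotProduct_zero, add_zero, mul_eq_zero] at h2
      exact h1 (cons_eq_zero.2 ⟨h2.resolve_left (Finset.mem_erase.1 hf0).1, rfl⟩)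
    · have hcb : (Fin.cons c1 0 : Fin (j + 2) → F) ≠ 0 := fun e => hc1 (cons_eq_zero.1 e).1
      have hP0 : P c0 (Fin.cons c1 0) = q ^ (j + 1) * l v := by
        simp only [P, val, dot_cons, zero_mul, zero_add]
        have hterm : ∀ fb : Fin (j + 2) → F,
            (if (Fin.cons c0 (Fin.cons c1 0) : Fin (j + 3) → F) ≠ 0 ∧ fb ⬝ᵥ Fin.cons c1 0 = 0 then
              l (ρ (tv (Fin.cons c0 (Fin.cons c1 0)) (Fin.cons 0 fb)) v) else 0) =
            if fb ⬝ᵥ Fin.cons c1 0 = 0 then l v else 0 := by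
          intro fb
          by_cases h : fb ⬝ᵥ Fin.cons c1 0 = 0
          · rw [if_pos ⟨fun e => hcb (cons_eq_zero.1 e).2, h⟩, if_pos h, tv_act_Fix c0 h v.2]
            refine congrArg l ?_
            obtain ⟨b, r, rfl⟩ : ∃ b r, fb = Fin.cons b r := ⟨fb 0, Fin.tail fb, (Fin.cons_self_tail fb).symm⟩
            rw [dot_cons, dotProduct_zero, add_zero, mul_eq_zero] at h
            obtain rfl := h.resolve_right hc1
            exact congrArg Subtype.val (tv_act_lineFix c1 (dotProduct_zero r) hv)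
          · rw [if_neg fun e => h e.2, if_neg h]
        rw [Finset.sum_congr rfl fun fb _ => hterm fb, sum_dot_eq hcb]
        rfl
      have hPN : P c0 (Fin.cons c1 0) + N c0 (Fin.cons c1 0) = A := by
        have h1 : P c0 (Fin.cons c1 0) + N c0 (Fin.cons c1 0) =
            ∑ φ : Fin (j + 3) → F, val (Fin.cons c0 (Fin.cons c1 0)) φ := by
          rw [sum_cons, ← Finset.add_sum_erase _ _ (Finset.mem_univ (0 : F))]
        rw [h1, hA, flagSum]
        set t := c0 / c1 with ht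
        set c : Fin (j + 3) → F := Fin.cons t (Fin.cons 1 0) with hc
        have hscale : c1 • c = Fin.cons c0 (Fin.cons c1 0) := by
          rw [hc, ht]
          ext x
          induction x using Fin.cases with
          | zero => simp; field_simp
          | succ x => induction x using Fin.cases <;> simp
        have hne : ∀ x : F, (Fin.cons x (Fin.cons c1 0) : Fin (j + 3) → F) ≠ 0 := fun x e =>
          hcb (cons_eq_zero.1 e).2
        have hre : ∑ φ : Fin (j + 3) → F, val (Fin.cons c0 (Fin.cons c1 0)) φ =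
            ∑ φ : Fin (j + 3) → F, (if φ ⬝ᵥ c = 0 then l (ρ (tv c φ) v) else 0) := by
          refine Fintype.sum_bijective (fun φ => c1 • φ)
            (Finite.injective_iff_bijective.1 (smul_right_injective _ hc1)) _ _ fun φ => ?_
          have hne' : c1 • c ≠ 0 := hscale ▸ hne c0
          simp only [val, ← hscale, dotProduct_smul, smul_dotProduct, smul_eq_mul, mul_eq_zero, hc1, false_or,
            ne_eq, hne', not_false_eq_true, true_and]
          split_ifs with h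
          · rw [tv_smul_comm c1 h]
          · rfl
        rw [hre]
        have hge : (uSL (Pi.single 0 t) * g).1 *ᵥ (e₀ : Fin (j + 3) → F) = c := by
          rw [coe_SL_mul, ← Matrix.mulVec_mulVec, e₀, show (0 : Fin (j + 2) → F) = Fin.cons 0 0 from
            (Matrix.cons_zero_zero).symm, (hg 1 0 0).1, uSL_mulVec, single_dotProduct, hc]
          simp
        have hS := congrArg l (LinearMap.congr_fun (sum_centre ρ hge) v.1)
        rw [LinearMap.sum_apply, map_sum, Finset.sum_congr rfl fun φ _ => show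
            l ((if φ ⬝ᵥ c = 0 then ρ (tv c φ) else 0) v.1) = if φ ⬝ᵥ c = 0 then l (ρ (tv c φ) v.1) else 0 by
            split_ifs <;> simp] at hS
        rw [hS, Module.End.mul_apply, Module.End.mul_apply, _root_.mul_inv_rev, map_mul, map_mul, Module.End.mul_apply,
          Module.End.mul_apply, hlU]
        have hfix : ρ (uSL (Pi.single 0 t))⁻¹ v.1 = v.1 := by
          conv_lhs => rw [← mem_Fix.1 v.2 (Pi.single 0 t)]
          rw [← Module.End.mul_apply, ← map_mul, inv_mul_cancel, map_one, Module.End.one_apply]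
        rw [hfix]
      rw [hP0] at hPN
      linear_combination hPN
  rw [hsum]
  simp only [Finset.sum_add_distrib]
  rw [hP, add_assoc, add_assoc, add_assoc]
  congr 2
  have hN : ∀ c0 c1 : F, ∑ ct : Fin (j + 1) → F, N c0 (Fin.cons c1 ct) =
      (if c1 = 0 then 0 else A - q ^ (j + 1) * l v) + ∑ ct : Fin (j + 1) → F,
        ∑ f0 : F, ∑ f1 : F, ∑ ft : Fin (j + 1) → F,
          if ct ≠ 0 ∧ f0 ≠ 0 ∧ f0 * c0 + (f1 * c1 + ft ⬝ᵥ ct) = 0 then
            l (ρ (tv (Fin.cons c0 (Fin.cons c1 ct)) (Fin.cons f0 (Fin.cons f1 ft))) v) else 0 := by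
    intro c0 c1
    rw [← Finset.add_sum_erase _ _ (Finset.mem_univ (0 : Fin (j + 1) → F)), hN0,
      ← Finset.add_sum_erase (f := fun ct => ∑ f0 : F, ∑ f1 : F, ∑ ft : Fin (j + 1) → F,
        if ct ≠ 0 ∧ f0 ≠ 0 ∧ f0 * c0 + (f1 * c1 + ft ⬝ᵥ ct) = 0 then
          l (ρ (tv (Fin.cons c0 (Fin.cons c1 ct)) (Fin.cons f0 (Fin.cons f1 ft))) v) else 0) _
        (Finset.mem_univ (0 : Fin (j + 1) → F))]
    simp only [ne_eq, not_true_eq_false, false_and, if_false, Finset.sum_const_zero, zero_add]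
    congr 1
    refine Finset.sum_congr rfl fun ct hct => ?_
    have hct' := (Finset.mem_erase.1 hct).1
    rw [← Finset.add_sum_erase _ _ (Finset.mem_univ (0 : F))]
    simp only [not_true_eq_false, false_and, and_false, if_false, Finset.sum_const_zero, zero_add, N]
    refine Finset.sum_congr rfl fun f0 hf0 => ?_
    rw [sum_cons]
    refine Finset.sum_congr rfl fun f1 _ => Finset.sum_congr rfl fun ft _ => ?_
    simp only [val, dot_cons]
    refine if_congr ?_ rfl rfl
    exact ⟨fun h => ⟨hct', (Finset.mem_erase.1 hf0).1, h.2⟩,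
      fun h => ⟨fun e => hct' (cons_eq_zero.1 (cons_eq_zero.1 e).2).2, h.2.2⟩⟩
  rw [Finset.sum_congr rfl fun c0 _ => show ∑ cb, N c0 cb = _ by
    rw [sum_cons, Finset.sum_congr rfl fun c1 _ => hN c0 c1]]
  simp only [Finset.sum_add_distrib]
  congr 1
  rw [Finset.sum_const, Finset.card_univ, nsmul_eq_mul, ← hq, ← Finset.add_sum_erase _ _ (Finset.mem_univ (0 : F)),
    if_pos rfl, zero_add, Finset.sum_congr rfl fun c hc => if_neg (Finset.mem_erase.1 hc).1, Finset.sum_const,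
    Finset.card_erase_of_mem (Finset.mem_univ _), Finset.card_univ, nsmul_eq_mul, Nat.cast_sub Fintype.card_pos,
    Nat.cast_one, ← hq]
  ring

end Cfsg.Agent.MinDegree
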