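import Cfsg.Agent.Lib.MinDegree.SLPoint
import Cfsg.Prelude.Def_Perm

/-!
The functions of sum zero on a doubly transitive set form an irreducible representation; so `SL_n(q)` has an
irreducible representation of degree `(q ^ n - q) / (q - 1)`.
-/

set_option autoImplicit false
set_option linter.unusedSectionVars false

open Matrix Module
open scoped MatrixGroups LinearAlgebra.Projectivization

namespace Cfsg.Agent.MinDegree

variable {G : Type*} [Group G] [Fintype G] {Ω : Type*} [Fintype Ω] [DecidableEq Ω] [MulAction G Ω]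

/-- Doubly transitive: the sum-zero functions form an irreducible module. -/
theorem irred_sumZero (htrans : ∀ x y : Ω, ∃ g : G, g • x = y)
    (h2 : ∀ x y z : Ω, y ≠ x → z ≠ x → ∃ g : G, g • x = x ∧ g • y = z) :
    Irred (Cfsg.permSumZero ℂ G Ω).toRepresentation := by
  classical
  intro U hU
  by_cases hbot : U = ⊥
  · exact Or.inl hbot
  right
  let V := (Cfsg.permSumZero ℂ G Ω).toSubmodule
  let U' : Submodule ℂ (Ω → ℂ) := U.map V.subtype
  have hU' : ∀ (g : G), ∀ f ∈ U', (fun x => f (g⁻¹ • x)) ∈ U' := by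
    rintro g _ ⟨u, hu, rfl⟩
    exact ⟨_, hU g u hu, rfl⟩
  have hsum : ∀ f ∈ U', ∑ x, f x = 0 := by
    rintro _ ⟨u, -, rfl⟩
    exact u.2
  obtain ⟨u, hu, hu0⟩ := Submodule.exists_mem_ne_zero_of_ne_bot hbot
  obtain ⟨x, hx⟩ : ∃ x, (u : Ω → ℂ) x ≠ 0 := by
    by_contra h
    push Not at h
    exact hu0 (Subtype.ext (funext h))
  -- the average over the stabiliser of `x`
  let S : Finset G := Finset.univ.filter fun g => g • x = x
  let v : Ω → ℂ := ∑ g ∈ S, fun y => (u : Ω → ℂ) (g⁻¹ • y)
  have hv : v ∈ U' := Submodule.sum_mem _ fun g _ => hU' g _ ⟨u, hu, rfl⟩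
  have hvx : v x = (S.card : ℂ) * (u : Ω → ℂ) x := by
    simp only [v, Finset.sum_apply]
    rw [Finset.sum_congr rfl fun g hg => show (u : Ω → ℂ) (g⁻¹ • x) = (u : Ω → ℂ) x by
      rw [inv_smul_eq_iff.2 (Finset.mem_filter.1 hg).2.symm], Finset.sum_const, nsmul_eq_mul]
  have hvc : ∀ y z, y ≠ x → z ≠ x → v y = v z := by
    intro y z hy hz
    obtain ⟨h, hhx, hhy⟩ := h2 x y z hy hz
    simp only [v, Finset.sum_apply]
    refine Finset.sum_bij' (fun g _ => h * g) (fun g _ => h⁻¹ * g) (fun g hg => ?_) (fun g hg => ?_)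
      (fun g _ => by simp) (fun g _ => by simp) fun g _ => ?_
    · simp only [S, Finset.mem_filter, Finset.mem_univ, true_and] at hg ⊢
      rw [mul_smul, hg, hhx]
    · simp only [S, Finset.mem_filter, Finset.mem_univ, true_and] at hg ⊢
      rw [mul_smul, hg, inv_smul_eq_iff, hhx]
    · rw [_root_.mul_inv_rev, mul_smul, ← hhy, inv_smul_smul]
  have hvx0 : v x ≠ 0 := by
    rw [hvx]
    exact mul_ne_zero (Nat.cast_ne_zero.2 (Finset.card_pos.2
      ⟨1, Finset.mem_filter.2 ⟨Finset.mem_univ _, one_smul G x⟩⟩).ne') hx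
  have hN : (Fintype.card Ω : ℂ) ≠ 0 := Nat.cast_ne_zero.2 (Fintype.card_pos_iff.2 ⟨x⟩).ne'
  -- the point functions
  let δ : Ω → Ω → ℂ := fun a y => (if y = a then 1 else 0) - (Fintype.card Ω : ℂ)⁻¹
  have hδx : δ x ∈ U' := by
    by_cases hy : ∃ y, y ≠ x
    · obtain ⟨y, hy⟩ := hy
      have hv' : v = fun z => v y + (if z = x then v x - v y else 0) := funext fun z => by
        split_ifs with hz
        · rw [hz]; ring
        · rw [add_zero, hvc z y hz hy]
      have h0 := hsum v hv
      rw [Finset.sum_congr rfl fun z _ => congrFun hv' z, Finset.sum_add_distrib, Finset.sum_const,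
        Finset.sum_ite_eq' Finset.univ x, if_pos (Finset.mem_univ _), Finset.card_univ, nsmul_eq_mul] at h0
      have hne : v x - v y ≠ 0 := fun e => hvx0 (by
        have : v y = 0 := by simpa [e, hN] using h0
        rwa [this, sub_zero] at e)
      have : δ x = (v x - v y)⁻¹ • v := funext fun z => by
        have hval := congrFun hv' z
        rw [Pi.smul_apply, smul_eq_mul, hval, eq_inv_mul_iff_mul_eq₀ hne]
        simp only [δ]
        split_ifs <;> field_simp <;> linear_combination -h0
      rw [this]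
      exact Submodule.smul_mem _ _ hv
    · push Not at hy
      exfalso
      have h0 := hsum v hv
      rw [Finset.sum_eq_single x (fun z _ hz => absurd (hy z) hz) (by simp)] at h0
      exact hvx0 h0
  have hδ : ∀ a, δ a ∈ U' := fun a => by
    obtain ⟨g, hg⟩ := htrans x a
    have := hU' g _ hδx
    convert this using 1
    funext y
    simp [δ, inv_smul_eq_iff, hg]
  rw [eq_top_iff]
  intro f _
  have hf : (f : Ω → ℂ) ∈ U' := by
    have e : (f : Ω → ℂ) = ∑ a, (f : Ω → ℂ) a • δ a := funext fun y => by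
      simp only [Finset.sum_apply, Pi.smul_apply, smul_eq_mul, δ, mul_sub, Finset.sum_sub_distrib,
        ← Finset.sum_mul]
      rw [show ∑ a, (f : Ω → ℂ) a = 0 from f.2, zero_mul, sub_zero]
      simp
    rw [e]
    exact Submodule.sum_mem _ fun a _ => Submodule.smul_mem _ _ (hδ a)
  obtain ⟨f', hf', e⟩ := hf
  rwa [← show f' = f from Subtype.ext e]

theorem finrank_sumZero [Nonempty Ω] :
    finrank ℂ (Cfsg.permSumZero ℂ G Ω).toSubmodule = Fintype.card Ω - 1 := by
  classical
  let φ : (Ω → ℂ) →ₗ[ℂ] ℂ := ∑ x, LinearMap.proj x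
  have hker : (Cfsg.permSumZero ℂ G Ω).toSubmodule = LinearMap.ker φ := by
    ext f
    simp only [φ, LinearMap.mem_ker, LinearMap.sum_apply, LinearMap.proj_apply]
    rfl
  have hsurj : LinearMap.range φ = ⊤ := LinearMap.range_eq_top.2 fun c => by
    obtain ⟨a⟩ := ‹Nonempty Ω›
    exact ⟨Pi.single a c, by simp [φ]⟩
  have := LinearMap.finrank_range_add_finrank_ker φ
  rw [hsurj, finrank_top, finrank_self, finrank_fintype_fun_eq_card, ← hker] at this
  omega

/-- An irreducible representation, transported to coordinates. -/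
theorem exists_isIrreducible {W : Type*} [AddCommGroup W] [Module ℂ W] [FiniteDimensional ℂ W]
    (ρ : Representation ℂ G W) (hρ : Irred ρ) {T : ℕ} (hT : finrank ℂ W = T) (hT0 : 0 < T) :
    ∃ σ : Representation ℂ G (Fin T → ℂ), σ.IsIrreducible := by
  let e : W ≃ₗ[ℂ] (Fin T → ℂ) := LinearEquiv.ofFinrankEq _ _ (by simp [hT])
  let σ : Representation ℂ G (Fin T → ℂ) :=
    { toFun := fun g => e.conj (ρ g)
      map_one' := by simp [Module.End.one_eq_id, LinearEquiv.conj_id]
      map_mul' := fun g h => by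
        rw [map_mul, Module.End.mul_eq_comp, Module.End.mul_eq_comp, LinearEquiv.conj_comp] }
  refine ⟨σ, ?_⟩
  have key : ∀ S : Subrepresentation σ, S = ⊥ ∨ S = ⊤ := fun S => by
    rcases hρ (S.toSubmodule.comap e.toLinearMap) (fun g y hy => by
      have := S.apply_mem_toSubmodule g (v := e y) hy
      simpa [σ, LinearEquiv.conj_apply] using this) with h | h
    · refine Or.inl (Subrepresentation.toSubmodule_injective ?_)
      show S.toSubmodule = ⊥
      rw [eq_bot_iff]
      intro y hy
      have : e.symm y ∈ S.toSubmodule.comap e.toLinearMap := by simpa using hy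
      rw [h, Submodule.mem_bot] at this
      rw [Submodule.mem_bot, ← e.apply_symm_apply y, this, map_zero]
    · refine Or.inr (Subrepresentation.toSubmodule_injective ?_)
      show S.toSubmodule = ⊤
      rw [eq_top_iff]
      intro y _
      have : e.symm y ∈ S.toSubmodule.comap e.toLinearMap := by rw [h]; trivial
      simpa using this
  have : Nontrivial (Subrepresentation σ) := ⟨⟨⊥, ⊤, fun h => by
    have h1 : (⊥ : Submodule ℂ (Fin T → ℂ)) = ⊤ := congrArg Subrepresentation.toSubmodule h
    have h2 := congrArg (fun U : Submodule ℂ (Fin T → ℂ) => finrank ℂ U) h1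
    simp at h2
    omega⟩⟩
  exact (⟨key⟩ : IsSimpleOrder (Subrepresentation σ))

variable {F : Type*} [Field F] [Fintype F] [DecidableEq F]

/-- The degree `(q ^ n - q) / (q - 1)` is attained. -/
theorem sl_exists_irreducible {n : ℕ} (hn : 3 ≤ n) :
    ∃ σ : Representation ℂ SL(n, F) (Fin ((Fintype.card F ^ n - Fintype.card F) / (Fintype.card F - 1)) → ℂ),
      σ.IsIrreducible := by
  classical
  let P := ℙ F (Fin n → F)
  have : Fintype P := Fintype.ofFinite _
  have : Nontrivial (Fin n) := Fin.nontrivial_iff_two_le.2 (by omega)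
  have hsmul : ∀ (g : SL(n, F)) (p : P) (h : g.1 *ᵥ p.rep ≠ 0),
      g • p = Projectivization.mk F (g.1 *ᵥ p.rep) h := fun g p h => by
    conv_lhs => rw [← p.mk_rep]
    rfl
  have key : ∀ {g : SL(n, F)} {p r : P}, g.1 *ᵥ p.rep = r.rep → g • p = r := fun {g p r} h => by
    rw [hsmul g p (by rw [h]; exact r.rep_nonzero)]
    conv_rhs => rw [← r.mk_rep]
    exact (Projectivization.mk_eq_mk_iff' F _ _ _ _).2 ⟨1, by rw [one_smul, h]⟩
  have htrans : ∀ x y : P, ∃ g : SL(n, F), g • x = y := fun x y => by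
    obtain ⟨g, hg⟩ := GL.exists_SL_mulVec_eq (by simp; omega) x.rep_nonzero y.rep_nonzero
    exact ⟨g, key hg⟩
  have h2 : ∀ x y z : P, y ≠ x → z ≠ x → ∃ g : SL(n, F), g • x = x ∧ g • y = z := by
    intro x y z hy hz
    have hli : ∀ w : P, w ≠ x → LinearIndependent F ![x.rep, w.rep] := fun w hw => by
      rw [LinearIndependent.pair_iff' x.rep_nonzero]
      intro a ha
      refine hw ?_
      rw [← w.mk_rep, ← x.mk_rep, Projectivization.mk_eq_mk_iff']
      exact ⟨a, ha⟩
    obtain ⟨g, hg⟩ := GL.exists_SL_of_linearIndependent (hli y hy) (hli z hz) (by simp; omega)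
    exact ⟨g, key (hg 0), key (hg 1)⟩
  have hne : Nonempty P := ⟨Projectivization.mk F (Pi.single ⟨0, by omega⟩ 1) (by simp)⟩
  refine exists_isIrreducible _ (irred_sumZero (G := SL(n, F)) (Ω := P) htrans h2) ?_ ?_
  · rw [finrank_sumZero, ← Nat.card_eq_fintype_card, GL.card_projectiveSpace, Fintype.card_fin]
    have hq : 2 ≤ Fintype.card F := Fintype.one_lt_card
    generalize Fintype.card F = q at *
    have hle : q ≤ q ^ n := Nat.le_self_pow (by omega) q
    rw [show q ^ n - 1 = q ^ n - q + (q - 1) by omega, Nat.add_div_right _ (by omega), Nat.add_sub_cancel]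
  · have hq : 2 ≤ Fintype.card F := Fintype.one_lt_card
    refine Nat.div_pos ?_ (by omega)
    have : Fintype.card F * Fintype.card F ≤ Fintype.card F ^ n := by
      rw [← sq]; exact Nat.pow_le_pow_right (by omega) (by omega)
    have h2q := Nat.mul_le_mul_right (Fintype.card F) hq
    omega

end Cfsg.Agent.MinDegree
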