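import Cfsg.Agent.Lib.MinDegree.SLCore

/-!
A flag vector makes the scalar of the sum of all transvections impossible: the sum over the root group of the
flag satisfies a quadratic relation.
-/

set_option autoImplicit false
set_option linter.unusedSectionVars false

open Matrix Module
open scoped MatrixGroups

namespace Cfsg.Agent.MinDegree

open Cfsg.Agent.MinDeg

variable {F : Type*} [Field F] [Fintype F] {j : ℕ} {W : Type*} [AddCommGroup W] [Module ℂ W]
  [FiniteDimensional ℂ W] {ψ : AddChar F ℂ} {ρ : Representation ℂ SL(j + 3, F) W}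

theorem hT_one : hT (F := F) j 1 = 1 := by
  rw [hT, show (((1 : Fˣ), (1 : GL (Fin (j + 1)) F))) = 1 from rfl, map_one, map_one]

theorem hT_mul (r r' : Fˣ) : hT (F := F) j (r * r') = hT j r * hT j r' := by
  rw [hT, hT, hT, ← map_mul, ← map_mul, Prod.mk_mul_mk, mul_one]

theorem hT_mul_levi_uSL (r : Fˣ) (h : Fin (j + 1) → F) :
    hT j r * levi (SpecialLinearGroup.toGL (uSL h)) =
      levi (SpecialLinearGroup.toGL (uSL ((r : F) • h))) * hT j r := by
  refine sl_ext fun x => ?_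
  obtain ⟨a, b, c, rfl⟩ := exists_cons₂ x
  simp only [coe_SL_mul, ← Matrix.mulVec_mulVec, levi_mulVec, uSL_mulVec, hT_mulVec, coe_toGL, (uSL _).2,
    inv_one, one_mul, smul_dotProduct, smul_eq_mul]
  congr 2
  ring

open Classical in
/-- `Σ_r χ r = 0` for a nontrivial multiplicative function. -/
theorem sum_char_eq_zero {χ : Fˣ → ℂ} (hmul : ∀ r r', χ (r * r') = χ r * χ r') {r₀ : Fˣ} (h0 : χ r₀ ≠ 1) :
    ∑ r : Fˣ, χ r = 0 := by
  have h : (∑ r : Fˣ, χ r) * χ r₀ = ∑ r : Fˣ, χ r := by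
    rw [Finset.sum_mul]
    exact Fintype.sum_equiv (Equiv.mulRight r₀) _ _ fun r => (hmul r r₀).symm
  have h' : (∑ r : Fˣ, χ r) * (χ r₀ - 1) = 0 := by rw [mul_sub, h, mul_one, sub_self]
  exact (mul_eq_zero.1 h').resolve_right (sub_ne_zero.2 h0)

variable {g : SL(j + 3, F)}

theorem x10_decomp
    (hg : ∀ (a b : F) (r : Fin (j + 1) → F),
      g.1 *ᵥ Fin.cons a (Fin.cons b r) = Fin.cons (-b) (Fin.cons a r) ∧
      Fin.cons a (Fin.cons b r) ᵥ* g.1 = Fin.cons b (Fin.cons (-a) r))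
    (r : Fˣ) :
    tv (Fin.cons 0 (Fin.cons 1 0) : Fin (j + 3) → F) (Fin.cons (r : F) 0) =
      uSL (Pi.single 0 (r : F)⁻¹) * hT j r * g * uSL (Pi.single 0 (r : F)⁻¹) := by
  refine sl_ext fun x => ?_
  obtain ⟨a, b, c, rfl⟩ := exists_cons₂ x
  rw [tv_mulVec (by rw [dot_cons]; simp)]
  simp only [coe_SL_mul, ← Matrix.mulVec_mulVec, uSL_mulVec, hT_mulVec, (hg _ _ _).1, single_dotProduct,
    Fin.cons_zero, dot_cons, zero_dotProduct, add_zero]
  have hr := r.ne_zero
  ext y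
  induction y using Fin.cases with
  | zero => simp
  | succ y => induction y using Fin.cases with
    | zero => simp; field_simp; ring
    | succ y => simp

theorem swap_inv_eq
    (hg : ∀ (a b : F) (r : Fin (j + 1) → F),
      g.1 *ᵥ Fin.cons a (Fin.cons b r) = Fin.cons (-b) (Fin.cons a r) ∧
      Fin.cons a (Fin.cons b r) ᵥ* g.1 = Fin.cons b (Fin.cons (-a) r)) :
    g⁻¹ = g * hT j (-1) := by
  refine sl_ext fun x => ?_
  obtain ⟨a, b, c, rfl⟩ := exists_cons₂ x
  simp only [coe_SL_mul, ← Matrix.mulVec_mulVec, hT_mulVec, (hg _ _ _).1, swap_inv_mulVec hg]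
  simp

theorem hT_swap
    (hg : ∀ (a b : F) (r : Fin (j + 1) → F),
      g.1 *ᵥ Fin.cons a (Fin.cons b r) = Fin.cons (-b) (Fin.cons a r) ∧
      Fin.cons a (Fin.cons b r) ᵥ* g.1 = Fin.cons b (Fin.cons (-a) r))
    (r : Fˣ) : hT j r * g = g * hT j r⁻¹ := by
  refine sl_ext fun x => ?_
  obtain ⟨a, b, c, rfl⟩ := exists_cons₂ x
  simp only [coe_SL_mul, ← Matrix.mulVec_mulVec, hT_mulVec, (hg _ _ _).1]
  simp [Units.val_inv_eq_inv_val]

open Classical in
/-- A functional invariant under the radicals and transforming by `χ` under the torus, normalised at `v`. -/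
theorem exists_functional {v : Fix ρ} (hv : v ∈ lineFix (fixRep ρ)) (hv0 : v ≠ 0) {χ : Fˣ → ℂ}
    (hχ : ∀ r, ρ (hT j r) v = χ r • (v : W)) :
    ∃ l : W →ₗ[ℂ] ℂ, (∀ f y, l (ρ (uSL f) y) = l y) ∧
      (∀ h y, l (ρ (levi (SpecialLinearGroup.toGL (uSL h))) y) = l y) ∧
      (∀ r y, l (ρ (hT j r) y) = χ r * l y) ∧ l v = 1 := by
  have hv' : (v : W) ≠ 0 := fun e => hv0 (Subtype.ext e)
  have hmul : ∀ r r', χ (r * r') = χ r * χ r' := fun r r' => by
    refine smul_left_injective ℂ hv' ?_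
    show χ (r * r') • (v : W) = (χ r * χ r') • (v : W)
    rw [← hχ, hT_mul, map_mul, Module.End.mul_apply, hχ, map_smul, hχ, smul_smul, mul_comm]
  have h1 : χ 1 = 1 := by
    refine smul_left_injective ℂ hv' ?_
    show χ 1 • (v : W) = (1 : ℂ) • (v : W)
    rw [← hχ, hT_one, map_one, Module.End.one_apply, one_smul]
  obtain ⟨l₀, hl₀⟩ : ∃ l₀ : W →ₗ[ℂ] ℂ, l₀ v.1 = 1 := by
    obtain ⟨l₁, hl₁⟩ : ∃ l₁ : W →ₗ[ℂ] ℂ, l₁ v.1 ≠ 0 := by
      by_contra h
      push Not at h
      exact hv' ((Module.forall_dual_apply_eq_zero_iff ℂ _).1 h)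
    exact ⟨(l₁ v.1)⁻¹ • l₁, by simp [hl₁]⟩
  let U := ∑ f : Fin (j + 2) → F, ρ (uSL f)
  let U' := ∑ h : Fin (j + 1) → F, ρ (levi (SpecialLinearGroup.toGL (uSL h)))
  let T := ∑ r : Fˣ, χ r⁻¹ • ρ (hT j r)
  let l := l₀.comp (T.comp (U'.comp U))
  have hlU : ∀ f y, l (ρ (uSL f) y) = l y := fun f y => by
    simp only [l, LinearMap.comp_apply, U]
    rw [sum_uSL_absorb]
  have hlU' : ∀ h y, l (ρ (levi (SpecialLinearGroup.toGL (uSL h))) y) = l y := fun h y => by
    simp only [l, LinearMap.comp_apply, U]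
    rw [radical_sum_comm]
    exact congrArg (fun z => l₀ (T z))
      (sum_uSL_absorb (m := j + 1) ((ρ.comp levi).comp SpecialLinearGroup.toGL) h _)
  have hU'comm : ∀ r y, U' (ρ (hT j r) y) = ρ (hT j r) (U' y) := fun r y => by
    simp only [U', LinearMap.sum_apply, map_sum]
    symm
    refine Fintype.sum_bijective (fun h => (r : F) • h)
      (Finite.injective_iff_bijective.1 (smul_right_injective _ r.ne_zero)) _ _ fun h => ?_
    rw [← Module.End.mul_apply, ← map_mul, hT_mul_levi_uSL, map_mul, Module.End.mul_apply]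
  have hT' : ∀ r y, T (ρ (hT j r) y) = χ r • T y := fun r y => by
    simp only [T, LinearMap.sum_apply, LinearMap.smul_apply, Finset.smul_sum, smul_smul]
    refine Fintype.sum_equiv (Equiv.mulRight r) _ _ fun s => ?_
    rw [← Module.End.mul_apply, ← map_mul, ← hT_mul, ← hmul]
    simp only [Equiv.coe_mulRight, _root_.mul_inv_rev, ← mul_assoc, mul_inv_cancel, one_mul]
  have hlT : ∀ r y, l (ρ (hT j r) y) = χ r * l y := fun r y => by
    simp only [l, LinearMap.comp_apply, U]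
    rw [show hT j r = levi (par (r, 1)) from rfl, radical_sum_comm, ← show hT j r = levi (par (r, 1)) from rfl,
      hU'comm, hT', map_smul, smul_eq_mul]
  have hlv : l v = (Fintype.card Fˣ : ℂ) * (Fintype.card F : ℂ) ^ (j + 1) * (Fintype.card F : ℂ) ^ (j + 2) := by
    simp only [l, LinearMap.comp_apply, U]
    rw [radical_sum_of_Fix ρ v.2, map_smul, map_smul, map_smul,
      show U' v.1 = (Fintype.card F : ℂ) ^ (j + 1) • v.1 by
        simp only [U', LinearMap.sum_apply]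
        rw [Finset.sum_congr rfl fun h _ => show ρ (levi (SpecialLinearGroup.toGL (uSL h))) v.1 = v.1 from
          congrArg Subtype.val ((mem_lineFix.1 hv).2 h), Finset.sum_const, Finset.card_univ, Fintype.card_fun,
          Fintype.card_fin, ← Nat.cast_smul_eq_nsmul ℂ, Nat.cast_pow],
      map_smul, map_smul,
      show T v.1 = (Fintype.card Fˣ : ℂ) • v.1 by
        simp only [T, LinearMap.sum_apply, LinearMap.smul_apply, hχ, smul_smul, ← hmul, inv_mul_cancel, h1,
          one_smul, Finset.sum_const, Finset.card_univ, Nat.cast_smul_eq_nsmul],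
      map_smul, hl₀]
    simp [smul_eq_mul]; ring
  have hne : l v ≠ 0 := by
    rw [hlv]
    exact mul_ne_zero (mul_ne_zero (Nat.cast_ne_zero.2 Fintype.card_ne_zero)
      (pow_ne_zero _ (Nat.cast_ne_zero.2 Fintype.card_ne_zero)))
      (pow_ne_zero _ (Nat.cast_ne_zero.2 Fintype.card_ne_zero))
  exact ⟨(l v)⁻¹ • l, fun f y => by simp [hlU], fun h y => by simp [hlU'],
    fun r y => by simp [hlT]; ring, by simp [inv_mul_cancel₀ hne]⟩

open Classical in
/-- Expansion of the sum over the root group of the flag. -/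
theorem flagSum_eq
    (hg : ∀ (a b : F) (r : Fin (j + 1) → F),
      g.1 *ᵥ Fin.cons a (Fin.cons b r) = Fin.cons (-b) (Fin.cons a r) ∧
      Fin.cons a (Fin.cons b r) ᵥ* g.1 = Fin.cons b (Fin.cons (-a) r))
    {v : Fix ρ} (hv : v ∈ lineFix (fixRep ρ)) {χ : Fˣ → ℂ} {l : W →ₗ[ℂ] ℂ}
    (hlU : ∀ f y, l (ρ (uSL f) y) = l y) (hlT : ∀ r y, l (ρ (hT j r) y) = χ r * l y) :
    flagSum ρ g l v = (Fintype.card F : ℂ) ^ (j + 1) * (l v + (∑ r : Fˣ, χ r) * l (ρ g v)) := by
  set E1 : Fin (j + 3) → F := Fin.cons 0 (Fin.cons 1 0) with hE1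
  have hge : g.1 *ᵥ (e₀ : Fin (j + 3) → F) = E1 := by
    rw [e₀, hE1, show (0 : Fin (j + 2) → F) = Fin.cons 0 0 from (Matrix.cons_zero_zero).symm, (hg 1 0 0).1]
    simp
  have h := congrArg l (LinearMap.congr_fun (sum_centre ρ hge) v.1)
  rw [LinearMap.sum_apply, map_sum, Module.End.mul_apply, Module.End.mul_apply] at h
  rw [flagSum, ← h, sum_cons]
  have hrow : ∀ b : F, (∑ φ : Fin (j + 2) → F,
      l ((if (Fin.cons b φ : Fin (j + 3) → F) ⬝ᵥ E1 = 0 then ρ (tv E1 (Fin.cons b φ)) else 0) v.1)) =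
      (Fintype.card F : ℂ) ^ (j + 1) * l (ρ (tv E1 (Fin.cons b 0)) v.1) := by
    intro b
    rw [← show j + 2 - 1 = j + 1 from rfl, ← sum_dot_eq (c := (Fin.cons 1 0 : Fin (j + 2) → F))
      (fun e => one_ne_zero (congrFun e 0)) (l (ρ (tv E1 (Fin.cons b 0)) v.1))]
    refine Finset.sum_congr rfl fun φ _ => ?_
    have hd : (Fin.cons b φ : Fin (j + 3) → F) ⬝ᵥ E1 = φ ⬝ᵥ Fin.cons 1 0 := by rw [hE1, dot_cons]; simp
    rw [hd]
    split_ifs with hφ
    · have h0 : (Fin.cons b 0 : Fin (j + 3) → F) ⬝ᵥ E1 = 0 := by rw [hE1, dot_cons]; simp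
      have h1 : (Fin.cons 0 φ : Fin (j + 3) → F) ⬝ᵥ E1 = 0 := by rw [hE1, dot_cons, hφ]; simp
      rw [show (Fin.cons b φ : Fin (j + 3) → F) = Fin.cons b 0 + Fin.cons 0 φ by
          ext x; induction x using Fin.cases <;> simp, tv_add_right h0 h1, map_mul, Module.End.mul_apply, hE1,
        tv_act_Fix 0 hφ v.2]
      obtain ⟨t, s, rfl⟩ : ∃ t s, φ = Fin.cons t s := ⟨φ 0, Fin.tail φ, (Fin.cons_self_tail φ).symm⟩
      rw [dot_cons, dotProduct_zero, mul_one, add_zero] at hφ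
      subst hφ
      refine congrArg (fun y => l (ρ (tv _ _) y)) ?_
      exact congrArg Subtype.val (tv_act_lineFix 1 (dotProduct_zero s) hv)
    · simp
  rw [Finset.sum_congr rfl fun b _ => hrow b, ← Finset.mul_sum,
    ← Finset.add_sum_erase _ _ (Finset.mem_univ (0 : F))]
  congr 1
  rw [show (Fin.cons 0 0 : Fin (j + 3) → F) = 0 from Matrix.cons_zero_zero, tv_zero_right, map_one,
    Module.End.one_apply]
  congr 1
  rw [Finset.sum_mul]
  symm
  refine Finset.sum_bij (fun r _ => (r : F)) (fun r _ => Finset.mem_erase.2 ⟨r.ne_zero, Finset.mem_univ _⟩)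
    (fun r _ r' _ e => Units.ext e)
    (fun b hb => ⟨Units.mk0 b (Finset.mem_erase.1 hb).1, Finset.mem_univ _, rfl⟩) fun r _ => ?_
  rw [hE1, x10_decomp hg r, map_mul, map_mul, map_mul, Module.End.mul_apply, Module.End.mul_apply,
    Module.End.mul_apply, hlU, hlT, mem_Fix.1 v.2]

open Classical in
/-- The quadratic relation. -/
theorem exists_flag
    (hg : ∀ (a b : F) (r : Fin (j + 1) → F),
      g.1 *ᵥ Fin.cons a (Fin.cons b r) = Fin.cons (-b) (Fin.cons a r) ∧
      Fin.cons a (Fin.cons b r) ᵥ* g.1 = Fin.cons b (Fin.cons (-a) r))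
    (hL : lineFix (fixRep ρ) ≠ ⊥) :
    ∃ v ∈ lineFix (fixRep ρ), ∃ l : W →ₗ[ℂ] ℂ, (∀ f y, l (ρ (uSL f) y) = l y) ∧
      (∀ h y, l (ρ (levi (SpecialLinearGroup.toGL (uSL h))) y) = l y) ∧ l (v : Fix ρ).1 = 1 ∧
      ∃ α : ℕ, (α = Fintype.card F ^ 2 ∨ α = Fintype.card F ∨ α = 1) ∧
        flagSum ρ g l v = (α : ℂ) * (Fintype.card F : ℂ) ^ j := by
  set q := (Fintype.card F : ℂ) with hq
  have hq0 : q ≠ 0 := Nat.cast_ne_zero.2 Fintype.card_ne_zero
  obtain ⟨z, hz, hz0, hze⟩ := exists_eigen_lineFix hL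
  have hstab : ∀ r : Fˣ, ∃ c : ℂ, ρ (hT j r) z = c • (z : W) := fun r => by
    obtain ⟨c, hc⟩ := Submodule.mem_span_singleton.1 (hze (par (r, 1)) ⟨r, by
      rw [e₀, par_mulVec]
      ext x; induction x using Fin.cases <;> simp⟩)
    exact ⟨c, (congrArg Subtype.val hc).symm⟩
  choose χ hχ using hstab
  have hz' : (z : W) ≠ 0 := fun e => hz0 (Subtype.ext e)
  have hmul : ∀ r r', χ (r * r') = χ r * χ r' := fun r r' => by
    refine smul_left_injective ℂ hz' ?_
    show χ (r * r') • (z : W) = (χ r * χ r') • (z : W)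
    rw [← hχ, hT_mul, map_mul, Module.End.mul_apply, hχ, map_smul, hχ, smul_smul, mul_comm]
  by_cases htriv : ∃ r₀, χ r₀ ≠ 1
  · obtain ⟨r₀, hr₀⟩ := htriv
    obtain ⟨l, hlU, hlU', hlT, hlv⟩ := exists_functional hz hz0 hχ
    refine ⟨z, hz, l, hlU, hlU', hlv, Fintype.card F, Or.inr (Or.inl rfl), ?_⟩
    rw [flagSum_eq hg hz hlU hlT, sum_char_eq_zero hmul hr₀, hlv]
    ring
  push Not at htriv
  let L1 : Submodule ℂ (Fix ρ) := lineFix (fixRep ρ) ⊓
    fixedPts ((fixRep ρ).comp (par.comp (MonoidHom.inl Fˣ (GL (Fin (j + 1)) F))))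
  have hmem : ∀ y, y ∈ L1 ↔ y ∈ lineFix (fixRep ρ) ∧ ∀ r, ρ (hT j r) y.1 = y.1 := fun y => by
    rw [Submodule.mem_inf, mem_fixedPts]
    exact and_congr_right fun _ => forall_congr' fun r => Subtype.ext_iff
  have hne : L1 ≠ ⊥ := (Submodule.ne_bot_iff _).2
    ⟨z, (hmem z).2 ⟨hz, fun r => by rw [hχ, htriv, one_smul]⟩, hz0⟩
  let T : Module.End ℂ (Fix ρ) := LinearMap.codRestrict (Fix ρ)
    ((∑ f : Fin (j + 2) → F, ρ (uSL f)).comp ((ρ g⁻¹).comp (Fix ρ).subtype)) fun y => radical_sum_mem ρ _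
  have hT1 : ∀ y ∈ L1, T y ∈ L1 := by
    intro y hy
    rw [hmem] at hy ⊢
    refine ⟨flag_image_mem hg hy.1, fun r => ?_⟩
    show ρ (hT j r) ((∑ f : Fin (j + 2) → F, ρ (uSL f)) (ρ g⁻¹ y.1)) = _
    have hc : hT j r * g⁻¹ = g⁻¹ * hT j r⁻¹ := by
      have h := hT_swap hg r⁻¹
      rw [inv_inv] at h
      rw [eq_inv_mul_iff_mul_eq, ← mul_assoc, mul_inv_eq_iff_eq_mul, h]
    rw [show hT j r = levi (par (r, 1)) from rfl, ← radical_sum_comm,
      ← show hT j r = levi (par (r, 1)) from rfl, ← Module.End.mul_apply (ρ _) (ρ _), ← map_mul, hc, map_mul,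
      Module.End.mul_apply, hy.2]
    rfl
  have : Nontrivial L1 := Submodule.nontrivial_iff_ne_bot.2 hne
  obtain ⟨τ, hτ⟩ := Module.End.exists_eigenvalue (T.restrict hT1)
  obtain ⟨v, hv, hv0⟩ := hτ.exists_hasEigenvector
  have hv1 := (hmem v.1).1 v.2
  obtain ⟨l, hlU, hlU', hlT, hlv⟩ := exists_functional (χ := fun _ => 1) hv1.1
    (fun e => hv0 (Subtype.ext e)) fun r => by rw [one_smul]; exact hv1.2 r
  refine ⟨v.1, hv1.1, l, hlU, hlU', hlv, ?_⟩
  set t := l (ρ g v.1.1) with ht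
  have hA1 := flagSum_eq hg hv1.1 hlU hlT
  rw [hlv, Finset.sum_const, Finset.card_univ, Fintype.card_units, nsmul_eq_mul, mul_one,
    Nat.cast_sub Fintype.card_pos, Nat.cast_one, ← ht, ← hq] at hA1
  have heig : (∑ f : Fin (j + 2) → F, ρ (uSL f)) (ρ g⁻¹ v.1.1) = τ • v.1.1 :=
    congrArg (fun y : L1 => y.1.1) (Module.End.mem_eigenspace_iff.1 hv)
  have hτt : τ = q ^ (j + 2) * t := by
    have h1 := congrArg l heig
    rw [LinearMap.sum_apply, map_sum, Finset.sum_congr rfl fun f _ => hlU f _, Finset.sum_const,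
      Finset.card_univ, Fintype.card_fun, Fintype.card_fin, nsmul_eq_mul, Nat.cast_pow, map_smul, smul_eq_mul,
      hlv, mul_one, swap_inv_eq hg, map_mul, Module.End.mul_apply, hv1.2] at h1
    exact h1.symm
  have hA2 : flagSum ρ g l v.1 = q ^ (j + 2) * t ^ 2 := by
    rw [flagSum, heig, map_smul, map_smul, smul_eq_mul, ← ht, hτt]; ring
  have hquad : (t - 1) * (q * t + 1) = 0 := by
    have h3 : q ^ (j + 1) * ((t - 1) * (q * t + 1)) = 0 := by
      rw [hA2] at hA1
      linear_combination hA1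
    exact (mul_eq_zero.1 h3).resolve_left (pow_ne_zero _ hq0)
  rcases mul_eq_zero.1 hquad with h | h
  · refine ⟨Fintype.card F ^ 2, Or.inl rfl, ?_⟩
    rw [hA2, sub_eq_zero.1 h, Nat.cast_pow, ← hq]; ring
  · refine ⟨1, Or.inr (Or.inr rfl), ?_⟩
    have h2 : q * t = -1 := by linear_combination h
    rw [hA2, Nat.cast_one, one_mul]
    linear_combination q ^ j * (q * t - 1) * h2

set_option maxHeartbeats 1000000 in
open Classical in
/-- The Levi factor cannot be irreducible on the fixed vectors of the radical and fix a flag vector. -/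
theorem core_false (hψ : ψ.IsPrimitive) (hρ : Irred ρ) (hS : Std ρ ψ) (hσ : Irred (fixRep ρ))
    (hlow : Fintype.card F ^ (j + 2) ≤ (Fintype.card F - 1) * finrank ℂ (Fix ρ) + Fintype.card F)
    (hL : lineFix (fixRep ρ) ≠ ⊥) : False := by
  obtain ⟨g, hg⟩ := exists_swap' (F := F) (j + 1)
  obtain ⟨v, hv, l, hlU, hlU', hlv, α, hα, hA⟩ := exists_flag (g := g) hg hL
  have hv0 : v ≠ 0 := fun e => by rw [e, ZeroMemClass.coe_zero, map_zero] at hlv; exact zero_ne_one hlv
  have : Nontrivial (Fix ρ) := ⟨⟨v, 0, hv0⟩⟩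
  have : Nontrivial W := Subtype.coe_injective.nontrivial (α := Fix ρ)
  have hup := degree_le_of_lineFix (σ := fixRep ρ) (by omega) hσ hL
  have hq2 : 2 ≤ Fintype.card F := Fintype.one_lt_card
  obtain ⟨P, hP⟩ : ∃ P, Fintype.card F ^ (j + 1) = (Fintype.card F - 1) * P + 1 := by
    obtain ⟨P, hP⟩ := Nat.sub_dvd_pow_sub_pow (Fintype.card F) 1 (j + 1)
    refine ⟨P, ?_⟩
    have := Nat.one_le_pow (j + 1) _ (Fintype.card_pos (α := F))
    rw [one_pow] at hP
    omega
  have hP1 : 1 ≤ P := by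
    rcases Nat.eq_zero_or_pos P with h | h
    · subst h
      have : 2 ≤ Fintype.card F ^ (j + 1) := le_trans hq2 (Nat.le_self_pow (by omega) _)
      omega
    · exact h
  have hf0 := finrank_eq_of_wt hψ (fixSL ρ) (d := 1) (fix_wt_one hψ hS)
  rw [mul_one, ← Fix_eq_wt (ψ := ψ)] at hf0
  have hD := finrank_fix hψ hS
  -- the two identities
  have hmain := tsum_coeff (π := SpecialLinearGroup.toGL) (s := MonoidHom.id _)
    ⟨SpecialLinearGroup.toGL_injective, fun _ => rfl⟩ hρ (by omega : 1 ≤ j + 2) v.1 l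
  rw [MonoidHom.comp_id] at hmain
  have hF := tsum_coeff (emb_toGL (m := j + 1)) hσ (by omega) v (l.comp (Fix ρ).subtype)
  have hsplit := tsum_flag hg hv hlU hlU'
  have hmov := moving_eq (by omega : 1 ≤ j + 1) hσ (flag_image_mem hg hv) ((l.comp (ρ g)).comp (Fix ρ).subtype)
  have hμ : ((l.comp (ρ g)).comp (Fix ρ).subtype) (⟨_, radical_sum_mem ρ (ρ g⁻¹ v.1)⟩ : Fix ρ) =
      flagSum ρ g l v := rfl
  rw [hμ] at hmov
  set q := (Fintype.card F : ℂ) with hq
  set f := finrank ℂ (Fix ρ) with hf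
  set f0 := finrank ℂ (Fix (fixSL ρ)) with hf0'
  set E := l (tsum ρ v.1)
  set TF := (l.comp (Fix ρ).subtype) (tsum (fixSL ρ) v)
  set R := moving (fixRep ρ) ((l.comp (ρ g)).comp (Fix ρ).subtype) ⟨_, radical_sum_mem ρ (ρ g⁻¹ v.1)⟩
  rw [hlv, hA] at hsplit
  rw [hA] at hmov
  have hlv' : (l.comp (Fix ρ).subtype) v = 1 := hlv
  rw [hlv', mul_one, Nat.cast_mul, Nat.cast_sub (Nat.one_le_pow _ _ Fintype.card_pos)] at hF
  rw [hlv, mul_one, Nat.cast_mul, Nat.cast_sub (Nat.one_le_pow _ _ Fintype.card_pos), hD] at hmain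
  push_cast [Nat.cast_sub (Nat.one_le_pow (j + 2) _ (Fintype.card_pos (α := F)))] at hmain hF hmov hsplit
  simp only [← hq] at hmain hF
  have hPC : q ^ (j + 1) = (q - 1) * (P : ℂ) + 1 := by
    have h := congrArg (Nat.cast : ℕ → ℂ) hP
    push_cast [Nat.cast_sub Fintype.card_pos] at h
    rw [hq]; exact h
  have hq0 : q ≠ 0 := Nat.cast_ne_zero.2 Fintype.card_ne_zero
  have hq1 : q - 1 ≠ 0 := sub_ne_zero.2 fun e => by
    rw [hq, ← Nat.cast_one, Nat.cast_inj] at e; omega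
  -- the two possible dimensions
  have hpow : Fintype.card F ^ (j + 2) = (Fintype.card F - 1) * (Fintype.card F * P) + Fintype.card F := by
    rw [pow_succ, hP]; ring
  rw [hpow] at hlow hup
  have hbounds : f = Fintype.card F * P ∨ f = Fintype.card F * P + 1 := by
    have h1 : (Fintype.card F - 1) * (Fintype.card F * P) ≤ (Fintype.card F - 1) * f := by omega
    have h2 : (Fintype.card F - 1) * f ≤ (Fintype.card F - 1) * (Fintype.card F * P + 1) := by
      rw [Nat.mul_add, Nat.mul_one]; omega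
    have := Nat.le_of_mul_le_mul_left h1 (by omega)
    have := Nat.le_of_mul_le_mul_left h2 (by omega)
    omega
  set Q := q ^ j with hQ
  have e1 : q ^ (j + 1) = q * Q := by rw [hQ, pow_succ]; ring
  have e2 : q ^ (j + 2) = q * q * Q := by rw [hQ, pow_add]; ring
  have e3 : q ^ (j + 2 + 1) = q * q * q * Q := by rw [hQ, pow_succ, pow_add]; ring
  have hQ0 : Q ≠ 0 := pow_ne_zero _ hq0
  simp only [e1, e2, e3] at hmain hF hmov hsplit hPC
  have hf0C : (f : ℂ) = (f0 : ℂ) + (q * Q - 1) := by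
    have h := congrArg (Nat.cast : ℕ → ℂ) hf0
    push_cast [Nat.cast_sub (Nat.one_le_pow (j + 1) _ (Fintype.card_pos (α := F)))] at h
    rw [← e1, hq]; exact h
  rcases hbounds with hf1 | hf1
  · have hfC : (f : ℂ) = q * P := by rw [hf1, Nat.cast_mul]
    have hf0C' : (f0 : ℂ) = P := by linear_combination -hf0C + hfC - hPC
    rw [hfC, hf0C'] at hF hmov
    rw [hfC] at hmain
    have hP0 : (P : ℂ) ≠ 0 := Nat.cast_ne_zero.2 (by omega)
    have hTF : TF = (q * q * Q - 1) * Q := by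
      refine mul_right_cancel₀ (mul_ne_zero hq0 hP0) ?_
      linear_combination hF
    have hR : R = -(α : ℂ) * Q * Q * (q - 1) ^ 2 := by
      refine mul_right_cancel₀ (mul_ne_zero hq0 hP0) ?_
      linear_combination hmov
    rw [hTF, hR] at hsplit
    have hbr : E = (q * (q * q * Q - 1) + (α : ℂ) * (q - 1)) * Q := by
      refine mul_left_cancel₀ (mul_ne_zero (mul_ne_zero hq0 hq0) hQ0) ?_
      linear_combination hsplit
    rw [hbr] at hmain
    have hkey : (q * (q * P + 1) + (α : ℂ)) * ((q - 1) * (q * P + 1) + q * P) =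
        (q * q * P + q + 1) * (q * q * q * P) := by
      refine mul_left_cancel₀ (mul_ne_zero hq1 hQ0) ?_
      linear_combination hmain -
        Q * (q ^ 2 * (q * P + (q * q * Q - 1)) + q * (q * (q - 1) * (q * P + 1) + (α : ℂ) * (q - 1)) -
          q ^ 5 * P) * hPC
    have hnat : ((Fintype.card F : ℤ) * (Fintype.card F * P + 1) + α) *
        ((Fintype.card F - 1) * (Fintype.card F * P + 1) + Fintype.card F * P) =
        (Fintype.card F * Fintype.card F * P + Fintype.card F + 1) *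
          (Fintype.card F * Fintype.card F * Fintype.card F * P) := by
      rw [hq] at hkey; exact_mod_cast hkey
    have hα2 : (α : ℤ) ≤ Fintype.card F * Fintype.card F := by
      rcases hα with h | h | h <;> rw [h] <;> push_cast <;> nlinarith
    have hqZ : (2 : ℤ) ≤ Fintype.card F := by exact_mod_cast hq2
    have hPZ : (1 : ℤ) ≤ P := by exact_mod_cast hP1
    generalize (Fintype.card F : ℤ) = x at *
    generalize (P : ℤ) = y at *
    generalize (α : ℤ) = a at *
    have hC : 0 ≤ (x - 1) * (x * y + 1) + x * y := by nlinarith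
    have hle := mul_le_mul_of_nonneg_right (add_le_add_left hα2 (x * (x * y + 1))) hC
    have h1 : x * x * 1 ≤ x * x * y := mul_le_mul_of_nonneg_left hPZ (by nlinarith)
    have h2 : 4 ≤ x * x := by nlinarith
    have h3 : 3 * (x * x) ≤ (x * x * y - 1) * (x * x * y) :=
      mul_le_mul (by linarith) (by linarith) (by linarith) (by linarith)
    have h4 : x * (x + 1) < 3 * (x * x) := by nlinarith
    have h5 : 0 < (x - 1) * ((x * x * y - 1) * (x * x * y) - x * (x + 1)) := mul_pos (by linarith) (by linarith)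
    nlinarith
  · have hfC : (f : ℂ) = q * P + 1 := by rw [hf1]; push_cast; rfl
    have hf0C' : (f0 : ℂ) = P + 1 := by linear_combination -hf0C + hfC - hPC
    rw [hfC, hf0C'] at hF hmov
    rw [hfC] at hmain
    have hf1' : q * (P : ℂ) + 1 ≠ 0 := by
      rw [hq, ← Nat.cast_mul, ← Nat.cast_one, ← Nat.cast_add, Nat.cast_ne_zero]; omega
    have hTF : TF = q * Q * (q - 1) * ((P : ℂ) + 1) := by
      refine mul_right_cancel₀ hf1' ?_
      linear_combination hF + q * Q * ((P : ℂ) + 1) * q * hPC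
    have hR : R = 0 := by
      refine mul_right_cancel₀ hf1' ?_
      linear_combination hmov + (α : ℂ) * Q * q * Q * ((P + 1) * q - (q * P + 1)) * hPC
    rw [hTF, hR] at hsplit
    have hbr : E = q * (q - 1) * (q * ((P : ℂ) + 1) + α) * Q := by
      refine mul_left_cancel₀ (mul_ne_zero (mul_ne_zero hq0 hq0) hQ0) ?_
      linear_combination hsplit
    rw [hbr] at hmain
    have hkey : (α : ℂ) = q * (q - 1) * P + 1 := by
      refine mul_left_cancel₀ (mul_ne_zero (mul_ne_zero (mul_ne_zero hq0 hq1) (mul_ne_zero hq0 hQ0)) hf1') ?_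
      linear_combination hmain - Q * (q ^ 2 * (q - 1) * (q * ((P : ℂ) + 1) + α) - q ^ 4 * (q * P + 1)) * hPC
    have hnat : (α : ℤ) = Fintype.card F * (Fintype.card F - 1) * P + 1 := by
      rw [hq] at hkey; exact_mod_cast hkey
    have hqZ : (2 : ℤ) ≤ Fintype.card F := by exact_mod_cast hq2
    have hPZ : (1 : ℤ) ≤ P := by exact_mod_cast hP1
    have hdvd : (Fintype.card F : ℤ) ∣ (α : ℤ) - 1 := ⟨(Fintype.card F - 1) * P, by linear_combination hnat⟩
    rcases hα with h | h | h <;> rw [h] at hdvd hnat <;> push_cast at hdvd hnat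
    · have h1 : (Fintype.card F : ℤ) ∣ 1 := by
        have := dvd_sub (dvd_pow_self (Fintype.card F : ℤ) two_ne_zero) hdvd
        simpa using this
      have := Int.le_of_dvd one_pos h1
      omega
    · have h1 : (Fintype.card F : ℤ) ∣ 1 := by simpa using dvd_sub (dvd_refl (Fintype.card F : ℤ)) hdvd
      have := Int.le_of_dvd one_pos h1
      omega
    · nlinarith [mul_le_mul (mul_le_mul hqZ (show (1 : ℤ) ≤ Fintype.card F - 1 by linarith) zero_le_one
        (by linarith)) hPZ zero_le_one (by nlinarith)]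

end Cfsg.Agent.MinDegree
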