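import Cfsg.Agent.Lib.MinDegree.SLFlag

/-!
The induction on the dimension: the weights of multiplicity one force a vector fixed by a vector stabiliser.
-/

set_option autoImplicit false
set_option linter.unusedSectionVars false

open Matrix Module
open scoped MatrixGroups

namespace Cfsg.Agent.MinDegree

open Cfsg.Agent.MinDeg

universe u

variable {F : Type*} [Field F] [Fintype F] {ψ : AddChar F ℂ}

theorem toGL_levi_toGL {m : ℕ} (t : SL(m, F)) :
    SpecialLinearGroup.toGL (levi (SpecialLinearGroup.toGL t)) = par ((1 : Fˣ), SpecialLinearGroup.toGL t) := by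
  refine Units.ext ?_
  show blk (t.1.det)⁻¹ 0 t.1 = blk ((1 : Fˣ) : F) 0 t.1
  rw [t.2, inv_one, Units.val_one]

variable {W : Type*} [AddCommGroup W] [Module ℂ W] [FiniteDimensional ℂ W]

section Twist

variable {i : ℕ} {ρ : Representation ℂ SL(i + 4, F) W}

/-- `t₀` acts on a fixed weight line of the complement by a scalar. -/
theorem exists_eps (hψ : ψ.IsPrimitive) (hS : Std (j := i + 1) ρ ψ) (t : SL(i + 2, F))
    {w : Fin (i + 2) → F} (hw : w ≠ 0) (htw : t.1 *ᵥ w = w) :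
    ∃ ε : ℂ, ∀ y ∈ wt ((xRep ρ).comp SpecialLinearGroup.toGL) ψ w,
      xRep ρ (par ((1 : Fˣ), SpecialLinearGroup.toGL t)) y = ε • y := by
  have hone : finrank ℂ (wt ((xRep ρ).comp SpecialLinearGroup.toGL) ψ w) = 1 := by
    rw [finrank_wt_xRep hψ ρ hw, fix_wt_one hψ hS w hw]
  have := Module.nontrivial_of_finrank_pos (R := ℂ)
    (show 0 < finrank ℂ (wt ((xRep ρ).comp SpecialLinearGroup.toGL) ψ w) by omega)
  obtain ⟨y₀, hy₀⟩ := exists_ne (0 : wt ((xRep ρ).comp SpecialLinearGroup.toGL) ψ w)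
  have himg := lev1_mem_wt y₀.2 (SpecialLinearGroup.toGL t)
  rw [coe_toGL, htw, lev1_eq_par] at himg
  obtain ⟨ε, hε⟩ := exists_smul_eq_of_finrank_eq_one hone (x := y₀) hy₀
    (⟨_, himg⟩ : wt ((xRep ρ).comp SpecialLinearGroup.toGL) ψ w)
  refine ⟨ε, fun y hy => ?_⟩
  obtain ⟨a, ha⟩ := exists_smul_eq_of_finrank_eq_one hone (x := y₀) hy₀
    (⟨y, hy⟩ : wt ((xRep ρ).comp SpecialLinearGroup.toGL) ψ w)
  have hy' : a • (y₀ : Xsp ρ) = y := congrArg Subtype.val ha
  have he : ε • (y₀ : Xsp ρ) = xRep ρ (par ((1 : Fˣ), SpecialLinearGroup.toGL t)) y₀.1 :=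
    congrArg Subtype.val hε
  rw [← hy', map_smul, ← he, smul_comm]

/-- Over a field with more than two elements the scaling of `t₀` makes these scalars trivial. -/
theorem eps_eq_one_of_three_le (hψ : ψ.IsPrimitive) (hS : Std (j := i + 1) ρ ψ) (hq : 3 ≤ Fintype.card F)
    {w : Fin (i + 2) → F} (hw : w ≠ 0) (hw1 : w 1 = 0) :
    ∀ y ∈ wt ((xRep ρ).comp SpecialLinearGroup.toGL) ψ w,
      xRep ρ (par ((1 : Fˣ), SpecialLinearGroup.toGL (t₀ F i))) y = y := by
  classical
  obtain ⟨κ, hκ⟩ : ∃ κ : Fˣ, κ ≠ 1 := by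
    have h2 : 1 < Fintype.card Fˣ := by rw [Fintype.card_units]; omega
    exact Fintype.exists_ne_of_one_lt_card h2 1
  let T : F → SL(i + 2, F) := fun s => tv (Pi.single 0 1) (Pi.single 1 s)
  have hd : ∀ s : F, (Pi.single 1 s : Fin (i + 2) → F) ⬝ᵥ Pi.single 0 1 = 0 := fun s => by simp
  have hTw : ∀ s, (T s).1 *ᵥ w = w := fun s => by
    simp only [T]; rw [tv_mulVec (hd s), single_dotProduct, hw1, mul_zero, zero_smul, add_zero]
  choose lam hlam using fun s => exists_eps hψ hS (T s) hw (hTw s)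
  have hone : finrank ℂ (wt ((xRep ρ).comp SpecialLinearGroup.toGL) ψ w) = 1 := by
    rw [finrank_wt_xRep hψ ρ hw, fix_wt_one hψ hS w hw]
  have := Module.nontrivial_of_finrank_pos (R := ℂ)
    (show 0 < finrank ℂ (wt ((xRep ρ).comp SpecialLinearGroup.toGL) ψ w) by omega)
  obtain ⟨y₀, hy₀⟩ := exists_ne (0 : wt ((xRep ρ).comp SpecialLinearGroup.toGL) ψ w)
  have hy0' : (y₀ : Xsp ρ) ≠ 0 := fun e => hy₀ (Subtype.ext e)
  have hadd : ∀ a b, lam (a + b) = lam a * lam b := fun a b => by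
    refine smul_left_injective ℂ hy0' ?_
    show lam (a + b) • (y₀ : Xsp ρ) = (lam a * lam b) • (y₀ : Xsp ρ)
    rw [← hlam (a + b) y₀.1 y₀.2,
      show T (a + b) = T a * T b by simp only [T, Pi.single_add]; exact tv_add_right (hd a) (hd b),
      map_mul, show ((1 : Fˣ), SpecialLinearGroup.toGL (T a) * SpecialLinearGroup.toGL (T b)) =
        (((1 : Fˣ), SpecialLinearGroup.toGL (T a)) * ((1 : Fˣ), SpecialLinearGroup.toGL (T b))) by
        rw [Prod.mk_mul_mk, one_mul], map_mul, map_mul, Module.End.mul_apply, hlam b _ y₀.2, map_smul,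
      hlam a _ y₀.2, smul_smul, mul_comm]
  let d : Fin (i + 2) → Fˣ := fun x => if x = 1 then κ⁻¹ else 1
  have hAw : (GL.diagHom d).1 *ᵥ w = w := by
    funext x
    rw [GL.coe_diagHom, Matrix.mulVec_diagonal]
    by_cases hx : x = 1
    · subst hx; simp [d, hw1]
    · simp [d, hx]
  have hconj : ∀ s, lam ((κ : F) * s) = lam s := fun s => by
    have hA := lev1_mem_wt y₀.2 (GL.diagHom d)
    rw [hAw, lev1_eq_par] at hA
    have hne : xRep ρ (par ((1 : Fˣ), GL.diagHom d)) y₀.1 ≠ 0 := fun e => hy0' (by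
      have := congrArg (xRep ρ (par ((1 : Fˣ), GL.diagHom d))⁻¹) e
      rwa [map_zero, ← Module.End.mul_apply, ← map_mul, inv_mul_cancel, map_one] at this)
    refine smul_left_injective ℂ hne ?_
    show lam ((κ : F) * s) • _ = lam s • _
    have hc := (emb_toGL (F := F) (m := i + 1)).conj_tv (GL.diagHom d) (hd s)
    simp only [MonoidHom.id_apply] at hc
    have e1 : (GL.diagHom d).1 *ᵥ (Pi.single 0 1 : Fin (i + 2) → F) = Pi.single 0 1 := by
      funext x
      rw [GL.coe_diagHom, Matrix.mulVec_diagonal]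
      by_cases hx : x = 0
      · subst hx; simp [d]
      · simp [hx]
    have e2 : (Pi.single 1 s : Fin (i + 2) → F) ᵥ* ((GL.diagHom d)⁻¹).1 = Pi.single 1 ((κ : F) * s) := by
      funext x
      rw [← map_inv, GL.coe_diagHom, Matrix.vecMul_diagonal]
      by_cases hx : x = 1
      · subst hx; simp [d, mul_comm]
      · simp [hx]
    rw [e1, e2] at hc
    rw [← hlam _ _ hA, ← map_smul, ← hlam s _ y₀.2, ← Module.End.mul_apply, ← Module.End.mul_apply,
      ← map_mul, ← map_mul, ← map_mul, ← map_mul]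
    refine congrArg (fun g => xRep ρ g y₀.1) (congrArg par ?_)
    exact Prod.ext rfl hc.symm
  have h1 : ∀ s, lam s = 1 := fun s => by
    have hκ1 : (κ : F) - 1 ≠ 0 := sub_ne_zero.2 fun e => hκ (Units.ext e)
    have h0 : lam 0 = 1 := by
      refine smul_left_injective ℂ hy0' ?_
      show lam 0 • (y₀ : Xsp ρ) = (1 : ℂ) • (y₀ : Xsp ρ)
      rw [← hlam 0 _ y₀.2, one_smul]
      simp only [T, Pi.single_zero, tv_zero_right, map_one,
        show ((1 : Fˣ), (1 : GL (Fin (i + 2)) F)) = 1 from rfl, Module.End.one_apply]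
    have h2 : ∀ r, lam (((κ : F) - 1) * r) = 1 := fun r => by
      rw [sub_mul, one_mul, sub_eq_add_neg, hadd, hconj, ← hadd, add_neg_cancel, h0]
    have := h2 (s / ((κ : F) - 1))
    rwa [mul_div_cancel₀ _ hκ1] at this
  intro y hy
  rw [show t₀ F i = T 1 from rfl, hlam 1 y hy, h1, one_smul]

section Two

theorem finrank_wt_eq {m : ℕ} {W : Type*} [AddCommGroup W] [Module ℂ W] [FiniteDimensional ℂ W]
    (σ : Representation ℂ (GL (Fin (m + 1)) F) W) {v v' : Fin m → F} (hv : v ≠ 0) (hv' : v' ≠ 0) :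
    finrank ℂ (wt (σ.comp SpecialLinearGroup.toGL) ψ v) =
      finrank ℂ (wt (σ.comp SpecialLinearGroup.toGL) ψ v') := by
  have hle : ∀ v v' : Fin m → F, v ≠ 0 → v' ≠ 0 →
      finrank ℂ (wt (σ.comp SpecialLinearGroup.toGL) ψ v) ≤
        finrank ℂ (wt (σ.comp SpecialLinearGroup.toGL) ψ v') := by
    intro v v' hv hv'
    obtain ⟨g, hg⟩ := exists_lev1 (σ := σ) (ψ := ψ) hv hv'
    refine LinearMap.finrank_le_finrank_of_injective (f := (σ g).restrict hg) fun a b e => ?_
    have h := congrArg (fun x => σ g⁻¹ x) (congrArg Subtype.val e)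
    simp only [LinearMap.coe_restrict_apply, ← Module.End.mul_apply, ← map_mul, inv_mul_cancel, map_one,
      Module.End.one_apply] at h
    exact Subtype.ext h
  exact le_antisymm (hle _ _ hv hv') (hle _ _ hv' hv)

theorem eq_one_of_two (hq : Fintype.card F = 2) : ∀ a : F, a ≠ 0 → a = 1 := by
  intro a ha
  have h := FiniteField.pow_card_sub_one_eq_one a ha
  rwa [hq, pow_one] at h

theorem add_self_of_two (hq : Fintype.card F = 2) : (1 : F) + 1 = 0 := by
  have := FiniteField.cast_card_eq_zero F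
  rw [hq] at this
  push_cast at this
  linear_combination this

theorem exists_toGL_of_two (hq : Fintype.card F = 2) {k : ℕ} (A : GL (Fin k) F) :
    ∃ t : SL(k, F), A = SpecialLinearGroup.toGL t :=
  ⟨⟨A.1, eq_one_of_two hq _ ((Matrix.isUnit_iff_isUnit_det _).1 A.isUnit).ne_zero⟩, Units.ext rfl⟩

/-- A nontrivial scalar of `t₀` makes the radical act trivially on the fixed vectors one level below. -/
theorem fix_top_of_signs {X : Type*} [AddCommGroup X] [Module ℂ X] [FiniteDimensional ℂ X]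
    {τ : Representation ℂ SL(i + 3, F) X} (hψ : ψ.IsPrimitive) (hq : Fintype.card F = 2)
    (hone : ∀ w' : Fin (i + 2) → F, w' ≠ 0 → finrank ℂ (wt τ ψ w') = 1) (ε : (Fin (i + 2) → F) → ℂ)
    (hε : ∀ w' : Fin (i + 2) → F, w' ≠ 0 → w' 1 = 0 → ∀ y ∈ wt τ ψ w',
      τ (levi (SpecialLinearGroup.toGL (t₀ F i))) y = ε w' • y)
    (hsq : ∀ w', w' ≠ 0 ∧ w' 1 = 0 → ε w' = 1 ∨ ε w' = -1)
    {w : Fin (i + 2) → F} (hw : w ≠ 0) (hw1 : w 1 = 0) (hw0 : ε w = -1) :
    Fix (W := Fix τ) (fixSL τ) = ⊤ := by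
  classical
  set S := ((Finset.univ : Finset (Fin (i + 2) → F)).erase 0).filter (fun w' => w' 1 = 0) with hSdef
  have hmemS : ∀ w', w' ∈ S → w' ≠ 0 ∧ w' 1 = 0 := fun w' h =>
    ⟨(Finset.mem_erase.1 (Finset.mem_filter.1 h).1).1, (Finset.mem_filter.1 h).2⟩
  -- the multiplicity `d` of the weights on the next level
  let w₁ : Fin (i + 1) → F := Pi.single 0 1
  have heq : ∀ v : Fin (i + 1) → F, v ≠ 0 →
      finrank ℂ (wt (W := Fix τ) (fixSL τ) ψ v) = finrank ℂ (wt (W := Fix τ) (fixSL τ) ψ w₁) :=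
    fun v hv => finrank_wt_eq (m := i + 1) (W := Fix τ) (fixRep τ) hv (by simp [w₁])
  have hd0 : finrank ℂ (wt (W := Fix τ) (fixSL τ) ψ w₁) = 0 := by
    have h1 := trace_uSL hψ (fixSL τ) heq (f := (Pi.single 0 1 : Fin (i + 1) → F)) (by simp)
    rw [uSL_single, show fixSL τ (t₀ F i) = fixRep τ (SpecialLinearGroup.toGL (t₀ F i)) from rfl,
      trace_fixRep_t₀_of hψ hone ε hε, ← hSdef, finrank_eq_of_wt hψ (fixSL τ) heq] at h1
    set dd := finrank ℂ (wt (W := Fix τ) (fixSL τ) ψ w₁)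
    have hcard : (S.card : ℤ) + 1 = 2 ^ (i + 1) := by
      rw [hSdef, card_fixed_weights, hq, Nat.cast_sub (Nat.one_le_pow _ _ (by norm_num))]
      push_cast; ring
    let e : (Fin (i + 2) → F) → ℤ := fun w' => if ε w' = 1 then 1 else -1
    have hsum : ∑ w' ∈ S, ε w' = ((∑ w' ∈ S, e w' : ℤ) : ℂ) := by
      rw [Int.cast_sum]
      refine Finset.sum_congr rfl fun w' h => ?_
      rcases hsq w' (hmemS w' h) with h2 | h2 <;> simp [e, h2]
    have hlt : ∑ w' ∈ S, e w' < ∑ _w' ∈ S, (1 : ℤ) := by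
      refine Finset.sum_lt_sum (fun w' _ => by simp only [e]; split_ifs <;> norm_num)
        ⟨w, Finset.mem_filter.2 ⟨Finset.mem_erase.2 ⟨hw, Finset.mem_univ _⟩, hw1⟩, ?_⟩
      simp only [e, hw0]
      norm_num
    rw [Finset.sum_const, nsmul_eq_mul, mul_one] at hlt
    rw [hsum, hq] at h1
    push_cast [Nat.cast_sub (Nat.one_le_pow (i + 1) 2 (by norm_num))] at h1
    have h3 : ((((2 : ℤ) ^ (i + 1)) * (dd : ℤ) : ℤ) : ℂ) = ((1 + ∑ w' ∈ S, e w' : ℤ) : ℂ) := by
      push_cast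
      linear_combination h1
    have h4 := Int.cast_injective h3
    have h5 : (2 : ℤ) ^ (i + 1) * (dd : ℤ) < 2 ^ (i + 1) * 1 := by
      rw [h4, mul_one]; push_cast at hlt; linarith
    have := lt_of_mul_lt_mul_left h5 (by positivity)
    omega
  refine Submodule.eq_top_of_finrank_eq ?_
  have h2 := finrank_eq_of_wt hψ (fixSL τ) heq
  rw [hd0, mul_zero, add_zero, ← Fix_eq_wt (ψ := ψ)] at h2
  exact h2.symm

/-- Then the fixed vectors of the radical are fixed by the stabiliser. -/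
theorem stab_fixes_of_two {X : Type*} [AddCommGroup X] [Module ℂ X] [FiniteDimensional ℂ X]
    {σ : Representation ℂ (GL (Fin (i + 3)) F) X} (hq : Fintype.card F = 2)
    (htop : Fix (W := Fix (σ.comp SpecialLinearGroup.toGL)) (fixSL (σ.comp SpecialLinearGroup.toGL)) = ⊤) :
    ∀ y ∈ Fix (σ.comp SpecialLinearGroup.toGL), ∀ g : GL (Fin (i + 3)) F,
      (∃ a : F, g.1 *ᵥ e₀ = a • e₀) → σ g y = y := by
  have hF1 := eq_one_of_two (F := F) hq
  have hGL := @exists_toGL_of_two F _ _ hq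
  set τ := σ.comp SpecialLinearGroup.toGL with hτ
  intro y hy g hg
  obtain ⟨⟨a, A⟩, f, rfl⟩ := exists_par_of_stab hg
  obtain ⟨t, rfl⟩ := hGL A
  rw [(Units.ext (hF1 a.1 a.ne_zero) : a = 1), map_mul, Module.End.mul_apply,
    show σ (SpecialLinearGroup.toGL (uSL f)) y = y from mem_Fix.1 hy f]
  have h3 := fixed_of_radical (W := Fix τ) (m := i + 1) (by omega) (fixSL τ) (U' := ⊤) (fun _ _ _ => trivial)
    (fun f y _ => mem_Fix.1 (show y ∈ Fix (W := Fix τ) (fixSL τ) by rw [htop]; trivial) f) t ⟨y, hy⟩ trivial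
  have h4 : τ (levi (SpecialLinearGroup.toGL t)) y = y := congrArg Subtype.val h3
  rwa [show τ (levi (SpecialLinearGroup.toGL t)) =
    σ (SpecialLinearGroup.toGL (levi (SpecialLinearGroup.toGL t))) from rfl, toGL_levi_toGL] at h4

/-- Without a fixed vector the fixed spaces of the points are independent, which is too many. -/
theorem false_of_fix_bot_of_two (hψ : ψ.IsPrimitive) (hρ : Irred ρ) (hS : Std (j := i + 1) ρ ψ)
    (hq : Fintype.card F = 2)
    (hx0 : Fix ((xRep (j := i + 1) ρ).comp SpecialLinearGroup.toGL) = ⊥) : False := by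
  classical
  have hF1 := eq_one_of_two (F := F) hq
  have hGL := @exists_toGL_of_two F _ _ hq
  set τ := (xRep (j := i + 1) ρ).comp SpecialLinearGroup.toGL with hτ
  have hx := finrank_xRep (j := i + 1) hψ hS
  rw [hq] at hx
  have hpow : 4 ≤ 2 ^ (i + 2) := Nat.pow_le_pow_right (n := 2) two_pos (by omega : 2 ≤ i + 2)
  let X := (Xsp ρ).map (Fix ρ).subtype
  have hXW : finrank ℂ X = finrank ℂ (Xsp ρ) :=
    (Submodule.equivMapOfInjective _ Subtype.val_injective (Xsp ρ)).finrank_eq.symm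
  have h := indep_le (k := i + 2) (by omega) ρ (X := X)
    (fun _ ⟨y, _, e⟩ => e ▸ y.2)
    (fun A _ ⟨y, hy, e⟩ => e ▸ ⟨fixRep ρ A y, Xsp_invariant ρ A y hy, rfl⟩)
    (fun _ ⟨y, hy, e⟩ => by
      subst e
      have h0 := radical_sum_mem τ (⟨y, hy⟩ : Xsp ρ)
      rw [hx0, Submodule.mem_bot, LinearMap.sum_apply] at h0
      have h1 := congrArg (fun z : Xsp ρ => ((z : Fix ρ) : W)) h0
      simp only [Submodule.coe_sum, ZeroMemClass.coe_zero] at h1
      exact h1)
  rw [hXW, hx, hx0, finrank_bot, zero_add, hq] at h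
  simp only [show 2 - 1 = 1 from rfl, one_mul] at h
  have hfix : finrank ℂ (Xsp ρ) + finrank ℂ (fixedPts (fixSL ρ)) = finrank ℂ (Fix ρ) := finrank_Xsp_add ρ
  have hD := finrank_fix hψ hS
  rw [hq] at hD
  rw [hx, hx0, finrank_bot, zero_add] at hfix
  have hbound : finrank ℂ W ≤ 2 ^ (i + 4) - 1 ∨ finrank ℂ (fixedPts (fixSL ρ)) = 0 := by
    by_cases hY : fixedPts (fixSL ρ) = ⊥
    · exact Or.inr (by rw [hY, finrank_bot])
    left
    obtain ⟨z, hz, hz0⟩ := Submodule.exists_mem_ne_zero_of_ne_bot hY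
    have : Nontrivial W := ⟨⟨z.1, 0, fun e => hz0 (Subtype.ext e)⟩⟩
    have h1 := degree_le_points (π := SpecialLinearGroup.toGL) (s := MonoidHom.id _)
      ⟨SpecialLinearGroup.toGL_injective, fun _ => rfl⟩ hρ (by omega) (z := z.1)
      (fun e => hz0 (Subtype.ext e)) fun g hg => ?_
    · rw [hq] at h1; simpa using h1
    obtain ⟨⟨a, A⟩, f, hgf⟩ := exists_par_of_stab hg
    obtain ⟨t, rfl⟩ := hGL A
    rw [(Units.ext (hF1 a.1 a.ne_zero) : a = 1), ← toGL_levi_toGL, ← map_mul] at hgf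
    rw [SpecialLinearGroup.toGL_injective hgf, map_mul, Module.End.mul_apply, mem_Fix.1 z.2,
      show ρ (levi (SpecialLinearGroup.toGL t)) z.1 = z.1 from congrArg Subtype.val (mem_fixedPts.1 hz t)]
    exact Submodule.mem_span_singleton_self _
  have e3 : 2 ^ (i + 4) = 4 * 2 ^ (i + 2) := by ring
  have e4 : 2 ^ (i + 1 + 2) = 2 * 2 ^ (i + 2) := by ring
  rw [e4] at hD
  rw [e3] at h hbound
  generalize 2 ^ (i + 2) = N at *
  obtain ⟨a, rfl⟩ : ∃ a, N = a + 4 := ⟨N - 4, by omega⟩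
  rw [show a + 4 - 1 = a + 3 by omega, show 4 * (a + 4) - 1 = 4 * a + 15 by omega] at h
  rw [show 4 * (a + 4) - 1 = 4 * a + 15 by omega] at hbound
  rw [show 2 * (a + 4) - 1 = 2 * a + 7 by omega] at hD
  rw [show a + 4 - 1 = a + 3 by omega] at hfix
  rcases hbound with hb | hb
  · nlinarith [h, hb]
  · rw [hb, add_zero] at hfix
    nlinarith [h, hfix, hD]

/-- With a fixed vector an irreducible representation has degree two. -/
theorem finrank_eq_two_of_fix {X : Type*} [AddCommGroup X] [Module ℂ X] [FiniteDimensional ℂ X]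
    {σ : Representation ℂ (GL (Fin (i + 3)) F) X} (hirr : Irred σ)
    (hfix : fixedPts (σ.comp SpecialLinearGroup.toGL) = ⊥) (hq : Fintype.card F = 2)
    (hall : ∀ y ∈ Fix (σ.comp SpecialLinearGroup.toGL), ∀ g : GL (Fin (i + 3)) F,
      (∃ a : F, g.1 *ᵥ e₀ = a • e₀) → σ g y = y)
    (hx0 : Fix (σ.comp SpecialLinearGroup.toGL) ≠ ⊥) : finrank ℂ X = 2 := by
  classical
  have hF1 := eq_one_of_two (F := F) hq
  have hGL := @exists_toGL_of_two F _ _ hq
  set τ := σ.comp SpecialLinearGroup.toGL with hτ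
  have hpow : 4 ≤ 2 ^ (i + 2) := Nat.pow_le_pow_right (n := 2) two_pos (by omega : 2 ≤ i + 2)
  obtain ⟨z, hz, hz0⟩ := Submodule.exists_mem_ne_zero_of_ne_bot hx0
  have : Nontrivial X := ⟨⟨z, 0, hz0⟩⟩
  set U := ∑ f : Fin (i + 2) → F, τ (uSL f) with hU
  have hinv : ∀ g : GL (Fin (i + 3)) F, (∃ a : F, g.1 *ᵥ e₀ = a • e₀) →
      ∀ y, U (σ g y) = U y := by
    intro g hg y
    obtain ⟨⟨a, A⟩, f, rfl⟩ := exists_par_of_stab hg
    obtain ⟨t, rfl⟩ := hGL A
    rw [(Units.ext (hF1 a.1 a.ne_zero) : a = 1), ← toGL_levi_toGL, ← map_mul]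
    show U (τ (levi (SpecialLinearGroup.toGL t) * uSL f) y) = _
    rw [map_mul, Module.End.mul_apply, hU, radical_sum_comm, sum_uSL_absorb]
    have hmem := radical_sum_mem τ y
    rw [show τ (levi (SpecialLinearGroup.toGL t)) = σ (SpecialLinearGroup.toGL
        (levi (SpecialLinearGroup.toGL t))) from rfl, toGL_levi_toGL]
    refine hall _ hmem _ ⟨1, ?_⟩
    rw [e₀, par_mulVec, Matrix.mulVec_zero, one_smul, Units.val_one, one_mul]
  have hconst : ∀ μ₀ : X →ₗ[ℂ] ℂ, ∃ K, ∀ c φ : Fin (i + 3) → F, c ≠ 0 → φ ⬝ᵥ c = 0 → φ 0 ≠ 0 →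
      (μ₀.comp U) (σ (SpecialLinearGroup.toGL (tv c φ)) z) = K := by
    intro μ₀
    let c₁ : Fin (i + 3) → F := Pi.single 1 1
    let φ₁ : Fin (i + 3) → F := Pi.single 0 1
    refine ⟨(μ₀.comp U) (σ (SpecialLinearGroup.toGL (tv c₁ φ₁)) z), fun c φ hc hφc hφ0 => ?_⟩
    have himg : ∀ c' φ' : Fin (i + 3) → F, c' ≠ 0 → φ' ⬝ᵥ c' = 0 → φ' 0 ≠ 0 →
        LinearIndependent F ![(e₀ : Fin (i + 3) → F), (tv c' φ').1 *ᵥ e₀] := by
      intro c' φ' hc' hd' h0'
      rw [tv_mulVec hd', dot_e₀, LinearIndependent.pair_iff]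
      intro a b hab
      have h1 := congrArg (fun x => φ' ⬝ᵥ x) hab
      simp only [dotProduct_add, dotProduct_smul, dot_e₀, hd', smul_zero, add_zero, dotProduct_zero,
        smul_eq_mul, mul_zero] at h1
      have hab0 : a + b = 0 := by
        rcases mul_eq_zero.1 (show (a + b) * φ' 0 = 0 by linear_combination h1) with h2 | h2
        · exact h2
        · exact absurd h2 h0'
      have h2 : (b * φ' 0) • c' = 0 := by
        rw [← hab, smul_add, smul_smul, ← add_assoc, ← add_smul, hab0, zero_smul, zero_add]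
      obtain hb := (smul_eq_zero.1 h2).resolve_right hc'
      have hb0 : b = 0 := (mul_eq_zero.1 hb).resolve_right h0'
      exact ⟨by rw [hb0, add_zero] at hab0; exact hab0, hb0⟩
    have hc1 : φ₁ ⬝ᵥ c₁ = 0 := by simp [φ₁, c₁]
    obtain ⟨g, hg⟩ := GL.exists_GL_of_linearIndependent (himg c φ hc hφc hφ0)
      (himg c₁ φ₁ (by simp [c₁]) hc1 (by simp [φ₁]))
    have hg0 : g.1 *ᵥ (e₀ : Fin (i + 3) → F) = e₀ := hg 0
    have hg1 : g.1 *ᵥ ((tv c φ).1 *ᵥ e₀) = (tv c₁ φ₁).1 *ᵥ e₀ := hg 1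
    set u₁ : GL (Fin (i + 3)) F := SpecialLinearGroup.toGL (tv c₁ φ₁) with hu₁
    set u : GL (Fin (i + 3)) F := SpecialLinearGroup.toGL (tv c φ) with hu
    have hh : (u₁⁻¹ * g * u).1 *ᵥ (e₀ : Fin (i + 3) → F) = (1 : F) • e₀ := by
      rw [Units.val_mul, Units.val_mul, ← Matrix.mulVec_mulVec, ← Matrix.mulVec_mulVec, one_smul,
        show u.1 = (tv c φ).1 from rfl, hg1, ← coe_toGL (tv c₁ φ₁), Matrix.mulVec_mulVec, ← Units.val_mul,
        ← hu₁, inv_mul_cancel, Units.val_one, one_mulVec]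
    simp only [LinearMap.comp_apply]
    rw [← hinv g ⟨1, by rw [hg0, one_smul]⟩ (σ u z)]
    refine congrArg (fun y => μ₀ (U y)) ?_
    rw [← Module.End.mul_apply, ← map_mul, show g * u = u₁ * (u₁⁻¹ * g * u) by group, map_mul,
      Module.End.mul_apply, hall z hz _ ⟨1, hh⟩]
  have hUfix : ∀ y ∈ Fix τ, U y = (2 : ℂ) ^ (i + 2) • y := fun y hy => by
    rw [hU, radical_sum_of_Fix τ hy, hq, Nat.cast_ofNat]
  have hline : finrank ℂ (Fix τ) = 1 := by
    refine finrank_eq_one ⟨z, hz⟩ (fun e => hz0 (congrArg Subtype.val e)) fun y => ?_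
    by_contra hno
    push Not at hno
    obtain ⟨μ₀, hμ₀, hμz⟩ := Submodule.exists_dual_map_eq_bot_of_notMem (p := Submodule.span ℂ {z}) (x := y.1)
      (fun hmem => by
        obtain ⟨a, ha⟩ := Submodule.mem_span_singleton.1 hmem
        exact hno a (Subtype.ext ha)) inferInstance
    have hμz' : μ₀ z = 0 := by
      have : μ₀ z ∈ (Submodule.span ℂ {z}).map μ₀ := ⟨z, Submodule.mem_span_singleton_self z, rfl⟩
      rwa [hμz, Submodule.mem_bot] at this
    obtain ⟨K, hK⟩ := hconst μ₀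
    have h := eq_zero_of_const (emb_toGL (m := i + 2)) hirr (by omega) hz0 (μ := μ₀.comp U)
      (by rw [LinearMap.comp_apply, hUfix z hz, map_smul, hμz', smul_zero])
      (fun g hg => by rw [hall z hz g hg]; exact Submodule.mem_span_singleton_self _) K hK
    have h1 := LinearMap.congr_fun h y.1
    rw [LinearMap.comp_apply, hUfix _ y.2, map_smul, LinearMap.zero_apply, smul_eq_zero] at h1
    exact hμ₀ (h1.resolve_left (pow_ne_zero _ two_ne_zero))
  obtain ⟨μ₀, hμ₀⟩ : ∃ μ₀ : X →ₗ[ℂ] ℂ, μ₀ z ≠ 0 := by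
    by_contra h
    push Not at h
    exact hz0 ((Module.forall_dual_apply_eq_zero_iff ℂ _).1 h)
  obtain ⟨K, hK⟩ := hconst μ₀
  set μ := μ₀.comp U with hμ
  have hμ0 : μ z ≠ 0 := by
    rw [hμ, LinearMap.comp_apply, hUfix z hz, map_smul, smul_eq_mul]
    exact mul_ne_zero (pow_ne_zero _ two_ne_zero) hμ₀
  have hzL : z ∈ lineFix (σ) := mem_lineFix.2
    ⟨fun t => hall z hz _ ⟨1, by rw [e₀, par_mulVec, Matrix.mulVec_zero, one_smul, Units.val_one, one_mul]⟩,
      fun f => mem_Fix.1 hz f⟩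
  -- the number of moving pairs
  have hmov : moving (σ) μ z = ((2 : ℂ) ^ (i + 2) - 1) * 2 ^ (i + 2) * K := by
    have hb : ∀ a : F, ∀ r : Fin (i + 2) → F, ∀ b : F, ∀ s : Fin (i + 2) → F,
        (if r ≠ 0 ∧ b ≠ 0 ∧ b * a + s ⬝ᵥ r = 0 then
          μ (σ (SpecialLinearGroup.toGL (tv (Fin.cons a r) (Fin.cons b s))) z) else 0) =
        if r ≠ 0 ∧ b = 1 ∧ a = -(s ⬝ᵥ r) then K else 0 := by
      intro a r b s
      by_cases h : r ≠ 0 ∧ b ≠ 0 ∧ b * a + s ⬝ᵥ r = 0
      · rw [if_pos h, hK _ _ (fun e => h.1 (cons_eq_zero.1 e).2) (by rw [dot_cons]; exact h.2.2)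
          (by simpa using h.2.1), if_pos ⟨h.1, hF1 b h.2.1, eq_neg_of_add_eq_zero_left (by
            simpa [hF1 b h.2.1] using h.2.2)⟩]
      · rw [if_neg h, if_neg]
        rintro ⟨h1, rfl, rfl⟩
        exact h ⟨h1, one_ne_zero, by ring⟩
    rw [moving, Finset.sum_congr rfl fun a _ => Finset.sum_congr rfl fun r _ => Finset.sum_congr rfl
      fun b _ => Finset.sum_congr rfl fun s _ => hb a r b s, Finset.sum_comm]
    have hr : ∀ r : Fin (i + 2) → F, ∑ a : F, ∑ b : F, ∑ s : Fin (i + 2) → F,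
        (if r ≠ 0 ∧ b = 1 ∧ a = -(s ⬝ᵥ r) then K else 0) = if r ≠ 0 then (2 : ℂ) ^ (i + 2) * K else 0 := by
      intro r
      by_cases h : r = 0
      · simp [h]
      · simp only [h, ne_eq, not_false_eq_true, true_and, if_true, ite_and]
        rw [Finset.sum_comm, Finset.sum_eq_single 1 (fun b _ hb1 => by simp [hb1]) (by simp)]
        rw [Finset.sum_comm]
        simp [hq]
    rw [Finset.sum_congr rfl fun r _ => hr r, ← Finset.sum_filter, Finset.sum_const, Finset.filter_ne',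
      Finset.card_erase_of_mem (Finset.mem_univ _), Finset.card_univ, Fintype.card_fun, Fintype.card_fin, hq,
      nsmul_eq_mul, Nat.cast_sub (Nat.one_le_pow _ _ (by norm_num))]
    push_cast
    ring
  -- the sum over the orbit vanishes
  have hK1 : μ z + ((2 : ℂ) ^ (i + 3) - 2) * K = 0 := by
    have hzero : slSum τ z = 0 :=
      (Submodule.eq_bot_iff _).1 (hfix) _ (slSum_mem_fixedPts τ z)
    have h := congrArg μ hzero
    rw [map_zero, slSum, LinearMap.sum_apply, map_sum] at h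
    have hval : ∀ t : SL(i + 3, F), μ (τ t z) = if t.1 *ᵥ e₀ = e₀ then μ z else K := by
      intro t
      split_ifs with ht
      · exact congrArg μ (hall z hz _ ⟨1, by rw [one_smul]; exact ht⟩)
      · set y := t.1 *ᵥ (e₀ : Fin (i + 3) → F) with hy
        have hy0 : y ≠ 0 := fun e => e₀_ne_zero (F := F) (m := i + 2) (by
          rw [hy] at e
          simpa only [inv_mulVec_mulVec, Matrix.mulVec_zero] using congrArg (fun x => (t⁻¹).1 *ᵥ x) e)
        obtain ⟨φ, hφ1, hφy⟩ : ∃ φ : Fin (i + 3) → F, φ 0 = 1 ∧ φ ⬝ᵥ y = 1 := by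
          obtain ⟨a, hye⟩ : ∃ a : Fin (i + 2), y a.succ ≠ 0 := by
            by_contra hc
            push Not at hc
            refine ht (funext fun x => ?_)
            induction x using Fin.cases with
            | zero =>
              rw [hF1 (y 0) fun e => hy0 (funext fun x => by
                induction x using Fin.cases <;> simp [e, hc])]
              simp [e₀]
            | succ x => simp [e₀, hc]
          refine ⟨Fin.cons 1 (Pi.single a ((1 - y 0) / y a.succ)), rfl, ?_⟩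
          generalize hv : (1 - y 0) / y a.succ = v
          rw [← Fin.cons_self_tail y, dot_cons, single_dotProduct, ← hv]
          simp only [Fin.tail, one_mul]
          field_simp
          ring
        have hφc : φ ⬝ᵥ (y - e₀) = 0 := by rw [dotProduct_sub, hφy, dot_e₀, hφ1, sub_self]
        set u := tv (y - e₀) φ with hu
        have hu0 : u.1 *ᵥ (e₀ : Fin (i + 3) → F) = y := by
          rw [hu, tv_mulVec hφc, dot_e₀, hφ1, one_smul, add_sub_cancel]
        have hut : (SpecialLinearGroup.toGL (u⁻¹ * t)).1 *ᵥ (e₀ : Fin (i + 3) → F) = (1 : F) • e₀ := by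
          rw [coe_toGL, coe_SL_mul, ← Matrix.mulVec_mulVec, ← hy, ← hu0, inv_mulVec_mulVec, one_smul]
        rw [show τ t z = σ (SpecialLinearGroup.toGL u) (σ (SpecialLinearGroup.toGL (u⁻¹ * t)) z) by
          rw [← Module.End.mul_apply, ← map_mul, ← map_mul, mul_inv_cancel_left]; rfl, hall z hz _ ⟨1, hut⟩]
        exact hK _ _ (sub_ne_zero.2 ht) hφc (by rw [hφ1]; exact one_ne_zero)
    rw [Finset.sum_congr rfl fun t _ => hval t] at h
    choose G hG using fun y : {y : Fin (i + 3) → F // y ≠ 0} =>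
      GL.exists_SL_mulVec_eq (F := F) (ι := Fin (i + 3)) (by simp) e₀_ne_zero y.2
    let St := {t : SL(i + 3, F) // t.1 *ᵥ (e₀ : Fin (i + 3) → F) = e₀}
    let Φ : {y : Fin (i + 3) → F // y ≠ 0} × St ≃ SL(i + 3, F) :=
      Equiv.ofBijective (fun p => G p.1 * p.2.1) ⟨fun p p' e => by
          have h1 := congrArg (fun t : SL(i + 3, F) => t.1 *ᵥ (e₀ : Fin (i + 3) → F)) e
          simp only [coe_SL_mul, ← Matrix.mulVec_mulVec, p.2.2, p'.2.2, hG] at h1
          have h2 : p.1 = p'.1 := Subtype.ext h1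
          refine Prod.ext h2 (Subtype.ext ?_)
          simp only [h2] at e
          exact mul_left_cancel e,
        fun t => by
          have hne : t.1 *ᵥ (e₀ : Fin (i + 3) → F) ≠ 0 := fun e => e₀_ne_zero (F := F) (m := i + 2) (by
            simpa only [inv_mulVec_mulVec, Matrix.mulVec_zero] using congrArg (fun x => (t⁻¹).1 *ᵥ x) e)
          refine ⟨⟨⟨_, hne⟩, ⟨(G ⟨_, hne⟩)⁻¹ * t, ?_⟩⟩, mul_inv_cancel_left _ _⟩
          rw [coe_SL_mul, ← Matrix.mulVec_mulVec]
          exact (congrArg (fun x => ((G ⟨_, hne⟩)⁻¹).1 *ᵥ x) (hG ⟨_, hne⟩).symm).trans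
            (inv_mulVec_mulVec _ _)⟩
    have hval2 : ∀ y s, (if (Φ (y, s)).1 *ᵥ (e₀ : Fin (i + 3) → F) = e₀ then μ z else K) =
        if y.1 = e₀ then μ z else K := fun y s => by
      show (if (G y * s.1).1 *ᵥ (e₀ : Fin (i + 3) → F) = e₀ then μ z else K) = _
      rw [coe_SL_mul, ← Matrix.mulVec_mulVec, s.2, hG]
    rw [← Φ.sum_comp, Fintype.sum_prod_type, Finset.sum_congr rfl fun y _ => Finset.sum_congr rfl fun s _ =>
      hval2 y s] at h
    simp only [Finset.sum_const, Finset.card_univ, nsmul_eq_mul, ← Finset.mul_sum] at h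
    have hSt : 0 < Fintype.card St := Fintype.card_pos_iff.2 ⟨⟨1, by simp⟩⟩
    have h' := (mul_eq_zero.1 h).resolve_left (Nat.cast_ne_zero.2 hSt.ne')
    rw [← Finset.add_sum_erase _ _ (Finset.mem_univ (⟨e₀, e₀_ne_zero⟩ : {y : Fin (i + 3) → F // y ≠ 0})),
      if_pos rfl, Finset.sum_congr rfl fun y hy => if_neg fun e => (Finset.mem_erase.1 hy).1 (Subtype.ext e),
      Finset.sum_const, Finset.card_erase_of_mem (Finset.mem_univ _), Finset.card_univ,
      Fintype.card_subtype_compl, Fintype.card_subtype_eq, Fintype.card_fun, Fintype.card_fin, hq, nsmul_eq_mul,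
      Nat.cast_sub (le_trans (by norm_num) (Nat.sub_le_sub_right
        (Nat.pow_le_pow_right two_pos (by omega : 1 ≤ i + 3)) 1)),
      Nat.cast_sub (Nat.one_le_pow _ _ (by norm_num))] at h'
    push_cast at h'
    linear_combination h'
  have hc := tsum_coeff (emb_toGL (m := i + 2)) hirr (by omega) z μ
  rw [tsum_split (σ) (by omega) hzL μ, hmov, hline, hq, Nat.cast_mul,
    Nat.cast_sub (Nat.one_le_pow _ _ (by norm_num))] at hc
  push_cast at hc
  set N : ℂ := (2 : ℂ) ^ (i + 2) with hN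
  rw [show (2 : ℂ) ^ (i + 2 + 1) = 2 * N by rw [hN]; ring] at hc
  rw [show (2 : ℂ) ^ (i + 3) = 2 * N by rw [hN]; ring] at hK1
  set D := (finrank ℂ X : ℂ) with hD
  have hN1 : (2 * N - 1) * N * μ z ≠ 0 := by
    have : (2 * N - 1) * N ≠ 0 := by
      have h1 : ((2 * 2 ^ (i + 2) - 1 : ℕ) : ℂ) * ((2 ^ (i + 2) : ℕ) : ℂ) ≠ 0 :=
        mul_ne_zero (Nat.cast_ne_zero.2 (by omega)) (Nat.cast_ne_zero.2 (by omega))
      push_cast [Nat.cast_sub (show 1 ≤ 2 * 2 ^ (i + 2) by omega)] at h1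
      exact h1
    exact mul_ne_zero this hμ0
  have hX2 : D = 2 := by
    have h2 : (D - 2) * ((2 * N - 1) * N * μ z) = 0 := by
      linear_combination 2 * hc - D * N * hK1
    exact sub_eq_zero.1 ((mul_eq_zero.1 h2).resolve_right hN1)
  exact Nat.cast_injective (R := ℂ) (hX2.trans Nat.cast_ofNat.symm)

end Two

/-- Over the field of two elements the character of `t₀` decides. -/
theorem eps_eq_one_of_two (hψ : ψ.IsPrimitive) (hρ : Irred ρ) (hS : Std (j := i + 1) ρ ψ)
    (hq : Fintype.card F = 2) {w : Fin (i + 2) → F} (hw : w ≠ 0) (hw1 : w 1 = 0) :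
    ∀ y ∈ wt ((xRep ρ).comp SpecialLinearGroup.toGL) ψ w,
      xRep ρ (par ((1 : Fˣ), SpecialLinearGroup.toGL (t₀ F i))) y = y := by
  classical
  have hadd1 := add_self_of_two (F := F) hq
  by_contra hne
  have hone : ∀ w' : Fin (i + 2) → F, w' ≠ 0 →
      finrank ℂ (wt ((xRep ρ).comp SpecialLinearGroup.toGL) ψ w') = 1 := fun w' hw' => by
    rw [finrank_wt_xRep hψ ρ hw', fix_wt_one hψ hS w' hw']
  have htw : ∀ w' : Fin (i + 2) → F, w' 1 = 0 → (t₀ F i).1 *ᵥ w' = w' := fun w' h => by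
    rw [t₀_mulVec, h, zero_smul, add_zero]
  choose! ε hε using fun (w' : Fin (i + 2) → F) (h : w' ≠ 0 ∧ w' 1 = 0) =>
    exists_eps hψ hS (t₀ F i) h.1 (htw w' h.2)
  have ht2 : t₀ F i * t₀ F i = 1 := by
    rw [t₀, ← tv_add_left (by simp) (by simp), ← Pi.single_add, hadd1, Pi.single_zero, tv_zero_left]
  have hsq : ∀ w', w' ≠ 0 ∧ w' 1 = 0 → ε w' = 1 ∨ ε w' = -1 := fun w' h => by
    have := Module.nontrivial_of_finrank_pos (R := ℂ) (show 0 < finrank ℂ (wt ((xRep ρ).comp SpecialLinearGroup.toGL) ψ w') by rw [hone w' h.1]; omega)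
    obtain ⟨y, hy⟩ := exists_ne (0 : wt ((xRep ρ).comp SpecialLinearGroup.toGL) ψ w')
    refine mul_self_eq_one_iff.1 (smul_left_injective ℂ (fun e => hy (Subtype.ext e) : (y : Xsp ρ) ≠ 0) ?_)
    show (ε w' * ε w') • (y : Xsp ρ) = (1 : ℂ) • (y : Xsp ρ)
    rw [one_smul, mul_comm, mul_smul, ← hε w' h y.1 y.2, ← map_smul, ← hε w' h y.1 y.2,
      ← Module.End.mul_apply, ← map_mul, ← map_mul, Prod.mk_mul_mk, one_mul, ← map_mul, ht2, map_one,
      show ((1 : Fˣ), (1 : GL (Fin (i + 2)) F)) = 1 from rfl, map_one, map_one, Module.End.one_apply]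
  have hw0 : ε w = -1 := (hsq w ⟨hw, hw1⟩).resolve_left fun e => hne fun y hy => by
    rw [hε w ⟨hw, hw1⟩ y hy, e, one_smul]
  have htop := fix_top_of_signs (X := Xsp ρ) (τ := (xRep ρ).comp SpecialLinearGroup.toGL) hψ hq hone ε
    (fun w' h h' y hy => by
      show xRep ρ (SpecialLinearGroup.toGL (levi (SpecialLinearGroup.toGL (t₀ F i)))) y = _
      rw [toGL_levi_toGL]
      exact hε w' ⟨h, h'⟩ y hy) hsq hw hw1 hw0
  have hall := stab_fixes_of_two (X := Xsp ρ) (σ := xRep ρ) hq htop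
  by_cases hx0 : Fix ((xRep (j := i + 1) ρ).comp SpecialLinearGroup.toGL) = ⊥
  · exact false_of_fix_bot_of_two hψ hρ hS hq hx0
  · have h2 := finrank_eq_two_of_fix (X := Xsp ρ) (σ := xRep ρ) (xRep_irred hψ hS) (fixedPts_xRep ρ) hq hall hx0
    have hx := finrank_xRep (j := i + 1) hψ hS
    have hpow : 4 ≤ 2 ^ (i + 1 + 1) := Nat.pow_le_pow_right (n := 2) two_pos (by omega : 2 ≤ i + 1 + 1)
    have h1 := Submodule.one_le_finrank_iff.2 hx0
    rw [hq, h2] at hx
    omega

/-- The complement again satisfies the hypotheses. -/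
theorem std_xRep (hψ : ψ.IsPrimitive) (hρ : Irred ρ) (hS : Std (j := i + 1) ρ ψ) :
    Std (j := i) ((xRep ρ).comp SpecialLinearGroup.toGL) ψ where
  one w hw := by rw [finrank_wt_xRep hψ ρ hw, fix_wt_one hψ hS w hw]
  twist w hw hw1 y hy := by
    show xRep ρ (SpecialLinearGroup.toGL (levi (SpecialLinearGroup.toGL (t₀ F i)))) y = y
    rw [toGL_levi_toGL]
    rcases Nat.lt_or_ge (Fintype.card F) 3 with h | h
    · exact eps_eq_one_of_two hψ hρ hS (by have := Fintype.one_lt_card (α := F); omega) hw hw1 y hy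
    · exact eps_eq_one_of_three_le hψ hS h hw hw1 y hy

end Twist

/-- An irreducible representation with weights of multiplicity one has a vector fixed by a vector stabiliser
and degree at least `(q ^ n - q) / (q - 1)`. -/
theorem main_std (hψ : ψ.IsPrimitive) :
    ∀ (j : ℕ) {W : Type u} [AddCommGroup W] [Module ℂ W] [FiniteDimensional ℂ W]
      (ρ : Representation ℂ SL(j + 3, F) W), Irred ρ → Std ρ ψ →
      fixedPts (fixSL ρ) ≠ ⊥ ∧
        Fintype.card F ^ (j + 3) ≤ (Fintype.card F - 1) * finrank ℂ W + Fintype.card F := by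
  classical
  intro j
  induction j with
  | zero =>
    intro W _ _ _ ρ hρ hS
    have hq : 2 ≤ Fintype.card F := Fintype.one_lt_card
    have hD := finrank_fix hψ hS
    have hx := finrank_xRep hψ hS
    have hfx := finrank_Xsp_add ρ
    simp only [zero_add, pow_one] at hD hx
    have hind : Fix ((xRep ρ).comp SpecialLinearGroup.toGL) = ⊥ →
        (Fintype.card F ^ 3 - 1) * finrank ℂ (Xsp ρ) ≤ (Fintype.card F - 1) * finrank ℂ W := by
      intro h0
      have h := indep_le (k := 1) le_rfl ρ (X := (Xsp ρ).map (Fix ρ).subtype)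
        (fun _ ⟨y, _, e⟩ => e ▸ y.2)
        (fun A _ ⟨y, hy, e⟩ => e ▸ ⟨fixRep ρ A y, Xsp_invariant ρ A y hy, rfl⟩)
        (fun _ ⟨y, hy, e⟩ => by
          subst e
          have h1 := radical_sum_mem ((xRep ρ).comp SpecialLinearGroup.toGL) (⟨y, hy⟩ : Xsp ρ)
          rw [h0, Submodule.mem_bot, LinearMap.sum_apply] at h1
          have h2 := congrArg (fun z : Xsp ρ => ((z : Fix ρ) : W)) h1
          simp only [Submodule.coe_sum, ZeroMemClass.coe_zero] at h2
          exact h2)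
      rwa [(Submodule.equivMapOfInjective _ Subtype.val_injective (Xsp ρ)).finrank_eq.symm] at h
    have hY : fixedPts (fixSL ρ) ≠ ⊥ := by
      intro hY
      rw [hY, finrank_bot, Nat.add_zero] at hfx
      by_cases h0 : Fix ((xRep ρ).comp SpecialLinearGroup.toGL) = ⊥
      · have h := hind h0
        rw [h0, finrank_bot] at hx
        replace hx : finrank ℂ (Xsp ρ) = Fintype.card F - 1 := by omega
        rw [hfx] at hx
        rw [hfx, hx, hD, hx, show Fintype.card F ^ (0 + 2) = Fintype.card F ^ 2 from rfl] at h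
        generalize Fintype.card F = q at *
        obtain ⟨a, rfl⟩ : ∃ a, q = a + 2 := ⟨q - 2, by omega⟩
        have e2 : (a + 2) ^ 2 - 1 = a * a + 4 * a + 3 := Nat.sub_eq_of_eq_add (by ring)
        have e3 : (a + 2) ^ 3 - 1 = a ^ 3 + 6 * (a * a) + 12 * a + 7 := Nat.sub_eq_of_eq_add (by ring)
        rw [show a + 2 - 1 = a + 1 by omega, e2, e3] at h
        nlinarith
      · have hσ : Irred (fixRep ρ) :=
          irred_of_wt (m := 1) (s := SpecialLinearGroup.toGL) le_rfl (fixRep ρ) hψ (fix_wt_one hψ hS)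
            (fun _ _ hw hw' => exists_lev1 hw hw') hY
        refine core_false hψ hρ hS hσ ?_ ?_
        · have h1 : 1 ≤ finrank ℂ (Fix ((xRep ρ).comp SpecialLinearGroup.toGL)) :=
            Submodule.one_le_finrank_iff.2 h0
          rw [hfx] at hx
          have h2 : Fintype.card F ≤ finrank ℂ (Fix ρ) := by omega
          show Fintype.card F ^ (0 + 2) ≤ _
          calc Fintype.card F ^ (0 + 2) = (Fintype.card F - 1) * Fintype.card F + Fintype.card F := by
                obtain ⟨a, ha⟩ : ∃ a, Fintype.card F = a + 1 := ⟨Fintype.card F - 1, by omega⟩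
                rw [ha, Nat.add_sub_cancel]; ring
            _ ≤ _ := by have := Nat.mul_le_mul_left (Fintype.card F - 1) h2; omega
        · obtain ⟨y, hy, hy0⟩ := Submodule.exists_mem_ne_zero_of_ne_bot h0
          refine (Submodule.ne_bot_iff _).2 ⟨(y : Fix ρ), mem_lineFix.2 ⟨fun t => ?_, fun f => ?_⟩,
            fun e => hy0 (Subtype.ext e)⟩
          · have ht : t = 1 := Subtype.ext (Matrix.ext fun a b => by
              rw [Fin.fin_one_eq_zero a, Fin.fin_one_eq_zero b, ← Matrix.det_fin_one t.1, t.2]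
              rfl)
            rw [ht, map_one, show ((1 : Fˣ), (1 : GL (Fin 1) F)) = 1 from rfl, map_one,
              map_one, Module.End.one_apply]
          · exact congrArg Subtype.val (mem_Fix.1 hy f)
    refine ⟨hY, ?_⟩
    have hy1 : 1 ≤ finrank ℂ (fixedPts (fixSL ρ)) := Submodule.one_le_finrank_iff.2 hY
    show Fintype.card F ^ 3 ≤ _
    by_cases h0 : Fix ((xRep ρ).comp SpecialLinearGroup.toGL) = ⊥
    · have h := hind h0
      rw [h0, finrank_bot] at hx
      replace hx : finrank ℂ (Xsp ρ) = Fintype.card F - 1 := by omega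
      rw [hx] at h
      generalize Fintype.card F = q at *
      obtain ⟨a, rfl⟩ : ∃ a, q = a + 2 := ⟨q - 2, by omega⟩
      rw [show a + 2 - 1 = a + 1 by omega] at h ⊢
      have e3 : (a + 2) ^ 3 - 1 + 1 = (a + 2) ^ 3 := Nat.sub_add_cancel (Nat.one_le_pow _ _ (by omega))
      nlinarith
    · have h1 : 1 ≤ finrank ℂ (Fix ((xRep ρ).comp SpecialLinearGroup.toGL)) :=
        Submodule.one_le_finrank_iff.2 h0
      have h2 : Fintype.card F * (Fintype.card F + 1) ≤ finrank ℂ W := by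
        have e : Fintype.card F ^ 2 = Fintype.card F * Fintype.card F := sq _
        have : 1 ≤ Fintype.card F ^ 2 := Nat.one_le_pow _ _ (by omega)
        show _ ≤ _
        rw [Nat.mul_add, Nat.mul_one]
        omega
      calc Fintype.card F ^ 3 = (Fintype.card F - 1) * (Fintype.card F * (Fintype.card F + 1)) +
            Fintype.card F := by
            obtain ⟨a, ha⟩ : ∃ a, Fintype.card F = a + 1 := ⟨Fintype.card F - 1, by omega⟩
            rw [ha, Nat.add_sub_cancel]; ring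
        _ ≤ _ := by have := Nat.mul_le_mul_left (Fintype.card F - 1) h2; omega
  | succ i ih =>
    intro W _ _ _ ρ hρ hS
    have hq : 2 ≤ Fintype.card F := Fintype.one_lt_card
    obtain ⟨hne, hdim⟩ := ih ((xRep (j := i + 1) ρ).comp SpecialLinearGroup.toGL) (xSL_irred hψ hS)
      (std_xRep hψ hρ hS)
    have hfx := finrank_Xsp_add (j := i + 1) ρ
    have hY : fixedPts (fixSL (j := i + 1) ρ) ≠ ⊥ := by
      intro hY
      have hσ : Irred (fixRep (m := i + 3) ρ) :=
        irred_of_wt (m := i + 2) (s := SpecialLinearGroup.toGL) (by omega) _ hψ (fix_wt_one hψ hS)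
          (fun _ _ hw hw' => exists_lev1 hw hw') hY
      refine core_false (j := i + 1) hψ hρ hS hσ (hdim.trans ?_) ?_
      · rw [hY, finrank_bot, add_zero] at hfx
        rw [hfx]
      · obtain ⟨y, hy, hy0⟩ := Submodule.exists_mem_ne_zero_of_ne_bot hne
        refine (Submodule.ne_bot_iff _).2 ⟨((y : Xsp ρ) : Fix ρ), mem_lineFix.2 ⟨fun t => ?_, fun f => ?_⟩,
          fun e => hy0 (Subtype.ext (Subtype.ext e))⟩
        · have h := congrArg (fun z : Fix ((xRep (j := i + 1) ρ).comp SpecialLinearGroup.toGL) =>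
            ((z : Xsp ρ) : Fix ρ)) (mem_fixedPts.1 hy t)
          simp only [MonoidHom.comp_apply, fixRep_coe, ← toGL_levi_toGL] at h ⊢
          exact h
        · exact congrArg (fun z : Xsp ρ => (z : Fix ρ)) (mem_Fix.1 y.2 f)
    refine ⟨hY, ?_⟩
    have hy1 : 1 ≤ finrank ℂ (fixedPts (fixSL (j := i + 1) ρ)) := Submodule.one_le_finrank_iff.2 hY
    have hD := finrank_fix (j := i + 1) hψ hS
    have h1 : finrank ℂ (Xsp ρ) + Fintype.card F ^ (i + 3) ≤ finrank ℂ W := by
      have : 1 ≤ Fintype.card F ^ (i + 1 + 2) := Nat.one_le_pow _ _ (by omega)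
      change finrank ℂ W = _ + (Fintype.card F ^ (i + 3) - 1) at hD
      change 1 ≤ Fintype.card F ^ (i + 3) at this
      omega
    have h2 := Nat.mul_le_mul_left (Fintype.card F - 1) h1
    rw [Nat.mul_add] at h2
    have e2 : Fintype.card F ^ (i + 1 + 3) =
        (Fintype.card F - 1) * Fintype.card F ^ (i + 3) + Fintype.card F ^ (i + 3) := by
      obtain ⟨a, ha⟩ : ∃ a, Fintype.card F = a + 1 := ⟨Fintype.card F - 1, by omega⟩
      rw [ha, Nat.add_sub_cancel]; ring
    omega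

end Cfsg.Agent.MinDegree
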