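import Cfsg.Agent.Lib.MinDegree.SLPoint
import Cfsg.Agent.Lib.MinDeg.Linear

/-!
The representation of the Levi factor on the vectors fixed by the radical, when all nontrivial weights have
multiplicity one and the transvection `t₀` acts trivially on the weights it fixes.
-/

set_option autoImplicit false
set_option linter.unusedSectionVars false

open Matrix Module
open scoped MatrixGroups

namespace Cfsg.Agent.MinDegree

open Cfsg.Agent.MinDeg

variable {F : Type*} [Field F] [Fintype F] {W : Type*} [AddCommGroup W] [Module ℂ W]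

/-! ### Subrepresentations -/

/-- The representation on an invariant subspace. -/
def subRep {G : Type*} [Monoid G] (σ : Representation ℂ G W) (X : Submodule ℂ W)
    (h : ∀ g, ∀ y ∈ X, σ g y ∈ X) : Representation ℂ G X where
  toFun g := (σ g).restrict (h g)
  map_one' := LinearMap.ext fun y => Subtype.ext (by simp)
  map_mul' a b := LinearMap.ext fun y => Subtype.ext (by simp)

theorem subRep_coe {G : Type*} [Monoid G] {σ : Representation ℂ G W} {X : Submodule ℂ W}
    (h : ∀ g, ∀ y ∈ X, σ g y ∈ X) (g : G) (y : X) : (subRep σ X h g y : W) = σ g y := rfl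

/-- The fixed vectors. -/
def fixedPts {G : Type*} [Monoid G] (σ : Representation ℂ G W) : Submodule ℂ W :=
  ⨅ g, LinearMap.ker (σ g - LinearMap.id)

theorem mem_fixedPts {G : Type*} [Monoid G] {σ : Representation ℂ G W} {y : W} :
    y ∈ fixedPts σ ↔ ∀ g, σ g y = y := by
  simp [fixedPts, sub_eq_zero]

/-! ### Groups generated by conjugates of the radical -/

variable {m : ℕ} {G : Type*} [Group G] {π : G →* GL (Fin (m + 1)) F} {s : SL(m + 1, F) →* G}

theorem sl_sub_mem (hm : 1 ≤ m) (τ : Representation ℂ SL(m + 1, F) W) {U U' : Submodule ℂ W}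
    (hU : ∀ t, ∀ y ∈ U, τ t y ∈ U) (hU' : ∀ t, ∀ y ∈ U', τ t y ∈ U')
    (h : ∀ (f : Fin m → F), ∀ y ∈ U', τ (uSL f) y - y ∈ U) :
    ∀ t, ∀ y ∈ U', τ t y - y ∈ U := by
  intro t
  refine GL.SL_induction (fun t => ∀ y ∈ U', τ t y - y ∈ U) (fun y _ => by simp) (fun i j hij c => ?_)
    (fun A B hA hB y hy => ?_) t
  · intro y hy
    rw [transvection_eq_tv hij]
    by_cases hc : c = 0
    · simp [hc, tv_zero_left]
    obtain ⟨g, hg⟩ := GL.exists_SL_mulVec_eq (by simp; omega) (e₀_ne_zero (F := F) (m := m))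
      (show (Pi.single i c : Fin (m + 1) → F) ≠ 0 by simpa using hc)
    let φ : Fin (m + 1) → F := Pi.single j 1 ᵥ* g.1
    have hφ : φ 0 = 0 := by
      rw [← dot_e₀ φ, ← dotProduct_mulVec, hg]
      simp [hij.symm]
    have e : tv (Pi.single i c) (Pi.single j 1) = g * uSL (Fin.tail φ) * g⁻¹ := by
      rw [uSL_eq_tv, tv_conj, ← hg, ← hφ, Fin.cons_self_tail, Matrix.vecMul_vecMul, ← coe_SL_mul,
        mul_inv_cancel]
      simp [e₀]
    have hy' := hU' g⁻¹ y hy
    have h1 := hU g _ (h (Fin.tail φ) _ hy')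
    rw [map_sub, ← Module.End.mul_apply, ← Module.End.mul_apply, ← Module.End.mul_apply, ← map_mul,
      ← map_mul, ← map_mul] at h1
    rw [e]
    simpa [mul_assoc] using h1
  · have h1 := hU A _ (hB y hy)
    have h2 := hA y hy
    rw [map_sub, ← Module.End.mul_apply, ← map_mul] at h1
    simpa using Submodule.add_mem _ h1 h2

theorem fixed_of_radical (hm : 1 ≤ m) (τ : Representation ℂ SL(m + 1, F) W) {U' : Submodule ℂ W}
    (hU' : ∀ t, ∀ y ∈ U', τ t y ∈ U') (h : ∀ (f : Fin m → F), ∀ y ∈ U', τ (uSL f) y = y) :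
    ∀ t, ∀ y ∈ U', τ t y = y := fun t y hy => by
  have := sl_sub_mem hm τ (U := ⊥) (fun t y hy => by rw [Submodule.mem_bot] at hy; simp [hy]) hU'
    (fun f y hy => by rw [Submodule.mem_bot, h f y hy, sub_self]) t y hy
  rwa [Submodule.mem_bot, sub_eq_zero] at this

open Classical in
/-- The sum over `SL`. -/
noncomputable def slSum (τ : Representation ℂ SL(m + 1, F) W) : W →ₗ[ℂ] W :=
  ∑ t : SL(m + 1, F), τ t

theorem slSum_mem_fixedPts (τ : Representation ℂ SL(m + 1, F) W) (y : W) :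
    slSum τ y ∈ fixedPts τ := by
  classical
  rw [mem_fixedPts]
  intro g
  rw [slSum, LinearMap.sum_apply, map_sum]
  refine Fintype.sum_equiv (Equiv.mulLeft g) _ _ fun t => ?_
  simp

theorem slSum_of_fixed (τ : Representation ℂ SL(m + 1, F) W) {y : W} (hy : y ∈ fixedPts τ) :
    slSum τ y = (Nat.card SL(m + 1, F) : ℂ) • y := by
  classical
  rw [slSum, LinearMap.sum_apply, Finset.sum_congr rfl fun t _ => mem_fixedPts.1 hy t, Finset.sum_const,
    Finset.card_univ, Nat.card_eq_fintype_card, ← Nat.cast_smul_eq_nsmul ℂ]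

theorem Emb.exists_conj (hE : Emb π s) (g : G) (t : SL(m + 1, F)) : ∃ t', g * s t * g⁻¹ = s t' := by
  let t' : SL(m + 1, F) := ⟨((π g) * SpecialLinearGroup.toGL t * (π g)⁻¹).1, by
    rw [Units.val_mul, Units.val_mul, Matrix.det_mul, Matrix.det_mul, coe_toGL, t.2, mul_one,
      ← Matrix.det_mul, ← Units.val_mul, mul_inv_cancel, Units.val_one, Matrix.det_one]⟩
  refine ⟨t', hE.inj ?_⟩
  rw [map_mul, map_mul, map_inv, hE.compat t, hE.compat t']
  exact Units.ext rfl

theorem slSum_comm (hE : Emb π s) (σ : Representation ℂ G W) (g : G) (y : W) :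
    slSum (σ.comp s) (σ g y) = σ g (slSum (σ.comp s) y) := by
  classical
  rw [slSum, LinearMap.sum_apply, LinearMap.sum_apply, map_sum]
  symm
  choose c hc using hE.exists_conj g
  have hbij : Function.Bijective c := by
    refine Finite.injective_iff_bijective.1 fun a b e => ?_
    have h := (hc a).trans (e ▸ (hc b).symm)
    have := congrArg π (mul_left_cancel (mul_right_cancel h))
    rw [hE.compat, hE.compat] at this
    exact SpecialLinearGroup.toGL_injective this
  refine Fintype.sum_bijective c hbij _ _ fun t => ?_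
  show σ g (σ (s t) y) = σ (s (c t)) (σ g y)
  rw [← hc, ← Module.End.mul_apply, ← Module.End.mul_apply, ← map_mul, ← map_mul, inv_mul_cancel_right]

variable {ψ : AddChar F ℂ}

theorem exists_wt_mem (hψ : ψ.IsPrimitive) (τ : Representation ℂ SL(m + 1, F) W) {U : Submodule ℂ W}
    (hU : ∀ t, ∀ y ∈ U, τ t y ∈ U) {f : Fin m → F} {y : W} (hy : y ∈ U) (hf : τ (uSL f) y ≠ y) :
    ∃ w : Fin m → F, w ≠ 0 ∧ ∃ z ∈ U, z ≠ 0 ∧ z ∈ wt τ ψ w := by
  obtain ⟨χ, hχ, z, hz, hz0, hze⟩ := exists_eigen_ne_one (isOp τ) (fun f => hU (uSL f)) hy hf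
  obtain ⟨w, rfl⟩ := (wchar_bijective hψ).2 χ
  exact ⟨w, fun e => hχ (by rw [e, wchar_zero]), z, hz, hz0, hze⟩

variable [FiniteDimensional ℂ W]

/-- No fixed vectors, weights of multiplicity one, permuted transitively: irreducible. -/
theorem irred_of_wt (hm : 1 ≤ m) (σ : Representation ℂ G W) (hψ : ψ.IsPrimitive)
    (hone : ∀ w : Fin m → F, w ≠ 0 → finrank ℂ (wt (σ.comp s) ψ w) = 1)
    (htrans : ∀ w w' : Fin m → F, w ≠ 0 → w' ≠ 0 →
      ∃ g, ∀ y ∈ wt (σ.comp s) ψ w, σ g y ∈ wt (σ.comp s) ψ w')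
    (hfix : fixedPts (σ.comp s) = ⊥) : Irred σ := by
  intro U hU
  by_cases hbot : U = ⊥
  · exact Or.inl hbot
  right
  have hUs : ∀ t, ∀ y ∈ U, σ.comp s t y ∈ U := fun t => hU (s t)
  obtain ⟨y, hy, hy0⟩ := Submodule.exists_mem_ne_zero_of_ne_bot hbot
  obtain ⟨f, z, hz, hfz⟩ : ∃ f, ∃ z ∈ U, σ.comp s (uSL f) z ≠ z := by
    by_contra hc
    push Not at hc
    exact hy0 ((Submodule.eq_bot_iff _).1 hfix y (mem_fixedPts.2 fun t =>
      fixed_of_radical hm (σ.comp s) hUs hc t y hy))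
  obtain ⟨w, hw, u, hu, hu0, huw⟩ := exists_wt_mem hψ (σ.comp s) hUs hz hfz
  have hall : ∀ w' : Fin m → F, w' ≠ 0 → wt (σ.comp s) ψ w' ≤ U := by
    intro w' hw'
    obtain ⟨g, hg⟩ := htrans w w' hw hw'
    have hne : σ g u ≠ 0 := fun e => hu0 (by
      have := congrArg (σ g⁻¹) e
      rwa [map_zero, ← Module.End.mul_apply, ← map_mul, inv_mul_cancel, map_one] at this)
    intro x hx
    obtain ⟨c, hc⟩ := exists_smul_eq_of_finrank_eq_one (hone w' hw')
      (x := ⟨σ g u, hg u huw⟩) (fun e => hne (congrArg Subtype.val e)) ⟨x, hx⟩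
    have hc' : c • σ g u = x := congrArg Subtype.val hc
    rw [← hc']
    exact Submodule.smul_mem _ _ (hU g u hu)
  rw [eq_top_iff]
  intro x _
  have key := sl_sub_mem hm (σ.comp s) (U' := ⊤) hUs (fun _ _ _ => trivial) fun f x _ => by
    rw [← sum_eigenProj (isOp (σ.comp s)) x, map_sum, ← Finset.sum_sub_distrib]
    refine Submodule.sum_mem _ fun χ _ => ?_
    obtain ⟨w', rfl⟩ := (wchar_bijective hψ).2 χ
    have hmem := eigenProj_apply_mem (isOp (σ.comp s)) (wchar ψ w') x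
    rcases eq_or_ne w' 0 with rfl | hw'
    · rw [show σ.comp s (uSL f) _ = _ from mem_wt.1 hmem f, dotProduct_zero, AddChar.map_zero_eq_one, one_smul,
        sub_self]
      exact U.zero_mem
    · exact Submodule.sub_mem _ (hUs _ _ (hall w' hw' hmem)) (hall w' hw' hmem)
  classical
  have hsum : slSum (σ.comp s) x - (Nat.card SL(m + 1, F) : ℂ) • x ∈ U := by
    rw [slSum, LinearMap.sum_apply, Nat.card_eq_fintype_card, Nat.cast_smul_eq_nsmul ℂ, ← Finset.card_univ,
      ← Finset.sum_const, ← Finset.sum_sub_distrib]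
    exact Submodule.sum_mem _ fun t _ => key t x trivial
  rw [(Submodule.eq_bot_iff _).1 hfix _ (slSum_mem_fixedPts _ x), zero_sub, Submodule.neg_mem_iff] at hsum
  exact (Submodule.smul_mem_iff _ (Nat.cast_ne_zero.2 Nat.card_pos.ne')).1 hsum

theorem trace_uSL (hψ : ψ.IsPrimitive) (τ : Representation ℂ SL(m + 1, F) W) {d : ℕ}
    (hd : ∀ w : Fin m → F, w ≠ 0 → finrank ℂ (wt τ ψ w) = d) {f : Fin m → F} (hf : f ≠ 0) :
    LinearMap.trace ℂ W (τ (uSL f)) = (finrank ℂ (wt τ ψ 0) : ℂ) - d := by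
  classical
  rw [trace_eq_sum_wt τ hψ, Finset.sum_congr rfl fun w _ => trace_of_scalar (isOp τ) (τ (uSL f))
    (wchar ψ w) (wchar ψ w f) fun x hx => mem_eigen.1 hx f, ← Finset.add_sum_erase _ _ (Finset.mem_univ 0),
    Finset.sum_congr rfl fun w hw => show wchar ψ w f * (finrank ℂ (eigen (op τ) (wchar ψ w)) : ℂ) =
      wchar ψ w f * d by rw [← hd w (Finset.mem_erase.1 hw).1]; rfl, ← Finset.sum_mul,
    Finset.sum_erase_eq_sub (Finset.mem_univ 0), sum_wchar hψ hf, wchar_zero, AddChar.one_apply, one_mul]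
  rw [show eigen (op τ) 1 = wt τ ψ 0 by rw [wt, wchar_zero]]
  ring

theorem finrank_eq_of_wt (hψ : ψ.IsPrimitive) (τ : Representation ℂ SL(m + 1, F) W) {d : ℕ}
    (hd : ∀ w : Fin m → F, w ≠ 0 → finrank ℂ (wt τ ψ w) = d) :
    finrank ℂ W = finrank ℂ (wt τ ψ 0) + (Fintype.card F ^ m - 1) * d := by
  classical
  rw [← sum_finrank_wt τ hψ, ← Finset.add_sum_erase _ _ (Finset.mem_univ 0),
    Finset.sum_congr rfl fun w hw => hd w (Finset.mem_erase.1 hw).1, Finset.sum_const,
    Finset.card_erase_of_mem (Finset.mem_univ _), Finset.card_univ, Fintype.card_fun, Fintype.card_fin,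
    smul_eq_mul]

/-! ### The Levi factor on the fixed vectors -/

/-- The vectors fixed by the radical. -/
abbrev Fix (τ : Representation ℂ SL(m + 1, F) W) : Submodule ℂ W := eigen (op τ) 1

theorem mem_Fix {τ : Representation ℂ SL(m + 1, F) W} {y : W} : y ∈ Fix τ ↔ ∀ f, τ (uSL f) y = y := by
  simp [mem_eigen, op]

theorem Fix_eq_wt (τ : Representation ℂ SL(m + 1, F) W) : Fix τ = wt τ ψ 0 := by rw [wt, wchar_zero]

theorem levi_mem_Fix {τ : Representation ℂ SL(m + 1, F) W} (A : GL (Fin m) F) {y : W} (hy : y ∈ Fix τ) :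
    τ (levi A) y ∈ Fix τ := by
  rw [mem_Fix] at hy ⊢
  intro f
  rw [← Module.End.mul_apply, ← map_mul, levi_mul_uSL, map_mul, Module.End.mul_apply, hy]

/-- The representation of the Levi factor on the fixed vectors of the radical. -/
noncomputable def fixRep (τ : Representation ℂ SL(m + 1, F) W) :
    Representation ℂ (GL (Fin m) F) (Fix τ) :=
  subRep (τ.comp levi) (Fix τ) fun A _ hy => levi_mem_Fix A hy

theorem fixRep_coe (τ : Representation ℂ SL(m + 1, F) W) (A : GL (Fin m) F) (y : Fix τ) :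
    (fixRep τ A y : W) = τ (levi A) y := rfl

/-- The transvection `x ↦ x + x₁ e₀`. -/
noncomputable def t₀ (F : Type*) [Field F] (i : ℕ) : SL(i + 2, F) := tv (Pi.single 0 1) (Pi.single 1 1)

theorem t₀_mulVec (i : ℕ) (x : Fin (i + 2) → F) :
    (t₀ F i).1 *ᵥ x = x + x 1 • Pi.single 0 1 := by
  rw [t₀, tv_mulVec (by simp), single_dotProduct, one_mul]

theorem cons_single {i : ℕ} (k : Fin i) (x : F) :
    (Fin.cons 0 (Pi.single k x) : Fin (i + 1) → F) = Pi.single k.succ x := by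
  ext a
  induction a using Fin.cases <;> simp [Pi.single_apply, (Fin.succ_ne_zero _).symm]

theorem cons_one_zero {i : ℕ} : (Fin.cons 1 0 : Fin (i + 1) → F) = Pi.single 0 1 := by
  ext a
  induction a using Fin.cases <;> simp [Fin.succ_ne_zero]

theorem uSL_single (i : ℕ) : uSL (Pi.single 0 1 : Fin (i + 1) → F) = t₀ F i := by
  rw [uSL_eq_tv, t₀, cons_one_zero, cons_single]
  rfl

variable {j : ℕ}

/-- Nontrivial weights have multiplicity one and `t₀` is trivial on those it fixes. -/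
structure Std (ρ : Representation ℂ SL(j + 3, F) W) (ψ : AddChar F ℂ) : Prop where
  one : ∀ w : Fin (j + 2) → F, w ≠ 0 → finrank ℂ (wt ρ ψ w) = 1
  twist : ∀ w : Fin (j + 2) → F, w ≠ 0 → w 1 = 0 → ∀ y ∈ wt ρ ψ w,
    ρ (levi (SpecialLinearGroup.toGL (t₀ F j))) y = y

theorem exists_swap (i : ℕ) : ∃ g : SL(i + 2, F), g.1 *ᵥ Pi.single 0 1 = Pi.single 1 1 ∧
    g.1 *ᵥ Pi.single 1 1 = -Pi.single 0 1 ∧
    ∀ k : Fin (i + 2), k ≠ 0 → k ≠ 1 → (g.1 *ᵥ Pi.single k 1 = Pi.single k 1 ∧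
      Pi.single k 1 ᵥ* g.1 = Pi.single k 1) := by
  let a : SL(i + 2, F) := tv (Pi.single 0 (-1)) (Pi.single 1 1)
  let b : SL(i + 2, F) := tv (Pi.single 1 1) (Pi.single 0 1)
  refine ⟨a * b * a, ?_, ?_, fun k hk0 hk1 => ⟨?_, ?_⟩⟩
  iterate 3
    rw [coe_SL_mul, coe_SL_mul, ← Matrix.mulVec_mulVec, ← Matrix.mulVec_mulVec]
    simp only [a, b]
    rw [tv_mulVec (by simp), tv_mulVec (by simp), tv_mulVec (by simp)]
    ext l
    simp [Pi.single_apply, *]
    try grind
  rw [coe_SL_mul, coe_SL_mul, ← Matrix.vecMul_vecMul, ← Matrix.vecMul_vecMul]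
  simp only [a, b]
  rw [vecMul_tv (by simp), vecMul_tv (by simp), vecMul_tv (by simp)]
  ext l
  simp [Pi.single_apply, *]

variable {ρ : Representation ℂ SL(j + 3, F) W}

open Classical in
/-- The character of `t₀` on the fixed vectors, for arbitrary scalars on the fixed weights. -/
theorem trace_fixRep_t₀_of (hψ : ψ.IsPrimitive)
    (hone : ∀ w : Fin (j + 2) → F, w ≠ 0 → finrank ℂ (wt ρ ψ w) = 1) (ε : (Fin (j + 2) → F) → ℂ)
    (hε : ∀ w : Fin (j + 2) → F, w ≠ 0 → w 1 = 0 → ∀ y ∈ wt ρ ψ w,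
      ρ (levi (SpecialLinearGroup.toGL (t₀ F j))) y = ε w • y) :
    LinearMap.trace ℂ (Fix ρ) (fixRep ρ (SpecialLinearGroup.toGL (t₀ F j))) =
      (finrank ℂ (Fix ρ) : ℂ) - 1 -
        ∑ w ∈ ((Finset.univ : Finset (Fin (j + 2) → F)).erase 0).filter (fun w => w 1 = 0), ε w := by
  classical
  set T := ρ (levi (SpecialLinearGroup.toGL (t₀ F j))) with hT
  have hconj : LinearMap.trace ℂ W T = LinearMap.trace ℂ W (ρ (uSL (Pi.single 1 1))) := by
    obtain ⟨g, hg0, -, hg2⟩ := exists_swap (F := F) (j + 1)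
    let k₂ : Fin (j + 3) := Fin.succ 1
    have h2 : (Pi.single k₂ 1 : Fin (j + 3) → F) ᵥ* g.1 = Pi.single k₂ 1 :=
      (hg2 k₂ (Fin.succ_ne_zero _) fun e => one_ne_zero (α := Fin (j + 2))
        (Fin.succ_injective _ (e.trans Fin.succ_zero_eq_one.symm))).2
    have h2' : (Pi.single k₂ 1 : Fin (j + 3) → F) ᵥ* (g⁻¹).1 = Pi.single k₂ 1 := by
      conv_lhs => rw [← h2]
      rw [Matrix.vecMul_vecMul, ← coe_SL_mul, mul_inv_cancel]
      simp
    have hgc : levi (SpecialLinearGroup.toGL (t₀ F j)) = g * uSL (Pi.single 1 1) * g⁻¹ := by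
      rw [t₀, levi_tv (by simp), uSL_eq_tv, tv_conj, cons_one_zero, cons_single, cons_single, hg0, h2']
      rfl
    rw [hT, hgc, map_mul ρ, map_mul ρ, LinearMap.trace_mul_comm, ← mul_assoc, ← map_mul, inv_mul_cancel,
      map_one, one_mul]
  rw [trace_uSL hψ ρ hone (by simp), ← Fix_eq_wt, trace_eq_sum_wt ρ hψ,
    ← Finset.add_sum_erase _ _ (Finset.mem_univ (0 : Fin (j + 2) → F))] at hconj
  have h0 : LinearMap.trace ℂ W (T ∘ₗ eigenProj (op ρ) (wchar ψ (0 : Fin (j + 2) → F))) =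
      LinearMap.trace ℂ (Fix ρ) (fixRep ρ (SpecialLinearGroup.toGL (t₀ F j))) := by
    rw [wchar_zero, trace_restrict_eigen (isOp ρ) T 1 fun x hx => levi_mem_Fix _ hx]
    rfl
  rw [h0, Finset.sum_congr rfl fun w hw => show LinearMap.trace ℂ W (T ∘ₗ eigenProj (op ρ) (wchar ψ w)) =
      if w 1 = 0 then ε w else 0 by
    split_ifs with h1
    · rw [trace_of_scalar (isOp ρ) T _ (ε w) fun x hx => hε w (Finset.mem_erase.1 hw).1 h1 x hx]
      rw [show finrank ℂ (eigen (op ρ) (wchar ψ w)) = 1 from hone w (Finset.mem_erase.1 hw).1]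
      simp
    · refine trace_of_move (isOp ρ) T (χ' := wchar ψ ((t₀ F j).1 *ᵥ w)) (fun e => ?_) fun x hx => ?_
      · have := (wchar_bijective hψ).1 e
        rw [t₀_mulVec, add_eq_left, smul_eq_zero] at this
        rcases this with h | h
        · exact h1 h
        · simpa using congrFun h 0
      · have := levi_mem_wt hx (SpecialLinearGroup.toGL (t₀ F j))
        rwa [coe_toGL, (t₀ F j).2, one_smul] at this, ← Finset.sum_filter] at hconj
  push_cast at hconj
  linear_combination hconj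

open Classical in
theorem card_fixed_weights :
    (((Finset.univ : Finset (Fin (j + 2) → F)).erase 0).filter fun w => w 1 = 0).card =
      Fintype.card F ^ (j + 1) - 1 := by
  classical
  have h := card_filter_dot (F := F) (n := j + 2) (φ := Pi.single 1 1) (by simp)
  rw [pow_succ (Fintype.card F) (j + 1)] at h
  simp only [single_dotProduct, one_mul] at h
  have hm0 : (0 : Fin (j + 2) → F) ∈ (Finset.univ.filter fun w : Fin (j + 2) → F => w 1 = 0) :=
    Finset.mem_filter.2 ⟨Finset.mem_univ _, rfl⟩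
  rw [Finset.filter_erase, Finset.card_erase_of_mem hm0, Nat.eq_of_mul_eq_mul_right Fintype.card_pos h]

/-- The character of `t₀` on the fixed vectors. -/
theorem trace_fixRep_t₀ (hψ : ψ.IsPrimitive) (hS : Std ρ ψ) :
    LinearMap.trace ℂ (Fix ρ) (fixRep ρ (SpecialLinearGroup.toGL (t₀ F j))) =
      (finrank ℂ (Fix ρ) : ℂ) - (Fintype.card F : ℂ) ^ (j + 1) := by
  classical
  rw [trace_fixRep_t₀_of hψ hS.one (fun _ => 1) fun w hw h1 y hy => by rw [one_smul, hS.twist w hw h1 y hy],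
    Finset.sum_const, nsmul_eq_mul, mul_one, card_fixed_weights,
    Nat.cast_sub (Nat.one_le_pow _ _ Fintype.card_pos)]
  push_cast
  ring

/-- The part of the Levi factor fixing the first basis vector. -/
noncomputable def lev1 (A : GL (Fin m) F) : GL (Fin (m + 1)) F :=
  Matrix.GeneralLinearGroup.mkOfDetNeZero (blk 1 0 A.1) (by
    rw [det_blk, one_mul]; exact ((Matrix.isUnit_iff_isUnit_det _).1 A.isUnit).ne_zero)

theorem lev1_mem_wt {σ : Representation ℂ (GL (Fin (m + 1)) F) W} {w : Fin m → F} {y : W}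
    (hy : y ∈ wt (σ.comp SpecialLinearGroup.toGL) ψ w) (A : GL (Fin m) F) :
    σ (lev1 A) y ∈ wt (σ.comp SpecialLinearGroup.toGL) ψ (A.1 *ᵥ w) := by
  refine mem_wt.2 fun f => ?_
  have e : SpecialLinearGroup.toGL (uSL f) * lev1 A = lev1 A * SpecialLinearGroup.toGL (uSL (f ᵥ* A.1)) := by
    refine Units.ext ?_
    show blk 1 f 1 * blk 1 0 A.1 = blk 1 0 A.1 * blk 1 _ 1
    simp [blk_mul]
  show σ (SpecialLinearGroup.toGL (uSL f)) (σ (lev1 A) y) = _
  rw [← Module.End.mul_apply, ← map_mul, e, map_mul, Module.End.mul_apply,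
    show σ (SpecialLinearGroup.toGL (uSL (f ᵥ* A.1))) y = _ from mem_wt.1 hy _, map_smul, dotProduct_mulVec]

theorem exists_lev1 {σ : Representation ℂ (GL (Fin (m + 1)) F) W} {w w' : Fin m → F} (hw : w ≠ 0)
    (hw' : w' ≠ 0) : ∃ g, ∀ y ∈ wt (σ.comp SpecialLinearGroup.toGL) ψ w,
      σ g y ∈ wt (σ.comp SpecialLinearGroup.toGL) ψ w' := by
  obtain ⟨A, hA⟩ := GL.exists_GL_of_linearIndependent
    (LinearIndependent.of_subsingleton (v := fun _ : Unit => w) () hw)
    (LinearIndependent.of_subsingleton (v := fun _ : Unit => w') () hw')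
  exact ⟨lev1 A, fun y hy => hA () ▸ lev1_mem_wt hy A⟩

/-- The fixed vectors again have weights of multiplicity one. -/
theorem fix_wt_one (hψ : ψ.IsPrimitive) (hS : Std ρ ψ) :
    ∀ w : Fin (j + 1) → F, w ≠ 0 →
      finrank ℂ (wt ((fixRep ρ).comp SpecialLinearGroup.toGL) ψ w) = 1 := by
  classical
  set τ := (fixRep ρ).comp SpecialLinearGroup.toGL with hτ
  let w₀ : Fin (j + 1) → F := Pi.single 0 1
  have heq : ∀ w : Fin (j + 1) → F, w ≠ 0 → finrank ℂ (wt τ ψ w) = finrank ℂ (wt τ ψ w₀) := by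
    have hle : ∀ w w' : Fin (j + 1) → F, w ≠ 0 → w' ≠ 0 → finrank ℂ (wt τ ψ w) ≤ finrank ℂ (wt τ ψ w') := by
      intro w w' hw hw'
      obtain ⟨g, hg⟩ := exists_lev1 (σ := fixRep ρ) (ψ := ψ) hw hw'
      refine LinearMap.finrank_le_finrank_of_injective (f := (fixRep ρ g).restrict hg) fun a b e => ?_
      have h := congrArg (fun x => fixRep ρ g⁻¹ x) (congrArg Subtype.val e)
      simp only [LinearMap.coe_restrict_apply, ← Module.End.mul_apply, ← map_mul, inv_mul_cancel, map_one,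
        Module.End.one_apply] at h
      exact Subtype.ext h
    intro w hw
    exact le_antisymm (hle _ _ hw (by simp [w₀])) (hle _ _ (by simp [w₀]) hw)
  intro w hw
  rw [heq w hw]
  have h1 := trace_uSL hψ τ heq (f := (Pi.single 0 1 : Fin (j + 1) → F)) (by simp)
  have h2 := finrank_eq_of_wt hψ τ heq
  rw [uSL_single, show τ (t₀ F j) = fixRep ρ (SpecialLinearGroup.toGL (t₀ F j)) from rfl,
    trace_fixRep_t₀ hψ hS, h2] at h1
  push_cast [Nat.cast_sub (Nat.one_le_pow (j + 1) _ (Fintype.card_pos (α := F)))] at h1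
  have h3 : ((Fintype.card F : ℂ) ^ (j + 1)) * ((finrank ℂ (wt τ ψ w₀) : ℂ) - 1) = 0 := by
    linear_combination h1
  rw [mul_eq_zero, sub_eq_zero] at h3
  exact_mod_cast h3.resolve_left (pow_ne_zero _ (Nat.cast_ne_zero.2 Fintype.card_ne_zero))

end Cfsg.Agent.MinDegree
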