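import Cfsg.Agent.Lib.MinDegree.SLLevel

/-!
Splitting off the vectors fixed by `SL` from the fixed vectors of the radical; common eigenvectors of a point
stabiliser; the independence of the fixed spaces of different points when a root group has no fixed vectors.
-/

set_option autoImplicit false
set_option linter.unusedSectionVars false

open Matrix Module
open scoped MatrixGroups LinearAlgebra.Projectivization

namespace Cfsg.Agent.MinDegree

open Cfsg.Agent.MinDeg

variable {F : Type*} [Field F] [Fintype F] {W : Type*} [AddCommGroup W] [Module ℂ W]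
  [FiniteDimensional ℂ W] {ψ : AddChar F ℂ} {m : ℕ}

/-- Operators commuting on an invariant subspace have a common eigenvector in it. -/
theorem exists_common_eigen {ι : Type*} (f : ι → W →ₗ[ℂ] W) :
    ∀ U : Submodule ℂ W, U ≠ ⊥ → (∀ a, ∀ y ∈ U, f a y ∈ U) → (∀ a b, ∀ y ∈ U, f a (f b y) = f b (f a y)) →
      ∃ z ∈ U, z ≠ 0 ∧ ∀ a, f a z ∈ Submodule.span ℂ {z} := by
  intro U
  induction hn : finrank ℂ U using Nat.strong_induction_on generalizing U with
  | _ N ih =>
    intro hU hinv hcomm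
    by_cases hs : ∀ a, ∃ c : ℂ, ∀ y ∈ U, f a y = c • y
    · obtain ⟨z, hz, hz0⟩ := Submodule.exists_mem_ne_zero_of_ne_bot hU
      refine ⟨z, hz, hz0, fun a => ?_⟩
      obtain ⟨c, hc⟩ := hs a
      exact Submodule.mem_span_singleton.2 ⟨c, (hc z hz).symm⟩
    · push Not at hs
      obtain ⟨a, ha⟩ := hs
      have : Nontrivial U := Submodule.nontrivial_iff_ne_bot.2 hU
      obtain ⟨c, hc⟩ := Module.End.exists_eigenvalue ((f a).restrict (hinv a))
      obtain ⟨u, hu, hu0⟩ := hc.exists_hasEigenvector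
      let U' : Submodule ℂ W := U ⊓ LinearMap.ker (f a - c • LinearMap.id)
      have hmem : ∀ y, y ∈ U' ↔ y ∈ U ∧ f a y = c • y := fun y => by
        simp [U', sub_eq_zero]
      have hne : U' ≠ ⊥ := by
        refine (Submodule.ne_bot_iff _).2 ⟨u.1, (hmem _).2 ⟨u.2, ?_⟩, fun e => hu0 (Subtype.ext e)⟩
        exact congrArg Subtype.val (Module.End.mem_eigenspace_iff.1 hu)
      have hlt : U' < U := by
        refine lt_of_le_of_ne inf_le_left fun e => ?_
        obtain ⟨y, hy, hy'⟩ := ha c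
        exact hy' ((hmem y).1 (e ▸ hy)).2
      obtain ⟨z, hz, hz0, hze⟩ := ih _ (hn ▸ Submodule.finrank_lt_finrank_of_lt hlt) U' rfl hne
        (fun b y hy => (hmem _).2 ⟨hinv b y ((hmem y).1 hy).1, by
          rw [hcomm a b y ((hmem y).1 hy).1, ((hmem y).1 hy).2, map_smul]⟩)
        (fun b b' y hy => hcomm b b' y ((hmem y).1 hy).1)
      exact ⟨z, ((hmem z).1 hz).1, hz0, hze⟩

theorem exists_toGL_of_det {A B : GL (Fin m) F} :
    ∃ t : SL(m, F), A * B = B * A * SpecialLinearGroup.toGL t := by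
  have h : (B * A)⁻¹ * (A * B) ∈ (GeneralLinearGroup.det : GL (Fin m) F →* Fˣ).ker := by
    rw [MonoidHom.mem_ker, map_mul, map_inv, map_mul, map_mul, mul_comm (GeneralLinearGroup.det B),
      inv_mul_cancel]
  rw [GL.det_ker_eq_range_toGL] at h
  obtain ⟨t, ht⟩ := h
  exact ⟨t, by rw [ht, mul_inv_cancel_left]⟩

/-- The block diagonal matrices `diag(a, A)`. -/
noncomputable def par : Fˣ × GL (Fin m) F →* GL (Fin (m + 1)) F where
  toFun p := Matrix.GeneralLinearGroup.mkOfDetNeZero (blk (p.1 : F) 0 p.2.1) (by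
    rw [det_blk]
    exact mul_ne_zero p.1.ne_zero ((Matrix.isUnit_iff_isUnit_det _).1 p.2.isUnit).ne_zero)
  map_one' := Units.ext (by
    show blk ((1 : Fˣ) : F) 0 (1 : Matrix (Fin m) (Fin m) F) = 1
    rw [Units.val_one, blk_one])
  map_mul' p r := Units.ext (by
    show blk ((p.1 * r.1 : Fˣ) : F) 0 (p.2.1 * r.2.1) = blk (p.1 : F) 0 p.2.1 * blk (r.1 : F) 0 r.2.1
    simp [blk_mul])

theorem lev1_eq_par (A : GL (Fin m) F) : lev1 A = par (1, A) := Units.ext rfl

theorem coe_par (p : Fˣ × GL (Fin m) F) : (par p).1 = blk (p.1 : F) 0 p.2.1 := rfl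

theorem exists_par_of_stab {g : GL (Fin (m + 1)) F} (hg : ∃ a : F, g.1 *ᵥ e₀ = a • e₀) :
    ∃ p f, g = par p * SpecialLinearGroup.toGL (uSL f) := by
  obtain ⟨a, ha⟩ := hg
  have hcol : ∀ i : Fin m, g.1 i.succ 0 = 0 := fun i => by
    have := congrFun ha i.succ
    simpa [e₀, mulVec, dotProduct, Fin.sum_univ_succ] using this
  have hdet : g.1.det = g.1 0 0 * (Matrix.of fun i j : Fin m => g.1 i.succ j.succ).det := by
    rw [Matrix.det_succ_column_zero, Fin.sum_univ_succ]
    simp [hcol, Matrix.submatrix]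
  have hne := ((Matrix.isUnit_iff_isUnit_det _).1 g.isUnit).ne_zero
  rw [hdet, mul_ne_zero_iff] at hne
  refine ⟨(Units.mk0 _ hne.1, Matrix.GeneralLinearGroup.mkOfDetNeZero _ hne.2),
    fun i => (g.1 0 0)⁻¹ * g.1 0 i.succ, Units.ext ?_⟩
  show g.1 = blk (g.1 0 0) 0 (Matrix.of fun i j : Fin m => g.1 i.succ j.succ) * blk 1 _ 1
  rw [blk_mul]
  ext i j
  induction i using Fin.cases <;> induction j using Fin.cases <;> simp [blk, hcol, hne.1]

/-- The vectors fixed by the stabiliser of a vector. -/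
noncomputable def lineFix (σ : Representation ℂ (GL (Fin (m + 1)) F) W) : Submodule ℂ W :=
  fixedPts ((σ.comp par).comp ((MonoidHom.inr Fˣ (GL (Fin m) F)).comp SpecialLinearGroup.toGL)) ⊓
    Fix (σ.comp SpecialLinearGroup.toGL)

theorem mem_lineFix {σ : Representation ℂ (GL (Fin (m + 1)) F) W} {y : W} :
    y ∈ lineFix σ ↔ (∀ t : SL(m, F), σ (par (1, SpecialLinearGroup.toGL t)) y = y) ∧
      ∀ f, σ (SpecialLinearGroup.toGL (uSL f)) y = y := by
  rw [lineFix, Submodule.mem_inf, mem_fixedPts, mem_Fix]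
  rfl

theorem exists_eigen_lineFix {σ : Representation ℂ (GL (Fin (m + 1)) F) W} (h : lineFix σ ≠ ⊥) :
    ∃ z ∈ lineFix σ, z ≠ 0 ∧
      ∀ g : GL (Fin (m + 1)) F, (∃ a : F, g.1 *ᵥ e₀ = a • e₀) → σ g z ∈ Submodule.span ℂ {z} := by
  have hinv : ∀ p, ∀ y ∈ lineFix σ, σ (par p) y ∈ lineFix σ := by
    intro p y hy
    rw [mem_lineFix] at hy ⊢
    refine ⟨fun t => ?_, fun f => ?_⟩
    · obtain ⟨t', ht'⟩ := exists_toGL_of_det (A := SpecialLinearGroup.toGL t) (B := p.2)
      have e : ((1 : Fˣ), SpecialLinearGroup.toGL t) * p =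
          p * (1, SpecialLinearGroup.toGL t * SpecialLinearGroup.toGL t') := by
        refine Prod.ext (by simp) ?_
        show SpecialLinearGroup.toGL t * p.2 = p.2 * _
        rw [ht', mul_assoc]
      rw [← Module.End.mul_apply, ← map_mul, ← map_mul, e, map_mul, map_mul, Module.End.mul_apply,
        ← map_mul SpecialLinearGroup.toGL, hy.1]
    · have e : SpecialLinearGroup.toGL (uSL f) * par p =
          par p * SpecialLinearGroup.toGL (uSL (((p.1 : F)⁻¹) • (f ᵥ* p.2.1))) := by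
        refine Units.ext ?_
        show blk 1 f 1 * blk (p.1 : F) 0 p.2.1 = blk (p.1 : F) 0 p.2.1 * blk 1 _ 1
        simp [blk_mul, smul_smul]
      rw [← Module.End.mul_apply, ← map_mul, e, map_mul, Module.End.mul_apply, hy.2]
  obtain ⟨z, hz, hz0, hze⟩ := exists_common_eigen (fun p => σ (par p)) (lineFix σ) h hinv fun p r y hy => by
    obtain ⟨t, ht⟩ := exists_toGL_of_det (A := p.2) (B := r.2)
    rw [← Module.End.mul_apply, ← Module.End.mul_apply, ← map_mul, ← map_mul, ← map_mul, ← map_mul,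
      show p * r = r * p * (1, SpecialLinearGroup.toGL t) from Prod.ext (by simp [mul_comm]) ht,
      map_mul par, map_mul σ, Module.End.mul_apply, (mem_lineFix.1 hy).1]
  refine ⟨z, hz, hz0, fun g hg => ?_⟩
  obtain ⟨p, f, rfl⟩ := exists_par_of_stab hg
  rw [map_mul, Module.End.mul_apply, (mem_lineFix.1 hz).2]
  exact hze p

/-- A representation with a vector fixed by a vector stabiliser has degree at most the number of points. -/
theorem degree_le_of_lineFix [Nontrivial W] {σ : Representation ℂ (GL (Fin (m + 1)) F) W} (hm : 1 ≤ m)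
    (hσ : Irred σ) (h : lineFix σ ≠ ⊥) :
    (Fintype.card F - 1) * finrank ℂ W ≤ Fintype.card F ^ (m + 1) - 1 := by
  obtain ⟨z, -, hz0, hz⟩ := exists_eigen_lineFix h
  exact degree_le_points (π := MonoidHom.id _) (s := SpecialLinearGroup.toGL)
    ⟨Function.injective_id, fun _ => rfl⟩ hσ hm hz0 hz

/-! ### Splitting the fixed vectors -/

variable {j : ℕ}

/-- The fixed vectors of the Levi factor, as a representation of `SL`. -/
noncomputable abbrev fixSL (ρ : Representation ℂ SL(j + 3, F) W) : Representation ℂ SL(j + 2, F) (Fix ρ) :=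
  (fixRep ρ).comp SpecialLinearGroup.toGL

/-- The complement of the vectors fixed by `SL`. -/
noncomputable def Xsp (ρ : Representation ℂ SL(j + 3, F) W) : Submodule ℂ (Fix ρ) :=
  LinearMap.ker (slSum (fixSL ρ))

theorem emb_toGL : Emb (MonoidHom.id (GL (Fin (m + 1)) F)) SpecialLinearGroup.toGL :=
  ⟨Function.injective_id, fun _ => rfl⟩

theorem Xsp_invariant (ρ : Representation ℂ SL(j + 3, F) W) (g : GL (Fin (j + 2)) F) :
    ∀ y ∈ Xsp ρ, fixRep ρ g y ∈ Xsp ρ := fun y hy => by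
  rw [Xsp, LinearMap.mem_ker] at hy ⊢
  rw [show slSum (fixSL ρ) = slSum ((fixRep ρ).comp SpecialLinearGroup.toGL) from rfl,
    slSum_comm emb_toGL (fixRep ρ) g y, hy, map_zero]

/-- The representation on the complement. -/
noncomputable def xRep (ρ : Representation ℂ SL(j + 3, F) W) :
    Representation ℂ (GL (Fin (j + 2)) F) (Xsp ρ) :=
  subRep (fixRep ρ) (Xsp ρ) (Xsp_invariant ρ)

theorem finrank_Xsp_add (ρ : Representation ℂ SL(j + 3, F) W) :
    finrank ℂ (Xsp ρ) + finrank ℂ (fixedPts (fixSL ρ)) = finrank ℂ (Fix ρ) := by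
  classical
  have h : LinearMap.range (slSum (fixSL ρ)) = fixedPts (fixSL ρ) := by
    refine le_antisymm ?_ fun y hy => ⟨(Nat.card SL(j + 2, F) : ℂ)⁻¹ • y, ?_⟩
    · rintro _ ⟨y, rfl⟩
      exact slSum_mem_fixedPts _ y
    · rw [map_smul, slSum_of_fixed _ hy, smul_smul, inv_mul_cancel₀ (Nat.cast_ne_zero.2 Nat.card_pos.ne'),
        one_smul]
  rw [← h, add_comm]
  exact LinearMap.finrank_range_add_finrank_ker _

theorem fixedPts_xRep (ρ : Representation ℂ SL(j + 3, F) W) :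
    fixedPts ((xRep ρ).comp SpecialLinearGroup.toGL) = ⊥ := by
  rw [Submodule.eq_bot_iff]
  intro y hy
  have hy' : (y : Fix ρ) ∈ fixedPts (fixSL ρ) :=
    mem_fixedPts.2 fun t => congrArg Subtype.val (mem_fixedPts.1 hy t)
  have h := slSum_of_fixed (fixSL ρ) hy'
  rw [show slSum (fixSL ρ) (y : Fix ρ) = 0 from y.2, eq_comm, smul_eq_zero] at h
  exact Subtype.ext (h.resolve_left (Nat.cast_ne_zero.2 Nat.card_pos.ne'))

theorem finrank_wt_xRep (hψ : ψ.IsPrimitive) (ρ : Representation ℂ SL(j + 3, F) W)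
    {w : Fin (j + 1) → F} (hw : w ≠ 0) :
    finrank ℂ (wt ((xRep ρ).comp SpecialLinearGroup.toGL) ψ w) = finrank ℂ (wt (fixSL ρ) ψ w) := by
  classical
  have hsub : wt (fixSL ρ) ψ w ≤ Xsp ρ := by
    intro y hy
    obtain ⟨f, hf⟩ : ∃ f, ψ (f ⬝ᵥ w) ≠ 1 := by
      have hne : wchar ψ w ≠ 1 := fun e => hw ((wchar_bijective hψ).1 (e.trans (wchar_zero ψ).symm))
      exact AddChar.ne_one_iff.1 hne
    have h1 : slSum (fixSL ρ) (fixSL ρ (uSL f) y) = slSum (fixSL ρ) y := by
      rw [slSum, LinearMap.sum_apply, LinearMap.sum_apply]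
      exact Fintype.sum_equiv (Equiv.mulRight (uSL f)) _ _ fun t => by simp
    rw [mem_wt.1 hy, map_smul] at h1
    rw [Xsp, LinearMap.mem_ker]
    have h2 : (ψ (f ⬝ᵥ w) - 1) • slSum (fixSL ρ) y = 0 := by rw [sub_smul, one_smul, h1, sub_self]
    exact (smul_eq_zero.1 h2).resolve_left (sub_ne_zero.2 hf)
  refine le_antisymm (LinearMap.finrank_le_finrank_of_injective
    (f := (Xsp ρ).subtype.restrict fun y hy => ?_) fun a b e => ?_)
    (LinearMap.finrank_le_finrank_of_injective (f := LinearMap.codRestrict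
      (wt ((xRep ρ).comp SpecialLinearGroup.toGL) ψ w) (Submodule.inclusion hsub) fun y => ?_) fun a b e => ?_)
  · exact mem_wt.2 fun f => congrArg Subtype.val (mem_wt.1 hy f)
  · exact Subtype.ext (Subtype.ext (congrArg (fun z : (wt (fixSL ρ) ψ w) => (z : Fix ρ)) e))
  · exact mem_wt.2 fun f => Subtype.ext (mem_wt.1 y.2 f)
  · exact Subtype.ext (congrArg (fun z : (wt ((xRep ρ).comp SpecialLinearGroup.toGL) ψ w) => ((z : Xsp ρ) : Fix ρ)) e)

theorem finrank_fix (hψ : ψ.IsPrimitive) {ρ : Representation ℂ SL(j + 3, F) W} (hS : Std ρ ψ) :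
    finrank ℂ W = finrank ℂ (Fix ρ) + (Fintype.card F ^ (j + 2) - 1) := by
  rw [finrank_eq_of_wt hψ ρ hS.one, mul_one, ← Fix_eq_wt]

theorem finrank_xRep (hψ : ψ.IsPrimitive) {ρ : Representation ℂ SL(j + 3, F) W} (hS : Std ρ ψ) :
    finrank ℂ (Xsp ρ) = finrank ℂ (Fix ((xRep ρ).comp SpecialLinearGroup.toGL)) +
      (Fintype.card F ^ (j + 1) - 1) := by
  rw [finrank_eq_of_wt hψ ((xRep ρ).comp SpecialLinearGroup.toGL) (d := 1) (fun w hw => by
    rw [finrank_wt_xRep hψ ρ hw, fix_wt_one hψ hS w hw]), mul_one, ← Fix_eq_wt]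

theorem nontrivial_Xsp (hψ : ψ.IsPrimitive) {ρ : Representation ℂ SL(j + 3, F) W} (hS : Std ρ ψ) :
    Nontrivial (Xsp ρ) := by
  refine Module.nontrivial_of_finrank_pos (R := ℂ) ?_
  have := finrank_xRep hψ hS
  have : 2 ≤ Fintype.card F ^ (j + 1) := le_trans Fintype.one_lt_card (Nat.le_self_pow (by omega) _)
  omega

theorem xRep_irred (hψ : ψ.IsPrimitive) {ρ : Representation ℂ SL(j + 3, F) W} (hS : Std ρ ψ) :
    Irred (xRep ρ) :=
  irred_of_wt (m := j + 1) (s := SpecialLinearGroup.toGL) (by omega) (xRep ρ) hψ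
    (fun w hw => by rw [finrank_wt_xRep hψ ρ hw, fix_wt_one hψ hS w hw])
    (fun _ _ hw hw' => exists_lev1 hw hw') (fixedPts_xRep ρ)

theorem xSL_irred {i : ℕ} (hψ : ψ.IsPrimitive) {ρ : Representation ℂ SL(i + 4, F) W}
    (hS : Std (j := i + 1) ρ ψ) :
    Irred ((xRep (j := i + 1) ρ).comp SpecialLinearGroup.toGL) := by
  refine irred_of_wt (m := i + 2) (s := MonoidHom.id _) (by omega) _ hψ
    (fun w hw => by rw [MonoidHom.comp_id, finrank_wt_xRep hψ ρ hw, fix_wt_one hψ hS w hw])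
    (fun w w' hw hw' => ?_) (by rw [MonoidHom.comp_id]; exact fixedPts_xRep ρ)
  obtain ⟨A, hA⟩ := GL.exists_SL_mulVec_eq (by simp) hw hw'
  let B : SL(i + 3, F) := ⟨blk 1 0 A.1, by rw [det_blk, one_mul, A.2]⟩
  refine ⟨B, fun y hy => ?_⟩
  rw [MonoidHom.comp_id] at hy ⊢
  show xRep ρ (SpecialLinearGroup.toGL B) y ∈ _
  rw [show SpecialLinearGroup.toGL B = lev1 (SpecialLinearGroup.toGL A) from Units.ext rfl, ← hA,
    ← coe_toGL A]
  exact lev1_mem_wt hy _

/-! ### Independence of the fixed spaces of different points -/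

theorem sum_uSL_absorb (ρ : Representation ℂ SL(m + 1, F) W) (f₀ : Fin m → F) (y : W) :
    (∑ f : Fin m → F, ρ (uSL f)) (ρ (uSL f₀) y) = (∑ f : Fin m → F, ρ (uSL f)) y := by
  rw [LinearMap.sum_apply, LinearMap.sum_apply]
  exact Fintype.sum_equiv (Equiv.addRight f₀) _ _ fun f => by simp [uSL_add]

open Classical in
theorem indep_le {k : ℕ} (hk : 1 ≤ k) (ρ : Representation ℂ SL(k + 2, F) W) {X : Submodule ℂ W}
    (hX : X ≤ Fix ρ) (hinv : ∀ A, ∀ y ∈ X, ρ (levi A) y ∈ X)
    (hzero : ∀ y ∈ X, ∑ f : Fin k → F, ρ (levi (SpecialLinearGroup.toGL (uSL f))) y = 0) :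
    (Fintype.card F ^ (k + 2) - 1) * finrank ℂ X ≤ (Fintype.card F - 1) * finrank ℂ W := by
  set U := ∑ f : Fin (k + 1) → F, ρ (uSL f) with hU
  let τ : Representation ℂ SL(k + 1, F) W := (ρ.comp levi).comp SpecialLinearGroup.toGL
  have hcentre : ∀ (s : F) (c : Fin (k + 1) → F), c ≠ 0 → ∀ x ∈ X,
      ∑ φ : Fin (k + 2) → F, (if φ ⬝ᵥ Fin.cons s c = 0 then ρ (tv (Fin.cons s c) φ) x else 0) = 0 := by
    intro s c hc x hx
    set S := ∑ φ : Fin (k + 2) → F, (if φ ⬝ᵥ Fin.cons s c = 0 then ρ (tv (Fin.cons s c) φ) else 0) with hS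
    have h1 : S x = ∑ φ : Fin (k + 2) → F,
        (if φ ⬝ᵥ Fin.cons s c = 0 then ρ (tv (Fin.cons s c) φ) x else 0) := by
      rw [hS, LinearMap.sum_apply]
      exact Finset.sum_congr rfl fun φ _ => by split_ifs <;> rfl
    rw [← h1]
    have hshift : ∀ φ' : Fin (k + 1) → F, φ' ⬝ᵥ c = 0 →
        ∀ y, S (ρ (tv (Fin.cons s c) (Fin.cons 0 φ')) y) = S y := by
      intro φ' h' y
      rw [hS, LinearMap.sum_apply, LinearMap.sum_apply]
      refine Fintype.sum_equiv (Equiv.addRight (Fin.cons 0 φ')) _ _ fun φ => ?_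
      have h0 : (Fin.cons 0 φ' : Fin (k + 2) → F) ⬝ᵥ Fin.cons s c = 0 := by rw [dot_cons, h']; simp
      simp only [Equiv.coe_addRight, add_dotProduct, h0, add_zero]
      split_ifs with h
      · rw [← Module.End.mul_apply, ← map_mul, ← tv_add_right h h0]
      · simp
    have hval : ∀ φ' : Fin (k + 1) → F, φ' ⬝ᵥ c = 0 →
        ρ (tv (Fin.cons s c) (Fin.cons 0 φ')) x = τ (tv c φ') x := by
      intro φ' h'
      rw [show (Fin.cons s c : Fin (k + 2) → F) = Fin.cons 0 c + s • Fin.cons 1 0 by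
          ext a; induction a using Fin.cases <;> simp, add_comm (Fin.cons 0 c : Fin (k + 2) → F),
        tv_add_left (by rw [dotProduct_smul, dot_cons]; simp) (by rw [dot_cons, h']; simp),
        map_mul, Module.End.mul_apply, ← levi_tv h',
        ← tv_smul_comm s (by rw [dot_cons]; simp),
        show (s • Fin.cons 0 φ' : Fin (k + 2) → F) = Fin.cons 0 (s • φ') by
          ext a; induction a using Fin.cases <;> simp, ← uSL_eq_tv]
      exact mem_Fix.1 (hX (hinv _ x hx)) _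
    have hsum : ∑ φ' : Fin (k + 1) → F, (if φ' ⬝ᵥ c = 0 then τ (tv c φ') x else 0) = 0 := by
      obtain ⟨g, hg⟩ := GL.exists_SL_mulVec_eq (by simp; omega) (e₀_ne_zero (F := F) (m := k)) hc
      have h := LinearMap.congr_fun (sum_centre τ hg) x
      rw [LinearMap.sum_apply, Module.End.mul_apply, Module.End.mul_apply, LinearMap.sum_apply,
        show ∑ f : Fin k → F, τ (uSL f) (τ g⁻¹ x) = 0 from hzero _ (hinv _ x hx), map_zero] at h
      refine Eq.trans ?_ h
      exact Finset.sum_congr rfl fun φ _ => by split_ifs <;> rfl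
    have h2 : S (∑ φ' : Fin (k + 1) → F, (if φ' ⬝ᵥ c = 0 then τ (tv c φ') x else 0)) =
        ((Finset.univ.filter fun φ' : Fin (k + 1) → F => φ' ⬝ᵥ c = 0).card : ℂ) • S x := by
      rw [map_sum, Nat.cast_smul_eq_nsmul ℂ, ← Finset.sum_const, Finset.sum_filter]
      refine Finset.sum_congr rfl fun φ' _ => ?_
      split_ifs with h
      · rw [← hval φ' h, hshift φ' h]
      · rw [map_zero]
    rw [hsum, map_zero, eq_comm, smul_eq_zero] at h2
    refine h2.resolve_left (Nat.cast_ne_zero.2 (Finset.card_pos.2 ⟨0, ?_⟩).ne')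
    simp
  have hkill : ∀ g : SL(k + 2, F), (∀ a : F, g.1 *ᵥ e₀ ≠ a • e₀) → ∀ x ∈ X, U (ρ g x) = 0 := by
    intro g hg x hx
    set c := (g⁻¹).1 *ᵥ (e₀ : Fin (k + 2) → F) with hc
    have hct : Fin.tail c ≠ 0 := by
      intro e
      have hc0 : c = c 0 • e₀ := by
        ext a
        induction a using Fin.cases with
        | zero => simp [e₀]
        | succ a => simpa [e₀, Fin.tail] using congrFun e a
      have h1 := congrArg (fun y => g.1 *ᵥ y) hc0
      simp only [hc, mulVec_mulVec_inv, Matrix.mulVec_smul] at h1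
      refine hg (c 0)⁻¹ ?_
      rw [hc]
      rcases eq_or_ne (((g⁻¹).1 *ᵥ (e₀ : Fin (k + 2) → F)) 0) 0 with h0 | h0
      · rw [h0, zero_smul] at h1; exact absurd h1 e₀_ne_zero
      · exact (inv_smul_smul₀ h0 (g.1 *ᵥ e₀)).symm.trans
          (congrArg (fun y => (((g⁻¹).1 *ᵥ (e₀ : Fin (k + 2) → F)) 0)⁻¹ • y) h1.symm)
    have h := LinearMap.congr_fun (sum_centre ρ (g := g⁻¹) (c := c) hc.symm) x
    rw [inv_inv, Module.End.mul_apply, Module.End.mul_apply, LinearMap.sum_apply,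
      Finset.sum_congr rfl fun φ _ => show (if φ ⬝ᵥ c = 0 then ρ (tv c φ) else 0) x =
        if φ ⬝ᵥ c = 0 then ρ (tv c φ) x else 0 by split_ifs <;> rfl,
      show ∑ φ : Fin (k + 2) → F, (if φ ⬝ᵥ c = 0 then ρ (tv c φ) x else 0) = 0 by
        rw [← Fin.cons_self_tail c]; exact hcentre _ _ hct x hx] at h
    have h2 := congrArg (ρ g) h.symm
    rwa [map_zero, ← Module.End.mul_apply, ← map_mul, mul_inv_cancel, map_one, Module.End.one_apply] at h2
  have hP : Fintype (ℙ F (Fin (k + 2) → F)) := Fintype.ofFinite _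
  choose h hh using fun p : ℙ F (Fin (k + 2) → F) =>
    GL.exists_SL_mulVec_eq (F := F) (ι := Fin (k + 2)) (by simp) e₀_ne_zero p.rep_nonzero
  let Φ : (ℙ F (Fin (k + 2) → F) → X) →ₗ[ℂ] W :=
    ∑ p, ((ρ (h p)).comp X.subtype).comp (LinearMap.proj p)
  have hinj : Function.Injective Φ := by
    rw [injective_iff_map_eq_zero]
    intro x hx
    funext p
    have h1 := congrArg (fun y => U (ρ (h p)⁻¹ y)) hx
    simp only [Φ, LinearMap.sum_apply, LinearMap.comp_apply, LinearMap.proj_apply, Submodule.subtype_apply,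
      map_zero, map_sum] at h1
    rw [Finset.sum_eq_single p (fun r _ hrp => ?_) (by simp)] at h1
    · rw [← Module.End.mul_apply (ρ _) (ρ _), ← map_mul, inv_mul_cancel, map_one, Module.End.one_apply, hU,
        LinearMap.sum_apply, Finset.sum_congr rfl fun f _ => mem_Fix.1 (hX (x p).2) f, Finset.sum_const,
        Finset.card_univ, ← Nat.cast_smul_eq_nsmul ℂ, smul_eq_zero] at h1
      exact Subtype.ext (h1.resolve_left (Nat.cast_ne_zero.2 Fintype.card_ne_zero))
    · rw [← Module.End.mul_apply (ρ _) (ρ _), ← map_mul]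
      refine hkill _ (fun a ha => hrp ?_) _ (x r).2
      have h2 := congrArg (fun y => (h p).1 *ᵥ y) ha
      rw [coe_SL_mul, ← Matrix.mulVec_mulVec, hh, mulVec_mulVec_inv, Matrix.mulVec_smul, hh] at h2
      rw [← r.mk_rep, ← p.mk_rep, Projectivization.mk_eq_mk_iff']
      exact ⟨a, h2.symm⟩
  have h1 := LinearMap.finrank_le_finrank_of_injective hinj
  rw [Module.finrank_pi_fintype, Finset.sum_const, smul_eq_mul, Finset.card_univ,
    ← Nat.card_eq_fintype_card (α := ℙ F (Fin (k + 2) → F)), GL.card_projectiveSpace, Fintype.card_fin] at h1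
  refine le_trans (le_of_eq ?_) (Nat.mul_le_mul_left _ h1)
  rw [← mul_assoc, Nat.mul_div_cancel' (Nat.sub_dvd_pow_sub_pow _ 1 (k + 2) |>.trans (by rw [one_pow]))]

end Cfsg.Agent.MinDegree
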