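import Cfsg.Agent.Lib.MinDegree.SLSplit

/-!
The sum of all transvections split according to their position relative to a line and a flag.
-/

set_option autoImplicit false
set_option linter.unusedSectionVars false

open Matrix Module
open scoped MatrixGroups

namespace Cfsg.Agent.MinDegree

open Cfsg.Agent.MinDeg

variable {F : Type*} [Field F] {k : ℕ}

theorem cons_eq_zero {a : F} {r : Fin k → F} :
    (Fin.cons a r : Fin (k + 1) → F) = 0 ↔ a = 0 ∧ r = 0 := by
  constructor
  · exact fun h => ⟨congrFun h 0, funext fun i => congrFun h i.succ⟩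
  · rintro ⟨rfl, rfl⟩
    exact Matrix.cons_zero_zero

theorem tv_cons_zero (s : F) {c φ : Fin k → F} (h : φ ⬝ᵥ c = 0) :
    tv (Fin.cons s c) (Fin.cons 0 φ) = uSL (s • φ) * tv (Fin.cons 0 c) (Fin.cons 0 φ) := by
  refine Subtype.ext ?_
  rw [coe_SL_mul, tv_coe (by rw [dot_cons, h]; simp), tv_coe (by rw [dot_cons, h]; simp)]
  show _ = blk 1 (s • φ) 1 * _
  ext i j
  induction i using Fin.cases <;> induction j using Fin.cases <;>
    simp [blk, Matrix.mul_apply, Fin.sum_univ_succ, vecMulVec_apply, Matrix.one_apply, Fin.succ_ne_zero,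
      (Fin.succ_ne_zero _).symm, Finset.sum_add_distrib, mul_add]
  rename_i a
  rw [show ∑ x : Fin k, s * φ x * (c x * φ a) = s * φ a * (φ ⬝ᵥ c) by
    rw [dotProduct, Finset.mul_sum]; exact Finset.sum_congr rfl fun x _ => by ring, h, mul_zero]

theorem par_tv {c φ : Fin k → F} (h : φ ⬝ᵥ c = 0) :
    par ((1 : Fˣ), SpecialLinearGroup.toGL (tv c φ)) =
      SpecialLinearGroup.toGL (tv (Fin.cons 0 c) (Fin.cons 0 φ)) := by
  refine Units.ext ?_
  show blk (1 : F) 0 (tv c φ).1 = (tv (Fin.cons 0 c) (Fin.cons 0 φ) : SL(k + 1, F)).1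
  rw [tv_coe h, tv_coe (by rw [dot_cons, h]; simp)]
  ext i j
  induction i using Fin.cases <;> induction j using Fin.cases <;>
    simp [blk, vecMulVec_apply, Matrix.one_apply, Fin.succ_ne_zero, (Fin.succ_ne_zero _).symm]

variable [Fintype F] {W : Type*} [AddCommGroup W] [Module ℂ W]

theorem sum_cons {M : Type*} [AddCommMonoid M] (h : (Fin (k + 1) → F) → M) :
    ∑ x, h x = ∑ a : F, ∑ r : Fin k → F, h (Fin.cons a r) := by
  rw [← Fintype.sum_prod_type']
  exact (Fintype.sum_equiv (Fin.consEquiv fun _ => F) _ _ fun _ => rfl).symm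

open Classical in
theorem sum_dot_eq {c : Fin k → F} (hc : c ≠ 0) (x : ℂ) :
    ∑ φ : Fin k → F, (if φ ⬝ᵥ c = 0 then x else 0) = (Fintype.card F : ℂ) ^ (k - 1) * x := by
  have hk : 1 ≤ k := by
    rcases k with _ | k
    · exact absurd (Subsingleton.elim c 0) hc
    · omega
  have h := card_filter_dot (F := F) hc
  conv_rhs at h => rw [← Nat.sub_add_cancel hk, pow_succ]
  have h1 := Nat.eq_of_mul_eq_mul_right Fintype.card_pos h
  rw [← Finset.sum_filter, Finset.sum_const, nsmul_eq_mul,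
    Finset.filter_congr fun φ _ => show φ ⬝ᵥ c = 0 ↔ c ⬝ᵥ φ = 0 by rw [dotProduct_comm], h1]
  push_cast
  ring

variable [FiniteDimensional ℂ W]

theorem tv_act_Fix {ρ : Representation ℂ SL(k + 1, F) W} (s : F) {c φ : Fin k → F} (h : φ ⬝ᵥ c = 0)
    {y : W} (hy : y ∈ Fix ρ) :
    ρ (tv (Fin.cons s c) (Fin.cons 0 φ)) y = ρ (levi (SpecialLinearGroup.toGL (tv c φ))) y := by
  rw [tv_cons_zero s h, ← levi_tv h, map_mul, Module.End.mul_apply]
  exact mem_Fix.1 (levi_mem_Fix _ hy) _

theorem tv_act_lineFix {σ : Representation ℂ (GL (Fin (k + 1)) F) W} (s : F) {c φ : Fin k → F}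
    (h : φ ⬝ᵥ c = 0) {y : W} (hy : y ∈ lineFix σ) :
    σ (SpecialLinearGroup.toGL (tv (Fin.cons s c) (Fin.cons 0 φ))) y = y := by
  rw [tv_cons_zero s h, map_mul, map_mul, Module.End.mul_apply, ← par_tv h, (mem_lineFix.1 hy).1,
    (mem_lineFix.1 hy).2]

open Classical in
/-- The transvections moving the line, with the centre off it: `∑ μ (σ t y)`. -/
noncomputable def moving (σ : Representation ℂ (GL (Fin (k + 1)) F) W) (μ : W →ₗ[ℂ] ℂ) (y : W) : ℂ :=
  ∑ a : F, ∑ r : Fin k → F, ∑ b : F, ∑ s : Fin k → F,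
    if r ≠ 0 ∧ b ≠ 0 ∧ b * a + s ⬝ᵥ r = 0 then
      μ (σ (SpecialLinearGroup.toGL (tv (Fin.cons a r) (Fin.cons b s))) y) else 0

open Classical in
theorem tsum_split (σ : Representation ℂ (GL (Fin (k + 1)) F) W) (hk : 1 ≤ k) {y : W}
    (hy : y ∈ lineFix σ) (μ : W →ₗ[ℂ] ℂ) :
    μ (tsum (σ.comp SpecialLinearGroup.toGL) y) =
      (((Fintype.card F : ℂ) - 1) * (Fintype.card F : ℂ) ^ k +
        ((Fintype.card F : ℂ) ^ k - 1) * (Fintype.card F : ℂ) ^ k) * μ y + moving σ μ y := by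
  set q := (Fintype.card F : ℂ) with hq
  rw [tsum_apply, sum_cons, map_sum]
  have hcol : ∀ (a : F) (r : Fin k → F), μ (∑ φ : Fin (k + 1) → F,
      if (Fin.cons a r : Fin (k + 1) → F) ≠ 0 ∧ φ ⬝ᵥ Fin.cons a r = 0 then
        (σ.comp SpecialLinearGroup.toGL) (tv (Fin.cons a r) φ) y else 0) =
      ((if r = 0 ∧ a ≠ 0 then q ^ k * μ y else 0) + if r ≠ 0 then q ^ (k - 1) * μ y else 0) +
      ∑ b : F, ∑ s : Fin k → F, if r ≠ 0 ∧ b ≠ 0 ∧ b * a + s ⬝ᵥ r = 0 then
        μ (σ (SpecialLinearGroup.toGL (tv (Fin.cons a r) (Fin.cons b s))) y) else 0 := by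
    intro a r
    rw [sum_cons, map_sum, ← Finset.add_sum_erase _ _ (Finset.mem_univ (0 : F)),
      ← Finset.add_sum_erase (f := fun b => ∑ s : Fin k → F, if r ≠ 0 ∧ b ≠ 0 ∧ b * a + s ⬝ᵥ r = 0 then
        μ (σ (SpecialLinearGroup.toGL (tv (Fin.cons a r) (Fin.cons b s))) y) else 0) _
        (Finset.mem_univ (0 : F))]
    simp only [map_sum, apply_ite μ, map_zero, dot_cons, ne_eq, zero_mul, zero_add, not_true_eq_false,
      false_and, and_false, if_false, Finset.sum_const_zero]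
    congr 1
    · by_cases hr : r = 0
      · by_cases ha : a = 0
        · simp [hr, ha, cons_eq_zero]
        · rw [if_pos ⟨hr, ha⟩, if_neg (not_not.2 hr), add_zero,
            Finset.sum_congr rfl fun s _ => show _ = μ y by
              rw [if_pos ⟨fun e => ha (cons_eq_zero.1 e).1, by rw [hr, dotProduct_zero]⟩]
              exact congrArg μ (tv_act_lineFix a (by rw [hr, dotProduct_zero]) hy)]
          simp [hq]
      · rw [if_neg (fun e => hr e.1), if_pos hr, zero_add, ← sum_dot_eq hr]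
        refine Finset.sum_congr rfl fun s _ => ?_
        by_cases hs : s ⬝ᵥ r = 0
        · rw [if_pos ⟨fun e => hr (cons_eq_zero.1 e).2, hs⟩, if_pos hs]
          exact congrArg μ (tv_act_lineFix a hs hy)
        · rw [if_neg fun e => hs e.2, if_neg hs]
    · refine Finset.sum_congr rfl fun b hb => Finset.sum_congr rfl fun s _ => ?_
      have hb' := (Finset.mem_erase.1 hb).1
      refine if_congr ?_ rfl rfl
      constructor
      · rintro ⟨h1, h2⟩
        refine ⟨fun hr => h1 (cons_eq_zero.2 ⟨?_, hr⟩), hb', h2⟩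
        rw [hr, dotProduct_zero, add_zero, mul_eq_zero] at h2
        exact h2.resolve_left hb'
      · rintro ⟨h1, -, h2⟩
        exact ⟨fun e => h1 (cons_eq_zero.1 e).2, h2⟩
  rw [Finset.sum_congr rfl fun a _ => (map_sum μ _ _).trans (Finset.sum_congr rfl fun r _ => hcol a r)]
  simp only [Finset.sum_add_distrib]
  rw [show ∑ a : F, ∑ r : Fin k → F, (if r = 0 ∧ a ≠ 0 then q ^ k * μ y else 0) = (q - 1) * q ^ k * μ y by
      simp only [ite_and, Finset.sum_ite_eq', Finset.mem_univ, if_true]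
      rw [← Finset.sum_filter, Finset.sum_const, Finset.filter_ne', Finset.card_erase_of_mem (Finset.mem_univ _),
        Finset.card_univ, nsmul_eq_mul, Nat.cast_sub Fintype.card_pos, Nat.cast_one]
      rw [hq]; ring,
    show ∑ _a : F, ∑ r : Fin k → F, (if r ≠ 0 then q ^ (k - 1) * μ y else 0) = (q ^ k - 1) * q ^ k * μ y by
      rw [Finset.sum_const, ← Finset.sum_filter, Finset.sum_const, Finset.filter_ne',
        Finset.card_erase_of_mem (Finset.mem_univ _), Finset.card_univ, Finset.card_univ, Fintype.card_fun,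
        Fintype.card_fin, nsmul_eq_mul, nsmul_eq_mul, Nat.cast_sub (Nat.one_le_pow _ _ Fintype.card_pos)]
      push_cast
      obtain ⟨k', rfl⟩ : ∃ k', k = k' + 1 := ⟨k - 1, by omega⟩
      rw [hq, Nat.add_sub_cancel]; ring]
  rw [moving]
  ring

end Cfsg.Agent.MinDegree
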