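import Cfsg.Agent.Lib.Weil.LowerBound
import Cfsg.Agent.Lib.MinDegree.AbelianEigen
import Cfsg.Agent.Lib.MinDegree.QuadOrbit

/-!
The lower bound for the degree of a nontrivial representation of `Sp_2n(q)`, `q` even: a character of the radical
of the Siegel parabolic which is nontrivial on some `c • (x yᵀ + y xᵀ)` is a quadratic map with nonzero polar form.
-/

set_option autoImplicit false

open Matrix Module

namespace Cfsg.Agent.MinDegree

variable {F : Type*} [Field F] {n : ℕ}

/-- The matrix `c • x xᵀ`. -/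
def sqElt (x : Fin n → F) : F →+ Weil.SymMat F n where
  toFun c := ⟨c • vecMulVec x x, by
    show (c • vecMulVec x x)ᵀ = _
    simp [transpose_vecMulVec]⟩
  map_zero' := Subtype.ext (by simp)
  map_add' a b := Subtype.ext (by simp [add_smul])

theorem congr_sqElt (A : GL (Fin n) F) (x : Fin n → F) (c : F) :
    Weil.congr A (sqElt x c) = sqElt (A.1 *ᵥ x) c := by
  refine Subtype.ext ?_
  show A.1 * (c • vecMulVec x x) * A.1ᵀ = c • _
  rw [Matrix.mul_smul, Matrix.smul_mul, Matrix.mul_vecMulVec, Matrix.vecMulVec_mul, vecMul_transpose]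

variable [Fintype F] [CharP F 2]

theorem exists_datum {φ : AddChar (Weil.SymMat F n) ℂ} {x₀ y₀ : Fin n → F} {c₀ : F}
    (hφ : φ (Weil.symElt x₀ y₀ c₀) ≠ 1) {ψ : AddChar F ℂ} (hψ : ψ.IsPrimitive) :
    ∃ D : QuadOrbit.Datum F (Fin n → F), ∀ x c, φ (sqElt x c) = ψ (D.Q x * c) := by
  classical
  have hsurj : Function.Bijective ψ.mulShift :=
    (Fintype.bijective_iff_injective_and_card _).2
      ⟨AddChar.to_mulShift_inj_of_isPrimitive hψ, AddChar.card_eq.symm⟩
  have hex : ∀ η : F →+ Weil.SymMat F n, ∃ t, ∀ c, φ (η c) = ψ (t * c) := fun η => by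
    obtain ⟨t, ht⟩ := hsurj.2 (φ.compAddMonoidHom η)
    exact ⟨t, fun c => (DFunLike.congr_fun ht c).symm⟩
  choose val hval using hex
  have huniq : ∀ {s t : F}, (∀ c, ψ (s * c) = ψ (t * c)) → s = t := fun h =>
    hsurj.1 (DFunLike.ext _ _ h)
  let b := fun x y : Fin n → F => val (Weil.symElt x y)
  let Q := fun x : Fin n → F => val (sqElt x)
  have hb : ∀ x y c, φ (Weil.symElt x y c) = ψ (b x y * c) := fun x y c => hval _ c
  have hQ : ∀ x c, φ (sqElt x c) = ψ (Q x * c) := fun x c => hval _ c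
  have hsymm : ∀ x y, b x y = b y x := fun x y => huniq fun c => by
    rw [← hb, ← hb]
    exact congrArg φ (Subtype.ext (by simp [Weil.symElt, add_comm]))
  have hadd : ∀ x x' y, b (x + x') y = b x y + b x' y := fun x x' y => huniq fun c => by
    rw [add_mul, AddChar.map_add_eq_mul, ← hb, ← hb, ← hb, ← AddChar.map_add_eq_mul]
    exact congrArg φ (Subtype.ext (by simp [Weil.symElt, add_vecMulVec, vecMulVec_add]; module))
  have hsmul : ∀ (a : F) x y, b (a • x) y = a * b x y := fun a x y => huniq fun c => by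
    rw [← hb, show a * b x y * c = b x y * (a * c) by ring, ← hb]
    exact congrArg φ (Subtype.ext
      (by simp [Weil.symElt, smul_vecMulVec, vecMulVec_smul, smul_smul, mul_comm]))
  let B : (Fin n → F) →ₗ[F] (Fin n → F) →ₗ[F] F := LinearMap.mk₂ F b hadd hsmul
    (fun x y y' => by rw [hsymm, hadd, hsymm y, hsymm y'])
    (fun a x y => by rw [hsymm, hsmul, hsymm y, smul_eq_mul])
  refine ⟨⟨Q, B, fun a x => huniq fun c => ?_, fun x y => huniq fun c => ?_,
    fun x => huniq fun c => ?_, fun h0 => hφ ?_⟩, hQ⟩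
  · rw [← hQ, show a * a * Q x * c = Q x * (a * a * c) by ring, ← hQ]
    exact congrArg φ (Subtype.ext
      (by simp [sqElt, smul_vecMulVec, vecMulVec_smul, smul_smul, mul_comm, mul_left_comm]))
  · show ψ (Q (x + y) * c) = ψ ((Q x + Q y + b x y) * c)
    rw [add_mul, add_mul, AddChar.map_add_eq_mul, AddChar.map_add_eq_mul, ← hQ, ← hQ, ← hQ, ← hb,
      ← AddChar.map_add_eq_mul, ← AddChar.map_add_eq_mul]
    exact congrArg φ (Subtype.ext (by simp [sqElt, Weil.symElt, add_vecMulVec, vecMulVec_add]; module))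
  · show ψ (b x x * c) = ψ (0 * c)
    rw [← hb, zero_mul, AddChar.map_zero_eq_one, show Weil.symElt x x c = 0 from Subtype.ext (by
      ext i j
      simp [Weil.symElt, CharTwo.add_self_eq_zero]), AddChar.map_zero_eq_one]
  · rw [hb, show b x₀ y₀ = 0 from LinearMap.congr_fun₂ h0 x₀ y₀, zero_mul, AddChar.map_zero_eq_one]

/-- Landazuri–Seitz for `Sp_2n(q)`, `q` even. -/
theorem sp_even_degree_ge (hn : 2 ≤ n) (hex : (n, Fintype.card F) ≠ (2, 2)) (k : ℕ)
    (ρ : Representation ℂ (Matrix.symplecticGroup (Fin n) F) (Fin k → ℂ)) (hρ : ρ.IsIrreducible)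
    (hk : 2 ≤ k) :
    (Fintype.card F ^ n - 1) * (Fintype.card F ^ n - Fintype.card F) ≤ 2 * (Fintype.card F + 1) * k := by
  classical
  let : Fintype (Weil.SymMat F n) := Fintype.ofFinite _
  let op := fun S : Weil.SymMat F n => ρ (Weil.rad (Multiplicative.ofAdd S))
  have hop : IsOp op := ⟨by simp [op], fun S T => by simp [op, ofAdd_add, map_mul]⟩
  let Φ := {φ : AddChar (Weil.SymMat F n) ℂ | eigen op φ ≠ ⊥}
  -- at most `k` weights
  have hΦ : Nat.card Φ ≤ k := by
    rw [Nat.card_eq_fintype_card, Fintype.card_subtype, Finset.card_eq_sum_ones]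
    refine le_trans ?_ (le_of_eq (Module.finrank_fin_fun ℂ (n := k)))
    refine le_trans (Finset.sum_le_sum (g := fun φ => finrank ℂ (⊤ ⊓ eigen op φ : Submodule ℂ (Fin k → ℂ)))
      fun φ hφ => ?_) ?_
    · rw [top_inf_eq]
      exact Submodule.one_le_finrank_iff.2 (Finset.mem_filter.1 hφ).2
    · refine le_trans (Finset.sum_le_univ_sum_of_nonneg fun _ => Nat.zero_le _) ?_
      refine le_trans (sum_finrank_le ⊤) ?_
      rw [finrank_top]
  let e₀ : Fin n → F := Pi.single ⟨0, by omega⟩ 1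
  let e₁ : Fin n → F := Pi.single ⟨1, by omega⟩ 1
  have hker : op (Weil.symElt e₀ e₁ 1) ≠ 1 := by
    intro h
    have hq : 2 ≤ Fintype.card F := Fintype.one_lt_card
    have h3 : 3 ≤ n ∨ (n = 2 ∧ 3 ≤ Fintype.card F) ∨ 4 ≤ Fintype.card F := by
      by_contra hc
      push Not at hc
      exact hex (Prod.ext (by omega) (by have := hc.2.1 (by omega); omega))
    rcases ClassicalSimple.symplectic_normal_eq_top_or_le_center h3 ρ.ker with hK | hK
    · have htriv : ∀ g, ρ g = 1 := fun g => MonoidHom.mem_ker.1 (by rw [hK]; trivial)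
      let v : Fin k → ℂ := Pi.single ⟨0, by omega⟩ 1
      let U : Subrepresentation ρ := ⟨ℂ ∙ v, fun g w hw => by rw [htriv]; exact hw⟩
      have := hρ
      rcases IsSimpleOrder.eq_bot_or_eq_top U with hU | hU
      · have : (ℂ ∙ v) = ⊥ := congrArg Subrepresentation.toSubmodule hU
        rw [Submodule.span_singleton_eq_bot] at this
        simpa [v] using congrFun this ⟨0, by omega⟩
      · have e : (ℂ ∙ v) = ⊤ := congrArg Subrepresentation.toSubmodule hU
        have hf := finrank_span_singleton (K := ℂ) (v := v) (by simp [v])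
        rw [e, finrank_top, Module.finrank_fin_fun] at hf
        omega
    · have h1 := congrArg Subtype.val (Weil.rad_mem_center (hK (MonoidHom.mem_ker.2 h)))
      have h2 := congrFun (congrFun h1 ⟨0, by omega⟩) ⟨1, by omega⟩
      simp [Weil.symElt, e₀, e₁, vecMulVec_apply, Fin.ext_iff] at h2
  obtain ⟨φ, hφ, hφ1⟩ : ∃ φ, φ ∈ Φ ∧ φ (Weil.symElt e₀ e₁ 1) ≠ 1 := by
    by_contra hno
    push Not at hno
    refine hker (LinearMap.ext fun v => ?_)
    have h := congrArg (op (Weil.symElt e₀ e₁ 1)) (sum_proj hop v)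
    rw [map_sum, map_smul, Finset.sum_congr rfl fun χ _ => show
      op (Weil.symElt e₀ e₁ 1) (proj op χ v) = proj op χ v by
        by_cases h0 : proj op χ v = 0
        · rw [h0, map_zero]
        · have hm := proj_mem_eigen hop χ v
          rw [mem_eigen.1 hm, hno χ (fun e => h0 (by rw [e] at hm; exact (Submodule.mem_bot ℂ).1 hm)),
            one_smul], sum_proj hop v] at h
    exact (smul_right_injective _ (Nat.cast_ne_zero.2 Fintype.card_ne_zero) h).symm
  obtain ⟨ψ, hψ⟩ : ∃ ψ : AddChar F ℂ, ψ.IsPrimitive := by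
    obtain ⟨ψ, hψ⟩ := (AddChar.exists_apply_ne_zero (a := (1 : F))).2 one_ne_zero
    exact ⟨ψ, AddChar.IsPrimitive.of_ne_one (AddChar.ne_one_iff.2 ⟨1, hψ⟩)⟩
  obtain ⟨D, hD⟩ := exists_datum hφ1 hψ
  have hO := QuadOrbit.card_orbit D (by rw [Module.finrank_fin_fun]; exact hn)
  rw [Module.finrank_fin_fun] at hO
  refine hO.trans (Nat.mul_le_mul_left _ (le_trans ?_ hΦ))
  have hA : ∀ R : D.orbit, ∃ χ : Φ, ∀ x c, χ.1 (sqElt x c) = ψ (R.1 x * c) := by
    rintro ⟨_, A, rfl⟩
    let M : GL (Fin n) F :=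
      Matrix.GeneralLinearGroup.toLin.symm (LinearMap.GeneralLinearGroup.ofLinearEquiv A)
    have hM : ∀ x, M.1 *ᵥ x = A x := fun x => by
      have h1 : Matrix.GeneralLinearGroup.toLin M = LinearMap.GeneralLinearGroup.ofLinearEquiv A :=
        Matrix.GeneralLinearGroup.toLin.apply_symm_apply _
      exact LinearMap.congr_fun (congrArg Units.val h1) x
    obtain ⟨v, hvφ, hv⟩ := Submodule.exists_mem_ne_zero_of_ne_bot hφ
    refine ⟨⟨φ.compAddMonoidHom (Weil.congr M), Submodule.ne_bot_iff _ |>.2 ⟨ρ (Weil.levi M)⁻¹ v,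
      mem_eigen.2 fun S => ?_, fun h => hv ?_⟩⟩, fun x c => ?_⟩
    · have e : Weil.rad (Multiplicative.ofAdd S) * (Weil.levi M)⁻¹ =
          (Weil.levi M)⁻¹ * Weil.rad (Multiplicative.ofAdd (Weil.congr M S)) := by
        rw [eq_inv_mul_iff_mul_eq, ← mul_assoc, Weil.levi_rad, mul_inv_cancel_right]
      show op S (ρ (Weil.levi M)⁻¹ v) = φ (Weil.congr M S) • ρ (Weil.levi M)⁻¹ v
      rw [← map_smul, ← mem_eigen.1 hvφ]
      simp only [op, ← Module.End.mul_apply, ← map_mul, e]
    · have := congrArg (ρ (Weil.levi M)) h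
      rwa [map_zero, ← Module.End.mul_apply, ← map_mul, mul_inv_cancel, map_one] at this
    · show φ (Weil.congr M (sqElt x c)) = _
      rw [congr_sqElt, hD, hM]
  choose χ hχ using hA
  refine Nat.card_le_card_of_injective χ fun R R' e => Subtype.ext (funext fun x => ?_)
  refine AddChar.to_mulShift_inj_of_isPrimitive hψ (DFunLike.ext _ _ fun c => ?_)
  show ψ (R.1 x * c) = ψ (R'.1 x * c)
  rw [← hχ, ← hχ, e]

end Cfsg.Agent.MinDegree
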