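import Cfsg.Agent.Lib.Chev.TwistD4Group
import Cfsg.Agent.Lib.Chev.TwistPerfect
import Cfsg.Agent.Lib.Chev.FieldAutFixed

/-!
The special subgroup of the Chevalley group of type `D₄` on the roots with coefficient one or two at
the central node, in coordinates.
-/

set_option autoImplicit false
set_option maxRecDepth 4000

namespace Cfsg.Agent.MinDegree.ThreeD4

open Cfsg.Lie Cfsg.Agent.Chev Cfsg.Agent.Chev.BNSetup

variable {K : Type*} [Field K]

/-- The root element. -/
noncomputable abbrev X (r : ℕ) (t : K) : GL chevD4.Idx K := xe D4.good r t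

/-- The roots of one side of the pairing. -/
def ra : Fin 4 → ℕ := ![14, 19, 16, 15]

/-- The roots of the other side of the pairing. -/
def rc : Fin 4 → ℕ := ![22, 17, 20, 21]

/-- The structure constants of the pairing. -/
def sg : Fin 4 → ℤ := ![-1, 1, 1, 1]

theorem X_add {r : ℕ} (hr : r < chevD4.nroots) (t u : K) : X r t * X r u = X r (t + u) :=
  xe_add D4.good hr t u

theorem X_zero {r : ℕ} (hr : r < chevD4.nroots) : X (K := K) r 0 = 1 := xe_zero D4.good hr

theorem X_inj {r : ℕ} (hr : r < chevD4.nroots) {t u : K} (h : X r t = X r u) : t = u :=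
  xe_inj D4.good facts_chevD4 hr h

theorem X_commute {r s : ℕ} (h : r < chevD4.nroots ∧ s < chevD4.nroots ∧
    (s = r ∨ (s ≠ chevD4.neg r ∧ chevD4.commTerms r s = []))) (t u : K) :
    Commute (X r t) (X s u) := by
  obtain ⟨hr, hs, h3⟩ := h
  rcases eq_or_ne s r with rfl | hne
  · exact (X_add hs t u).trans ((congrArg (X s) (add_comm t u)).trans (X_add hs u t).symm)
  obtain ⟨h1, h2⟩ := h3.resolve_left hne
  have e := D4.good.xg_comm (F := K) hr hs hne h1 t u
  rw [show chevD4.commWord K r s t u = [] by rw [ChevalleyDatum.commWord, h2, List.map_nil],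
    show wordG chevD4 K [] = 1 by simp [wordG], mul_one, xg_eq_xe D4.good, xg_eq_xe D4.good] at e
  exact e.symm

theorem X_swap {r s p : ℕ} {m : ℤ} (h : r < chevD4.nroots ∧ s < chevD4.nroots ∧ s ≠ r ∧
    s ≠ chevD4.neg r ∧ chevD4.commTerms r s = [(p, m, 1, 1)]) (t u : K) :
    X s u * X r t = X r t * X s u * X p ((m : K) * (-t) * u) := by
  obtain ⟨hr, hs, h1, h2, h3⟩ := h
  have e := D4.good.xg_comm (F := K) hr hs h1 h2 t u
  rw [show chevD4.commWord K r s t u = [(p, (m : K) * (-t) * u)] by
      rw [ChevalleyDatum.commWord, h3]; simp,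
    show wordG chevD4 K [(p, (m : K) * (-t) * u)] = xg chevD4 K p ((m : K) * (-t) * u) by simp [wordG]] at e
  simpa only [xg_eq_xe D4.good] using e

/-- The product over one side. -/
noncomputable def A (α : Fin 4 → K) : GL chevD4.Idx K :=
  X 14 (α 0) * X 19 (α 1) * X 16 (α 2) * X 15 (α 3)

/-- The product over the other side. -/
noncomputable def C (γ : Fin 4 → K) : GL chevD4.Idx K :=
  X 22 (γ 0) * X 17 (γ 1) * X 20 (γ 2) * X 21 (γ 3)

/-- The cocycle. -/
def ω (γ α : Fin 4 → K) : K := -(γ 0 * α 0) + γ 1 * α 1 + γ 2 * α 2 + γ 3 * α 3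

/-- An element in coordinates. -/
noncomputable def H (α γ : Fin 4 → K) (r : K) : GL chevD4.Idx K := A α * C γ * X 23 r

/-- The commutator pairing. -/
def β (α γ α' γ' : Fin 4 → K) : K := ω γ α' - ω γ' α

theorem mul4 {M : Type*} [Monoid M] {a b c d a' b' c' d' : M} (hb : Commute b a') (hc : Commute c a')
    (hd : Commute d a') (hc' : Commute c b') (hd' : Commute d b') (hd'' : Commute d c') :
    a * b * c * d * (a' * b' * c' * d') = a * a' * (b * b') * (c * c') * (d * d') := by
  calc a * b * c * d * (a' * b' * c' * d') = a * b * c * (d * a') * b' * c' * d' := by simp only [mul_assoc]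
    _ = a * b * (c * a') * (d * b') * c' * d' := by rw [hd.eq]; simp only [mul_assoc]
    _ = a * (b * a') * (c * b') * (d * c') * d' := by rw [hc.eq, hd'.eq]; simp only [mul_assoc]
    _ = _ := by rw [hb.eq, hc'.eq, hd''.eq]; simp only [mul_assoc]

theorem A_add (α α' : Fin 4 → K) : A α * A α' = A (α + α') := by
  rw [A, A, mul4 (X_commute (by decide +kernel) _ _) (X_commute (by decide +kernel) _ _)
    (X_commute (by decide +kernel) _ _) (X_commute (by decide +kernel) _ _)
    (X_commute (by decide +kernel) _ _) (X_commute (by decide +kernel) _ _), X_add (by decide +kernel),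
    X_add (by decide +kernel), X_add (by decide +kernel), X_add (by decide +kernel)]
  rfl

theorem C_add (γ γ' : Fin 4 → K) : C γ * C γ' = C (γ + γ') := by
  rw [C, C, mul4 (X_commute (by decide +kernel) _ _) (X_commute (by decide +kernel) _ _)
    (X_commute (by decide +kernel) _ _) (X_commute (by decide +kernel) _ _)
    (X_commute (by decide +kernel) _ _) (X_commute (by decide +kernel) _ _), X_add (by decide +kernel),
    X_add (by decide +kernel), X_add (by decide +kernel), X_add (by decide +kernel)]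
  rfl

theorem A_zero : A (0 : Fin 4 → K) = 1 := by
  simp only [A, Pi.zero_apply, X_zero (K := K) (show (14 : ℕ) < chevD4.nroots by decide +kernel),
    X_zero (K := K) (show (19 : ℕ) < chevD4.nroots by decide +kernel),
    X_zero (K := K) (show (16 : ℕ) < chevD4.nroots by decide +kernel),
    X_zero (K := K) (show (15 : ℕ) < chevD4.nroots by decide +kernel), mul_one]

theorem C_zero : C (0 : Fin 4 → K) = 1 := by
  simp only [C, Pi.zero_apply, X_zero (K := K) (show (22 : ℕ) < chevD4.nroots by decide +kernel),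
    X_zero (K := K) (show (17 : ℕ) < chevD4.nroots by decide +kernel),
    X_zero (K := K) (show (20 : ℕ) < chevD4.nroots by decide +kernel),
    X_zero (K := K) (show (21 : ℕ) < chevD4.nroots by decide +kernel), mul_one]

theorem z_commute_A (r : K) (α : Fin 4 → K) : Commute (X 23 r) (A α) :=
  (((X_commute (by decide +kernel) r _).mul_right (X_commute (by decide +kernel) r _)).mul_right
    (X_commute (by decide +kernel) r _)).mul_right (X_commute (by decide +kernel) r _)

theorem z_commute_C (r : K) (γ : Fin 4 → K) : Commute (X 23 r) (C γ) :=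
  (((X_commute (by decide +kernel) r _).mul_right (X_commute (by decide +kernel) r _)).mul_right
    (X_commute (by decide +kernel) r _)).mul_right (X_commute (by decide +kernel) r _)

theorem swap4 {M : Type*} [Monoid M] {b a₀ a₁ a₂ a₃ z : M} (h₀ : b * a₀ = a₀ * b * z) (h₁ : Commute b a₁)
    (h₂ : Commute b a₂) (h₃ : Commute b a₃) (z₁ : Commute z a₁) (z₂ : Commute z a₂) (z₃ : Commute z a₃) :
    b * (a₀ * a₁ * a₂ * a₃) = a₀ * a₁ * a₂ * a₃ * b * z := by
  calc b * (a₀ * a₁ * a₂ * a₃) = a₀ * b * (z * a₁) * a₂ * a₃ := by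
        simp only [← mul_assoc]; rw [h₀]
    _ = a₀ * (b * a₁) * (z * a₂) * a₃ := by rw [z₁.eq]; simp only [mul_assoc]
    _ = a₀ * a₁ * (b * a₂) * (z * a₃) := by rw [h₁.eq, z₂.eq]; simp only [mul_assoc]
    _ = a₀ * a₁ * a₂ * (b * a₃) * z := by rw [h₂.eq, z₃.eq]; simp only [mul_assoc]
    _ = _ := by rw [h₃.eq]; simp only [mul_assoc]

/-- Moving one element of `C` past `A`. -/
theorem Xc_A (i : Fin 4) (u : K) (α : Fin 4 → K) :
    X (rc i) u * A α = A α * X (rc i) u * X 23 ((sg i : K) * α i * u) := by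
  have hz : ∀ r, r ∈ [14, 19, 16, 15] → ∀ t s : K, Commute (X 23 s) (X r t) := fun r hr t s => by
    simp only [List.mem_cons, List.not_mem_nil, or_false] at hr
    rcases hr with rfl | rfl | rfl | rfl <;> exact X_commute (by decide +kernel) _ _
  fin_cases i
  · have h := X_swap (r := 14) (s := 22) (p := 23) (m := 1) (by decide +kernel) (α 0) u
    have := swap4 h (X_commute (r := 22) (s := 19) (by decide +kernel) u (α 1))
      (X_commute (r := 22) (s := 16) (by decide +kernel) u (α 2))
      (X_commute (r := 22) (s := 15) (by decide +kernel) u (α 3))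
      (hz 19 (by simp) _ _) (hz 16 (by simp) _ _) (hz 15 (by simp) _ _)
    simpa [rc, sg, A] using this
  · have h := X_swap (r := 19) (s := 17) (p := 23) (m := -1) (by decide +kernel) (α 1) u
    have h0 : Commute (X 17 u) (X 14 (α 0)) := X_commute (by decide +kernel) _ _
    show X 17 u * A α = _
    rw [A, show X 14 (α 0) * X 19 (α 1) * X 16 (α 2) * X 15 (α 3) =
      X 19 (α 1) * X 14 (α 0) * X 16 (α 2) * X 15 (α 3) by
        rw [(X_commute (r := 14) (s := 19) (by decide +kernel) (α 0) (α 1)).eq]]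
    have := swap4 h h0 (X_commute (r := 17) (s := 16) (by decide +kernel) u (α 2))
      (X_commute (r := 17) (s := 15) (by decide +kernel) u (α 3))
      (hz 14 (by simp) _ _) (hz 16 (by simp) _ _) (hz 15 (by simp) _ _)
    simpa [rc, sg] using this
  · have h := X_swap (r := 16) (s := 20) (p := 23) (m := -1) (by decide +kernel) (α 2) u
    show X 20 u * A α = _
    rw [A, show X 14 (α 0) * X 19 (α 1) * X 16 (α 2) * X 15 (α 3) =
      X 16 (α 2) * X 14 (α 0) * X 19 (α 1) * X 15 (α 3) by
        rw [((X_commute (r := 14) (s := 16) (by decide +kernel) (α 0) (α 2)).mul_left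
          (X_commute (r := 19) (s := 16) (by decide +kernel) (α 1) (α 2))).eq]
        simp only [mul_assoc]]
    have := swap4 h (X_commute (r := 20) (s := 14) (by decide +kernel) u (α 0))
      (X_commute (r := 20) (s := 19) (by decide +kernel) u (α 1))
      (X_commute (r := 20) (s := 15) (by decide +kernel) u (α 3))
      (hz 14 (by simp) _ _) (hz 19 (by simp) _ _) (hz 15 (by simp) _ _)
    simpa [rc, sg] using this
  · have h := X_swap (r := 15) (s := 21) (p := 23) (m := -1) (by decide +kernel) (α 3) u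
    show X 21 u * A α = _
    rw [A, show X 14 (α 0) * X 19 (α 1) * X 16 (α 2) * X 15 (α 3) =
      X 15 (α 3) * X 14 (α 0) * X 19 (α 1) * X 16 (α 2) by
        rw [(((X_commute (r := 14) (s := 15) (by decide +kernel) (α 0) (α 3)).mul_left
          (X_commute (r := 19) (s := 15) (by decide +kernel) (α 1) (α 3))).mul_left
          (X_commute (r := 16) (s := 15) (by decide +kernel) (α 2) (α 3))).eq]
        simp only [mul_assoc]]
    have := swap4 h (X_commute (r := 21) (s := 14) (by decide +kernel) u (α 0))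
      (X_commute (r := 21) (s := 19) (by decide +kernel) u (α 1))
      (X_commute (r := 21) (s := 16) (by decide +kernel) u (α 2))
      (hz 14 (by simp) _ _) (hz 19 (by simp) _ _) (hz 16 (by simp) _ _)
    simpa [rc, sg] using this

theorem C_mul_A (γ α : Fin 4 → K) : C γ * A α = A α * C γ * X 23 (ω γ α) := by
  have hz : ∀ (i : Fin 4) (t s : K), Commute (X 23 s) (X (rc i) t) := fun i t s => by
    fin_cases i <;> exact X_commute (by decide +kernel) _ _
  have comb : ∀ (P : GL chevD4.Idx K) (z : K) (i : Fin 4) (u : K), P * A α = A α * P * X 23 z →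
      (∀ s, Commute (X 23 s) P) →
      X (rc i) u * P * A α = A α * (X (rc i) u * P) * X 23 ((sg i : K) * α i * u + z) := by
    intro P z i u hP hPz
    rw [← X_add (by decide +kernel)]
    calc X (rc i) u * P * A α = X (rc i) u * A α * P * X 23 z := by
          rw [mul_assoc, hP]; simp only [mul_assoc]
      _ = A α * X (rc i) u * (X 23 ((sg i : K) * α i * u) * P) * X 23 z := by
          rw [Xc_A]; simp only [mul_assoc]
      _ = _ := by rw [(hPz _).eq]; simp only [mul_assoc]
  have h3 := Xc_A 3 (γ 3) α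
  have h2 := comb _ _ 2 (γ 2) h3 fun s => hz 3 _ s
  have h1 := comb _ _ 1 (γ 1) h2 fun s => (hz 2 _ s).mul_right (hz 3 _ s)
  have h0 := comb _ _ 0 (γ 0) h1 fun s => (hz 1 _ s).mul_right ((hz 2 _ s).mul_right (hz 3 _ s))
  simp only [rc, Matrix.cons_val, mul_assoc] at h0
  rw [C]
  simp only [mul_assoc]
  rw [h0]
  simp [ω, sg, mul_comm]
  ring_nf

/-- The multiplication law. -/
theorem H_mul (α γ α' γ' : Fin 4 → K) (r r' : K) :
    H α γ r * H α' γ' r' = H (α + α') (γ + γ') (r + r' + ω γ α') := by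
  rw [H, H, H, ← A_add, ← C_add, show r + r' + ω γ α' = ω γ α' + (r + r') by ring,
    ← X_add (by decide +kernel), ← X_add (by decide +kernel)]
  calc A α * C γ * X 23 r * (A α' * C γ' * X 23 r')
      = A α * C γ * (X 23 r * (A α' * C γ')) * X 23 r' := by simp only [mul_assoc]
    _ = A α * (C γ * A α') * C γ' * X 23 r * X 23 r' := by
        rw [((z_commute_A r α').mul_right (z_commute_C r γ')).eq]; simp only [mul_assoc]
    _ = A α * A α' * C γ * (X 23 (ω γ α') * C γ') * X 23 r * X 23 r' := by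
        rw [C_mul_A]; simp only [mul_assoc]
    _ = _ := by rw [(z_commute_C _ γ').eq]; simp only [mul_assoc]

theorem H_mul_z (α γ : Fin 4 → K) (r s : K) : H α γ r * X 23 s = H α γ (r + s) := by
  rw [H, H, mul_assoc, X_add (by decide +kernel)]

theorem z_eq_H (r : K) : X 23 r = H 0 0 r := by rw [H, A_zero, C_zero, one_mul, one_mul]

theorem H_zero : H (0 : Fin 4 → K) 0 0 = 1 := by rw [← z_eq_H, X_zero (by decide +kernel)]

theorem H_inv (α γ : Fin 4 → K) (r : K) : (H α γ r)⁻¹ = H (-α) (-γ) (ω γ α - r) := by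
  refine inv_eq_of_mul_eq_one_right ?_
  rw [H_mul, add_neg_cancel, add_neg_cancel, ← H_zero]
  congr 1
  simp [ω]
  ring

theorem z_commute_H (s : K) (α γ : Fin 4 → K) (r : K) : Commute (X 23 s) (H α γ r) :=
  ((z_commute_A s α).mul_right (z_commute_C s γ)).mul_right (X_commute (by decide +kernel) s r)

theorem H_conj (α γ α' γ' : Fin 4 → K) (r r' : K) :
    H α γ r * H α' γ' r' * (H α γ r)⁻¹ = H α' γ' r' * X 23 (β α γ α' γ') := by
  rw [mul_inv_eq_iff_eq_mul, mul_assoc _ (X 23 _), (z_commute_H _ α γ r).eq, ← mul_assoc, H_mul, H_mul,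
    H_mul_z, add_comm α α', add_comm γ γ']
  congr 1
  simp [β]
  ring

theorem H_inj {α γ α' γ' : Fin 4 → K} {r r' : K} (h : H α γ r = H α' γ' r') :
    α = α' ∧ γ = γ' ∧ r = r' := by
  classical
  have key : ∀ a c : Fin 4 → K, β a c α γ = β a c α' γ' := by
    intro a c
    have e := H_conj a c α γ 0 r
    rw [h, H_conj a c α' γ' 0 r'] at e
    exact (X_inj (by decide +kernel) (mul_left_cancel e)).symm
  have h0 := key 0 (Pi.single 0 1)
  have h1 := key 0 (Pi.single 1 1)
  have h2 := key 0 (Pi.single 2 1)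
  have h3 := key 0 (Pi.single 3 1)
  have g0 := key (Pi.single 0 1) 0
  have g1 := key (Pi.single 1 1) 0
  have g2 := key (Pi.single 2 1) 0
  have g3 := key (Pi.single 3 1) 0
  simp [β, ω] at h0 h1 h2 h3 g0 g1 g2 g3
  have hα : α = α' := funext fun i => by fin_cases i <;> assumption
  have hγ : γ = γ' := funext fun i => by fin_cases i <;> assumption
  refine ⟨hα, hγ, ?_⟩
  subst hα hγ
  rw [H, H] at h
  exact X_inj (by decide +kernel) (mul_left_cancel h)

/-- The ambient special subgroup. -/
noncomputable def Qamb : Subgroup (GL chevD4.Idx K) where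
  carrier := {g | ∃ α γ r, g = H α γ r}
  one_mem' := ⟨0, 0, 0, H_zero.symm⟩
  mul_mem' := by
    rintro _ _ ⟨α, γ, r, rfl⟩ ⟨α', γ', r', rfl⟩
    exact ⟨_, _, _, H_mul α γ α' γ' r r'⟩
  inv_mem' := by
    rintro _ ⟨α, γ, r, rfl⟩
    exact ⟨_, _, _, H_inv α γ r⟩

theorem X_mem_Qamb {r : ℕ} (hr : r ∈ [14, 19, 16, 15, 22, 17, 20, 21, 23]) (t : K) :
    X r t ∈ (Qamb : Subgroup (GL chevD4.Idx K)) := by
  have h0 : ∀ r, r < chevD4.nroots → X (K := K) r 0 = 1 := fun r h => X_zero h
  simp only [List.mem_cons, List.not_mem_nil, or_false] at hr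
  rcases hr with rfl | rfl | rfl | rfl | rfl | rfl | rfl | rfl | rfl
  · exact ⟨![t, 0, 0, 0], 0, 0, by simp [H, A, C_zero, h0 19 (by decide +kernel), h0 16 (by decide +kernel),
      h0 15 (by decide +kernel), h0 23 (by decide +kernel)]⟩
  · exact ⟨![0, t, 0, 0], 0, 0, by simp [H, A, C_zero, h0 14 (by decide +kernel), h0 16 (by decide +kernel),
      h0 15 (by decide +kernel), h0 23 (by decide +kernel)]⟩
  · exact ⟨![0, 0, t, 0], 0, 0, by simp [H, A, C_zero, h0 14 (by decide +kernel), h0 19 (by decide +kernel),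
      h0 15 (by decide +kernel), h0 23 (by decide +kernel)]⟩
  · exact ⟨![0, 0, 0, t], 0, 0, by simp [H, A, C_zero, h0 14 (by decide +kernel), h0 19 (by decide +kernel),
      h0 16 (by decide +kernel), h0 23 (by decide +kernel)]⟩
  · exact ⟨0, ![t, 0, 0, 0], 0, by simp [H, C, A_zero, h0 17 (by decide +kernel), h0 20 (by decide +kernel),
      h0 21 (by decide +kernel), h0 23 (by decide +kernel)]⟩
  · exact ⟨0, ![0, t, 0, 0], 0, by simp [H, C, A_zero, h0 22 (by decide +kernel), h0 20 (by decide +kernel),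
      h0 21 (by decide +kernel), h0 23 (by decide +kernel)]⟩
  · exact ⟨0, ![0, 0, t, 0], 0, by simp [H, C, A_zero, h0 22 (by decide +kernel), h0 17 (by decide +kernel),
      h0 21 (by decide +kernel), h0 23 (by decide +kernel)]⟩
  · exact ⟨0, ![0, 0, 0, t], 0, by simp [H, C, A_zero, h0 22 (by decide +kernel), h0 17 (by decide +kernel),
      h0 20 (by decide +kernel), h0 23 (by decide +kernel)]⟩
  · exact ⟨0, 0, t, z_eq_H t⟩

/-- An element scaling the root groups scales the coordinates. -/
theorem conj_H {g : GL chevD4.Idx K} (ca cc : Fin 4 → K) (cz : K)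
    (ha : ∀ i t, g * X (ra i) t * g⁻¹ = X (ra i) (ca i * t))
    (hc : ∀ i t, g * X (rc i) t * g⁻¹ = X (rc i) (cc i * t))
    (hz : ∀ t, g * X 23 t * g⁻¹ = X 23 (cz * t)) (α γ : Fin 4 → K) (r : K) :
    g * H α γ r * g⁻¹ = H (ca * α) (cc * γ) (cz * r) := by
  have a0 : ∀ t, g * X 14 t * g⁻¹ = X 14 (ca 0 * t) := ha 0
  have a1 : ∀ t, g * X 19 t * g⁻¹ = X 19 (ca 1 * t) := ha 1
  have a2 : ∀ t, g * X 16 t * g⁻¹ = X 16 (ca 2 * t) := ha 2
  have a3 : ∀ t, g * X 15 t * g⁻¹ = X 15 (ca 3 * t) := ha 3
  have c0 : ∀ t, g * X 22 t * g⁻¹ = X 22 (cc 0 * t) := hc 0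
  have c1 : ∀ t, g * X 17 t * g⁻¹ = X 17 (cc 1 * t) := hc 1
  have c2 : ∀ t, g * X 20 t * g⁻¹ = X 20 (cc 2 * t) := hc 2
  have c3 : ∀ t, g * X 21 t * g⁻¹ = X 21 (cc 3 * t) := hc 3
  simp only [← MulAut.conj_apply] at a0 a1 a2 a3 c0 c1 c2 c3 hz ⊢
  simp only [H, A, C, map_mul, a0, a1, a2, a3, c0, c1, c2, c3, hz, Pi.mul_apply]

end Cfsg.Agent.MinDegree.ThreeD4
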