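import Cfsg.Agent.Lib.MinDegree.ThreeD4Levi

/-!
A linear character of the special subgroup of `³D₄` fixed by the normalising copy of `SL₂(q³)` is trivial.
-/

set_option autoImplicit false
set_option maxRecDepth 4000

namespace Cfsg.Agent.MinDegree.ThreeD4

open Cfsg.Lie Cfsg.Agent.Chev Cfsg.Agent.Chev.BNSetup
open scoped MatrixGroups

variable {K : Type*} [Field K]

theorem C_single (v : K) : C ![v, 0, 0, 0] = X 22 v := by
  simp [C, X_zero (K := K) (show (17 : ℕ) < chevD4.nroots by decide +kernel),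
    X_zero (K := K) (show (20 : ℕ) < chevD4.nroots by decide +kernel),
    X_zero (K := K) (show (21 : ℕ) < chevD4.nroots by decide +kernel)]

theorem A_single (v : K) : A ![v, 0, 0, 0] = X 14 v := by
  simp [A, X_zero (K := K) (show (19 : ℕ) < chevD4.nroots by decide +kernel),
    X_zero (K := K) (show (16 : ℕ) < chevD4.nroots by decide +kernel),
    X_zero (K := K) (show (15 : ℕ) < chevD4.nroots by decide +kernel)]

theorem vec_add (φ : K ≃+* K) (ε : Fin 4 → K) (a a' t t' : K) :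
    vec φ ε (a + a') (t + t') = vec φ ε a t + vec φ ε a' t' := by
  funext i; fin_cases i <;> simp [vec, mul_add]

theorem vec_split (φ : K ≃+* K) (ε : Fin 4 → K) (a t : K) :
    vec φ ε a t = ![a, 0, 0, 0] + vec φ ε 0 t := by
  funext i; fin_cases i <;> simp [vec]

variable {φ : K ≃+* K} (hcube : ∀ x, φ (φ (φ x)) = x) (hmove : ∃ x, φ x ≠ x) {ε δ : Fin 4 → K}
  (hS : Signs φ ε δ) {π : SL(2, K) →* GL chevD4.Idx K} (hu : ∀ t, π (upperSL t) = Lp φ t)
  (hw : π flipSL = wL) (hh : ∀ t, π (hSL t) = hT φ t) (h2 : ∃ s : K, s ≠ 0 ∧ s ≠ 1)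
include hcube hmove hS hu hw hh h2

theorem fixed_trivial (F : GL chevD4.Idx K → ℂ)
    (hmul : ∀ x y, x ∈ GT φ → x ∈ Qamb → y ∈ GT φ → y ∈ Qamb → F (x * y) = F x * F y)
    (hz : ∀ t, φ t = t → F (X 23 t) = 1)
    (hinv : ∀ g x, x ∈ GT φ → x ∈ Qamb → F (π g * x * (π g)⁻¹) = F x) :
    ∀ x, x ∈ GT φ → x ∈ Qamb → F x = 1 := by
  have z := map_zero φ
  have h1 : F 1 = 1 := by
    have := hz 0 z
    rwa [X_zero (by decide +kernel)] at this
  have hne : ∀ x, x ∈ GT φ → x ∈ Qamb → F x ≠ 0 := by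
    intro x hx hx' h0
    have := hmul x x⁻¹ hx hx' (Subgroup.inv_mem _ hx) (Subgroup.inv_mem _ hx')
    rw [mul_inv_cancel, h1, h0, zero_mul] at this
    exact one_ne_zero this
  have mA : ∀ α, A α ∈ (Qamb : Subgroup (GL chevD4.Idx K)) := fun α =>
    ⟨α, 0, 0, by rw [H, C_zero, X_zero (by decide +kernel), mul_one, mul_one]⟩
  have mC : ∀ γ, C γ ∈ (Qamb : Subgroup (GL chevD4.Idx K)) := fun γ =>
    ⟨0, γ, 0, by rw [H, A_zero, X_zero (by decide +kernel), one_mul, mul_one]⟩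
  have gA : ∀ t, A (vec φ ε 0 t) ∈ GT φ := fun t => A_vec_mem hcube hS z t
  have gC : ∀ t, C (vec φ δ 0 t) ∈ GT φ := fun t => C_vec_mem hcube hS z t
  -- the part of the first outer orbit
  have hb : ∀ v, F (A (vec φ ε 0 v)) = 1 := by
    intro v
    obtain ⟨s, hs0, hs1⟩ := h2
    set μ := s * (φ s)⁻¹ * (φ (φ s))⁻¹ with hμ
    have hμ1 : μ - 1 ≠ 0 := by
      intro h
      have e1 : s = φ s * φ (φ s) := by
        have h' := sub_eq_zero.1 h
        rw [hμ, mul_assoc, ← mul_inv, ← div_eq_mul_inv, div_eq_one_iff_eq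
          (mul_ne_zero ((map_ne_zero φ).2 hs0) ((map_ne_zero φ).2 ((map_ne_zero φ).2 hs0)))] at h'
        exact h'
      have e2 : φ s = φ (φ s) * s := by
        have := congrArg φ e1
        rwa [map_mul, hcube] at this
      have e3 : s * (φ (φ s) * φ (φ s) - 1) = 0 := by linear_combination -e1 - φ (φ s) * e2
      have e4 := sub_eq_zero.1 ((mul_eq_zero.1 e3).resolve_left hs0)
      have e5 : φ (φ (φ s)) * φ (φ (φ s)) = 1 := by
        have := congrArg φ e4
        rwa [map_mul, map_one] at this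
      rw [hcube] at e5
      rw [map_sign φ e5, map_sign φ e5, e5] at e1
      exact hs1 e1
    set t := v * (μ - 1)⁻¹ with ht
    have e : μ * t = t + v := by
      rw [ht]; field_simp; ring
    have h := hinv (hSL s) _ (gA t) (mA _)
    rw [hh, hT_conj_A φ hcube ε hs0, ← hμ, e, show vec φ ε 0 (t + v) = vec φ ε 0 t + vec φ ε 0 v by
      rw [← vec_add, add_zero], ← A_add, hmul _ _ (gA t) (mA _) (gA v) (mA _)] at h
    exact mul_left_cancel₀ (hne _ (gA t) (mA _)) (h.trans (mul_one _).symm)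
  -- the part of the second outer orbit
  have hc : ∀ v, F (C (vec φ δ 0 v)) = 1 := by
    intro v
    have h := hinv flipSL _ (gA v) (mA _)
    rwa [hw, hS.conj_A, hb] at h
  -- the high singleton
  have hd : ∀ d, φ d = d → F (X 22 d) = 1 := by
    intro d hd
    let ℓ : K → K := fun s => -δ 1 * s + δ 2 * φ s + δ 3 * φ (φ s)
    have hL : ∀ s, Lp φ s * C (vec φ δ 0 1) * (Lp φ s)⁻¹ = C (vec φ δ 0 1) * X 22 (ℓ s) := by
      intro s
      rw [Lp_conj_C, ← C_add, C_single]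
      congr 2
      simp [ℓ, vec]
      ring
    have hfix : ∀ s, φ (ℓ s) = ℓ s := by
      intro s
      refine (X22_mem_iff hcube hS).1 ((Subgroup.mul_mem_cancel_left _ (gC 1)).1 ?_)
      rw [← hL]
      exact Subgroup.mul_mem _ (Subgroup.mul_mem _ (Lpm_mem hcube s).1 (gC 1))
        (Subgroup.inv_mem _ (Lpm_mem hcube s).1)
    obtain ⟨s₀, hs₀⟩ := exists_comb_ne hcube hmove (a := -δ 1) (b := δ 2) (c := δ 3)
      (Or.inl (neg_ne_zero.2 (left_ne_zero_of_mul_eq_one (hS.sq_δ 1))))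
    have hl : φ (d * (ℓ s₀)⁻¹) = d * (ℓ s₀)⁻¹ := by rw [map_mul, map_inv₀, hd, hfix]
    have he : ℓ (d * (ℓ s₀)⁻¹ * s₀) = d := by
      have e' : ℓ (d * (ℓ s₀)⁻¹ * s₀) = d * (ℓ s₀)⁻¹ * ℓ s₀ := by
        simp only [ℓ] at hl ⊢
        rw [map_mul, hl, map_mul, hl]
        ring
      rw [e', inv_mul_cancel_right₀ (show ℓ s₀ ≠ 0 from hs₀)]
    have h := hinv (upperSL (d * (ℓ s₀)⁻¹ * s₀)) _ (gC 1) (mC _)
    rw [hu, hL, he, hmul _ _ (gC 1) (mC _) (X22_mem hcube hS hd) (X_mem_Qamb (by simp) _), hc, one_mul] at h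
    exact h
  have ha : ∀ a, φ a = a → F (X 14 a) = 1 := by
    intro a ha
    have h := hinv flipSL _ (X14_mem φ ha) (X_mem_Qamb (by simp) _)
    rwa [hw, hS.conj_14, hd _ (by rw [map_mul, map_sign φ (hS.sq_ε 0), ha]), eq_comm] at h
  intro x hx hx'
  obtain ⟨α, γ, r, rfl⟩ := hx'
  obtain ⟨a, c, t, u, fa, fc, fr, rfl, rfl⟩ := exists_coords hcube hmove hS hx
  have q14 : X 14 a ∈ (Qamb : Subgroup (GL chevD4.Idx K)) := X_mem_Qamb (by simp) _
  have q22 : X 22 c ∈ (Qamb : Subgroup (GL chevD4.Idx K)) := X_mem_Qamb (by simp) _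
  rw [H, hmul _ _ (Subgroup.mul_mem _ (A_vec_mem hcube hS fa t) (C_vec_mem hcube hS fc u))
    (Subgroup.mul_mem _ (mA _) (mC _)) (X23_mem hcube hS fr) (X_mem_Qamb (by simp) _),
    hz r fr, hmul _ _ (A_vec_mem hcube hS fa t) (mA _) (C_vec_mem hcube hS fc u) (mC _),
    vec_split φ ε a t, vec_split φ δ c u, ← A_add, ← C_add, A_single, C_single,
    hmul _ _ (X14_mem φ fa) q14 (gA t) (mA _), hmul _ _ (X22_mem hcube hS fc) q22 (gC u) (mC _),
    ha a fa, hb, hd c fc, hc]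
  norm_num

end Cfsg.Agent.MinDegree.ThreeD4
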