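import Cfsg.Agent.Lib.MinDegree.ThreeD4Base
import Cfsg.Agent.Lib.Chev.TwistTorus
import Cfsg.Agent.Lib.Chev.SL2

/-!
Elements of `³D₄` inside and normalising its special subgroup.
-/

set_option autoImplicit false
set_option maxRecDepth 4000

namespace Cfsg.Agent.MinDegree.ThreeD4

open Cfsg.Lie Cfsg.Agent.Chev Cfsg.Agent.Chev.BNSetup
open scoped MatrixGroups

variable {K : Type*} [Field K] (φ : K ≃+* K)

/-- The twisted group. -/
noncomputable abbrev GT : Subgroup (GL chevD4.Idx K) := (tw3D4 φ).Gt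

/-- The positive orbit element of the outer nodes. -/
noncomputable def Lp (t : K) : GL chevD4.Idx K := X 18 t * X 13 (φ t) * X 12 (φ (φ t))

/-- The negative orbit element of the outer nodes. -/
noncomputable def Lm (t : K) : GL chevD4.Idx K := X 5 t * X 10 (φ t) * X 11 (φ (φ t))

/-- The element of the outer orbit inverting it. -/
noncomputable def wL : GL chevD4.Idx K :=
  ne' D4.good 18 1 * ne' D4.good 13 1 * ne' D4.good 12 1

/-- The element inverting the central node. -/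
noncomputable def n2 : GL chevD4.Idx K := ne' D4.good 14 1

/-- The vector of an outer orbit. -/
def vec (ε : Fin 4 → K) (a t : K) : Fin 4 → K := ![a, ε 1 * t, ε 2 * φ t, ε 3 * φ (φ t)]

section mem

variable {φ} (hcube : ∀ x, φ (φ (φ x)) = x)
include hcube

theorem compat_outer (t : K) : Compat graphD4 φ (orbD4.Jl 2 1)
    (fun k => if k = 0 then t else if k = 2 then φ t else φ (φ t)) := by
  intro k hk
  rw [show orbD4.Jl 2 1 = [0, 2, 3] from rfl] at hk
  simp only [List.mem_cons, List.not_mem_nil, or_false] at hk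
  rcases hk with rfl | rfl | rfl
  · rfl
  · rfl
  · exact (hcube t).symm

theorem Lpm_mem (t : K) : Lp φ t ∈ GT φ ∧ Lm φ t ∈ GT φ := by
  have h := pv_mem_Gt D4.good orbD4_ok φ facts_chevD4 negTri_chevD4 graphD4_cols 1 (compat_outer hcube t)
  rw [show orbD4.Jl 2 1 = [0, 2, 3] from rfl, pv, pv] at h
  simp only [List.map_cons, List.map_nil, List.prod_cons, List.prod_nil, mul_one, ← mul_assoc] at h
  exact h

theorem hT_mem (t : K) : he D4.good 18 t * he D4.good 13 (φ t) * he D4.good 12 (φ (φ t)) ∈ GT φ := by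
  have h := prod_he_mem_Gt D4.good orbD4_ok φ facts_chevD4 graphD4_cols negTri_chevD4 1 (compat_outer hcube t)
  rw [show orbD4.Jl 2 1 = [0, 2, 3] from rfl] at h
  simp only [List.map_cons, List.map_nil, List.prod_cons, List.prod_nil, mul_one, ← mul_assoc] at h
  exact h

theorem wL_mem : (wL : GL chevD4.Idx K) ∈ GT φ := by
  have h := prod_ne'_mem_Gt D4.good orbD4_ok φ facts_chevD4 graphD4_cols negTri_chevD4 1 (compat_outer hcube 1)
  rw [show orbD4.Jl 2 1 = [0, 2, 3] from rfl] at h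
  simp only [List.map_cons, List.map_nil, List.prod_cons, List.prod_nil, mul_one, ← mul_assoc, if_true,
    map_one] at h
  exact h

end mem

theorem X14_mem {t : K} (ht : φ t = t) : X 14 t ∈ GT φ := by
  have h := pv_mem_Gt D4.good orbD4_ok φ facts_chevD4 negTri_chevD4 graphD4_cols 0 (a := fun _ => t)
    fun _ _ => ht.symm
  rw [show orbD4.Jl 2 0 = [1] from rfl, pv, pv, List.map_singleton, List.map_singleton,
    List.prod_singleton, List.prod_singleton] at h
  exact h.1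

theorem he14_mem {t : K} (ht : φ t = t) : he D4.good 14 t ∈ GT φ := by
  have h := prod_he_mem_Gt D4.good orbD4_ok φ facts_chevD4 graphD4_cols negTri_chevD4 0 (a := fun _ => t)
    fun _ _ => ht.symm
  rw [show orbD4.Jl 2 0 = [1] from rfl, List.map_singleton, List.prod_singleton] at h
  exact h

theorem n2_mem : (n2 : GL chevD4.Idx K) ∈ GT φ := by
  have h := prod_ne'_mem_Gt D4.good orbD4_ok φ facts_chevD4 graphD4_cols negTri_chevD4 0 (a := fun _ => (1 : K))
    fun _ _ => (map_one φ).symm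
  rw [show orbD4.Jl 2 0 = [1] from rfl, List.map_singleton, List.prod_singleton] at h
  exact h

theorem map_sign {e : K} (he : e * e = 1) : φ e = e := by
  rcases mul_self_eq_one_iff.1 he with rfl | rfl <;> simp

theorem conj_simple (i : ℕ) {p s s' : ℕ} (h : i < chevD4.rank ∧ chevD4.simple i = p ∧ s < chevD4.nroots ∧
    chevD4.reflectRoot i s = s') :
    ∃ e : K, e * e = 1 ∧ ∀ t, ne' D4.good p 1 * X s t * (ne' D4.good p 1)⁻¹ = X s' (e * t) := by
  obtain ⟨hi, rfl, hs, rfl⟩ := h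
  obtain ⟨e, he, hc, -⟩ := exists_conj D4.good (F := K) hi hs
  exact ⟨e, he, hc⟩

theorem conj_wL {s s₁ s₂ s₃ : ℕ} (h : s < chevD4.nroots ∧ chevD4.reflectRoot 3 s = s₁ ∧
    s₁ < chevD4.nroots ∧ chevD4.reflectRoot 2 s₁ = s₂ ∧ s₂ < chevD4.nroots ∧ chevD4.reflectRoot 0 s₂ = s₃) :
    ∃ e : K, e * e = 1 ∧ ∀ t, wL * X s t * (wL : GL chevD4.Idx K)⁻¹ = X s₃ (e * t) := by
  obtain ⟨e₁, he₁, h₁⟩ := conj_simple (K := K) 3 (p := 12) (s := s) (s' := s₁)
    ⟨by decide +kernel, by decide +kernel, h.1, h.2.1⟩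
  obtain ⟨e₂, he₂, h₂⟩ := conj_simple (K := K) 2 (p := 13) (s := s₁) (s' := s₂)
    ⟨by decide +kernel, by decide +kernel, h.2.2.1, h.2.2.2.1⟩
  obtain ⟨e₃, he₃, h₃⟩ := conj_simple (K := K) 0 (p := 18) (s := s₂) (s' := s₃)
    ⟨by decide +kernel, by decide +kernel, h.2.2.2.2.1, h.2.2.2.2.2⟩
  refine ⟨e₃ * e₂ * e₁, by linear_combination e₂ * e₂ * (e₁ * e₁) * he₃ + e₁ * e₁ * he₂ + he₁, fun t => ?_⟩
  rw [mul_assoc e₃ e₂ e₁, mul_assoc e₃ (e₂ * e₁) t, mul_assoc e₂ e₁ t, ← h₃, ← h₂, ← h₁, wL]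
  group

/-- The signs of the conjugations relating the parts of the special subgroup. -/
structure Signs (ε δ : Fin 4 → K) : Prop where
  sq_ε : ∀ i, ε i * ε i = 1
  sq_δ : ∀ i, δ i * δ i = 1
  conj_Lp : ∀ t, n2 * Lp φ t * n2⁻¹ = A (vec φ ε 0 t)
  conj_A : ∀ t, wL * A (vec φ ε 0 t) * wL⁻¹ = C (vec φ δ 0 t)
  conj_14 : ∀ t, wL * X 14 t * (wL : GL chevD4.Idx K)⁻¹ = X 22 (ε 0 * t)
  conj_22 : ∀ t, n2 * X 22 t * (n2 : GL chevD4.Idx K)⁻¹ = X 23 (δ 0 * t)

theorem exists_signs : ∃ ε δ : Fin 4 → K, Signs φ ε δ := by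
  obtain ⟨e0, he0, h0⟩ := conj_wL (K := K) (s := 14) (s₁ := chevD4.reflectRoot 3 14)
    (s₂ := chevD4.reflectRoot 2 (chevD4.reflectRoot 3 14)) (s₃ := 22) (by decide +kernel)
  obtain ⟨e1, he1, h1⟩ := conj_simple (K := K) 1 (p := 14) (s := 18) (s' := 19) (by decide +kernel)
  obtain ⟨e2, he2, h2⟩ := conj_simple (K := K) 1 (p := 14) (s := 13) (s' := 16) (by decide +kernel)
  obtain ⟨e3, he3, h3⟩ := conj_simple (K := K) 1 (p := 14) (s := 12) (s' := 15) (by decide +kernel)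
  obtain ⟨f0, hf0, k0⟩ := conj_simple (K := K) 1 (p := 14) (s := 22) (s' := 23) (by decide +kernel)
  obtain ⟨f1, hf1, k1⟩ := conj_wL (K := K) (s := 19) (s₁ := chevD4.reflectRoot 3 19)
    (s₂ := chevD4.reflectRoot 2 (chevD4.reflectRoot 3 19)) (s₃ := 17) (by decide +kernel)
  obtain ⟨f2, hf2, k2⟩ := conj_wL (K := K) (s := 16) (s₁ := chevD4.reflectRoot 3 16)
    (s₂ := chevD4.reflectRoot 2 (chevD4.reflectRoot 3 16)) (s₃ := 20) (by decide +kernel)
  obtain ⟨f3, hf3, k3⟩ := conj_wL (K := K) (s := 15) (s₁ := chevD4.reflectRoot 3 15)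
    (s₂ := chevD4.reflectRoot 2 (chevD4.reflectRoot 3 15)) (s₃ := 21) (by decide +kernel)
  have hz : ∀ r, r < chevD4.nroots → X (K := K) r 0 = 1 := fun r h => X_zero h
  refine ⟨![e0, e1, e2, e3], ![f0, f1 * e1, f2 * e2, f3 * e3], ⟨?_, ?_, fun t => ?_, fun t => ?_, h0, k0⟩⟩
  · intro i; fin_cases i <;> assumption
  · have p : ∀ {a b : K}, a * a = 1 → b * b = 1 → a * b * (a * b) = 1 := fun ha hb => by
      rw [mul_mul_mul_comm, ha, hb, one_mul]
    intro i
    fin_cases i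
    exacts [hf0, p hf1 he1, p hf2 he2, p hf3 he3]
  · simp only [← MulAut.conj_apply] at h1 h2 h3 ⊢
    simp only [Lp, A, vec, Matrix.cons_val, map_mul, n2, h1, h2, h3, hz 14 (by decide +kernel), one_mul]
  · simp only [← MulAut.conj_apply] at k1 k2 k3 ⊢
    simp only [A, C, vec, Matrix.cons_val, map_mul, hz 14 (by decide +kernel), hz 22 (by decide +kernel),
      one_mul, k1, k2, k3, mul_assoc]

theorem fix_of_mem {r : ℕ} (h : r < chevD4.nroots ∧ graphD4.rho.getD r 0 = r) (h1 : X r 1 ∈ GT φ) {t : K}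
    (ht : X r t ∈ GT φ) : φ t = t := by
  obtain ⟨e, -, he⟩ := GraphTab.exists_aut_xe D4.good facts_chevD4 orbD4_ok.1 graphD4_cols φ h.1
  have fix : ∀ s, X r s ∈ GT φ → e * φ s = s := by
    intro s hs
    have e1 := RootBN.Twist.mem_Fix.1 (RootBN.Twist.Gt_le_Fix hs)
    rw [show (tw3D4 φ).σ (X r s) = X r (e * φ s) from (he s).trans (by rw [h.2])] at e1
    exact X_inj h.1 e1
  have := fix 1 h1
  rw [map_one, mul_one] at this
  simpa [this] using fix t ht

section mem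

variable {φ} {ε δ : Fin 4 → K} (hcube : ∀ x, φ (φ (φ x)) = x) (hS : Signs φ ε δ)
include hcube hS

theorem A_vec_mem {a : K} (ha : φ a = a) (t : K) : A (vec φ ε a t) ∈ GT φ := by
  have h1 : A (vec φ ε 0 t) ∈ GT φ := by
    rw [← hS.conj_Lp]
    exact Subgroup.mul_mem _ (Subgroup.mul_mem _ (n2_mem φ) (Lpm_mem hcube t).1)
      (Subgroup.inv_mem _ (n2_mem φ))
  have e : vec φ ε a t = ![a, 0, 0, 0] + vec φ ε 0 t := by
    funext i; fin_cases i <;> simp [vec]
  rw [e, ← A_add]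
  refine Subgroup.mul_mem _ ?_ h1
  simpa [A, X_zero (K := K) (show (19 : ℕ) < chevD4.nroots by decide +kernel),
    X_zero (K := K) (show (16 : ℕ) < chevD4.nroots by decide +kernel),
    X_zero (K := K) (show (15 : ℕ) < chevD4.nroots by decide +kernel)] using X14_mem φ ha

theorem X22_mem {t : K} (ht : φ t = t) : X 22 t ∈ GT φ := by
  have h := Subgroup.mul_mem _ (Subgroup.mul_mem _ (wL_mem hcube)
    (X14_mem φ (t := ε 0 * t) (by rw [map_mul, map_sign φ (hS.sq_ε 0), ht])))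
    (Subgroup.inv_mem _ (wL_mem hcube))
  rwa [hS.conj_14, ← mul_assoc, hS.sq_ε 0, one_mul] at h

theorem X23_mem {t : K} (ht : φ t = t) : X 23 t ∈ GT φ := by
  have h := Subgroup.mul_mem _ (Subgroup.mul_mem _ (n2_mem φ)
    (X22_mem hcube hS (t := δ 0 * t) (by rw [map_mul, map_sign φ (hS.sq_δ 0), ht])))
    (Subgroup.inv_mem _ (n2_mem φ))
  rwa [hS.conj_22, ← mul_assoc, hS.sq_δ 0, one_mul] at h

theorem X23_mem_iff {t : K} : X 23 t ∈ GT φ ↔ φ t = t :=
  ⟨fix_of_mem φ (by decide +kernel) (X23_mem hcube hS (map_one φ)), X23_mem hcube hS⟩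

theorem X22_mem_iff {t : K} : X 22 t ∈ GT φ ↔ φ t = t :=
  ⟨fix_of_mem φ (by decide +kernel) (X22_mem hcube hS (map_one φ)), X22_mem hcube hS⟩

theorem C_vec_mem {a : K} (ha : φ a = a) (t : K) : C (vec φ δ a t) ∈ GT φ := by
  have h1 : C (vec φ δ 0 t) ∈ GT φ := by
    rw [← hS.conj_A]
    exact Subgroup.mul_mem _ (Subgroup.mul_mem _ (wL_mem hcube) (A_vec_mem hcube hS (map_zero φ) t))
      (Subgroup.inv_mem _ (wL_mem hcube))
  have e : vec φ δ a t = ![a, 0, 0, 0] + vec φ δ 0 t := by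
    funext i; fin_cases i <;> simp [vec]
  rw [e, ← C_add]
  refine Subgroup.mul_mem _ ?_ h1
  simpa [C, X_zero (K := K) (show (17 : ℕ) < chevD4.nroots by decide +kernel),
    X_zero (K := K) (show (20 : ℕ) < chevD4.nroots by decide +kernel),
    X_zero (K := K) (show (21 : ℕ) < chevD4.nroots by decide +kernel)] using X22_mem hcube hS ha

theorem H_vec_mem {a c r : K} (ha : φ a = a) (hc : φ c = c) (hr : φ r = r) (t u : K) :
    H (vec φ ε a t) (vec φ δ c u) r ∈ GT φ :=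
  Subgroup.mul_mem _ (Subgroup.mul_mem _ (A_vec_mem hcube hS ha t) (C_vec_mem hcube hS hc u))
    (X23_mem hcube hS hr)

end mem

/-! ### Scalars and tori -/

theorem conj_he (i : ℕ) {p r : ℕ} {n : ℤ} (h : i < chevD4.rank ∧ chevD4.simple i = p ∧
    r < chevD4.nroots ∧ chevD4.cartan i r = n) {a : K} (ha : a ≠ 0) (t : K) :
    he D4.good p a * X r t * (he D4.good p a)⁻¹ = X r (a ^ n * t) := by
  obtain ⟨hi, rfl, hr, rfl⟩ := h
  rw [mul_inv_eq_iff_eq_mul]
  exact he_conj_xe D4.good hi hr ha t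

/-- The scalar element. -/
noncomputable def hS' (c : K) : GL chevD4.Idx K :=
  he D4.good 18 c * he D4.good 13 c * he D4.good 12 c * (he D4.good 14 c * he D4.good 14 c)

/-- The torus element of the outer orbit. -/
noncomputable def hT (s : K) : GL chevD4.Idx K :=
  he D4.good 18 s * he D4.good 13 (φ s) * he D4.good 12 (φ (φ s))

theorem conj_hS' {r : ℕ} {n : ℤ} (h : r < chevD4.nroots ∧ chevD4.cartan 0 r + chevD4.cartan 2 r +
    chevD4.cartan 3 r + chevD4.cartan 1 r + chevD4.cartan 1 r = n)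
    {c : K} (hc : c ≠ 0) (t : K) : hS' c * X r t * (hS' c)⁻¹ = X r (c ^ n * t) := by
  obtain ⟨hr, rfl⟩ := h
  have k0 := conj_he (K := K) 0 (p := 18) ⟨by decide +kernel, by decide +kernel, hr, rfl⟩ hc
  have k1 := conj_he (K := K) 1 (p := 14) ⟨by decide +kernel, by decide +kernel, hr, rfl⟩ hc
  have k2 := conj_he (K := K) 2 (p := 13) ⟨by decide +kernel, by decide +kernel, hr, rfl⟩ hc
  have k3 := conj_he (K := K) 3 (p := 12) ⟨by decide +kernel, by decide +kernel, hr, rfl⟩ hc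
  simp only [← MulAut.conj_apply] at k0 k1 k2 k3 ⊢
  simp only [hS', map_mul, MulAut.mul_apply, k0, k1, k2, k3]
  simp only [← mul_assoc, ← zpow_add₀ hc, add_assoc]

theorem hS'_mem {c : K} (hc : φ c = c) : hS' c ∈ GT φ := by
  refine Subgroup.mul_mem _ ?_ (Subgroup.mul_mem _ (he14_mem φ hc) (he14_mem φ hc))
  have h := prod_he_mem_Gt D4.good orbD4_ok φ facts_chevD4 graphD4_cols negTri_chevD4 1 (a := fun _ => c)
    fun _ _ => hc.symm
  rw [show orbD4.Jl 2 1 = [0, 2, 3] from rfl] at h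
  simp only [List.map_cons, List.map_nil, List.prod_cons, List.prod_nil, mul_one, ← mul_assoc] at h
  exact h

theorem hS'_conj_H {c : K} (hc : c ≠ 0) (α γ : Fin 4 → K) (r : K) :
    hS' c * H α γ r * (hS' c)⁻¹ = H (c • α) (c • γ) (c ^ 2 * r) := by
  rw [conj_H (g := hS' c) (fun _ => c) (fun _ => c) (c ^ 2) ?_ ?_ ?_ α γ r]
  · rfl
  · intro i t
    fin_cases i <;> exact (conj_hS' (n := 1) (by decide +kernel) hc t).trans (by rw [zpow_one])
  · intro i t
    fin_cases i <;> exact (conj_hS' (n := 1) (by decide +kernel) hc t).trans (by rw [zpow_one])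
  · intro t
    exact (conj_hS' (r := 23) (n := 2) (by decide +kernel) hc t).trans (by norm_cast)

theorem hS'_commute {c : K} (hc : c ≠ 0) (t : K) : Commute (hS' c) (Lp φ t) ∧ Commute (hS' c) (Lm φ t) := by
  have k : ∀ r ∈ [18, 13, 12, 5, 10, 11], ∀ s : K, Commute (hS' c) (X r s) := by
    intro r hr s
    simp only [List.mem_cons, List.not_mem_nil, or_false] at hr
    rcases hr with rfl | rfl | rfl | rfl | rfl | rfl <;>
      exact mul_inv_eq_iff_eq_mul.1
        ((conj_hS' (n := 0) (by decide +kernel) hc s).trans (by rw [zpow_zero, one_mul]))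
  exact ⟨((k 18 (by simp) _).mul_right (k 13 (by simp) _)).mul_right (k 12 (by simp) _),
    ((k 5 (by simp) _).mul_right (k 10 (by simp) _)).mul_right (k 11 (by simp) _)⟩

theorem conj_hT {r : ℕ} {n₀ n₂ n₃ : ℤ} (h : r < chevD4.nroots ∧ chevD4.cartan 0 r = n₀ ∧
    chevD4.cartan 2 r = n₂ ∧ chevD4.cartan 3 r = n₃) {s : K} (hs : s ≠ 0) (t : K) :
    hT φ s * X r t * (hT φ s)⁻¹ = X r (s ^ n₀ * φ s ^ n₂ * φ (φ s) ^ n₃ * t) := by
  obtain ⟨hr, h0, h2, h3⟩ := h
  have k0 := conj_he (K := K) 0 (p := 18) ⟨by decide +kernel, by decide +kernel, hr, h0⟩ hs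
  have k2 := conj_he (K := K) 2 (p := 13) ⟨by decide +kernel, by decide +kernel, hr, h2⟩
    ((map_ne_zero φ).2 hs)
  have k3 := conj_he (K := K) 3 (p := 12) ⟨by decide +kernel, by decide +kernel, hr, h3⟩
    ((map_ne_zero φ).2 ((map_ne_zero φ).2 hs))
  simp only [← MulAut.conj_apply] at k0 k2 k3 ⊢
  simp only [hT, map_mul, MulAut.mul_apply, k0, k2, k3, mul_assoc]

theorem hT_conj_A (hcube : ∀ x, φ (φ (φ x)) = x) (ε : Fin 4 → K) {s : K} (hs : s ≠ 0) (t : K) :
    hT φ s * A (vec φ ε 0 t) * (hT φ s)⁻¹ = A (vec φ ε 0 (s * (φ s)⁻¹ * (φ (φ s))⁻¹ * t)) := by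
  have a1 := conj_hT φ (r := 19) (n₀ := 1) (n₂ := -1) (n₃ := -1) (by decide +kernel) hs
  have a2 := conj_hT φ (r := 16) (n₀ := -1) (n₂ := 1) (n₃ := -1) (by decide +kernel) hs
  have a3 := conj_hT φ (r := 15) (n₀ := -1) (n₂ := -1) (n₃ := 1) (by decide +kernel) hs
  have hz : X (K := K) 14 0 = 1 := X_zero (by decide +kernel)
  simp only [← MulAut.conj_apply] at a1 a2 a3 ⊢
  simp only [A, vec, Matrix.cons_val, map_mul, hz, one_mul, a1, a2, a3, zpow_one, zpow_neg,
    map_inv₀, hcube]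
  refine congrArg₂ (· * ·) (congrArg₂ (· * ·) (congrArg _ ?_) (congrArg _ ?_)) (congrArg _ ?_) <;> ring

end Cfsg.Agent.MinDegree.ThreeD4
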