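import Cfsg.Agent.Lib.MinDegree.ThreeD4Special

/-!
The copy of `SL₂(q³)` normalising the special subgroup of `³D₄`, and the linear characters of the
special subgroup fixed by it.
-/

set_option autoImplicit false
set_option maxRecDepth 4000

namespace Cfsg.Agent.MinDegree.ThreeD4

open Cfsg.Lie Cfsg.Agent.Chev Cfsg.Agent.Chev.BNSetup
open scoped MatrixGroups

variable {K : Type*} [Field K]

/-- The element inverting the torus, with a parameter. -/
noncomputable def nSL (t : K) : SL(2, K) := upperSL t * lowerSL (-t⁻¹) * upperSL t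

/-- The torus element as a word. -/
noncomputable def hSL (t : K) : SL(2, K) := nSL t * nSL (-1)

theorem flipSL_eq : (flipSL : SL(2, K)) = nSL 1 := by
  apply Subtype.ext
  simp only [nSL, Matrix.SpecialLinearGroup.coe_mul, inv_one, coe_upperSL, coe_lowerSL, coe_flipSL]
  ext i j; fin_cases i <;> fin_cases j <;> simp [Matrix.mul_apply, Fin.sum_univ_two]

theorem sl_le {S : Subgroup SL(2, K)} (hu : ∀ t, upperSL t ∈ S) (hl : ∀ t, lowerSL t ∈ S) (g : SL(2, K)) :
    g ∈ S := by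
  refine (Subgroup.closure_le S).2 ?_ (eq_upper_torus_lower g)
  rintro x (⟨t, rfl⟩ | hx)
  · exact hu t
  · rw [Set.mem_singleton_iff.1 hx, flipSL_eq]
    exact S.mul_mem (S.mul_mem (hu 1) (hl _)) (hu 1)

variable (φ : K ≃+* K)

theorem map_upperSL (t : K) :
    Matrix.SpecialLinearGroup.map (φ : K →+* K) (upperSL t) = upperSL (φ t) := by
  apply Subtype.ext
  ext i j; fin_cases i <;> fin_cases j <;> simp [coe_upperSL]

theorem map_lowerSL (t : K) :
    Matrix.SpecialLinearGroup.map (φ : K →+* K) (lowerSL t) = lowerSL (φ t) := by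
  apply Subtype.ext
  ext i j; fin_cases i <;> fin_cases j <;> simp [coe_lowerSL]

theorem map_nSL (t : K) : Matrix.SpecialLinearGroup.map (φ : K →+* K) (nSL t) = nSL (φ t) := by
  rw [nSL, nSL, map_mul, map_mul, map_upperSL, map_lowerSL, map_neg, map_inv₀]

theorem exists_levi : ∃ π : SL(2, K) →* GL chevD4.Idx K, (∀ t, π (upperSL t) = Lp φ t) ∧
    (∀ t, π (lowerSL t) = Lm φ t) ∧ π flipSL = wL ∧ ∀ t, π (hSL t) = hT φ t := by
  obtain ⟨f₁, u₁, l₁⟩ := D4.good.exists_sl2_hom (F := K) (show (18 : ℕ) < chevD4.nroots by decide +kernel)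
  obtain ⟨f₂, u₂, l₂⟩ := D4.good.exists_sl2_hom (F := K) (show (13 : ℕ) < chevD4.nroots by decide +kernel)
  obtain ⟨f₃, u₃, l₃⟩ := D4.good.exists_sl2_hom (F := K) (show (12 : ℕ) < chevD4.nroots by decide +kernel)
  rw [show chevD4.neg 18 = 5 by decide +kernel] at l₁
  rw [show chevD4.neg 13 = 10 by decide +kernel] at l₂
  rw [show chevD4.neg 12 = 11 by decide +kernel] at l₃
  simp only [xg_eq_xe D4.good] at u₁ u₂ u₃ l₁ l₂ l₃
  have comm : ∀ (f g : SL(2, K) →* GL chevD4.Idx K) (r r' s s' : ℕ), (∀ t, f (upperSL t) = X r t) →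
      (∀ t, f (lowerSL t) = X r' t) → (∀ t, g (upperSL t) = X s t) → (∀ t, g (lowerSL t) = X s' t) →
      (∀ a ∈ [r, r'], ∀ b ∈ [s, s'], a < chevD4.nroots ∧ b < chevD4.nroots ∧
        (b = a ∨ (b ≠ chevD4.neg a ∧ chevD4.commTerms a b = []))) →
      ∀ x y, Commute (f x) (g y) := by
    intro f g r r' s s' hr hr' hs hs' h x
    have h1 : ∀ a ∈ [r, r'], ∀ t, ∀ y, Commute (X a t) (g y) := by
      intro a ha t y
      refine Subgroup.mem_centralizer_singleton_iff.1 (sl_le
        (S := (Subgroup.centralizer {X a t}).comap g) (fun u => ?_) (fun u => ?_) y) |>.symm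
      · exact Subgroup.mem_centralizer_singleton_iff.2 (by rw [hs]; exact (X_commute (h a ha s (by simp)) t u).eq.symm)
      · exact Subgroup.mem_centralizer_singleton_iff.2 (by rw [hs']; exact (X_commute (h a ha s' (by simp)) t u).eq.symm)
    intro y
    refine Subgroup.mem_centralizer_singleton_iff.1 (sl_le
      (S := (Subgroup.centralizer {g y}).comap f) (fun u => ?_) (fun u => ?_) x)
    · exact Subgroup.mem_centralizer_singleton_iff.2 (by rw [hr]; exact (h1 r (by simp) u y).eq)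
    · exact Subgroup.mem_centralizer_singleton_iff.2 (by rw [hr']; exact (h1 r' (by simp) u y).eq)
  have c12 := comm f₁ f₂ _ _ _ _ u₁ l₁ u₂ l₂ (by decide +kernel)
  have c13 := comm f₁ f₃ _ _ _ _ u₁ l₁ u₃ l₃ (by decide +kernel)
  have c23 := comm f₂ f₃ _ _ _ _ u₂ l₂ u₃ l₃ (by decide +kernel)
  let m : SL(2, K) →* SL(2, K) := Matrix.SpecialLinearGroup.map (φ : K →+* K)
  let π : SL(2, K) →* GL chevD4.Idx K :=
    { toFun := fun g => f₁ g * f₂ (m g) * f₃ (m (m g))
      map_one' := by simp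
      map_mul' := fun g h => by
        simp only [map_mul]
        calc f₁ g * f₁ h * (f₂ (m g) * f₂ (m h)) * (f₃ (m (m g)) * f₃ (m (m h)))
            = f₁ g * (f₁ h * f₂ (m g)) * (f₂ (m h) * f₃ (m (m g))) * f₃ (m (m h)) := by simp only [mul_assoc]
          _ = f₁ g * f₂ (m g) * (f₁ h * f₃ (m (m g))) * f₂ (m h) * f₃ (m (m h)) := by
              rw [(c12 h (m g)).eq, (c23 (m h) (m (m g))).eq]; simp only [mul_assoc]
          _ = _ := by rw [(c13 h (m (m g))).eq]; simp only [mul_assoc] }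
  have n₁ : ∀ t, f₁ (nSL t) = ne' D4.good 18 t := fun t => by
    rw [nSL, map_mul, map_mul, u₁, l₁]; rfl
  have n₂ : ∀ t, f₂ (nSL t) = ne' D4.good 13 t := fun t => by
    rw [nSL, map_mul, map_mul, u₂, l₂]; rfl
  have n₃ : ∀ t, f₃ (nSL t) = ne' D4.good 12 t := fun t => by
    rw [nSL, map_mul, map_mul, u₃, l₃]; rfl
  refine ⟨π, fun t => ?_, fun t => ?_, ?_, fun t => ?_⟩
  · show f₁ _ * f₂ (m _) * f₃ (m (m _)) = _
    simp only [m, map_upperSL, u₁, u₂, u₃]; rfl
  · show f₁ _ * f₂ (m _) * f₃ (m (m _)) = _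
    simp only [m, map_lowerSL, l₁, l₂, l₃]; rfl
  · show f₁ _ * f₂ (m _) * f₃ (m (m _)) = _
    simp only [m, flipSL_eq, map_nSL, map_one, n₁, n₂, n₃]; rfl
  · show f₁ _ * f₂ (m _) * f₃ (m (m _)) = _
    simp only [m, hSL, map_mul, map_nSL, map_neg, map_one, n₁, n₂, n₃]
    rfl

/-- The roots of the special subgroup. -/
def qRoots : List ℕ := [14, 19, 16, 15, 22, 17, 20, 21, 23]

theorem conj_X_mem {l : ℕ} (hl : l ∈ [18, 13, 12, 5, 10, 11]) {r : ℕ} (hr : r ∈ qRoots) (s u : K) :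
    X l s * X r u * (X l s)⁻¹ ∈ (Qamb : Subgroup (GL chevD4.Idx K)) := by
  have h : ∀ l ∈ [18, 13, 12, 5, 10, 11], ∀ r ∈ qRoots, l < chevD4.nroots ∧ r < chevD4.nroots ∧
      r ≠ l ∧ r ≠ chevD4.neg l ∧ ∀ c ∈ chevD4.commTerms l r, c.1 ∈ qRoots := by decide +kernel
  obtain ⟨h1, h2, h3, h4, h5⟩ := h l hl r hr
  have e := D4.good.xg_comm (F := K) h1 h2 h3 h4 (-s) u
  rw [xg_eq_xe D4.good, xg_eq_xe D4.good] at e
  have e2 : X l s * X r u * (X l s)⁻¹ = X r u * wordG chevD4 K (chevD4.commWord K l r (-s) u) := by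
    rw [show (X l s : GL chevD4.Idx K)⁻¹ = X l (-s) from xe_inv D4.good h1 s, mul_assoc, e, ← mul_assoc,
      ← mul_assoc, X_add h1, add_neg_cancel, X_zero h1, one_mul]
  rw [e2]
  refine Subgroup.mul_mem _ (X_mem_Qamb hr u) (Subgroup.list_prod_mem _ fun x hx => ?_)
  obtain ⟨p, hp, rfl⟩ := List.mem_map.1 hx
  obtain ⟨c, hc, rfl⟩ := List.mem_map.1 hp
  rw [xg_eq_xe D4.good]
  exact X_mem_Qamb (h5 c hc) _

theorem conj_H_mem {g : GL chevD4.Idx K}
    (h : ∀ r ∈ qRoots, ∀ u, g * X r u * g⁻¹ ∈ (Qamb : Subgroup (GL chevD4.Idx K))) {x : GL chevD4.Idx K}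
    (hx : x ∈ (Qamb : Subgroup (GL chevD4.Idx K))) : g * x * g⁻¹ ∈ (Qamb : Subgroup (GL chevD4.Idx K)) := by
  obtain ⟨α, γ, r, rfl⟩ := hx
  simp only [← MulAut.conj_apply] at h ⊢
  simp only [H, A, C, map_mul]
  have k : ∀ (r : ℕ) (u : K), r ∈ qRoots → MulAut.conj g (X r u) ∈ (Qamb : Subgroup (GL chevD4.Idx K)) :=
    fun r u hr => h r hr u
  refine Subgroup.mul_mem _ (Subgroup.mul_mem _ ?_ ?_) (k 23 r (by simp [qRoots]))
  · exact Subgroup.mul_mem _ (Subgroup.mul_mem _ (Subgroup.mul_mem _ (k 14 _ (by simp [qRoots]))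
      (k 19 _ (by simp [qRoots]))) (k 16 _ (by simp [qRoots]))) (k 15 _ (by simp [qRoots]))
  · exact Subgroup.mul_mem _ (Subgroup.mul_mem _ (Subgroup.mul_mem _ (k 22 _ (by simp [qRoots]))
      (k 17 _ (by simp [qRoots]))) (k 20 _ (by simp [qRoots]))) (k 21 _ (by simp [qRoots]))

theorem levi_facts (hcube : ∀ x, φ (φ (φ x)) = x) {π : SL(2, K) →* GL chevD4.Idx K}
    (hu : ∀ t, π (upperSL t) = Lp φ t) (hl : ∀ t, π (lowerSL t) = Lm φ t) (g : SL(2, K)) :
    π g ∈ GT φ ∧ (∀ x ∈ (Qamb : Subgroup (GL chevD4.Idx K)), π g * x * (π g)⁻¹ ∈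
      (Qamb : Subgroup (GL chevD4.Idx K))) ∧ (∀ u, Commute (π g) (X 23 u)) ∧
      ∀ c : K, c ≠ 0 → Commute (hS' c) (π g) := by
  refine ⟨sl_le (S := (GT φ).comap π) (fun t => by rw [Subgroup.mem_comap, hu]; exact (Lpm_mem hcube t).1)
    (fun t => by rw [Subgroup.mem_comap, hl]; exact (Lpm_mem hcube t).2) g, ?_, fun u => ?_, fun c hc => ?_⟩
  · have hX : ∀ l ∈ [18, 13, 12, 5, 10, 11], ∀ s : K,
        X l s ∈ Subgroup.normalizer ((Qamb : Subgroup (GL chevD4.Idx K)) : Set (GL chevD4.Idx K)) := by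
      intro l hl s
      refine Subgroup.mem_normalizer_iff.2 fun x => ⟨conj_H_mem fun r hr u => conj_X_mem hl hr s u, fun hx => ?_⟩
      have h1 := conj_H_mem (g := X l (-s)) (fun r hr u => conj_X_mem hl hr (-s) u) hx
      have hlt : l < chevD4.nroots := by
        have : ∀ l ∈ [18, 13, 12, 5, 10, 11], l < chevD4.nroots := by decide +kernel
        exact this l hl
      rw [show X l (-s) = (X l s : GL chevD4.Idx K)⁻¹ from (xe_inv D4.good hlt s).symm] at h1
      simpa [mul_assoc] using h1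
    exact fun x hx => (Subgroup.mem_normalizer_iff.1 (sl_le
      (S := (Subgroup.normalizer ((Qamb : Subgroup (GL chevD4.Idx K)) : Set (GL chevD4.Idx K))).comap π)
      (fun t => by
        rw [Subgroup.mem_comap, hu]
        exact Subgroup.mul_mem _ (Subgroup.mul_mem _ (hX 18 (by simp) _) (hX 13 (by simp) _)) (hX 12 (by simp) _))
      (fun t => by
        rw [Subgroup.mem_comap, hl]
        exact Subgroup.mul_mem _ (Subgroup.mul_mem _ (hX 5 (by simp) _) (hX 10 (by simp) _)) (hX 11 (by simp) _))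
      g) x).1 hx
  · refine Subgroup.mem_centralizer_singleton_iff.1 (sl_le
      (S := (Subgroup.centralizer {X 23 u}).comap π) (fun t => ?_) (fun t => ?_) g)
    · rw [Subgroup.mem_comap, hu]
      exact Subgroup.mem_centralizer_singleton_iff.2 (((X_commute (by decide +kernel) _ _).mul_left
        (X_commute (by decide +kernel) _ _)).mul_left (X_commute (by decide +kernel) _ _))
    · rw [Subgroup.mem_comap, hl]
      exact Subgroup.mem_centralizer_singleton_iff.2 (((X_commute (by decide +kernel) _ _).mul_left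
        (X_commute (by decide +kernel) _ _)).mul_left (X_commute (by decide +kernel) _ _))
  · refine (Subgroup.mem_centralizer_singleton_iff.1 (sl_le
      (S := (Subgroup.centralizer {hS' c}).comap π) (fun t => ?_) (fun t => ?_) g)).symm
    · rw [Subgroup.mem_comap, hu]
      exact Subgroup.mem_centralizer_singleton_iff.2 (hS'_commute φ hc t).1.symm
    · rw [Subgroup.mem_comap, hl]
      exact Subgroup.mem_centralizer_singleton_iff.2 (hS'_commute φ hc t).2.symm

theorem Lp_conj_C (s : K) (γ : Fin 4 → K) :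
    Lp φ s * C γ * (Lp φ s)⁻¹ =
      C (γ + ![-(s * γ 1) + φ s * γ 2 + φ (φ s) * γ 3, 0, 0, 0]) := by
  have e22 : ∀ v : K, C ![v, 0, 0, 0] = X 22 v := fun v => by
    simp [C, X_zero (K := K) (show (17 : ℕ) < chevD4.nroots by decide +kernel),
      X_zero (K := K) (show (20 : ℕ) < chevD4.nroots by decide +kernel),
      X_zero (K := K) (show (21 : ℕ) < chevD4.nroots by decide +kernel)]
  have one : ∀ (l r : ℕ) (m : ℤ) (a u : K), (l < chevD4.nroots ∧ r < chevD4.nroots ∧ r ≠ l ∧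
      r ≠ chevD4.neg l ∧ chevD4.commTerms l r = [(22, m, 1, 1)]) →
      X l a * X r u * (X l a)⁻¹ = X r u * X 22 ((m : K) * a * u) := by
    intro l r m a u h
    have h1 := X_swap h (-a) u
    rw [neg_neg] at h1
    rw [show (X l a : GL chevD4.Idx K)⁻¹ = X l (-a) from xe_inv D4.good h.1 a, mul_assoc, h1, ← mul_assoc,
      ← mul_assoc, X_add h.1, add_neg_cancel, X_zero h.1, one_mul]
  have step : ∀ (g : GL chevD4.Idx K) (i : Fin 4) (v : K),
      (∀ j, j ≠ i → ∀ u, g * X (rc j) u * g⁻¹ = X (rc j) u) →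
      (∀ u, g * X (rc i) u * g⁻¹ = X (rc i) u * X 22 (v * u)) → i ≠ 0 →
      ∀ γ, g * C γ * g⁻¹ = C (γ + ![v * γ i, 0, 0, 0]) := by
    intro g i v hj hi hi0 γ
    rw [← C_add, e22]
    simp only [← MulAut.conj_apply] at hj hi ⊢
    have q0 := hj 0 (Ne.symm hi0) (γ 0)
    have cm : ∀ (r : Fin 4) u, Commute (X 22 (v * γ i)) (X (rc r) u) := fun r u => by
      fin_cases r <;> exact X_commute (by decide +kernel) _ _
    obtain rfl | rfl | rfl := (show ∀ i : Fin 4, i ≠ 0 → i = 1 ∨ i = 2 ∨ i = 3 by decide) i hi0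
    · have q1 := hi (γ 1); have q2 := hj 2 (by decide) (γ 2); have q3 := hj 3 (by decide) (γ 3)
      have c2 := cm 2 (γ 2); have c3 := cm 3 (γ 3)
      simp only [rc, Matrix.cons_val] at q0 q1 q2 q3 c2 c3 ⊢
      simp only [C, map_mul, q0, q1, q2, q3, mul_assoc]
      rw [← mul_assoc (X 22 _) (X 20 _), c2.eq, mul_assoc, c3.eq]
    · have q1 := hj 1 (by decide) (γ 1); have q2 := hi (γ 2); have q3 := hj 3 (by decide) (γ 3)
      have c3 := cm 3 (γ 3)
      simp only [rc, Matrix.cons_val] at q0 q1 q2 q3 c3 ⊢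
      simp only [C, map_mul, q0, q1, q2, q3, mul_assoc]
      rw [c3.eq]
    · have q1 := hj 1 (by decide) (γ 1); have q2 := hj 2 (by decide) (γ 2); have q3 := hi (γ 3)
      simp only [rc, Matrix.cons_val] at q0 q1 q2 q3 ⊢
      simp only [C, map_mul, q0, q1, q2, q3, mul_assoc]
  have k12 := step (X 12 (φ (φ s))) 3 (φ (φ s))
    (fun j hj u => by
      fin_cases j <;> first
        | exact absurd rfl hj
        | exact mul_inv_eq_iff_eq_mul.2 (X_commute (by decide +kernel) _ _).eq)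
    (fun u => (one 12 21 1 _ u (by decide +kernel)).trans (by simp [rc])) (by decide)
  have k13 := step (X 13 (φ s)) 2 (φ s)
    (fun j hj u => by
      fin_cases j <;> first
        | exact absurd rfl hj
        | exact mul_inv_eq_iff_eq_mul.2 (X_commute (by decide +kernel) _ _).eq)
    (fun u => (one 13 20 1 _ u (by decide +kernel)).trans (by simp [rc])) (by decide)
  have k18 := step (X 18 s) 1 (-s)
    (fun j hj u => by
      fin_cases j <;> first
        | exact absurd rfl hj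
        | exact mul_inv_eq_iff_eq_mul.2 (X_commute (by decide +kernel) _ _).eq)
    (fun u => (one 18 17 (-1) _ u (by decide +kernel)).trans (by simp [rc])) (by decide)
  simp only [← MulAut.conj_apply] at k12 k13 k18 ⊢
  simp only [Lp, map_mul, MulAut.mul_apply, k12, k13, k18]
  congr 1
  funext i
  simp only [Pi.add_apply]
  fin_cases i <;> simp
  ring

end Cfsg.Agent.MinDegree.ThreeD4
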