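import Cfsg.Agent.Lib.MinDegree.Heisenberg
import Cfsg.Agent.Lib.MinDegree.ThreeD4Char
import Cfsg.Agent.Lib.Chev.TwistSimpleD4
import Cfsg.Agent.Lib.Chev.TwistOrderD4
import Cfsg.Agent.Lib.PSL2.DicksonOrders
import Cfsg.Agent.Lib.CharInt.Central

/-!
The minimal degree of a nontrivial complex representation of `³D₄(q)`.
-/

set_option autoImplicit false
set_option maxRecDepth 4000

namespace Cfsg.Agent.MinDegree.ThreeD4

open Cfsg.Lie Cfsg.Agent.Chev Cfsg.Agent.Chev.BNSetup Module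
open scoped MatrixGroups commutatorElement

variable {K : Type*} [Field K]

theorem sup_center_eq_top {H : Subgroup SL(2, K)} (hp : commutator SL(2, K) = ⊤)
    (h : H ⊔ Subgroup.center SL(2, K) = ⊤) : H = ⊤ := by
  rw [eq_top_iff, ← hp, commutator_def, Subgroup.commutator_le]
  intro a _ b _
  obtain ⟨x, hx, u, hu, rfl⟩ := Subgroup.mem_sup_of_normal_right.1 (h ▸ Subgroup.mem_top a)
  obtain ⟨y, hy, v, hv, rfl⟩ := Subgroup.mem_sup_of_normal_right.1 (h ▸ Subgroup.mem_top b)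
  have cu : ∀ g, g * u = u * g := Subgroup.mem_center_iff.1 hu
  have cv : ∀ g, g * v = v * g := Subgroup.mem_center_iff.1 hv
  have e : ⁅x * u, y * v⁆ = ⁅x, y⁆ := by
    rw [commutatorElement_def, commutatorElement_def]
    calc x * u * (y * v) * (x * u)⁻¹ * (y * v)⁻¹
        = x * (u * y) * (v * u⁻¹) * x⁻¹ * v⁻¹ * y⁻¹ := by group
      _ = x * y * (u * v * u⁻¹) * x⁻¹ * v⁻¹ * y⁻¹ := by rw [← cu y]; group
      _ = x * y * (x⁻¹ * v) * v⁻¹ * y⁻¹ := by
        rw [← cu v]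
        rw [show v * u * u⁻¹ = v by group, mul_assoc (x * y), ← cv x⁻¹]
      _ = _ := by group
  rw [e, commutatorElement_def]
  exact H.mul_mem (H.mul_mem (H.mul_mem hx hy) (H.inv_mem hx)) (H.inv_mem hy)

theorem index_bound [Fintype K] (hq : Fintype.card K ∉ ({2, 3, 5, 7, 9, 11} : Finset ℕ))
    (h4 : 4 ≤ Fintype.card K) {H : Subgroup SL(2, K)} (hH : H ≠ ⊤) :
    Fintype.card K + 1 ≤ H.index := by
  have hne : H.map PSL2.mk ≠ ⊤ := by
    intro e
    refine hH (sup_center_eq_top (PSL2.sl_commutator_eq_top h4) ?_)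
    rw [← PSL2.ker_mk, ← Subgroup.comap_map_eq, e, Subgroup.comap_top]
  have h := PSL2.card_mul_le_of_ne_top hq hne
  rw [← (H.map PSL2.mk).index_mul_card, mul_comm (H.map PSL2.mk).index] at h
  exact (Nat.le_of_mul_le_mul_left h Nat.card_pos).trans
    (Nat.le_of_dvd (Nat.pos_of_ne_zero H.index_ne_zero_of_finite)
      (H.index_map_dvd PSL2.mk_surjective))

set_option maxHeartbeats 1600000 in
theorem degree_bound [Fintype K] {q : ℕ} (hq : IsPrimePow q) (hK : Fintype.card K = q ^ 3)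
    {φ : K ≃+* K} (hcube : ∀ x, φ (φ (φ x)) = x) (hcard : Nat.card {x : K // φ x = x} = q)
    {W : Type*} [AddCommGroup W] [Module ℂ W] [FiniteDimensional ℂ W]
    (ρ : Representation ℂ ↥(GT φ) W) (hne : ∃ g, ρ g ≠ 1) :
    (q - 1) * q ^ 4 + (q - 1) * (q ^ 3 + 1) ≤ finrank ℂ W := by
  classical
  have hq2 := hq.two_le
  have h8 : 8 ≤ Fintype.card K := by
    rw [hK]; exact (show 2 ^ 3 = 8 by norm_num).symm.le.trans (Nat.pow_le_pow_left hq2 3)
  have hmove : ∃ x, φ x ≠ x := by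
    by_contra hc
    push Not at hc
    rw [Nat.card_congr (Equiv.subtypeUnivEquiv hc), Nat.card_eq_fintype_card, hK] at hcard
    have : q ^ 1 < q ^ 3 := Nat.pow_lt_pow_right (by omega) (by omega)
    rw [pow_one] at this
    omega
  obtain ⟨ε, δ, hS⟩ := exists_signs φ
  obtain ⟨π, hu, hl, hw, hh⟩ := exists_levi φ
  have hπ := levi_facts φ hcube hu hl
  let k : Subfield K := RingHom.eqLocusField (φ : K →+* K) (RingHom.id K)
  have hk : Fintype.card k = q := by
    rw [← Nat.card_eq_fintype_card, ← hcard]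
    exact Nat.card_congr (Equiv.subtypeEquivRight fun x => Iff.rfl)
  have hkf : ∀ t : k, φ t.1 = t.1 := fun t => t.2
  let z : k → ↥(GT φ) := fun t => ⟨X 23 t.1, X23_mem hcube hS (hkf t)⟩
  let Q : Subgroup ↥(GT φ) := Qamb.subgroupOf (GT φ)
  have hQ : ∀ x : ↥(GT φ), x ∈ Q ↔ x.1 ∈ Qamb := fun x => Subgroup.mem_subgroupOf
  have hzQ : ∀ t, z t ∈ Q := fun t => (hQ _).2 (X_mem_Qamb (by simp) _)
  have hzr : ∀ g : ↥(GT φ), g ∈ Set.range z ↔ ∃ r, g.1 = H 0 0 r := by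
    intro g
    constructor
    · rintro ⟨t, rfl⟩; exact ⟨t.1, z_eq_H t.1⟩
    · rintro ⟨r, hr⟩
      rw [← z_eq_H] at hr
      have hfix : φ r = r := (X23_mem_iff hcube hS).1 (hr ▸ g.2)
      exact ⟨⟨r, hfix⟩, Subtype.ext hr.symm⟩
  have hvec0 : ∀ η : Fin 4 → K, vec φ η 0 0 = 0 := fun η => by
    funext i; fin_cases i <;> simp [vec]
  -- commutators
  have hcomm : ∀ x ∈ Q, ∀ y ∈ Q, ∃ c, y * x * y⁻¹ = x * z c := by
    intro x hx y hy
    obtain ⟨α, γ, r, ex⟩ := (hQ x).1 hx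
    obtain ⟨α', γ', r', ey⟩ := (hQ y).1 hy
    have e := H_conj α' γ' α γ r' r
    rw [← ex, ← ey] at e
    have hb : φ (β α' γ' α γ) = β α' γ' α γ := by
      refine (X23_mem_iff hcube hS).1 ((Subgroup.mul_mem_cancel_left _ x.2).1 ?_)
      rw [← e]
      exact (y * x * y⁻¹).2
    exact ⟨⟨_, hb⟩, Subtype.ext e⟩
  have hnd : ∀ x ∈ Q, x ∉ Set.range z → ∀ c, ∃ y ∈ Q, y * x * y⁻¹ = x * z c := by
    intro x hx hxz d
    obtain ⟨α, γ, r, ex⟩ := (hQ x).1 hx
    obtain ⟨a, c, t, u, fa, fc, fr, rfl, rfl⟩ := exists_coords hcube hmove hS (ex ▸ x.2)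
    have mk : ∀ a' c' t' u' : K, φ a' = a' → φ c' = c' →
        β (vec φ ε a' t') (vec φ δ c' u') (vec φ ε a t) (vec φ δ c u) = d.1 →
        ∃ y ∈ Q, y * x * y⁻¹ = x * z d := by
      intro a' c' t' u' ha' hc' hb
      have hm := H_vec_mem hcube hS ha' hc' (map_zero φ) t' u'
      refine ⟨⟨_, hm⟩, (hQ _).2 ⟨_, _, _, rfl⟩, Subtype.ext ?_⟩
      show H _ _ 0 * x.1 * (H _ _ 0)⁻¹ = x.1 * X 23 d.1
      rw [ex, H_conj, hb]
    have hd : φ d.1 = d.1 := hkf d
    by_cases h1 : a ≠ 0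
    · exact mk 0 (-d.1 * a⁻¹) 0 0 (map_zero φ) (by rw [map_mul, map_neg, map_inv₀, hd, fa])
        (by simp [β, ω, vec, h1])
    by_cases h2 : c ≠ 0
    · exact mk (d.1 * c⁻¹) 0 0 0 (by rw [map_mul, map_inv₀, hd, fc]) (map_zero φ)
        (by simp [β, ω, vec]; field_simp)
    push Not at h1 h2
    have hsign : ∀ i, δ i * ε i ≠ 0 := fun i => mul_ne_zero
      (left_ne_zero_of_mul_eq_one (hS.sq_δ i)) (left_ne_zero_of_mul_eq_one (hS.sq_ε i))
    by_cases h3 : t ≠ 0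
    · obtain ⟨s, hs⟩ := exists_comb_ne hcube hmove (a := δ 1 * ε 1 * t) (b := δ 2 * ε 2 * φ t)
        (c := δ 3 * ε 3 * φ (φ t)) (Or.inl (mul_ne_zero (hsign 1) h3))
      set T := β (vec φ ε 0 0) (vec φ δ 0 s) (vec φ ε a t) (vec φ δ c u) with hT
      have eT : ∀ s', β (vec φ ε 0 0) (vec φ δ 0 s') (vec φ ε a t) (vec φ δ c u) =
          δ 1 * ε 1 * t * s' + δ 2 * ε 2 * φ t * φ s' + δ 3 * ε 3 * φ (φ t) * φ (φ s') := fun s' => by
        simp [β, ω, vec]; ring
      have fT : φ T = T := by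
        have hm := H_vec_mem hcube hS (map_zero φ) (map_zero φ) (map_zero φ) 0 s
        obtain ⟨e', he'⟩ := hcomm x hx ⟨_, hm⟩ ((hQ _).2 ⟨_, _, _, rfl⟩)
        have h' := congrArg Subtype.val he'
        simp only [Subgroup.coe_mul, Subgroup.coe_inv, z] at h'
        rw [ex, H_conj] at h'
        rw [hT, X_inj (by decide +kernel) (mul_left_cancel h')]
        exact hkf e'
      have hT0 : T ≠ 0 := by rw [hT, eT]; exact hs
      refine mk 0 0 0 (d.1 * T⁻¹ * s) (map_zero φ) (map_zero φ) ?_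
      have hl : φ (d.1 * T⁻¹) = d.1 * T⁻¹ := by rw [map_mul, map_inv₀, hd, fT]
      rw [eT, map_mul φ (d.1 * T⁻¹), hl, map_mul φ (d.1 * T⁻¹), hl]
      have : δ 1 * ε 1 * t * (d.1 * T⁻¹ * s) + δ 2 * ε 2 * φ t * (d.1 * T⁻¹ * φ s) +
          δ 3 * ε 3 * φ (φ t) * (d.1 * T⁻¹ * φ (φ s)) = d.1 * T⁻¹ * T := by rw [hT, eT]; ring
      rw [this, inv_mul_cancel_right₀ hT0]
    push Not at h3
    by_cases h4 : u ≠ 0
    · obtain ⟨s, hs⟩ := exists_comb_ne hcube hmove (a := -(δ 1 * ε 1 * u)) (b := -(δ 2 * ε 2 * φ u))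
        (c := -(δ 3 * ε 3 * φ (φ u))) (Or.inl (neg_ne_zero.2 (mul_ne_zero (hsign 1) h4)))
      set T := β (vec φ ε 0 s) (vec φ δ 0 0) (vec φ ε a t) (vec φ δ c u) with hT
      have eT : ∀ s', β (vec φ ε 0 s') (vec φ δ 0 0) (vec φ ε a t) (vec φ δ c u) =
          -(δ 1 * ε 1 * u) * s' + -(δ 2 * ε 2 * φ u) * φ s' + -(δ 3 * ε 3 * φ (φ u)) * φ (φ s') :=
        fun s' => by simp [β, ω, vec]; ring
      have fT : φ T = T := by
        have hm := H_vec_mem hcube hS (map_zero φ) (map_zero φ) (map_zero φ) s 0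
        obtain ⟨e', he'⟩ := hcomm x hx ⟨_, hm⟩ ((hQ _).2 ⟨_, _, _, rfl⟩)
        have h' := congrArg Subtype.val he'
        simp only [Subgroup.coe_mul, Subgroup.coe_inv, z] at h'
        rw [ex, H_conj] at h'
        rw [hT, X_inj (by decide +kernel) (mul_left_cancel h')]
        exact hkf e'
      have hT0 : T ≠ 0 := by rw [hT, eT]; exact hs
      refine mk 0 0 (d.1 * T⁻¹ * s) 0 (map_zero φ) (map_zero φ) ?_
      have hl : φ (d.1 * T⁻¹) = d.1 * T⁻¹ := by rw [map_mul, map_inv₀, hd, fT]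
      rw [eT, map_mul φ (d.1 * T⁻¹), hl, map_mul φ (d.1 * T⁻¹), hl]
      have : -(δ 1 * ε 1 * u) * (d.1 * T⁻¹ * s) + -(δ 2 * ε 2 * φ u) * (d.1 * T⁻¹ * φ s) +
          -(δ 3 * ε 3 * φ (φ u)) * (d.1 * T⁻¹ * φ (φ s)) = d.1 * T⁻¹ * T := by rw [hT, eT]; ring
      rw [this, inv_mul_cancel_right₀ hT0]
    push Not at h4
    refine absurd ((hzr x).2 ⟨r, ?_⟩) hxz
    rw [ex, h1, h2, h3, h4, hvec0, hvec0]
  -- representatives
  let e : k × K × K × k → ↥(GT φ) := fun v =>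
    ⟨H (vec φ ε v.1.1 v.2.1) (vec φ δ v.2.2.2.1 v.2.2.1) 0,
      H_vec_mem hcube hS (hkf v.1) (hkf v.2.2.2) (map_zero φ) _ _⟩
  have hsep : ∀ v w, v ≠ w → (e w)⁻¹ * e v ∉ Set.range z := by
    rintro v w hvw ⟨s, hs⟩
    have h := congrArg Subtype.val (eq_inv_mul_iff_mul_eq.1 hs)
    simp only [Subgroup.coe_mul, e, z, H_mul_z] at h
    obtain ⟨ha, hc, -⟩ := H_inj h
    have a0 := congrFun ha 0
    have a1 := congrFun ha 1
    have c0 := congrFun hc 0
    have c1 := congrFun hc 1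
    simp [vec, left_ne_zero_of_mul_eq_one (hS.sq_ε 1)] at a0 a1
    simp [vec, left_ne_zero_of_mul_eq_one (hS.sq_δ 1)] at c0 c1
    exact hvw (Prod.ext a0.symm (Prod.ext a1.symm (Prod.ext c1.symm c0.symm)))
  have hι : Fintype.card (k × K × K × k) = (q ^ 4) ^ 2 := by
    simp only [Fintype.card_prod, hk, hK]
    ring
  -- normalising elements
  let πG : SL(2, K) →* ↥(GT φ) := π.codRestrict (GT φ) fun g => (hπ g).1
  let hsc : kˣ → ↥(GT φ) := fun c => ⟨hS' c.1.1, hS'_mem φ (hkf c.1)⟩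
  have hc0 : ∀ c : kˣ, (c.1.1 : K) ≠ 0 := fun c h => c.ne_zero (Subtype.ext h)
  have scale : ∀ (c : kˣ) α γ r, hS' c.1.1 * H α γ r * (hS' c.1.1)⁻¹ = H (c.1.1 • α) (c.1.1 • γ) (c.1.1 ^ 2 * r) :=
    fun c α γ r => hS'_conj_H (hc0 c) α γ r
  have nQπ : ∀ g (x : ↥(GT φ)), πG g * x * (πG g)⁻¹ ∈ Q ↔ x ∈ Q := by
    intro g x
    rw [hQ, hQ]
    refine ⟨fun h => ?_, (hπ g).2.1 x.1⟩
    have h' := (hπ g⁻¹).2.1 _ h
    simpa [πG, mul_assoc] using h'
  have nQc : ∀ c (x : ↥(GT φ)), hsc c * x * (hsc c)⁻¹ ∈ Q ↔ x ∈ Q := by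
    intro c x
    rw [hQ, hQ]
    constructor
    · rintro ⟨α, γ, r, h⟩
      refine ⟨c.1.1⁻¹ • α, c.1.1⁻¹ • γ, (c.1.1 ^ 2)⁻¹ * r, ?_⟩
      have e' := scale c (c.1.1⁻¹ • α) (c.1.1⁻¹ • γ) ((c.1.1 ^ 2)⁻¹ * r)
      rw [smul_inv_smul₀ (hc0 c), smul_inv_smul₀ (hc0 c), mul_inv_cancel_left₀ (pow_ne_zero 2 (hc0 c))] at e'
      exact mul_left_cancel (mul_right_cancel (h.trans e'.symm))
    · rintro ⟨α, γ, r, h⟩
      exact ⟨_, _, _, by show hS' c.1.1 * x.1 * (hS' c.1.1)⁻¹ = _; rw [h, scale]⟩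
  have horb : ∀ f : ↥(GT φ) → ℂ, (∀ x ∈ Q, ∀ y ∈ Q, f (x * y) = f x * f y) → (∀ t, f (z t) = 1) →
      (∃ x ∈ Q, f x ≠ 1) → (∀ x, x ∉ Q → f x = 0) → ∃ S : Finset (↥(GT φ) → ℂ),
        (q - 1) * (q ^ 3 + 1) ≤ S.card ∧ ∀ f' ∈ S, ∃ g, (∀ x, g * x * g⁻¹ ∈ Q ↔ x ∈ Q) ∧
          (∀ t, ∃ s, g * z t * g⁻¹ = z s) ∧ f' = fun x => f (g * x * g⁻¹) := by
    intro f hf hfz hfne hf0
    have fne : ∀ x ∈ Q, f x ≠ 0 := by
      intro x hx h0
      have h := hf x hx x⁻¹ (Q.inv_mem hx)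
      rw [mul_inv_cancel, h0, zero_mul, show (1 : ↥(GT φ)) = z 0 from Subtype.ext
        (X_zero (K := K) (r := 23) (by decide +kernel)).symm, hfz] at h
      exact one_ne_zero h
    let cj : ↥(GT φ) → ↥(GT φ) → ↥(GT φ) := fun g x => g * x * g⁻¹
    have hcomp : ∀ (a b : kˣ) x, f (cj (hsc a) (cj (hsc b) x)) = f (cj (hsc (a * b)) x) := by
      intro a b x
      by_cases hx : x ∈ Q
      · obtain ⟨α, γ, r, ex⟩ := (hQ x).1 hx
        refine congrArg f (Subtype.ext ?_)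
        show hS' a.1.1 * (hS' b.1.1 * x.1 * (hS' b.1.1)⁻¹) * (hS' a.1.1)⁻¹ =
          hS' (a * b).1.1 * x.1 * (hS' (a * b).1.1)⁻¹
        rw [ex, scale, scale, scale, smul_smul, smul_smul, ← mul_assoc, ← mul_pow]
        rfl
      · rw [hf0 _ (fun h => hx ((nQc b x).1 ((nQc a _).1 h))),
          hf0 _ (fun h => hx ((nQc (a * b) x).1 h))]
    have hone : ∀ x, f (cj (hsc 1) x) = f x := by
      intro x
      by_cases hx : x ∈ Q
      · obtain ⟨α, γ, r, ex⟩ := (hQ x).1 hx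
        refine congrArg f (Subtype.ext ?_)
        show hS' (1 : kˣ).1.1 * x.1 * (hS' (1 : kˣ).1.1)⁻¹ = x.1
        rw [ex, scale]
        simp
      · rw [hf0 _ (fun h => hx ((nQc 1 x).1 h)), hf0 x hx]
    have hcommute : ∀ g c x, cj (πG g) (cj (hsc c) x) = cj (hsc c) (cj (πG g) x) := by
      intro g c x
      have h : hsc c * πG g = πG g * hsc c := Subtype.ext ((hπ g).2.2.2 _ (hc0 c)).eq
      simp only [cj]
      calc πG g * (hsc c * x * (hsc c)⁻¹) * (πG g)⁻¹ = (πG g * hsc c) * x * (πG g * hsc c)⁻¹ := by group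
        _ = (hsc c * πG g) * x * (hsc c * πG g)⁻¹ := by rw [h]
        _ = _ := by group
    have hcinj : ∀ a b : kˣ, (∀ x, f (cj (hsc a) x) = f (cj (hsc b) x)) → a = b := by
      intro a b hab
      by_contra hne'
      set c := a * b⁻¹ with hc
      have hc1 : (c.1.1 : K) - 1 ≠ 0 := by
        intro h
        exact hne' (mul_inv_eq_one.1 (Units.ext (Subtype.ext (sub_eq_zero.1 h))))
      have hinv : ∀ x, f (cj (hsc c) x) = f x := fun x => by
        rw [hc, ← hcomp, hab, hcomp, mul_inv_cancel, hone]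
      obtain ⟨y, hy, hy1⟩ := hfne
      refine hy1 ?_
      obtain ⟨α, γ, r, ey⟩ := (hQ y).1 hy
      have hd : φ (c.1.1 - 1)⁻¹ = (c.1.1 - 1)⁻¹ := by rw [map_inv₀, map_sub, map_one, hkf]
      let d : kˣ := Units.mk0 ⟨(c.1.1 - 1)⁻¹, hd⟩ fun h => inv_ne_zero hc1 (congrArg Subtype.val h)
      set x := cj (hsc d) y with hx
      have hxQ : x ∈ Q := (nQc d y).2 hy
      have ex : x.1 = H (d.1.1 • α) (d.1.1 • γ) (d.1.1 ^ 2 * r) := by
        show hS' d.1.1 * y.1 * (hS' d.1.1)⁻¹ = _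
        rw [ey, scale]
      have hw' : (x * y)⁻¹ * cj (hsc c) x ∈ Set.range z := by
        refine (hzr _).2 ⟨?_, ?_⟩
        rotate_left
        · show (x.1 * y.1)⁻¹ * (hS' c.1.1 * x.1 * (hS' c.1.1)⁻¹) = _
          rw [ex, ey, scale, H_mul, H_inv, H_mul, smul_smul, smul_smul]
          have e1 : c.1.1 * d.1.1 = d.1.1 + 1 := by
            show c.1.1 * (c.1.1 - 1)⁻¹ = (c.1.1 - 1)⁻¹ + 1
            field_simp
            ring
          rw [e1, add_smul, one_smul, add_smul, one_smul, neg_add_cancel, neg_add_cancel]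
      obtain ⟨s, hs⟩ := hw'
      have e' := hinv x
      rw [show cj (hsc c) x = x * y * z s by rw [hs, mul_inv_cancel_left], hf _ (Q.mul_mem hxQ hy) _ (hzQ s),
        hfz, mul_one, hf x hxQ y hy] at e'
      exact mul_left_cancel₀ (fne x hxQ) (e'.trans (mul_one _).symm)
    let Hs : Subgroup SL(2, K) :=
      { carrier := {g | ∃ c : kˣ, ∀ x, f (cj (πG g) x) = f (cj (hsc c) x)}
        one_mem' := ⟨1, fun x => by rw [hone]; simp [cj]⟩
        mul_mem' := by
          rintro g g' ⟨c, hc⟩ ⟨c', hc'⟩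
          refine ⟨c' * c, fun x => ?_⟩
          rw [show cj (πG (g * g')) x = cj (πG g) (cj (πG g') x) by simp only [cj, map_mul]; group, hc,
            ← hcommute, hc', hcomp]
        inv_mem' := by
          rintro g ⟨c, hc⟩
          refine ⟨c⁻¹, fun x => ?_⟩
          rw [show f (cj (πG g⁻¹) x) = f (cj (hsc c) (cj (hsc c⁻¹) (cj (πG g⁻¹) x))) by
              rw [hcomp, mul_inv_cancel, hone],
            ← hc, hcommute g, show cj (πG g) (cj (πG g⁻¹) x) = x by simp only [cj, map_inv]; group] }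
    have hHs : Hs ≠ ⊤ := by
      intro htop
      choose χ hχ using fun g => (htop ▸ Subgroup.mem_top g : g ∈ Hs)
      let χh : SL(2, K) →* kˣ :=
        { toFun := χ
          map_one' := hcinj _ _ fun x => by rw [← hχ, hone]; simp [cj]
          map_mul' := fun g g' => hcinj _ _ fun x => by
            rw [← hχ, show cj (πG (g * g')) x = cj (πG g) (cj (πG g') x) by simp only [cj, map_mul]; group,
              hχ g, ← hcommute, hχ g', hcomp, mul_comm] }
      have htriv : ∀ g, χ g = 1 := fun g => by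
        have h := Abelianization.commutator_subset_ker χh
        rw [PSL2.sl_commutator_eq_top (by omega), top_le_iff] at h
        exact MonoidHom.mem_ker.1 (h ▸ Subgroup.mem_top g : g ∈ χh.ker)
      obtain ⟨x, hx, hx1⟩ := hfne
      let F : GL chevD4.Idx K → ℂ := fun v => if h : v ∈ GT φ then f ⟨v, h⟩ else 0
      have hF : ∀ v : ↥(GT φ), F v.1 = f v := fun v => dif_pos v.2
      refine hx1 ((hF x).symm.trans (fixed_trivial hcube hmove hS hu hw hh ?_ F ?_ ?_ ?_ x.1 x.2 ((hQ x).1 hx)))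
      · obtain ⟨s, hs⟩ : ∃ s : K, s ∉ ({0, 1} : Finset K) := by
          by_contra hall
          push Not at hall
          have h2 := Finset.card_le_two (a := (0 : K)) (b := 1)
          rw [Finset.eq_univ_of_forall hall, Finset.card_univ] at h2
          omega
        exact ⟨s, by simpa using hs⟩
      · intro a b ha ha' hb hb'
        exact (hF (⟨a, ha⟩ * ⟨b, hb⟩)).trans
          ((hf _ ((hQ _).2 ha') _ ((hQ _).2 hb')).trans (by rw [← hF ⟨a, ha⟩, ← hF ⟨b, hb⟩]))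
      · intro t ht
        exact (hF (z ⟨t, ht⟩)).trans (hfz _)
      · intro g v hv _
        exact (hF (cj (πG g) ⟨v, hv⟩)).trans
          ((hχ g _).trans (by rw [htriv, hone]; exact (hF ⟨v, hv⟩).symm))
    have hidx : Fintype.card K + 1 ≤ Hs.index := by
      refine index_bound ?_ (by omega) hHs
      rw [hK]
      rcases Nat.lt_or_ge q 3 with h3 | h3
      · obtain rfl : q = 2 := by omega
        simp
      · have : 3 ^ 3 ≤ q ^ 3 := Nat.pow_le_pow_left h3 3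
        simp only [Finset.mem_insert, Finset.mem_singleton]
        omega
    let Ψ : (SL(2, K) ⧸ Hs) × kˣ → ↥(GT φ) → ℂ := fun p x =>
      f (cj (hsc p.2) (cj (πG (Quotient.out p.1)⁻¹) x))
    have hΨ : Function.Injective Ψ := by
      rintro ⟨p, c⟩ ⟨p', c'⟩ h
      set g := (Quotient.out p)⁻¹ with hg
      set g' := (Quotient.out p')⁻¹ with hg'
      have h1 : ∀ y, f (cj (hsc c) (cj (πG (g * g'⁻¹)) y)) = f (cj (hsc c') y) := fun y => by
        have e' := congrFun h (cj (πG g'⁻¹) y)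
        simp only [Ψ] at e'
        rw [show cj (πG g') (cj (πG g'⁻¹) y) = y by simp only [cj, map_inv]; group,
          show cj (πG g) (cj (πG g'⁻¹) y) = cj (πG (g * g'⁻¹)) y by simp only [cj, map_mul]; group] at e'
        exact e'
      have h2 : g * g'⁻¹ ∈ Hs := ⟨c' * c⁻¹, fun y => by
        have e' := h1 (cj (hsc c⁻¹) y)
        rw [hcommute, hcomp, mul_inv_cancel, hone, hcomp] at e'
        exact e'⟩
      obtain rfl : p = p' := by
        rw [← Quotient.out_eq p, ← Quotient.out_eq p']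
        exact Quotient.sound (QuotientGroup.leftRel_apply.2 (by simpa [g, g'] using h2))
      have : c = c' := hcinj _ _ fun y => by
        have e' := h1 y
        rw [show g * g'⁻¹ = 1 by simp [g, g'], map_one, show cj 1 y = y by simp [cj]] at e'
        exact e'
      rw [this]
    refine ⟨Finset.univ.image Ψ, ?_, fun f' hf' => ?_⟩
    · rw [Finset.card_image_of_injective _ hΨ, Finset.card_univ, Fintype.card_prod, Fintype.card_units,
        hk, ← Nat.card_eq_fintype_card, ← Subgroup.index_eq_card, mul_comm, ← hK]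
      exact Nat.mul_le_mul_right _ hidx
    · obtain ⟨⟨p, c⟩, -, rfl⟩ := Finset.mem_image.1 hf'
      refine ⟨hsc c * πG (Quotient.out p)⁻¹, fun x => ?_, fun t => ?_, funext fun x => ?_⟩
      · rw [show hsc c * πG (Quotient.out p)⁻¹ * x * (hsc c * πG (Quotient.out p)⁻¹)⁻¹ =
          cj (hsc c) (cj (πG (Quotient.out p)⁻¹) x) by simp only [cj]; group]
        exact (nQc c _).trans (nQπ _ x)
      · refine ⟨⟨c.1.1 ^ 2 * t.1, by
          show φ _ = _
          rw [map_mul, map_pow, hkf, hkf]; rfl⟩, Subtype.ext ?_⟩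
        show hS' c.1.1 * π _ * X 23 t.1 * (hS' c.1.1 * π _)⁻¹ = X 23 _
        rw [mul_inv_rev, mul_assoc (hS' _) _ (X 23 t.1), ((hπ _).2.2.1 _).eq]
        simp only [← mul_assoc]
        rw [mul_inv_cancel_right, z_eq_H, scale, smul_zero, ← z_eq_H]
      · have e' : cj (hsc c) (cj (πG (Quotient.out p)⁻¹) x) =
            hsc c * πG (Quotient.out p)⁻¹ * x * (hsc c * πG (Quotient.out p)⁻¹)⁻¹ := by
          simp only [cj]; group
        exact congrArg f e'
  have key := heisenberg_bound z (fun s t => Subtype.ext (X_add (by decide +kernel) _ _).symm) Q hzQ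
    (fun t x hx => by
      obtain ⟨α, γ, r, ex⟩ := (hQ x).1 hx
      refine Subtype.ext ?_
      show X 23 t.1 * x.1 = x.1 * X 23 t.1
      rw [ex]; exact (z_commute_H _ _ _ _).eq)
    hcomm hnd e (fun v => (hQ _).2 ⟨_, _, _, rfl⟩) hsep hι
    (fun c hc => ⟨⟨he D4.good 14 c.1, he14_mem φ (hkf c)⟩, fun t => Subtype.ext (by
      show he D4.good 14 c.1 * X 23 t.1 * (he D4.good 14 c.1)⁻¹ = X 23 (c.1 * t.1)
      rw [conj_he (K := K) 1 (n := 1) (by decide +kernel) (fun h => hc (Subtype.ext h)), zpow_one])⟩)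
    ⟨⟨X 22 1, X22_mem hcube hS (map_one φ)⟩, (hQ _).2 (X_mem_Qamb (by simp) _), fun h => by
        obtain ⟨r, hr⟩ := (hzr _).1 h
        have h' := (H_inj (α := (0 : Fin 4 → K)) (γ := ![1, 0, 0, 0]) (r := 0)
          ((by rw [H, A_zero, C_single, X_zero (K := K) (show (23 : ℕ) < chevD4.nroots by decide +kernel)]
               simp : H (0 : Fin 4 → K) ![1, 0, 0, 0] 0 = X 22 1).trans hr)).2.1
        simpa using congrFun h' 0,
      ⟨n2, n2_mem φ⟩, ⟨δ 0, map_sign φ (hS.sq_δ 0)⟩,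
      fun h => left_ne_zero_of_mul_eq_one (hS.sq_δ 0) (congrArg Subtype.val h),
      Subtype.ext ((hS.conj_22 1).trans (by rw [mul_one]))⟩
    (by
      have hsimple := (isSimpleGroup_twistedD4 hq hK hcube).1
      refine (Subgroup.Normal.eq_bot_or_eq_top (Subgroup.normalClosure_normal (s := Set.range z))).resolve_left
        fun hb => ?_
      have hmem : z 1 ∈ Subgroup.normalClosure (Set.range z) :=
        Subgroup.subset_normalClosure (Set.mem_range_self 1)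
      rw [hb, Subgroup.mem_bot] at hmem
      have h : (z 1).1 = ((1 : ↥(GT φ)) : GL chevD4.Idx K) := congrArg Subtype.val hmem
      have h' : X 23 (1 : K) = X 23 (0 : K) := h.trans (X_zero (K := K) (r := 23) (by decide +kernel)).symm
      exact one_ne_zero (X_inj (K := K) (r := 23) (by decide +kernel) h'))
    _ horb ρ hne
  rwa [hk] at key

end Cfsg.Agent.MinDegree.ThreeD4
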