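import Cfsg.Agent.Lib.MinDegree.ThreeD4Elts

/-!
The elements of the special subgroup of `³D₄`, and the copy of `SL₂(q³)` normalising it.
-/

set_option autoImplicit false
set_option maxRecDepth 4000

namespace Cfsg.Agent.MinDegree.ThreeD4

open Cfsg.Lie Cfsg.Agent.Chev Cfsg.Agent.Chev.BNSetup
open scoped MatrixGroups

variable {K : Type*} [Field K] {φ : K ≃+* K} (hcube : ∀ x, φ (φ (φ x)) = x) (hmove : ∃ x, φ x ≠ x)

include hcube hmove

theorem eq_zero_of_comb {a b c : K} (h : ∀ s, a * s + b * φ s + c * φ (φ s) = 0) :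
    a = 0 ∧ b = 0 ∧ c = 0 := by
  obtain ⟨x, hx⟩ := hmove
  have h2 : φ (φ x) ≠ φ x := fun e => hx (φ.injective e)
  have h3 : φ (φ x) ≠ x := fun e => hx (by
    have := hcube x
    rwa [e] at this)
  have e1 : ∀ s, a * (x - φ (φ x)) * s + b * (φ x - φ (φ x)) * φ s = 0 := fun s => by
    have := h (x * s)
    simp only [map_mul] at this
    linear_combination this - φ (φ x) * h s
  have e2 : a * (x - φ (φ x)) * (x - φ x) = 0 := by
    have := e1 (x * 1)
    simp only [mul_one] at this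
    have h1 := e1 1
    rw [map_one, mul_one, mul_one] at h1
    linear_combination this - φ x * h1
  have ha : a = 0 := by
    simpa [sub_eq_zero, Ne.symm h3, Ne.symm hx] using e2
  have hb : b = 0 := by
    have h1 := e1 1
    rw [ha, zero_mul, zero_mul, zero_add, map_one, mul_one] at h1
    exact (mul_eq_zero.1 h1).resolve_right (sub_ne_zero.2 h2.symm)
  refine ⟨ha, hb, ?_⟩
  have := h 1
  simpa [ha, hb] using this

theorem exists_comb_ne {a b c : K} (h : a ≠ 0 ∨ b ≠ 0 ∨ c ≠ 0) :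
    ∃ s, a * s + b * φ s + c * φ (φ s) ≠ 0 := by
  by_contra hc
  push Not at hc
  obtain ⟨ha, hb, hc'⟩ := eq_zero_of_comb hcube hmove hc
  rcases h with h | h | h
  exacts [h ha, h hb, h hc']

/-- A linear form with fixed values is a twisted trace. -/
theorem comb_fixed {a b c : K}
    (h : ∀ s, φ (a * s + b * φ s + c * φ (φ s)) = a * s + b * φ s + c * φ (φ s)) :
    b = φ a ∧ c = φ (φ a) := by
  obtain ⟨h1, h2, -⟩ := eq_zero_of_comb hcube hmove (a := φ c - a) (b := φ a - b) (c := φ b - c) fun s => by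
    have := h s
    simp only [map_add, map_mul, hcube] at this
    linear_combination this
  rw [sub_eq_zero] at h1 h2
  refine ⟨h2.symm, ?_⟩
  rw [← h1, hcube]

theorem exists_trace {c : K} (hc : φ c = c) : ∃ s, s + φ s + φ (φ s) = c := by
  obtain ⟨s, hs⟩ := exists_comb_ne hcube hmove (a := 1) (b := 1) (c := 1) (Or.inl one_ne_zero)
  simp only [one_mul] at hs
  set T := s + φ s + φ (φ s) with hT
  have hfix : φ T = T := by simp only [hT, map_add, hcube]; ring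
  refine ⟨c * T⁻¹ * s, ?_⟩
  simp only [map_mul, map_inv₀, hc, hfix]
  rw [← mul_add, ← mul_add, ← hT, inv_mul_cancel_right₀ hs]

variable {ε δ : Fin 4 → K} (hS : Signs φ ε δ)
include hS

/-- The coordinates of an element of the special subgroup. -/
theorem exists_coords {α γ : Fin 4 → K} {r : K} (h : H α γ r ∈ GT φ) :
    ∃ a c t u, φ a = a ∧ φ c = c ∧ φ r = r ∧ α = vec φ ε a t ∧ γ = vec φ δ c u := by
  have hfix : ∀ {α' γ' : Fin 4 → K}, H α' γ' 0 ∈ GT φ → φ (β α' γ' α γ) = β α' γ' α γ := by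
    intro α' γ' hm
    refine (X23_mem_iff hcube hS).1 ?_
    have h1 := H_conj α' γ' α γ 0 r
    have : (H α γ r)⁻¹ * (H α' γ' 0 * H α γ r * (H α' γ' 0)⁻¹) ∈ GT φ :=
      Subgroup.mul_mem _ (Subgroup.inv_mem _ h) (Subgroup.mul_mem _ (Subgroup.mul_mem _ hm h) (Subgroup.inv_mem _ hm))
    rwa [h1, inv_mul_cancel_left] at this
  have z := map_zero φ
  have hA : ∀ {a : K}, φ a = a → ∀ t, H (vec φ ε a t) 0 0 ∈ GT φ := fun {a} ha t => by
    have := H_vec_mem hcube hS ha z z t 0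
    rwa [show vec φ δ 0 0 = 0 by funext i; fin_cases i <;> simp [vec]] at this
  have hC : ∀ {a : K}, φ a = a → ∀ t, H 0 (vec φ δ a t) 0 ∈ GT φ := fun {a} ha t => by
    have := H_vec_mem hcube hS z ha z 0 t
    rwa [show vec φ ε 0 0 = 0 by funext i; fin_cases i <;> simp [vec]] at this
  have f0 : φ (α 0) = α 0 := by
    have := hfix (hC (map_one φ) 0)
    simpa [β, ω, vec] using this
  have g0 : φ (γ 0) = γ 0 := by
    have := hfix (hA (map_one φ) 0)
    simpa [β, ω, vec] using this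
  obtain ⟨ea, eb⟩ := comb_fixed hcube hmove (a := δ 1 * α 1) (b := δ 2 * α 2) (c := δ 3 * α 3) fun s => by
    have h1 := hfix (hC z s)
    have e : β 0 (vec φ δ 0 s) α γ = δ 1 * α 1 * s + δ 2 * α 2 * φ s + δ 3 * α 3 * φ (φ s) := by
      simp [β, ω, vec]; ring
    rwa [e] at h1
  obtain ⟨ec, ed⟩ := comb_fixed hcube hmove (a := ε 1 * γ 1) (b := ε 2 * γ 2) (c := ε 3 * γ 3) fun s => by
    have h1 := hfix (hA z s)
    have e : β (vec φ ε 0 s) 0 α γ = -(ε 1 * γ 1 * s + ε 2 * γ 2 * φ s + ε 3 * γ 3 * φ (φ s)) := by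
      simp [β, ω, vec]; ring
    rw [e, map_neg, neg_inj] at h1
    exact h1
  -- the two systems of signs differ by a single sign
  obtain ⟨sa, sb⟩ := comb_fixed hcube hmove (a := δ 1 * ε 1) (b := δ 2 * ε 2) (c := δ 3 * ε 3) fun s => by
    have h1 : H (vec φ ε 0 1) 0 0 ∈ GT φ := hA z 1
    have h2 : H 0 (vec φ δ 0 s) 0 ∈ GT φ := hC z s
    have h3 := H_conj 0 (vec φ δ 0 s) (vec φ ε 0 1) 0 0 0
    have hm : (H (vec φ ε 0 1) 0 0)⁻¹ * (H 0 (vec φ δ 0 s) 0 * H (vec φ ε 0 1) 0 0 *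
        (H 0 (vec φ δ 0 s) 0)⁻¹) ∈ GT φ :=
      Subgroup.mul_mem _ (Subgroup.inv_mem _ h1) (Subgroup.mul_mem _ (Subgroup.mul_mem _ h2 h1) (Subgroup.inv_mem _ h2))
    rw [h3, inv_mul_cancel_left] at hm
    have h4 := (X23_mem_iff hcube hS).1 hm
    have e : β 0 (vec φ δ 0 s) (vec φ ε 0 1) 0 = δ 1 * ε 1 * s + δ 2 * ε 2 * φ s + δ 3 * ε 3 * φ (φ s) := by
      simp [β, ω, vec]; ring
    rwa [e] at h4
  have fs : φ (δ 1 * ε 1) = δ 1 * ε 1 := by
    rw [map_mul, map_sign φ (hS.sq_δ 1), map_sign φ (hS.sq_ε 1)]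
  rw [fs] at sa sb
  rw [fs] at sb
  simp only [map_mul, map_sign φ (hS.sq_δ 1)] at ea eb
  simp only [map_mul, map_sign φ (hS.sq_ε 1)] at ec ed
  have key : ∀ {d e d' e' x y : K}, d * d = 1 → e' * e' = 1 → d * e = d' * e' → d * x = d' * y →
      x = e * (e' * y) := fun {d e d' e' x y} hd he' hs hx => by
    linear_combination d * hx - x * hd + y * (-(d * d') * he' - d * e' * hs + e * e' * hd)
  have hα : α = vec φ ε (α 0) (ε 1 * α 1) := by
    funext i
    fin_cases i <;> simp [vec, map_sign φ (hS.sq_ε 1), ← mul_assoc, hS.sq_ε]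
    · rw [mul_assoc]; exact key (hS.sq_δ 2) (hS.sq_ε 1) sa ea
    · rw [mul_assoc]; exact key (hS.sq_δ 3) (hS.sq_ε 1) sb eb
  have hγ : γ = vec φ δ (γ 0) (δ 1 * γ 1) := by
    funext i
    fin_cases i <;> simp [vec, map_sign φ (hS.sq_δ 1), ← mul_assoc, hS.sq_δ]
    · rw [mul_assoc]; exact key (hS.sq_ε 2) (hS.sq_δ 1) (by linear_combination sa) ec
    · rw [mul_assoc]; exact key (hS.sq_ε 3) (hS.sq_δ 1) (by linear_combination sb) ed
  refine ⟨α 0, γ 0, ε 1 * α 1, δ 1 * γ 1, f0, g0, (X23_mem_iff hcube hS).1 ?_, hα, hγ⟩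
  have hm : H (vec φ ε (α 0) (ε 1 * α 1)) (vec φ δ (γ 0) (δ 1 * γ 1)) 0 ∈ GT φ :=
    H_vec_mem hcube hS f0 g0 z _ _
  rw [← hα, ← hγ] at hm
  rw [← zero_add r, ← H_mul_z] at h
  exact (Subgroup.mul_mem_cancel_left _ hm).1 h

end Cfsg.Agent.MinDegree.ThreeD4
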