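import Cfsg.Agent.Lib.MinDegree.AbelianEigen
import Cfsg.Agent.Lib.ClassicalSimple.UnitarySimple

/-!
The Landazuri–Seitz bound for special unitary groups: along a maximal isotropic frame `u i`, the vectors fixed by
the transvection groups of `u j`, `j < i`, contain for each of the `q - 1` nontrivial characters of the transvection
group of `u i` an eigenspace of dimension at least `q ^ (n - 2 (i + 1))`.
-/

set_option autoImplicit false
set_option linter.unusedSectionVars false

open Module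

namespace Cfsg.Agent.MinDegree

open Cfsg.Agent.ClassicalSimple

variable {F V : Type*} [Field F] [AddCommGroup V] [Module F V] {σ : F →+* F}

/-- The skew scalars. -/
def skewAdd (σ : F →+* F) : AddSubgroup F where
  carrier := {a | a + σ a = 0}
  add_mem' {a b} ha hb := by
    simp only [Set.mem_ofPred_eq, map_add] at *
    linear_combination ha + hb
  zero_mem' := by simp
  neg_mem' {a} ha := by
    simp only [Set.mem_ofPred_eq, map_neg] at *
    linear_combination -ha

theorem mem_skewAdd {a : F} : a ∈ skewAdd σ ↔ a + σ a = 0 := Iff.rfl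

variable [Finite F] [FiniteDimensional F V] {h : V →ₛₗ[σ] V →ₗ[F] F}

theorem card_skew_sq (hh : IsUnitaryForm σ h) : Nat.card (skewAdd σ) ^ 2 = Nat.card F := by
  obtain ⟨θ, hθ0, hθ⟩ := hh.exists_skew
  obtain ⟨d, hd⟩ := hh.exists_trace_one
  have hσθ : σ θ = -θ := by linear_combination hθ
  have hdec : ∀ x : F, x - d * (x + σ x) ∈ skewAdd σ := fun x => by
    rw [mem_skewAdd, map_sub, map_mul, map_add, hh.invol]
    linear_combination -(x + σ x) * hd
  let f : F → skewAdd σ × skewAdd σ := fun x =>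
    (⟨x - d * (x + σ x), hdec x⟩, ⟨θ * (x + σ x), by
      rw [mem_skewAdd, map_mul, map_add, hh.invol, hσθ]; ring⟩)
  have hf : Function.Bijective f := by
    refine ⟨fun x y e => ?_, fun p => ?_⟩
    · have e1 := congrArg (fun p : skewAdd σ × skewAdd σ => (p.1 : F)) e
      have e2 := mul_left_cancel₀ hθ0 (congrArg (fun p : skewAdd σ × skewAdd σ => (p.2 : F)) e)
      simp only [f] at e1
      linear_combination e1 + d * e2
    · have h1 := mem_skewAdd.1 p.1.2
      have h2 := mem_skewAdd.1 p.2.2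
      have hk : σ ((p.2 : F) / θ) = (p.2 : F) / θ := by
        rw [map_div₀, hσθ, show σ (p.2 : F) = -(p.2 : F) by linear_combination h2, neg_div_neg_eq]
      have hs : (p.1.1 + d * ((p.2 : F) / θ)) + σ (p.1.1 + d * ((p.2 : F) / θ)) = (p.2 : F) / θ := by
        rw [map_add, map_mul, hk]
        linear_combination h1 + ((p.2 : F) / θ) * hd
      refine ⟨p.1.1 + d * ((p.2 : F) / θ), Prod.ext (Subtype.ext ?_) (Subtype.ext ?_)⟩
      · show _ - d * _ = _
        rw [hs]; ring
      · show θ * _ = _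
        rw [hs]; field_simp
  rw [sq, ← Nat.card_prod]
  exact (Nat.card_congr (Equiv.ofBijective f hf)).symm

variable (hh : IsUnitaryForm σ h)
include hh

omit [FiniteDimensional F V] in
theorem skew_mul_trace {t : F} (a : skewAdd σ) (ht : σ t = t) : (a : F) * t ∈ skewAdd σ := by
  have := mem_skewAdd.1 a.2
  rw [mem_skewAdd, map_mul, ht]
  linear_combination t * this

/-- Every character of the skew scalars is `a ↦ γ (a * k)` with `σ k = k`. -/
theorem char_skew_surj {γ : AddChar (skewAdd σ) ℂ} (hγ : γ ≠ 1) (α : AddChar (skewAdd σ) ℂ) :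
    ∃ k : F, ∃ hk : σ k = k, ∀ a : skewAdd σ, α a = γ ⟨(a : F) * k, skew_mul_trace hh a hk⟩ := by
  classical
  have := Fintype.ofFinite F
  obtain ⟨θ, hθ0, hθ⟩ := hh.exists_skew
  let m : skewAdd σ → F := fun s => (s : F) / θ
  have hm : ∀ s, σ (m s) = m s := fun s => by
    have := mem_skewAdd.1 s.2
    show σ ((s : F) / θ) = _
    rw [map_div₀, show σ (s : F) = -(s : F) by linear_combination this, show σ θ = -θ by linear_combination hθ,
      neg_div_neg_eq]
  let mul : skewAdd σ → (skewAdd σ →+ skewAdd σ) := fun s =>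
    AddMonoidHom.mk' (fun a => ⟨(a : F) * m s, skew_mul_trace hh a (hm s)⟩)
      fun a b => Subtype.ext (by simp [add_mul])
  let Φ : skewAdd σ → AddChar (skewAdd σ) ℂ := fun s => γ.compAddMonoidHom (mul s)
  have hinj : Function.Injective Φ := by
    intro s t e
    by_contra hne
    have hd : m s - m t ≠ 0 := fun h0 => hne (Subtype.ext ((div_left_inj' hθ0).1 (sub_eq_zero.1 h0)))
    refine hγ (DFunLike.ext _ _ fun b => ?_)
    let a : skewAdd σ := ⟨(b : F) / (m s - m t), by
      have := mem_skewAdd.1 b.2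
      rw [mem_skewAdd, map_div₀, map_sub, hm, hm, ← add_div, this, zero_div]⟩
    have hab : mul s a = b + mul t a := Subtype.ext (by
      show (b : F) / (m s - m t) * m s = b + (b : F) / (m s - m t) * m t
      field_simp
      ring)
    have := DFunLike.congr_fun e a
    simp only [Φ, AddChar.compAddMonoidHom_apply, hab, AddChar.map_add_eq_mul] at this
    rw [AddChar.one_apply]
    have hne0 : γ (mul t a) ≠ 0 := fun h0 => by
      have h1 := AddChar.map_add_eq_mul γ (mul t a) (-(mul t a))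
      rw [add_neg_cancel, AddChar.map_zero_eq_one, h0, zero_mul] at h1
      exact one_ne_zero h1
    exact mul_right_cancel₀ hne0 (this.trans (one_mul _).symm)
  have := Fintype.ofFinite (skewAdd σ)
  obtain ⟨s, hs⟩ := ((Fintype.bijective_iff_injective_and_card Φ).2 ⟨hinj, AddChar.card_eq.symm⟩).2 α
  exact ⟨m s, hm s, fun a => by rw [← hs]; rfl⟩

/-- Every character of `F` is `b ↦ γ (s b - σ (s b))`. -/
theorem char_field_surj {γ : AddChar (skewAdd σ) ℂ} (hγ : γ ≠ 1) (μ : AddChar F ℂ) :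
    ∃ s : F, ∀ b : F, μ b = γ ⟨s * b - σ (s * b), by rw [mem_skewAdd, map_sub, hh.invol]; ring⟩ := by
  classical
  have := Fintype.ofFinite F
  let sk : F → (F →+ skewAdd σ) := fun s => AddMonoidHom.mk'
    (fun b => ⟨s * b - σ (s * b), by rw [mem_skewAdd, map_sub, hh.invol]; ring⟩)
    fun a b => Subtype.ext (by simp only [AddSubgroup.coe_add, mul_add, map_add]; ring)
  let Φ : F → AddChar F ℂ := fun s => γ.compAddMonoidHom (sk s)
  have hinj : Function.Injective Φ := by
    intro s t e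
    by_contra hne
    obtain ⟨d, hd⟩ := hh.exists_trace_one
    refine hγ (DFunLike.ext _ _ fun a => ?_)
    let b : F := d * (a : F) / (s - t)
    have hab : sk s b = a + sk t b := Subtype.ext (by
      show s * b - σ (s * b) = (a : F) + (t * b - σ (t * b))
      have h1 : s * b = d * (a : F) + t * b := by
        simp only [b]
        have := sub_ne_zero.2 hne
        field_simp
        ring
      have h2 := mem_skewAdd.1 a.2
      rw [h1, map_add, map_mul]
      linear_combination (a : F) * hd - σ d * h2)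
    have := DFunLike.congr_fun e b
    simp only [Φ, AddChar.compAddMonoidHom_apply, hab, AddChar.map_add_eq_mul] at this
    rw [AddChar.one_apply]
    have hne0 : γ (sk t b) ≠ 0 := fun h0 => by
      have h1 := AddChar.map_add_eq_mul γ (sk t b) (-(sk t b))
      rw [add_neg_cancel, AddChar.map_zero_eq_one, h0, zero_mul] at h1
      exact one_ne_zero h1
    exact mul_right_cancel₀ hne0 (this.trans (one_mul _).symm)
  obtain ⟨s, hs⟩ := ((Fintype.bijective_iff_injective_and_card Φ).2 ⟨hinj, AddChar.card_eq.symm⟩).2 μ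
  exact ⟨s, fun b => by rw [← hs]; rfl⟩

/-! ### Root elements in `SU` -/

/-- A root element in `SU`. -/
noncomputable def suElt (u w : V) (a : F) (hu : h u u = 0) (hw : h u w = 0)
    (ha : a + σ a + h w w = 0) : SUH h :=
  ⟨uRootElt hh u w a hu hw ha, uRootElt_det hh hu hw ha⟩

theorem suElt_smul {u w : V} {a : F} (hu : h u u = 0) (hw : h u w = 0)
    (ha : a + σ a + h w w = 0) (x : V) :
    suElt hh u w a hu hw ha • x = x + h u x • w + (a * h u x - h w x) • u :=
  uRootElt_smul hh hu hw ha x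

theorem su_ext {g k : SUH h} (e : ∀ x : V, g • x = k • x) : g = k := Subtype.ext (UH.ext' e)

theorem su_smul_comm (g : SUH h) (c : F) (x : V) : g • (c • x) = c • (g • x) :=
  map_smul ((g : UH h) : V ≃ₗ[F] V) c x

theorem su_form (g : SUH h) (x y : V) : h (g • x) (g • y) = h x y := uh_smul_smul (g : UH h) x y

/-- The transvection `x ↦ x + a h(u,x) u`. -/
noncomputable def suT (u : V) (hu : h u u = 0) (a : skewAdd σ) : SUH h :=
  suElt hh u 0 a hu (map_zero _) (by simpa using mem_skewAdd.1 a.2)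

theorem suT_smul {u : V} (hu : h u u = 0) (a : skewAdd σ) (x : V) :
    suT hh u hu a • x = x + ((a : F) * h u x) • u := by
  simp [suT, suElt_smul]

theorem suT_add {u : V} (hu : h u u = 0) (a b : skewAdd σ) :
    suT hh u hu (a + b) = suT hh u hu a * suT hh u hu b :=
  su_ext hh fun x => by
    simp only [mul_smul, suT_smul, map_add, map_smul, hu, smul_eq_mul, mul_zero, add_zero, AddSubgroup.coe_add]
    module

theorem suT_zero {u : V} (hu : h u u = 0) : suT hh u hu 0 = 1 :=
  su_ext hh fun x => by simp [suT_smul]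

theorem suT_conj (g : SUH h) {u : V} (hu : h u u = 0) (a : skewAdd σ) :
    g * suT hh u hu a = suT hh (g • u) (by rw [su_form hh]; exact hu) a * g :=
  su_ext hh fun x => by
    simp only [mul_smul, suT_smul, su_form hh, smul_add]
    congr 1
    rw [su_smul_comm hh, su_smul_comm hh]

theorem suT_congr {u u' : V} (hu : h u u = 0) (hu' : h u' u' = 0) (e : u = u') (a : skewAdd σ) :
    suT hh u hu a = suT hh u' hu' a := by
  subst e; rfl

/-- Scaling the centre of a transvection. -/
theorem suT_scale {u : V} (hu : h u u = 0) (c : F) (hcu : h (c • u) (c • u) = 0) (a : skewAdd σ) :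
    suT hh (c • u) hcu a = suT hh u hu
      ⟨(a : F) * (σ c * c), skew_mul_trace hh a (by rw [map_mul, hh.invol, mul_comm])⟩ :=
  su_ext hh fun x => by
    simp only [suT_smul, map_smulₛₗ, LinearMap.smul_apply, smul_eq_mul, smul_smul]
    module

/-! ### The diagonal elements -/

/-- `x ↦ x + (c - 1) h(v,x) u + ((σ c)⁻¹ - 1) h(u,x) v`. -/
noncomputable def uTorus {u v : V} (hu : h u u = 0) (hv : h v v = 0) (huv : h u v = 1) {c : F} (hc : c ≠ 0) :
    UH h :=
  uMk hh ((LinearMap.transvection ((c - 1) • h v) u).comp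
    (LinearMap.transvection (((σ c)⁻¹ - 1) • h u) v)) fun x y => by
      have hvu : h v u = 1 := by rw [hh.swap, huv, map_one]
      have hσc : σ c ≠ 0 := (map_ne_zero σ).2 hc
      simp only [LinearMap.comp_apply, LinearMap.transvection.apply, LinearMap.smul_apply, map_add,
        LinearMap.add_apply, map_smulₛₗ, map_sub, map_mul, map_inv₀, map_one, map_zero, RingHom.id_apply, smul_eq_mul,
        hh.invol, hu, hv, huv, hvu, hh.swap v x, hh.swap u x]
      field_simp
      ring

theorem uTorus_smul {u v : V} (hu : h u u = 0) (hv : h v v = 0) (huv : h u v = 1) {c : F} (hc : c ≠ 0) (x : V) :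
    uTorus hh hu hv huv hc • x = x + ((c - 1) * h v x) • u + (((σ c)⁻¹ - 1) * h u x) • v := by
  rw [uTorus, uMk_smul]
  simp [LinearMap.transvection.apply, hv]
  module

theorem uTorus_det {u v : V} (hu : h u u = 0) (hv : h v v = 0) (huv : h u v = 1) {c : F} (hc : c ≠ 0) :
    LinearMap.det ((uTorus hh hu hv huv hc : V ≃ₗ[F] V) : V →ₗ[F] V) = c * (σ c)⁻¹ := by
  have hvu : h v u = 1 := by rw [hh.swap, huv, map_one]
  change LinearMap.det ((LinearMap.transvection ((c - 1) • h v) u).comp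
    (LinearMap.transvection (((σ c)⁻¹ - 1) • h u) v)) = _
  rw [LinearMap.det_comp, LinearMap.transvection.det, LinearMap.transvection.det]
  simp only [LinearMap.smul_apply, huv, hvu, smul_eq_mul]
  ring

/-- A hyperbolic frame. -/
structure Frame (h : V →ₛₗ[σ] V →ₗ[F] F) (m : ℕ) where
  u : Fin m → V
  v : Fin m → V
  uu : ∀ i j, h (u i) (u j) = 0
  vv : ∀ i j, h (v i) (v j) = 0
  uv : ∀ i j, h (u i) (v j) = if i = j then 1 else 0

theorem Frame.vu {m : ℕ} (f : Frame h m) (i j : Fin m) : h (f.v i) (f.u j) = if i = j then 1 else 0 := by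
  rw [hh.swap, f.uv]
  by_cases e : i = j <;> simp [e, Ne.symm]

/-- An element of `SU` scaling `u i` by `c` and every other `u j` by a scalar. -/
theorem Frame.exists_torus {m : ℕ} (f : Frame h m) (hn : 3 ≤ finrank F V) (i : Fin m) {c : F} (hc : c ≠ 0) :
    ∃ g : SUH h, g • f.u i = c • f.u i ∧ ∀ j, j ≠ i → ∃ b : F, g • f.u j = b • f.u j := by
  have hu := f.uu i i
  have hv := f.vv i i
  have huv : h (f.u i) (f.v i) = 1 := by rw [f.uv]; simp
  have hσc : σ c ≠ 0 := (map_ne_zero σ).2 hc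
  let T := uTorus hh hu hv huv hc
  have hTi : T • f.u i = c • f.u i := by
    rw [uTorus_smul, Frame.vu hh, if_pos rfl, f.uu, mul_zero, zero_smul, add_zero]
    module
  have hTj : ∀ j, j ≠ i → T • f.u j = f.u j := fun j hj => by
    rw [uTorus_smul, Frame.vu hh, if_neg (Ne.symm hj), f.uu, mul_zero, mul_zero, zero_smul, zero_smul, add_zero,
      add_zero]
  by_cases hex : ∃ j, j ≠ i
  · obtain ⟨j, hj⟩ := hex
    have huv' : h (f.u j) (f.v j) = 1 := by rw [f.uv]; simp
    let T' := uTorus hh (f.uu j j) (f.vv j j) huv' (inv_ne_zero hc)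
    have hT' : ∀ l, T' • f.u l = (if l = j then c⁻¹ else 1) • f.u l := fun l => by
      rw [uTorus_smul, Frame.vu hh, f.uu, mul_zero, zero_smul, add_zero]
      by_cases e : l = j
      · subst e
        rw [if_pos rfl, if_pos rfl]
        module
      · rw [if_neg (Ne.symm e), if_neg e, mul_zero, zero_smul, add_zero, one_smul]
    refine ⟨⟨T * T', ?_⟩, ?_, fun l hl => ⟨if l = j then c⁻¹ else 1, ?_⟩⟩
    · rw [mem_SUH]
      change LinearMap.det (((T : V ≃ₗ[F] V) : V →ₗ[F] V).comp ((T' : V ≃ₗ[F] V) : V →ₗ[F] V)) = 1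
      rw [LinearMap.det_comp, uTorus_det, uTorus_det, map_inv₀]
      field_simp
    · show (T * T') • f.u i = _
      rw [mul_smul, hT', if_neg (Ne.symm hj), one_smul, hTi]
    · show (T * T') • f.u l = _
      rw [mul_smul, hT', smul_comm T, hTj l hl]
  · push Not at hex
    obtain ⟨b, hb1, hb2, hbb⟩ := exists_aniso_perp_pair hh hn hu hv (by rw [huv]; exact one_ne_zero)
    let e : F := σ c / c
    have hne : e * σ e = 1 := by
      simp only [e, map_div₀, hh.invol]
      field_simp
    let d : F := (e - 1) / h b b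
    have hd : d + σ d + d * σ d * h b b = 0 := by
      simp only [d, map_div₀, map_sub, map_one, hh.σ_self]
      field_simp
      linear_combination hne
    let E := uDil hh b d hd
    refine ⟨⟨T * E, ?_⟩, ?_, fun l hl => absurd (hex l) hl⟩
    · rw [mem_SUH]
      change LinearMap.det (((T : V ≃ₗ[F] V) : V →ₗ[F] V).comp ((E : V ≃ₗ[F] V) : V →ₗ[F] V)) = 1
      rw [LinearMap.det_comp, uTorus_det, uDil_det]
      simp only [d, e]
      field_simp
      ring
    · show (T * E) • f.u i = _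
      rw [mul_smul, uDil_smul, hh.comm_zero hb1, mul_zero, zero_smul, add_zero, hTi]

/-! ### The bound -/

variable {W : Type*} [AddCommGroup W] [Module ℂ W] [FiniteDimensional ℂ W] (ρ : Representation ℂ (SUH h) W)

/-- The transvection operators of `u`. -/
noncomputable def tOp (u : V) (hu : h u u = 0) (a : skewAdd σ) : W →ₗ[ℂ] W := ρ (suT hh u hu a)

theorem isOp_tOp [Fintype (skewAdd σ)] {u : V} (hu : h u u = 0) : IsOp (tOp hh ρ u hu) :=
  ⟨by rw [tOp, suT_zero, map_one], fun a b => by simp only [tOp, suT_add hh hu, map_mul]⟩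

/-- The vectors fixed by the transvections of `f.u j`, `j < i`. -/
noncomputable def fixedBelow {m : ℕ} (f : Frame h m) (i : ℕ) : Submodule ℂ W :=
  ⨅ (j : Fin m) (_ : (j : ℕ) < i), eigen (tOp hh ρ (f.u j) (f.uu j j)) 1

theorem mem_fixedBelow {m : ℕ} {f : Frame h m} {i : ℕ} {x : W} :
    x ∈ fixedBelow hh ρ f i ↔ ∀ j : Fin m, (j : ℕ) < i → ∀ a, ρ (suT hh (f.u j) (f.uu j j) a) x = x := by
  simp [fixedBelow, mem_eigen, tOp]

/-- A `g` scaling each `f.u j`, `j < i`, keeps `fixedBelow`. -/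
theorem fixedBelow_stable {m : ℕ} {f : Frame h m} {i : ℕ} {g : SUH h}
    (hg : ∀ j : Fin m, (j : ℕ) < i → ∃ b : F, g • f.u j = b • f.u j) {x : W}
    (hx : x ∈ fixedBelow hh ρ f i) : ρ g x ∈ fixedBelow hh ρ f i := by
  rw [mem_fixedBelow] at hx ⊢
  intro j hj a
  obtain ⟨b, hb⟩ := hg j hj
  have hb0 : b ≠ 0 := by
    rintro rfl
    have e : f.u j = 0 := by
      rw [← inv_smul_smul g (f.u j), hb, zero_smul]
      exact smul_zero _
    have := f.uv j j
    rw [e] at this
    simp at this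
  have hσb : σ b ≠ 0 := (map_ne_zero σ).2 hb0
  let a' : skewAdd σ := ⟨(a : F) * (σ b * b)⁻¹,
    skew_mul_trace hh a (by rw [map_inv₀, map_mul, hh.invol, mul_comm])⟩
  have e : g * suT hh (f.u j) (f.uu j j) a' = suT hh (f.u j) (f.uu j j) a * g := by
    rw [suT_conj, suT_congr hh _ (by rw [← hb, su_form hh]; exact f.uu j j) hb, suT_scale hh (f.uu j j)]
    congr 2
    refine Subtype.ext ?_
    show (a : F) * (σ b * b)⁻¹ * (σ b * b) = a
    field_simp
  have h1 : ρ g (ρ (suT hh (f.u j) (f.uu j j) a') x) = ρ (suT hh (f.u j) (f.uu j j) a) (ρ g x) := by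
    rw [← Module.End.mul_apply, ← Module.End.mul_apply, ← map_mul, ← map_mul, e]
  rw [hx j hj a'] at h1
  exact h1.symm

/-- If `u` is moved by some transvection group on `x`, the same happens to the translate. -/
theorem move_eigen (g : SUH h) {u u' : V} (hu : h u u = 0) (hu' : h u' u' = 0) (e : g • u = u')
    {χ : AddChar (skewAdd σ) ℂ} {x : W} (hx : x ∈ eigen (tOp hh ρ u hu) χ) :
    ρ g x ∈ eigen (tOp hh ρ u' hu') χ := by
  rw [mem_eigen] at hx ⊢
  intro a
  have h1 : g * suT hh u hu a = suT hh u' hu' a * g := by rw [suT_conj, suT_congr hh _ hu' e]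
  show ρ (suT hh u' hu' a) (ρ g x) = _
  rw [← Module.End.mul_apply, ← map_mul, ← h1, map_mul, Module.End.mul_apply, show ρ (suT hh u hu a) x = _ from hx a,
    map_smul]

/-- A nontrivial character of `T (u i)` on `fixedBelow i` gives all of them. -/
theorem exists_every {m : ℕ} (f : Frame h m) (hn : 3 ≤ finrank F V) (i : Fin m) {χ χ' : AddChar (skewAdd σ) ℂ}
    (hχ : χ ≠ 1) (hχ' : χ' ≠ 1)
    (hne : fixedBelow hh ρ f i ⊓ eigen (tOp hh ρ (f.u i) (f.uu i i)) χ ≠ ⊥) :
    fixedBelow hh ρ f i ⊓ eigen (tOp hh ρ (f.u i) (f.uu i i)) χ' ≠ ⊥ := by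
  obtain ⟨x, ⟨hx1, hx2⟩, hx0⟩ := (Submodule.ne_bot_iff _).1 hne
  obtain ⟨k, hk, hkχ⟩ := char_skew_surj hh hχ χ'
  have hk0 : k ≠ 0 := by
    rintro rfl
    exact hχ' (DFunLike.ext _ _ fun a => by
      rw [hkχ, AddChar.one_apply, show (⟨(a : F) * 0, _⟩ : skewAdd σ) = 0 from Subtype.ext (mul_zero _),
        AddChar.map_zero_eq_one])
  obtain ⟨c, hc⟩ := hh.exists_norm_eq (c := k⁻¹) (by rw [map_inv₀, hk])
  have hc0 : c ≠ 0 := by
    rintro rfl
    exact hk0 (by simpa using hc.symm)
  obtain ⟨g, hg1, hg2⟩ := f.exists_torus hh hn i hc0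
  refine (Submodule.ne_bot_iff _).2 ⟨ρ g x, ⟨fixedBelow_stable hh ρ (fun j hj => hg2 j (by
    intro e; subst e; exact lt_irrefl _ hj)) hx1, ?_⟩, fun e => hx0 ?_⟩
  · have hcu : h (c • f.u i) (c • f.u i) = 0 := by simp [f.uu i i]
    have h1 := mem_eigen.1 (move_eigen hh ρ g (f.uu i i) hcu hg1 hx2)
    rw [SetLike.mem_coe, mem_eigen]
    intro a
    have h2 := h1 ⟨(a : F) * k, skew_mul_trace hh a hk⟩
    show ρ (suT hh (f.u i) (f.uu i i) a) (ρ g x) = _
    rw [hkχ]
    simp only [tOp, suT_scale hh (f.uu i i)] at h2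
    refine Eq.trans (congrArg (fun b => ρ (suT hh (f.u i) (f.uu i i) b) (ρ g x)) (Subtype.ext ?_)) h2
    show (a : F) = (a : F) * k * (σ c * c)
    rw [hc]
    field_simp
  · have := congrArg (ρ g⁻¹) e
    rwa [map_zero, ← Module.End.mul_apply, ← map_mul, inv_mul_cancel, map_one] at this

/-- Moving along a totally isotropic line: some `u + t u'` is fixed. -/
theorem exists_line {u u' : V} (hu : h u u = 0) (hu' : h u' u' = 0) (huu' : h u u' = 0)
    {M : Submodule ℂ W} {x : W} (hx : x ∈ M) (hx0 : x ≠ 0)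
    (hM : ∀ g : SUH h, (∀ y, h u y = 0 → h u' y = 0 → g • y = y) → ∀ z ∈ M, ρ g z ∈ M)
    {α : AddChar (skewAdd σ) ℂ} (hxα : x ∈ eigen (tOp hh ρ u hu) α) :
    ∃ (γ : AddChar (skewAdd σ) ℂ) (y : W), y ∈ M ∧ y ≠ 0 ∧ y ∈ eigen (tOp hh ρ u hu) α ∧
      y ∈ eigen (tOp hh ρ u' hu') γ ∧ (γ ≠ 1 → ∃ (t : F) (ht : h (u + t • u') (u + t • u') = 0),
        y ∈ eigen (tOp hh ρ (u + t • u') ht) 1) := by
  classical
  have := Fintype.ofFinite F
  have := Fintype.ofFinite (skewAdd σ)
  have hu'u : h u' u = 0 := hh.comm_zero huu'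
  -- the abelian group of the line
  let R : F → SUH h := fun b => suElt hh u (b • u') 0 hu (by simp [huu']) (by simp [hu'])
  have hR : ∀ b y, R b • y = y + h u y • (b • u') + (-(σ b * h u' y)) • u := fun b y => by
    simp only [R, suElt_smul, map_smulₛₗ, LinearMap.smul_apply, smul_eq_mul, zero_mul, zero_sub]
  let P : skewAdd σ × F × skewAdd σ → SUH h := fun p => suT hh u hu p.1 * R p.2.1 * suT hh u' hu' p.2.2
  have hP : ∀ p y, P p • y = y + (p.2.2 * h u' y) • u' + h u y • (p.2.1 • u') +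
      ((p.1 : F) * h u y - σ p.2.1 * h u' y) • u := fun p y => by
    simp only [P, mul_smul, suT_smul, hR, map_add, map_smul, hu, hu', huu', hu'u, smul_eq_mul, mul_zero, add_zero]
    module
  have hop : IsOp fun p => ρ (P p) := by
    refine ⟨?_, fun p p' => ?_⟩
    · show ρ (P 0) = 1
      rw [show P 0 = 1 from su_ext hh fun y => by simp [hP], map_one]
    · rw [← map_mul]
      refine congrArg ρ (su_ext hh fun y => ?_)
      simp only [mul_smul, hP, map_add, map_smul, hu, hu', huu', hu'u, smul_eq_mul, mul_zero, add_zero,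
        Prod.fst_add, Prod.snd_add, AddSubgroup.coe_add]
      module
  have hPfix : ∀ p y, h u y = 0 → h u' y = 0 → P p • y = y := fun p y h1 h2 => by
    rw [hP, h1, h2]; simp
  have hP1 : ∀ a : skewAdd σ, P (a, 0, 0) = suT hh u hu a := fun a => su_ext hh fun y => by
    simp [hP, suT_smul]
  have hP3 : ∀ c : skewAdd σ, P (0, 0, c) = suT hh u' hu' c := fun c => su_ext hh fun y => by
    simp [hP, suT_smul]
  obtain ⟨φ, y, hy, hy0, hyφ⟩ := exists_eigen hop (M := M ⊓ eigen (tOp hh ρ u hu) α)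
    (fun p z hz => ⟨hM _ (hPfix p) z hz.1, by
      have hsw : P p • u = u := hPfix p u hu hu'u
      exact move_eigen hh ρ (P p) hu hu hsw hz.2⟩) (x := x) ⟨hx, hxα⟩ hx0
  have hyφ' := mem_eigen.1 hyφ
  let γ : AddChar (skewAdd σ) ℂ := φ.compAddMonoidHom
    (AddMonoidHom.mk' (fun c => ((0 : skewAdd σ), (0 : F), c)) fun a b => by simp)
  let μ : AddChar F ℂ := φ.compAddMonoidHom
    (AddMonoidHom.mk' (fun b => ((0 : skewAdd σ), b, (0 : skewAdd σ))) fun a b => by simp)
  have hγy : y ∈ eigen (tOp hh ρ u' hu') γ := mem_eigen.2 fun c => by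
    show ρ (suT hh u' hu' c) y = φ (0, 0, c) • y
    rw [← hP3, ← hyφ']
  refine ⟨γ, y, hy.1, hy0, hy.2, hγy, fun hγ => ?_⟩
  have hαφ : ∀ a, α a = φ (a, 0, 0) := fun a => by
    have h1 : ρ (P (a, 0, 0)) y = α a • y := by rw [hP1]; exact mem_eigen.1 hy.2 a
    rw [hyφ'] at h1
    exact (smul_left_injective ℂ hy0 h1).symm
  obtain ⟨k, hk, hkα⟩ := char_skew_surj hh hγ α
  obtain ⟨s, hs⟩ := char_field_surj hh hγ μ
  obtain ⟨r, hr⟩ := hh.exists_norm_eq (c := σ s * s - k) (by rw [map_sub, map_mul, hh.invol, hk, mul_comm])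
  refine ⟨r - σ s, by simp [hu, hu', huu', hu'u], mem_eigen.2 fun a => ?_⟩
  let t : F := r - σ s
  have ha := mem_skewAdd.1 a.2
  have hb : suT hh (u + t • u') (by simp [hu, hu', huu', hu'u]) a =
      P (a, (a : F) * t, ⟨(a : F) * (σ t * t), skew_mul_trace hh a (by rw [map_mul, hh.invol, mul_comm])⟩) :=
    su_ext hh fun z => by
      simp only [suT_smul, hP, map_add, map_smulₛₗ, LinearMap.add_apply, LinearMap.smul_apply, smul_eq_mul,
        map_mul, show σ (a : F) = -(a : F) by linear_combination ha]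
      module
  show ρ _ y = (1 : AddChar (skewAdd σ) ℂ) a • y
  rw [hb, hyφ', AddChar.one_apply]
  congr 1
  rw [show ((a, (a : F) * t, ⟨(a : F) * (σ t * t), _⟩) : skewAdd σ × F × skewAdd σ) =
    (a, 0, 0) + ((0, (a : F) * t, 0) + (0, 0, ⟨(a : F) * (σ t * t),
      skew_mul_trace hh a (by rw [map_mul, hh.invol, mul_comm])⟩)) by simp,
    AddChar.map_add_eq_mul, AddChar.map_add_eq_mul, ← hαφ]
  show α a * (μ ((a : F) * t) * γ _) = 1
  rw [hkα, hs, ← AddChar.map_add_eq_mul, ← AddChar.map_add_eq_mul]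
  refine Eq.trans (congrArg γ (Subtype.ext ?_)) γ.map_zero_eq_one
  show (a : F) * k + (s * ((a : F) * t) - σ (s * ((a : F) * t)) + (a : F) * (σ t * t)) = 0
  simp only [t, map_sub, map_mul, hh.invol, show σ (a : F) = -(a : F) by linear_combination ha]
  linear_combination (a : F) * hr

/-- On the fixed space of the earlier transvection groups the next one acts nontrivially. -/
theorem exists_nontrivial {m : ℕ} (f : Frame h m)
    (hT : ∀ (u : V) (hu : h u u = 0), u ≠ 0 → ∃ a x, ρ (suT hh u hu a) x ≠ x) :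
    ∀ i (hi : i < m), ∃ χ, χ ≠ 1 ∧
      fixedBelow hh ρ f i ⊓ eigen (tOp hh ρ (f.u ⟨i, hi⟩) (f.uu _ _)) χ ≠ ⊥ := by
  classical
  have := Fintype.ofFinite F
  have := Fintype.ofFinite (skewAdd σ)
  intro i
  induction i with
  | zero =>
    intro hi
    obtain ⟨a, x, hx⟩ := hT (f.u ⟨0, hi⟩) (f.uu _ _) (fun e => by
      have := f.uv ⟨0, hi⟩ ⟨0, hi⟩
      rw [e] at this
      simp at this)
    obtain ⟨χ, hχ, y, -, hy0, hy⟩ := exists_eigen_ne_one (isOp_tOp hh ρ (f.uu ⟨0, hi⟩ ⟨0, hi⟩))
      (M := ⊤) (fun _ _ _ => trivial) (x := x) trivial hx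
    exact ⟨χ, hχ, (Submodule.ne_bot_iff _).2 ⟨y, ⟨mem_fixedBelow hh ρ |>.2 fun j hj => absurd hj (Nat.not_lt_zero _),
      hy⟩, hy0⟩⟩
  | succ i ih =>
    intro hi
    obtain ⟨α, hα, hne⟩ := ih (by omega)
    obtain ⟨x, ⟨hx1, hx2⟩, hx0⟩ := (Submodule.ne_bot_iff _).1 hne
    set u := f.u ⟨i, by omega⟩ with hu_def
    set u' := f.u ⟨i + 1, hi⟩ with hu'_def
    set v := f.v ⟨i, by omega⟩ with hv_def
    set v' := f.v ⟨i + 1, hi⟩ with hv'_def
    have hne' : (⟨i, by omega⟩ : Fin m) ≠ ⟨i + 1, hi⟩ := by simp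
    have hu : h u u = 0 := f.uu _ _
    have hu' : h u' u' = 0 := f.uu _ _
    have huu' : h u u' = 0 := f.uu _ _
    have huv : h u v = 1 := by rw [hu_def, hv_def, f.uv]; simp
    have hu'v' : h u' v' = 1 := by rw [hu'_def, hv'_def, f.uv]; simp
    have hu'v : h u' v = 0 := by rw [hu'_def, hv_def, f.uv, if_neg hne'.symm]
    have huv' : h u v' = 0 := by rw [hu_def, hv'_def, f.uv, if_neg hne']
    have hfix : ∀ g : SUH h, (∀ y, h u y = 0 → h u' y = 0 → g • y = y) →
        ∀ z ∈ fixedBelow hh ρ f i, ρ g z ∈ fixedBelow hh ρ f i := fun g hg z hz =>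
      fixedBelow_stable hh ρ (fun j _ => ⟨1, by rw [one_smul]; exact hg _ (f.uu _ _) (f.uu _ _)⟩) hz
    -- `E t : u ↦ u + t u'` and `E' t : u' ↦ u' + t u`
    let E : F → SUH h := fun t => suElt hh u' ((-σ t) • v) 0 hu' (by simp [hu'v]) (by simp [f.vv, hv_def])
    let E' : F → SUH h := fun t => suElt hh u ((-σ t) • v') 0 hu (by simp [huv']) (by simp [f.vv, hv'_def])
    have hE : ∀ t, E t • u = u + t • u' := fun t => by
      simp only [E, suElt_smul, hh.comm_zero huu', map_smulₛₗ, LinearMap.smul_apply, map_neg, hh.invol,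
        hh.swap u v, huv, map_one, smul_eq_mul]
      module
    have hEu' : ∀ t, E t • u' = u' := fun t => by
      simp [E, suElt_smul, hu', hh.comm_zero hu'v]
    have hE' : ∀ t, E' t • u' = u' + t • u := fun t => by
      simp only [E', suElt_smul, huu', map_smulₛₗ, LinearMap.smul_apply, map_neg, hh.invol,
        hh.swap u' v', hu'v', map_one, smul_eq_mul]
      module
    have hE'u : ∀ t, E' t • u = u := fun t => by
      simp [E', suElt_smul, hu, hh.comm_zero huv']
    have hEfix : ∀ t (j : Fin m), (j : ℕ) < i → E t • f.u j = f.u j := fun t j hj => by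
      have hj' : h v (f.u j) = 0 := by
        rw [hv_def, Frame.vu hh, if_neg (fun e => by rw [← e] at hj; simp at hj)]
      simp [E, suElt_smul, hu'_def, f.uu, hj']
    have hE'fix : ∀ t (j : Fin m), (j : ℕ) < i → E' t • f.u j = f.u j := fun t j hj => by
      have hj' : h v' (f.u j) = 0 := by
        rw [hv'_def, Frame.vu hh, if_neg (fun e => by rw [← e] at hj; simp at hj)]
      simp [E', suElt_smul, hu_def, f.uu, hj']
    obtain ⟨γ, y, hy, hy0, hyα, hyγ, hline⟩ := exists_line hh ρ hu hu' huu' hx1 hx0 hfix hx2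
    -- a `g` putting a fixed line first and a moved one second
    suffices hsuff : ∃ g : SUH h, (∀ j : Fin m, (j : ℕ) < i → g • f.u j = f.u j) ∧
        ∀ (w w' : V) (hw : h w w = 0) (hw' : h w' w' = 0), g • u = w → g • u' = w' →
          y ∈ eigen (tOp hh ρ w hw) 1 ∧ ∃ χ, χ ≠ 1 ∧ y ∈ eigen (tOp hh ρ w' hw') χ by
      obtain ⟨g, hgfix, hg⟩ := hsuff
      have hgu : h (g • u) (g • u) = 0 := by rw [su_form hh]; exact hu
      have hgu' : h (g • u') (g • u') = 0 := by rw [su_form hh]; exact hu'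
      obtain ⟨h1, χ, hχ, h2⟩ := hg _ _ hgu hgu' rfl rfl
      refine ⟨χ, hχ, (Submodule.ne_bot_iff _).2 ⟨ρ g⁻¹ y, ⟨?_, ?_⟩, fun e => hy0 ?_⟩⟩
      · refine (mem_fixedBelow hh ρ).2 fun j hj a => ?_
        rcases Nat.lt_succ_iff_lt_or_eq.1 hj with hj | hj
        · exact mem_fixedBelow hh ρ |>.1 (fixedBelow_stable hh ρ (fun l hl => ⟨1, by
            rw [one_smul, inv_smul_eq_iff, hgfix l hl]⟩) hy) j hj a
        · obtain rfl : j = ⟨i, Nat.lt_of_succ_lt hi⟩ := Fin.ext hj
          have := mem_eigen.1 (move_eigen hh ρ g⁻¹ hgu hu (inv_smul_smul _ _) h1) a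
          rwa [AddChar.one_apply, one_smul] at this
      · exact move_eigen hh ρ g⁻¹ hgu' hu' (inv_smul_smul _ _) h2
      · have := congrArg (ρ g) e
        rwa [map_zero, ← Module.End.mul_apply, ← map_mul, mul_inv_cancel, map_one] at this
    by_cases hγ : γ = 1
    · subst hγ
      let g := E 1 * E' (-1) * E 1
      have hgu : g • u = u' := by
        simp only [g, mul_smul, hE, one_smul]
        rw [smul_add (E' (-1)), hE'u, hE', smul_add (E 1), smul_add (E 1), hE, hEu', su_smul_comm hh (E 1) (-1 : F),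
          hE]
        module
      have hgu' : g • u' = (-1 : F) • u := by
        simp only [g, mul_smul, hEu', hE']
        rw [smul_add, hEu', su_smul_comm hh (E 1) (-1 : F), hE]
        module
      refine ⟨g, fun j hj => by simp only [g, mul_smul, hEfix _ j hj, hE'fix _ j hj], fun w w' hw hw' e e' => ?_⟩
      subst e; subst e'
      refine ⟨mem_eigen.2 fun a => ?_, α, hα, mem_eigen.2 fun a => ?_⟩
      · show ρ (suT hh _ hw a) y = _
        rw [suT_congr hh hw hu' hgu]
        exact mem_eigen.1 hyγ a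
      · show ρ (suT hh _ hw' a) y = _
        rw [suT_congr hh hw' (by simp [hu]) hgu', suT_scale hh hu]
        refine Eq.trans (congrArg (fun b => ρ (suT hh u hu b) y) (Subtype.ext ?_)) (mem_eigen.1 hyα a)
        simp
    · obtain ⟨t, ht, hyt⟩ := hline hγ
      refine ⟨E t, fun j hj => hEfix t j hj, fun w w' hw hw' e e' => ⟨mem_eigen.2 fun a => ?_, γ, hγ,
        mem_eigen.2 fun a => ?_⟩⟩
      · show ρ (suT hh w hw a) y = _
        rw [suT_congr hh hw ht (e.symm.trans (hE t))]
        exact mem_eigen.1 hyt a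
      · show ρ (suT hh w' hw' a) y = _
        rw [suT_congr hh hw' hu' (e'.symm.trans (hEu' t))]
        exact mem_eigen.1 hyγ a

/-- The space orthogonal to the first members of the frame. -/
noncomputable def perpMap {m : ℕ} (f : Frame h m) (i : Fin m) :
    V →ₗ[F] (Fin ((i : ℕ) + 1) → F) × (Fin ((i : ℕ) + 1) → F) :=
  LinearMap.prod (LinearMap.pi fun j => h (f.u (Fin.castLE i.2 j)))
    (LinearMap.pi fun j => h (f.v (Fin.castLE i.2 j)))

/-- An eigenspace is large. -/
theorem eigen_finrank_ge {m : ℕ} (f : Frame h m) (i : Fin m) {χ : AddChar (skewAdd σ) ℂ} (hχ : χ ≠ 1)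
    (hne : fixedBelow hh ρ f i ⊓ eigen (tOp hh ρ (f.u i) (f.uu i i)) χ ≠ ⊥) :
    Nat.card F ^ (finrank F V - 2 * ((i : ℕ) + 1)) ≤
      finrank ℂ (fixedBelow hh ρ f i ⊓ eigen (tOp hh ρ (f.u i) (f.uu i i)) χ : Submodule ℂ W) ^ 2 := by
  classical
  set M := fixedBelow hh ρ f i ⊓ eigen (tOp hh ρ (f.u i) (f.uu i i)) χ with hM
  set Y := LinearMap.ker (perpMap f i) with hY
  have hmem : ∀ y ∈ Y, ∀ j : Fin m, (j : ℕ) ≤ i → h (f.u j) y = 0 ∧ h (f.v j) y = 0 := by
    intro y hy j hj
    have h1 := congrArg (fun p => p.1 ⟨j, by omega⟩) (LinearMap.mem_ker.1 hy)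
    have h2 := congrArg (fun p => p.2 ⟨j, by omega⟩) (LinearMap.mem_ker.1 hy)
    exact ⟨h1, h2⟩
  have hrank : finrank F V - 2 * ((i : ℕ) + 1) ≤ finrank F Y := by
    have h1 := LinearMap.finrank_range_add_finrank_ker (perpMap f i)
    have h2 := Submodule.finrank_le (LinearMap.range (perpMap f i))
    rw [Module.finrank_prod, Module.finrank_fin_fun] at h2
    rw [hY]
    omega
  obtain ⟨d, hd⟩ := hh.exists_trace_one
  have hdσ : ∀ y : V, -(d * h y y) + σ (-(d * h y y)) + h y y = 0 := fun y => by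
    rw [map_neg, map_mul, hh.σ_self]
    linear_combination -(h y y) * hd
  let A : Y → SUH h := fun y => suElt hh (f.u i) y.1 (-(d * h y.1 y.1)) (f.uu i i)
    (hmem _ y.2 i le_rfl).1 (hdσ _)
  have hA : ∀ y : Y, ∀ j : Fin m, (j : ℕ) ≤ i → A y • f.u j = f.u j := fun y j hj => by
    simp [A, suElt_smul, f.uu, hh.comm_zero (hmem _ y.2 j hj).1]
  have hMA : ∀ y : Y, ∀ x ∈ M, ρ (A y) x ∈ M := fun y x hx =>
    ⟨fixedBelow_stable hh ρ (fun j hj => ⟨1, by rw [one_smul, hA y j hj.le]⟩) hx.1,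
      move_eigen hh ρ (A y) _ _ (hA y i le_rfl) hx.2⟩
  let op : Y → (M →ₗ[ℂ] M) := fun y => (ρ (A y)).restrict (hMA y)
  let ω : Y → Y → skewAdd σ := fun y z => ⟨h z.1 y.1 - h y.1 z.1, by
    rw [mem_skewAdd, map_sub, ← hh.swap, ← hh.swap]; ring⟩
  have hcomm : ∀ y z : Y, A y * A z = suT hh (f.u i) (f.uu i i) (ω y z) * (A z * A y) := fun y z =>
    su_ext hh fun x => by
      simp only [mul_smul, A, suElt_smul, suT_smul, ω, map_add, map_smul, smul_eq_mul, f.uu,
        (hmem _ z.2 i le_rfl).1, (hmem _ y.2 i le_rfl).1, hh.comm_zero (hmem _ y.2 i le_rfl).1,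
        hh.comm_zero (hmem _ z.2 i le_rfl).1, mul_zero, add_zero, sub_zero, zero_add]
      module
  have hopc : ∀ y z, op y ∘ₗ op z = χ (ω y z) • (op z ∘ₗ op y) := fun y z => by
    refine LinearMap.ext fun x => Subtype.ext ?_
    show ρ (A y) (ρ (A z) x.1) = χ (ω y z) • ρ (A z) (ρ (A y) x.1)
    rw [← Module.End.mul_apply, ← map_mul, hcomm, map_mul, Module.End.mul_apply, map_mul, Module.End.mul_apply]
    exact mem_eigen.1 ((hMA z _ (hMA y _ x.2)).2) _
  have hnd : ∀ z : Y, z ≠ 0 → ∃ y : Y, χ (ω y z) ≠ 1 := by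
    intro z hz
    obtain ⟨y, hy⟩ : ∃ y : Y, h y.1 z.1 ≠ 0 := by
      by_contra hall
      push Not at hall
      refine hz (Subtype.ext (hh.sep _ fun x => ?_))
      let p := x - ∑ j : Fin ((i : ℕ) + 1), (h (f.v (Fin.castLE i.2 j)) x • f.u (Fin.castLE i.2 j) +
        h (f.u (Fin.castLE i.2 j)) x • f.v (Fin.castLE i.2 j))
      have hp : p ∈ Y := by
        rw [hY, LinearMap.mem_ker]
        refine Prod.ext (funext fun l => ?_) (funext fun l => ?_)
        · show h (f.u (Fin.castLE i.2 l)) p = 0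
          simp [p, map_sum, f.uu, f.uv, Fin.castLE_inj]
        · show h (f.v (Fin.castLE i.2 l)) p = 0
          simp [p, map_sum, f.vv, Frame.vu hh, Fin.castLE_inj]
      have h0 : h z.1 p = 0 := hh.comm_zero (hall ⟨p, hp⟩)
      have hz0 : ∀ j : Fin ((i : ℕ) + 1), h z.1 (f.u (Fin.castLE i.2 j)) = 0 ∧
          h z.1 (f.v (Fin.castLE i.2 j)) = 0 := fun j =>
        have hj : ((Fin.castLE i.2 j : Fin m) : ℕ) ≤ i := by have := j.2; simp; omega
        ⟨hh.comm_zero (hmem _ z.2 _ hj).1, hh.comm_zero (hmem _ z.2 _ hj).2⟩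
      simpa [p, map_sum, hz0] using h0
    obtain ⟨a, ha⟩ := AddChar.ne_one_iff.1 hχ
    refine ⟨(d * (a : F) / σ (h y.1 z.1)) • y, fun e => ha (Eq.trans (congrArg χ (Subtype.ext ?_)) e)⟩
    have h1 : σ (h y.1 z.1) ≠ 0 := (map_ne_zero σ).2 hy
    have h2 := mem_skewAdd.1 a.2
    show (a : F) = h z.1 ((d * (a : F) / σ (h y.1 z.1)) • y.1) - h ((d * (a : F) / σ (h y.1 z.1)) • y.1) z.1
    rw [map_smul, map_smulₛₗ, LinearMap.smul_apply, smul_eq_mul, smul_eq_mul, hh.swap y.1 z.1, map_div₀,
      map_mul, hh.invol]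
    field_simp
    linear_combination -(a : F) * hd + σ d * h2
  have : Finite V := Module.finite_of_finite F
  have := Fintype.ofFinite Y
  have hind : LinearIndependent ℂ op := by
    rw [Fintype.linearIndependent_iff]
    intro c hc z₀
    have h1 : ∀ y, ∑ z, (c z * χ (ω y z)) • (op z ∘ₗ op y) = 0 := fun y => by
      refine LinearMap.ext fun x => ?_
      have h5 := congrArg (op y) (LinearMap.congr_fun hc x)
      simp only [LinearMap.sum_apply, LinearMap.smul_apply, LinearMap.zero_apply, map_sum, map_smul, map_zero] at h5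
      rw [LinearMap.zero_apply, ← h5, LinearMap.sum_apply]
      refine Finset.sum_congr rfl fun z _ => ?_
      have h6 : op y (op z x) = χ (ω y z) • op z (op y x) := LinearMap.congr_fun (hopc y z) x
      rw [h6, LinearMap.smul_apply, LinearMap.comp_apply, smul_smul]
    have h2 : ∀ y, ∑ z, (c z * χ (ω y z)) • op z = 0 := fun y => by
      refine LinearMap.ext fun x => ?_
      obtain ⟨x', rfl⟩ : ∃ x', op y x' = x :=
        (LinearMap.injective_iff_surjective (f := op y)).1 (fun a b e => by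
          have := congrArg (fun v : M => ρ (A y)⁻¹ v.1) e
          simpa [op, ← Module.End.mul_apply, ← map_mul] using this) x
      simpa using LinearMap.congr_fun (h1 y) x'
    let χy : Y → AddChar Y ℂ := fun z => χ.compAddMonoidHom
      (AddMonoidHom.mk' (fun y => ω y z) fun a b => Subtype.ext (by
        simp only [ω, Submodule.coe_add, map_add, LinearMap.add_apply, AddSubgroup.coe_add]; ring))
    have h3 : ∑ z : Y, ∑ y : Y, (χy z₀ (-y) * (c z * χy z y)) • op z = 0 := by
      rw [Finset.sum_comm]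
      refine Finset.sum_eq_zero fun y _ => ?_
      simp only [← smul_smul (χy z₀ (-y)), ← Finset.smul_sum]
      exact smul_eq_zero_of_right _ (h2 y)
    rw [Finset.sum_eq_single z₀ (fun z _ hne => ?_) (by simp)] at h3
    · rw [Finset.sum_congr rfl fun y _ => show (χy z₀ (-y) * (c z₀ * χy z₀ y)) • op z₀ = c z₀ • op z₀ by
        rw [mul_left_comm, ← AddChar.map_add_eq_mul, neg_add_cancel, AddChar.map_zero_eq_one, mul_one],
        Finset.sum_const, Finset.card_univ, ← Nat.cast_smul_eq_nsmul ℂ, smul_smul] at h3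
      rcases smul_eq_zero.1 h3 with h4 | h4
      · exact (mul_eq_zero.1 h4).resolve_left (Nat.cast_ne_zero.2 Fintype.card_ne_zero)
      · obtain ⟨x, hx, hx0⟩ := (Submodule.ne_bot_iff _).1 hne
        have h5 := congrArg Subtype.val (LinearMap.congr_fun h4 ⟨x, hx⟩)
        have h6 : ρ (A z₀) x = 0 := h5
        have h7 := congrArg (ρ (A z₀)⁻¹) h6
        rw [map_zero, ← Module.End.mul_apply, ← map_mul, inv_mul_cancel, map_one] at h7
        exact absurd h7 hx0
    · rw [← Finset.sum_smul]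
      have hd' : χy z * (χy z₀)⁻¹ ≠ 1 := by
        intro e
        have e' : χy z = χy z₀ := mul_inv_eq_one.1 e
        obtain ⟨y, hy⟩ := hnd (z - z₀) (sub_ne_zero.2 hne)
        apply hy
        have h5 : χ (ω y z) = χ (ω y z₀) := DFunLike.congr_fun e' y
        have h6 : ω y z = ω y z₀ + ω y (z - z₀) := Subtype.ext (by
          simp only [ω, Submodule.coe_sub, map_sub, LinearMap.sub_apply, AddSubgroup.coe_add]; ring)
        rw [h6, AddChar.map_add_eq_mul] at h5
        have h7 : χ (ω y z₀) ≠ 0 := fun h0 => by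
          have h1 := AddChar.map_add_eq_mul χ (ω y z₀) (-(ω y z₀))
          rw [add_neg_cancel, AddChar.map_zero_eq_one, h0, zero_mul] at h1
          exact one_ne_zero h1
        exact mul_left_cancel₀ h7 (h5.trans (mul_one _).symm)
      rw [Finset.sum_congr rfl fun y _ => show χy z₀ (-y) * (c z * χy z y) = c z * ((χy z * (χy z₀)⁻¹) y) by
        rw [AddChar.mul_apply, AddChar.inv_apply]; ring, ← Finset.mul_sum, AddChar.sum_eq_zero_of_ne_one hd',
        mul_zero, zero_smul]
  have hcard := hind.fintype_card_le_finrank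
  rw [Module.finrank_linearMap, ← Nat.card_eq_fintype_card, Module.natCard_eq_pow_finrank (K := F), ← sq] at hcard
  exact (Nat.pow_le_pow_right Nat.card_pos hrank).trans hcard

/-- The bound. -/
theorem unitary_degree_ge {m : ℕ} (f : Frame h m) (hn : 3 ≤ finrank F V)
    (hperf : commutator (SUH h) = ⊤) (hρ : ∃ g, ρ g ≠ 1) :
    ∑ i ∈ Finset.range m, (Nat.card (skewAdd σ) - 1) * Nat.card (skewAdd σ) ^ (finrank F V - 2 * (i + 1)) ≤
      finrank ℂ W := by
  classical
  have := Fintype.ofFinite F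
  have := Fintype.ofFinite (skewAdd σ)
  have hT : ∀ (u : V) (hu : h u u = 0), u ≠ 0 → ∃ a x, ρ (suT hh u hu a) x ≠ x := by
    intro u hu hu0
    by_contra hall
    push Not at hall
    obtain ⟨θ, hθ0, hθ⟩ := hh.exists_skew
    have hmem : suT hh u hu ⟨θ, hθ⟩ ∈ ρ.ker := MonoidHom.mem_ker.2 (LinearMap.ext fun x => hall _ x)
    rcases SUH_normal_eq_top_or_le_center hh hn hperf ρ.ker with hK | hK
    · obtain ⟨g, hg⟩ := hρ
      exact hg (MonoidHom.mem_ker.1 (by rw [hK]; trivial))
    · obtain ⟨b, -, hb⟩ := (SUH_mem_center_iff hh hn _).1 (hK hmem)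
      have e1 := hb u
      rw [suT_smul, hu, mul_zero, zero_smul, add_zero] at e1
      have hb1 : b = 1 := (smul_left_injective F hu0 (e1.symm.trans (one_smul F u).symm))
      obtain ⟨y, hy⟩ := exists_h_ne_zero hh hu0
      have e2 := hb y
      rw [suT_smul, hb1, one_smul, add_eq_left] at e2
      exact mul_ne_zero hθ0 hy ((smul_eq_zero.1 e2).resolve_right hu0)
  set q := Nat.card (skewAdd σ)
  have hchi : ((Finset.univ : Finset (AddChar (skewAdd σ) ℂ)).erase 1).card = q - 1 := by
    rw [Finset.card_erase_of_mem (Finset.mem_univ _), Finset.card_univ, AddChar.card_eq,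
      ← Nat.card_eq_fintype_card]
  have hstep : ∀ i (hi : i < m), (q - 1) * q ^ (finrank F V - 2 * (i + 1)) +
      finrank ℂ (fixedBelow hh ρ f (i + 1)) ≤ finrank ℂ (fixedBelow hh ρ f i) := by
    intro i hi
    set op := tOp hh ρ (f.u ⟨i, hi⟩) (f.uu _ _)
    refine le_trans ?_ (sum_finrank_le (op := op) (fixedBelow hh ρ f i))
    rw [← Finset.add_sum_erase _ _ (Finset.mem_univ (1 : AddChar (skewAdd σ) ℂ)), add_comm]
    refine Nat.add_le_add ?_ ?_
    · refine Submodule.finrank_mono fun x hx => ?_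
      rw [mem_fixedBelow] at hx
      refine ⟨(mem_fixedBelow hh ρ).2 fun j hj => hx j (by omega), mem_eigen.2 fun a => ?_⟩
      rw [AddChar.one_apply, one_smul]
      exact hx ⟨i, hi⟩ (by simp) a
    · obtain ⟨χ₀, hχ₀, hne⟩ := exists_nontrivial hh ρ f hT i hi
      rw [← hchi, ← smul_eq_mul]
      refine Finset.card_nsmul_le_sum _ _ _ fun χ hχ => ?_
      have hχ1 := (Finset.mem_erase.1 hχ).1
      have h1 := eigen_finrank_ge hh ρ f ⟨i, hi⟩ hχ1 (exists_every hh ρ f hn ⟨i, hi⟩ hχ₀ hχ1 hne)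
      rw [← card_skew_sq hh, ← pow_mul, mul_comm, pow_mul] at h1
      exact (Nat.pow_le_pow_iff_left two_ne_zero).1 h1
  have hsum : ∀ i, i ≤ m → ∑ j ∈ Finset.range i, (q - 1) * q ^ (finrank F V - 2 * (j + 1)) +
      finrank ℂ (fixedBelow hh ρ f i) ≤ finrank ℂ W := by
    intro i
    induction i with
    | zero => intro _; simpa using Submodule.finrank_le (fixedBelow hh ρ f 0)
    | succ i ih =>
      intro hi
      have := ih (by omega)
      have := hstep i (by omega)
      rw [Finset.sum_range_succ]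
      omega
  exact (Nat.le_add_right _ _).trans (hsum m le_rfl)

end Cfsg.Agent.MinDegree
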