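import Cfsg.Agent.Lib.MinDegree.Unitary
import Cfsg.Agent.Lib.ClassicalSimple.UnitaryMatrix

/-!
The Landazuri–Seitz bound for `Cfsg.SU`.
-/

set_option autoImplicit false

open Module

namespace Cfsg.Agent.MinDegree

open Cfsg.Agent.ClassicalSimple

variable {F : Type*} [Field F] [Fintype F] {q : ℕ} (hF : Fintype.card F = q ^ 2) {n : ℕ}
include hF

theorem hermB_single (a b : Fin n) :
    Forms.hermB hF n (Pi.single a (1 : F)) (Pi.single b 1) = if a = b then 1 else 0 := by
  rw [Forms.hermB_apply, hermForm, Finset.sum_eq_single b (fun l _ hl => by simp [Pi.single_eq_of_ne hl]) (by simp),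
    Pi.single_eq_same]
  by_cases e : a = b
  · subst e; simp
  · rw [Pi.single_eq_of_ne (Ne.symm e), zero_pow (by have := Forms.one_lt_q hF; omega), if_neg e]
    simp

theorem exists_frame {m : ℕ} (hm : 2 * m ≤ n) : Nonempty (Frame (Forms.hermB hF n) m) := by
  have hh := hermB_isUnitary hF (n := n)
  obtain ⟨κ, hκ⟩ := hh.exists_norm_eq (c := (-1 : F)) (by simp)
  obtain ⟨a, ha⟩ := hh.ne_id
  have ha0 : a ≠ 0 := fun e => ha (by rw [e, map_zero])
  let ζ : F := Forms.qEnd hF a / a
  have hζ : Forms.qEnd hF ζ * ζ = 1 := by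
    have : Forms.qEnd hF a ≠ 0 := (map_ne_zero _).2 ha0
    simp only [ζ, map_div₀, hh.invol]
    field_simp
  have hζ1 : (1 : F) - ζ ≠ 0 := fun e => ha (by
    have : ζ = 1 := by linear_combination -e
    exact (div_eq_one_iff_eq ha0).1 this)
  let s : F := (1 - ζ)⁻¹
  let e : Fin m → Fin n := fun j => ⟨2 * j, by omega⟩
  let e' : Fin m → Fin n := fun j => ⟨2 * j + 1, by omega⟩
  have h1 : ∀ i j, (e i = e j ↔ i = j) ∧ (e' i = e' j ↔ i = j) ∧ e i ≠ e' j ∧ e' i ≠ e j := fun i j => by
    simp only [e, e', Fin.ext_iff, ne_eq]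
    omega
  have key : ∀ (i j : Fin m) (x y z w : F),
      Forms.hermB hF n (x • Pi.single (e i) 1 + y • Pi.single (e' i) 1) (z • Pi.single (e j) 1 + w • Pi.single (e' j) 1) =
        if i = j then Forms.qEnd hF x * z + Forms.qEnd hF y * w else 0 := by
    intro i j x y z w
    obtain ⟨a1, a2, a3, a4⟩ := h1 i j
    simp only [map_add, map_smulₛₗ, LinearMap.add_apply, LinearMap.smul_apply, hermB_single hF, a1, a2, a3, a4,
      if_false, smul_eq_mul, RingHom.id_apply, mul_zero, add_zero, zero_add]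
    split_ifs <;> ring
  refine ⟨⟨fun j => (1 : F) • Pi.single (e j) 1 + κ • Pi.single (e' j) 1,
    fun j => s • Pi.single (e j) 1 + (s * (κ * ζ)) • Pi.single (e' j) 1, fun i j => ?_, fun i j => ?_, fun i j => ?_⟩⟩
  · rw [key]
    split_ifs
    · rw [map_one]; linear_combination hκ
    · rfl
  · rw [key]
    split_ifs
    · simp only [map_mul]
      linear_combination Forms.qEnd hF s * s * (Forms.qEnd hF ζ * ζ) * hκ - Forms.qEnd hF s * s * hζ
    · rfl
  · rw [key]
    split_ifs
    · rw [map_one]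
      have : s * (1 - ζ) = 1 := inv_mul_cancel₀ hζ1
      linear_combination s * ζ * hκ + this
    · rfl

theorem card_skew : Nat.card (skewAdd (Forms.qEnd hF)) = q := by
  have h := card_skew_sq (h := Forms.hermB hF 1) (hermB_isUnitary hF)
  rw [Nat.card_eq_fintype_card (α := F), hF] at h
  exact Nat.pow_left_injective two_ne_zero h

theorem su_degree_ge (hn : 3 ≤ n) (h32 : ¬(n = 3 ∧ q = 2)) {k : ℕ}
    (ρ : Representation ℂ (Cfsg.SU n F q) (Fin k → ℂ)) (hρ : ρ.IsIrreducible) (hk : 2 ≤ k) :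
    ∑ i ∈ Finset.range (n / 2), (q - 1) * q ^ (n - 2 * (i + 1)) ≤ k := by
  have hh := hermB_isUnitary hF (n := n)
  have h3 : 3 ≤ finrank F (Fin n → F) := by simpa using hn
  obtain ⟨f⟩ := exists_frame hF (n := n) (m := n / 2) (by omega)
  have hperf : commutator (SUH (Forms.hermB hF n)) = ⊤ := by
    rw [← map_commutator_top (suEquiv hF (n := n)), SU_perfect hF hn h32,
      Subgroup.map_top_of_surjective (suEquiv hF (n := n)).toMonoidHom (suEquiv hF).surjective]
  have hnt : ∃ g, (ρ.comp (suEquiv hF (n := n)).symm.toMonoidHom) g ≠ 1 := by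
    by_contra hall
    push Not at hall
    have htriv : ∀ g, ρ g = 1 := fun g => by
      have := hall (suEquiv hF g)
      simpa using this
    let v : Fin k → ℂ := Pi.single ⟨0, by omega⟩ 1
    let U : Subrepresentation ρ := ⟨ℂ ∙ v, fun g w hw => by rw [htriv]; exact hw⟩
    have := hρ
    rcases IsSimpleOrder.eq_bot_or_eq_top U with hU | hU
    · have : (ℂ ∙ v) = ⊥ := congrArg Subrepresentation.toSubmodule hU
      rw [Submodule.span_singleton_eq_bot] at this
      simpa [v] using congrFun this ⟨0, by omega⟩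
    · have e : (ℂ ∙ v) = ⊤ := congrArg Subrepresentation.toSubmodule hU
      have hf := finrank_span_singleton (K := ℂ) (v := v) (by simp [v])
      rw [e, finrank_top, Module.finrank_fin_fun] at hf
      omega
  have h := unitary_degree_ge hh (ρ.comp (suEquiv hF (n := n)).symm.toMonoidHom) f h3 hperf hnt
  rw [card_skew hF, Module.finrank_fin_fun, Module.finrank_fin_fun] at h
  exact h

omit hF in
/-- `(q + 1) ∑ (q - 1) q ^ (n - 2 (i + 1)) = q ^ n - q ^ (n - 2 m)`. -/
theorem sum_closed (q n : ℕ) (hq : 1 ≤ q) :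
    ∀ m, 2 * m ≤ n → (q + 1) * (∑ i ∈ Finset.range m, (q - 1) * q ^ (n - 2 * (i + 1))) + q ^ (n - 2 * m) = q ^ n := by
  intro m
  induction m with
  | zero => simp
  | succ m ih =>
    intro hm
    have := ih (by omega)
    rw [Finset.sum_range_succ]
    rw [show n - 2 * m = n - 2 * (m + 1) + 2 by omega, pow_add] at this
    obtain ⟨a, rfl⟩ : ∃ a, q = a + 1 := ⟨q - 1, by omega⟩
    rw [Nat.add_sub_cancel] at this ⊢
    rw [← this]
    ring

end Cfsg.Agent.MinDegree
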